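import Cfsg.Statements.S1398
import Cfsg.Agent.Helper23.Uniq2

set_option autoImplicit false
open Cfsg

namespace Cfsg.Agent.S1398

/-- Let G be a minimal simple group of odd order, M a maximal subgroup, p a prime, and B a noncyclic elementary abelian p-subgroup of M. If C_G(b) ≤ M for every non-identity b ∈ B, or if every subgroup of G of order coprime to p normalized by B is contained in M, then M is the only maximal subgroup of G containing B. -/
theorem result {G : Type*} [Group G] [Finite G] (hG : Cfsg.IsMinSimpleOddOrder G)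
    (M : Subgroup G) (hM : IsCoatom M) (p : ℕ) [Fact p.Prime] (B : Subgroup G) (hBM : B ≤ M)
    (hBe : Cfsg.IsElementaryAbelian p B) (hBnc : ¬ IsCyclic B)
    (h : (∀ b ∈ B, b ≠ 1 → Subgroup.centralizer ({b} : Set G) ≤ M) ∨
      ∀ Y ∈ Cfsg.invSubgroups ⊤ B (Cfsg.primesNotDvd p), Y ≤ M) :
    Cfsg.InUniqueMaximal B := by
  have hpp : p.Prime := Fact.out
  have hBp : IsPGroup p B := fun b => ⟨1, by
    rw [pow_one]
    exact Subtype.ext (by simpa using hBe.2 b b.2)⟩
  have hB1 : B ≠ ⊥ := by
    rintro rfl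
    exact hBnc inferInstance
  have hstar : ∀ Y ∈ Cfsg.invSubgroups ⊤ B (Cfsg.primesNotDvd p), Y ≤ M := by
    rcases h with h | h
    · intro Y hY
      haveI := hBe.1
      have hcop : (Nat.card B).Coprime (Nat.card Y) := by
        obtain ⟨n, hn⟩ := hBp.exists_card_eq
        rw [hn]
        apply Nat.Coprime.pow_left
        rw [Nat.Prime.coprime_iff_not_dvd hpp]
        intro hd
        exact (hY.2.1 p hpp hd).2 (dvd_refl p)
      have hgen := Cfsg.Agent.Helper1.gen_by_centralizers B Y hBnc hY.2.2 hcop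
      rw [← hgen]
      refine iSup₂_le (fun a ha => ?_)
      exact inf_le_right.trans (h a ha.1 ha.2)
    · exact h
  exact ⟨M, ⟨hM, hBM⟩, fun H hH =>
    Cfsg.Agent.Helper23.uq_of_star hG hM hBM hBp hB1 hstar H hH.1 hH.2⟩

end Cfsg.Agent.S1398
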