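import Cfsg.Statements.S1401
import Cfsg.Agent.Helper23.Fit81e

set_option autoImplicit false
open Cfsg

namespace Cfsg.Agent.S1401

/-- Let G be a minimal simple group of odd order, p a prime, and M a maximal subgroup whose Fitting subgroup contains an elementary abelian subgroup of order p ^ 3. Then every abelian p-subgroup of G containing an elementary abelian subgroup of order p ^ 3 lies in exactly one maximal subgroup of G. -/
theorem result {G : Type*} [Group G] [Finite G] (hG : Cfsg.IsMinSimpleOddOrder G)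
    (M : Subgroup G) (hM : IsCoatom M) (p : ℕ) [Fact p.Prime] (hF : ¬ Cfsg.PRankLE p 2 ↥(Cfsg.fittingOf M))
    (A : Subgroup G) (hAp : IsPGroup p A) (hAc : IsMulCommutative A) (hA3 : ¬ Cfsg.PRankLE p 2 ↥A) :
    Cfsg.InUniqueMaximal A := by
  classical
  have hpp : p.Prime := Fact.out
  have hA1 : A ≠ ⊥ := Cfsg.Agent.Helper23.f81_ne_bot_of_not_pRankLE hpp hA3
  have hp2 : p ≠ 2 := by
    intro e
    have h1 : p ∣ Nat.card A := Cfsg.Agent.Helper23.dvd_card_of_isPGroup_ne_bot hAp hA1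
    have h2 := Cfsg.Agent.Helper23.uq_odd hG A
    rw [e] at h1
    exact (Nat.not_even_iff_odd.mpr h2) (even_iff_two_dvd.mpr h1)
  obtain ⟨A₀, hA₀F, hA₀c, hA₀e, hA₀card⟩ := Cfsg.Agent.Helper23.exists_elemAb_of_not_pRankLE hF
  have hA₀p : IsPGroup p A₀ := fun a => ⟨1, by
    rw [pow_one]
    exact Subtype.ext (by simpa using hA₀e a a.2)⟩
  have hA₀3 : p ^ 3 ≤ Nat.card A₀ := by
    obtain ⟨n, hn⟩ := hA₀p.exists_card_eq
    rw [hn] at hA₀card ⊢
    have h1 : 2 < n := (Nat.pow_lt_pow_iff_right hpp.one_lt).mp hA₀card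
    exact Nat.pow_le_pow_right hpp.pos h1
  have key : ∃ B : Subgroup G, IsPGroup p B ∧ IsMulCommutative B ∧ ¬ Cfsg.PRankLE p 2 ↥B ∧
      Cfsg.InUniqueMaximal B := by
    by_cases hFp : IsPGroup p ↥(Cfsg.fittingOf M)
    · obtain ⟨P, hPS, hFP⟩ := Cfsg.Agent.Helper23.exists_isSylowOf_ge hFp
        (Cfsg.Agent.Helper23.f81_fittingOf_le M)
      have hPr : ¬ Cfsg.PRankLE p 2 ↥P := Cfsg.Agent.Helper21.not_pRankLE_mono hFP hF
      obtain ⟨B, hSCN, hB3⟩ := Cfsg.Agent.Helper23.exists_isSCN_rank3 hp2 hPS.2.1 hPr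
      obtain ⟨hBF, huniq⟩ := Cfsg.Agent.Helper23.f81_part_b hG hM hFp hPS hSCN hB3
      refine ⟨B, hPS.2.1.to_le hSCN.1, ?_, hB3, M,
        ⟨hM, hBF.trans (Cfsg.Agent.Helper23.f81_fittingOf_le M)⟩, fun H hH => huniq H hH.1 hH.2⟩
      refine ⟨⟨fun x y => Subtype.ext ?_⟩⟩
      have hy : (y : G) ∈ P ⊓ Subgroup.centralizer (B : Set G) := by
        rw [hSCN.2.2]; exact y.2
      exact Subgroup.mem_centralizer_iff.mp hy.2 x x.2
    · have h : Cfsg.Agent.Helper23.F81 M A₀ p := ⟨hG, hM, hA₀F, hA₀c, hA₀e, hA₀3, hFp⟩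
      have hL : Cfsg.InUniqueMaximal (Cfsg.Agent.Helper23.f81A M A₀) :=
        ⟨M, ⟨hM, Cfsg.Agent.Helper23.f81A_le_M M A₀⟩, fun H hH => h.unique H hH.1 hH.2⟩
      have hK : A₀ ≤ Subgroup.centralizer (Cfsg.Agent.Helper23.f81A M A₀ : Set G) :=
        Subgroup.le_centralizer_iff.mp inf_le_right
      have hlt : p < Nat.card A₀ := by
        have h1 : p ^ 1 < p ^ 2 := Nat.pow_lt_pow_right hpp.one_lt (by norm_num)
        rw [pow_one] at h1
        omega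
      have hA₀U := Cfsg.Agent.Helper23.uq_92 hG hL hK
        (Cfsg.Agent.Helper23.not_rankLE_one_of_elemAb hpp le_rfl hA₀c hA₀e hlt)
      exact ⟨A₀, hA₀p, hA₀c,
        Cfsg.Agent.Helper21.not_pRankLE_of_elemAb le_rfl hA₀c hA₀e (not_le.mpr hA₀card), hA₀U⟩
  obtain ⟨B, hBp, hBc, hB3, hBU⟩ := key
  refine Cfsg.Agent.Helper23.uq_93 hG p B A hBp hBc hB3 hBU hAp
    (Cfsg.Agent.Helper23.not_isCyclic_of_not_pRankLE hA3) ?_
  refine Cfsg.Agent.Helper21.not_pRankLE_mono ?_ hA3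
  intro a ha
  refine Subgroup.mem_centralizer_iff.mpr (fun b hb => ?_)
  have h1 : (⟨b, hb⟩ : ↥A) * ⟨a, ha⟩ = ⟨a, ha⟩ * ⟨b, hb⟩ := mul_comm' _ _
  exact congrArg Subtype.val h1

end Cfsg.Agent.S1401
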