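import Cfsg.Statements.S0117
import Cfsg.Agent.Helper2.ZJe
import Cfsg.Agent.Helper35.MinConfig
import Cfsg.Agent.Helper33.ThompsonNPC
import Cfsg.Agent.Helper33.Frobenius

set_option autoImplicit false
open Cfsg

namespace Cfsg.Agent.S0117

universe u

/-- The functor `Q ↦ Z(J(Q))` (elementary abelian version of the Thompson subgroup). -/
def zjE (p : ℕ) (Q : Type u) [Group Q] : Subgroup Q := Cfsg.centerThompsonOf p (⊤ : Subgroup Q)

theorem inducedFunctor_zjE (p : ℕ) {G : Type u} [Group G] (P : Subgroup G) :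
    Cfsg.inducedFunctor (zjE p) P = Cfsg.centerThompsonOf p P := by
  unfold Cfsg.inducedFunctor zjE
  rw [← Cfsg.Agent.Helper2.zje_centerThompsonOf_map p P.subtype P.subtype_injective ⊤]
  congr 1
  rw [← MonoidHom.range_eq_map, Subgroup.range_subtype]

theorem isCharPFunctor_zjE (p : ℕ) [Fact p.Prime] : Cfsg.IsCharPFunctor.{u} p (zjE p) := by
  refine ⟨?_, ?_⟩
  · intro Q _ _ hQ hnt
    unfold zjE
    rw [Cfsg.Agent.Helper2.zje_centerThompsonOf_eq]
    have h1 : Cfsg.Agent.Helper19.JJ p (⊤ : Subgroup Q) ≠ ⊥ :=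
      Cfsg.Agent.Helper19.JJ_ne_bot (hQ.to_subgroup ⊤) top_ne_bot
    exact Cfsg.Agent.Helper19.center_ne_bot (hQ.to_subgroup _) h1
  · intro Q R _ _ _ hQ φ
    unfold zjE
    rw [← Cfsg.Agent.Helper2.zje_centerThompsonOf_map p φ.toMonoidHom φ.injective ⊤]
    congr 1
    exact Subgroup.map_top_of_surjective _ φ.surjective

theorem thLoc_zjE {p : ℕ} [Fact p.Prime] (hp : p ≠ 2) (H : Type u) [Group H] [Finite H] :
    Cfsg.Agent.Helper33.ThLoc (zjE p) p H := by
  intro hc hq T hT
  rw [inducedFunctor_zjE]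
  exact Cfsg.Agent.Helper2.zje_normal hp
    (Cfsg.Agent.Helper35.not_sl2_section_of_coatom_sylow hp hq T hT) hc T

/-- The Glauberman–Thompson Theorem states that for odd p, a single p-local subgroup, the normalizer of the centre of the Thompson subgroup of a Sylow p-subgroup, decides whether G has a normal p-complement. -/
theorem result {G : Type*} [Group G] [Finite G] {p : ℕ} [Fact p.Prime] (hp : p ≠ 2) (P : Sylow p G) : Cfsg.HasNormalPComplement p G ↔ Cfsg.HasNormalPComplement p (Subgroup.normalizer (Cfsg.centerThompsonOf p (P : Subgroup G) : Set G)) := by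
  constructor
  · intro h
    exact Cfsg.Agent.Helper33.hasNormalPComplement_subgroup' h _
  · intro hN
    have hN' : Cfsg.Agent.Helper33.NormFunctorNPC (zjE p) p (P : Subgroup G) := by
      unfold Cfsg.Agent.Helper33.NormFunctorNPC
      rw [inducedFunctor_zjE]
      exact hN
    exact Cfsg.Agent.Helper33.thompson_sections (isCharPFunctor_zjE p)
      (fun H _ hsec => by
        have : Finite H := hsec.finite
        exact thLoc_zjE hp H)
      (Nat.card G) G (Cfsg.Agent.Helper33.IsSectionOf.refl G) rfl ⟨P, hN'⟩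

end Cfsg.Agent.S0117
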