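import Cfsg.Statements.S0118
import Cfsg.Agent.S0117
import Cfsg.Agent.Helper11.SecFusionB

set_option autoImplicit false
open Cfsg

namespace Cfsg.Agent.S0118

/-- Glauberman's ZJ-Theorem, in the case of groups with no section isomorphic to SL(2,p), p odd: conjugation of subsets of a Sylow p-subgroup P inside P is always induced from the normalizer of Z(J(P)). -/
theorem result {G : Type*} [Group G] [Finite G] {p : ℕ} [Fact p.Prime] (hp : p ≠ 2) (hfree : ¬ ∃ (H K : Subgroup G) (hK : (K.subgroupOf H).Normal), Nonempty ((H ⧸ K.subgroupOf H) ≃* Matrix.SpecialLinearGroup (Fin 2) (ZMod p))) (P : Sylow p G) (A : Set G) (hA : A ⊆ (P : Set G)) (g : G) (hAg : (fun a => g⁻¹ * a * g) '' A ⊆ (P : Set G)) : ∃ n ∈ Subgroup.normalizer (Cfsg.centerThompsonOf p (P : Subgroup G) : Set G), ∀ a ∈ A, n⁻¹ * a * n = g⁻¹ * a * g := by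
  have hno : ¬ Cfsg.Agent.Helper33.IsSectionOf G (Matrix.SpecialLinearGroup (Fin 2) (ZMod p)) :=
    fun h => hfree h.exists_equiv
  have hloc : ∀ (H : Type _) [Group H], Cfsg.Agent.Helper33.IsSectionOf G H →
      Cfsg.Agent.Helper11.SFNormLoc (Cfsg.Agent.S0117.zjE p) p H := by
    intro H _ hsec hc T
    have : Finite H := hsec.finite
    rw [Cfsg.Agent.S0117.inducedFunctor_zjE]
    exact Cfsg.Agent.Helper2.zje_normal hp (fun h => hno (hsec.trans h)) hc T
  have h := Cfsg.Agent.Helper11.sfW_sections (Cfsg.Agent.S0117.isCharPFunctor_zjE p) hloc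
    (Nat.card G) G (Cfsg.Agent.Helper33.IsSectionOf.refl G) rfl P
  unfold Cfsg.Agent.Helper11.SFW at h
  rw [Cfsg.Agent.S0117.inducedFunctor_zjE] at h
  obtain ⟨x, hx, hxa⟩ := h A g⁻¹ hA (fun a ha => by
    have h1 : g⁻¹ * a * g ∈ (P : Set G) := hAg ⟨a, ha, rfl⟩
    rw [inv_inv]
    exact h1)
  refine ⟨x⁻¹, Subgroup.inv_mem _ hx, fun a ha => ?_⟩
  have := hxa a ha
  simpa using this

end Cfsg.Agent.S0118
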