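import Mathlib
import Cfsg.Statements.S1416
import Cfsg.Agent.Helper68.BG124
import Cfsg.Agent.Helper23.BG11f
import Cfsg.Agent.Helper24.BG11b
import Cfsg.Agent.S1403
import Cfsg.Agent.S1410
import Cfsg.Agent.S1412
import Cfsg.Agent.S1414

set_option autoImplicit false
open Cfsg

namespace Cfsg.Agent.S1416

/-- Let G be a minimal simple group of odd order, M a maximal subgroup, p a prime and A ≤ M elementary abelian of order p ^ 2. Then C_G(A) ≤ M. If moreover for every subgroup A₀ of A of order p, M is not the unique maximal subgroup containing N_G(A₀), then p ∈ σ(M), M_α = 1 and M_σ is nilpotent. -/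
theorem result {G : Type*} [Group G] [Finite G] (hG : Cfsg.IsMinSimpleOddOrder G)
    (M : Subgroup G) (hM : IsCoatom M) (p : ℕ) [Fact p.Prime] (A : Subgroup G) (hA : (A ≤ M ∧ Cfsg.IsElementaryAbelian p A ∧ Nat.card A = p ^ 2)) :
    Subgroup.centralizer (A : Set G) ≤ M ∧
      ((∀ A₀ : Subgroup G, A₀ ≤ A → Nat.card A₀ = p →
          ¬ (Subgroup.normalizer (A₀ : Set G) ≤ M ∧ ∀ L : Subgroup G, IsCoatom L → Subgroup.normalizer (A₀ : Set G) ≤ L → L = M)) →
        p ∈ Cfsg.sigma M ∧ Cfsg.alphaCore M = ⊥ ∧ Group.IsNilpotent (Cfsg.sigmaCore M)) := by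
  have hU : Cfsg.Agent.Helper22.BGUniq G := fun K hK h1 h2 => Cfsg.Agent.S1403.result hG K hK h1 h2
  have hpl : Cfsg.Agent.Helper22.BGPLen G := fun p _ H hH => Cfsg.Agent.S1410.result hG p H hH
  have h12 : Cfsg.Agent.Helper24.BGRk2 G := fun p _ P hr => Cfsg.Agent.S1412.result hG p P hr
  have hβ : Cfsg.Agent.Helper68.BGSigmaCompl G := fun M hM q hq hqM hqβ =>
    ((Cfsg.Agent.S1414.result hG M hM).2.2.2.2 q hq hqM hqβ).2.1
  have hnilβ : Cfsg.Agent.Helper68.BGSigmaNil G := fun M hM =>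
    (Cfsg.Agent.S1414.result hG M hM).2.2.2.1
  exact Cfsg.Agent.Helper68.bg124 hG hU hpl hβ hnilβ hM hA.1 hA.2.1 hA.2.2
    (Cfsg.Agent.Helper24.bg11b_sigmaCore_ne_bot hG hU hM)
    (fun Ms A₀ h => Cfsg.Agent.Helper23.bg117 hG hU hpl h12 h)

end Cfsg.Agent.S1416
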