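import Cfsg.Statements.S1417
import Cfsg.Agent.Helper22.BG12b
import Cfsg.Agent.Helper23.BG11f
import Cfsg.Agent.Helper24.BG11b
import Cfsg.Agent.Helper68.BG123
import Cfsg.Agent.S1403
import Cfsg.Agent.S1410
import Cfsg.Agent.S1412
import Cfsg.Agent.S1414
import Cfsg.Agent.S1416

set_option autoImplicit false
open Cfsg

namespace Cfsg.Agent.S1417

/-- Let G be a minimal simple group of odd order, M a maximal subgroup, p ∈ τ₂(M) and A ≤ M elementary abelian of order p ^ 2. Then (a) M_σ is nilpotent; (b) every Sylow p-subgroup P of M is abelian, and if A ≤ P then the elements of P of order dividing p are exactly those of A and N_G(P) is not contained in M; (c) M normalizes M_σA; (d) M_σ ∩ C_G(A) = 1; (e) M_σ ∩ M* = 1 for every maximal subgroup M* ≠ M containing A; (f) M_σ ∩ C_G(A₁) = 1 for some subgroup A₁ ≤ A of order p. -/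
theorem result {G : Type*} [Group G] [Finite G] (hG : Cfsg.IsMinSimpleOddOrder G)
    (M : Subgroup G) (hM : IsCoatom M) (p : ℕ) [Fact p.Prime] (hp : p ∈ Cfsg.tau2 M) (A : Subgroup G) (hA : (A ≤ M ∧ Cfsg.IsElementaryAbelian p A ∧ Nat.card A = p ^ 2)) :
    Group.IsNilpotent (Cfsg.sigmaCore M) ∧
      (∀ P : Sylow p M, IsMulCommutative (P : Subgroup M) ∧
        (A ≤ (P : Subgroup M).map M.subtype →
          (∀ x ∈ (P : Subgroup M).map M.subtype, x ^ p = 1 ↔ x ∈ A) ∧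
          ¬ Subgroup.normalizer ((((P : Subgroup M).map M.subtype : Subgroup G)) : Set G) ≤ M)) ∧
      M ≤ Subgroup.normalizer ((Cfsg.sigmaCore M ⊔ A : Subgroup G) : Set G) ∧
      Cfsg.sigmaCore M ⊓ Subgroup.centralizer (A : Set G) = ⊥ ∧
      (∀ Mstar : Subgroup G, IsCoatom Mstar → Mstar ≠ M → A ≤ Mstar → Cfsg.sigmaCore M ⊓ Mstar = ⊥) ∧
      ∃ A₁ : Subgroup G, A₁ ≤ A ∧ Nat.card A₁ = p ∧ Cfsg.sigmaCore M ⊓ Subgroup.centralizer (A₁ : Set G) = ⊥ := by
  have hU : Cfsg.Agent.Helper22.BGUniq G :=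
    fun K hK h1 h2 => Cfsg.Agent.S1403.result hG K hK h1 h2
  have hpl : Cfsg.Agent.Helper22.BGPLen G := fun p _ H hH => Cfsg.Agent.S1410.result hG p H hH
  have h12 : Cfsg.Agent.Helper24.BGRk2 G := fun p _ P hr => Cfsg.Agent.S1412.result hG p P hr
  have hβ : Cfsg.Agent.Helper68.BGSigmaCompl G := fun M hM q hq hqM hqβ =>
    ((Cfsg.Agent.S1414.result hG M hM).2.2.2.2 q hq hqM hqβ).2.1
  have h124 : Cfsg.Agent.Helper22.BG124 G :=
    fun M hM p _ A hA => Cfsg.Agent.S1416.result hG M hM p A hA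
  exact Cfsg.Agent.Helper22.bg12_thm125 hG hU hpl h124 hM hp hA.1 hA.2.1 hA.2.2
    (fun A₀ h P hP => ⟨Cfsg.Agent.Helper24.bg11b_sylow_abelian hG hU hpl h12 h hP,
      fun hAP => (Cfsg.Agent.Helper24.bg11b_omega hG hU hpl h hP hAP).1⟩)
    (fun A₀ h => Cfsg.Agent.Helper24.bg11b_cent_A hG hU hpl h)
    (fun A₀ h => Cfsg.Agent.Helper24.bg11b_count hG hU hpl h)
    (fun A₀ h => Cfsg.Agent.Helper23.bg11f_cent hG hU hpl h12 h)
    (fun Ms hMs hne hAMs A₁ hA₁A hA₁c hA₁N =>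
      Cfsg.Agent.Helper68.bg123_sigma hG hU hpl hβ hM hMs hne hA.1 hA.2.1 hA.2.2 hA₁A hA₁c hA₁N
        (fun h' => Cfsg.Agent.Helper23.bg117 hG hU hpl h12 h') hp.2.1)

end Cfsg.Agent.S1417
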