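import Cfsg.Statements.S1419
import Cfsg.Agent.Helper22.BG127
import Cfsg.Agent.Helper52.BG127P1
import Cfsg.Agent.Helper4.BG127P2
import Cfsg.Agent.Helper24.BG11b
import Cfsg.Agent.Helper68.BG123
import Cfsg.Agent.S1403
import Cfsg.Agent.S1412
import Cfsg.Agent.S1414
import Cfsg.Agent.S1417
import Cfsg.Agent.S1418

set_option autoImplicit false
open Cfsg

namespace Cfsg.Agent.S1419

/-- Let G be a minimal simple group of odd order whose Sylow p-subgroups are nonabelian, M a maximal subgroup with p ∈ τ₂(M), E a complement to M_σ in M and A ≤ E elementary abelian of order p ^ 2. Then τ₂(M) = {p}; A₀ = A ∩ C_G(M_σ) has order p and F(M) is generated by M_σ and A₀ (a direct product); and every subgroup X ≠ A₀ of E of order p satisfies M_σ ∩ C_G(X) = 1 and C_G(X) ⊄ M. -/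
theorem result {G : Type*} [Group G] [Finite G] (hG : Cfsg.IsMinSimpleOddOrder G)
    (M : Subgroup G) (hM : IsCoatom M) (E : Subgroup G) (hE : Cfsg.IsComplIn E (Cfsg.sigmaCore M) M) (p : ℕ) [Fact p.Prime] (hp : p ∈ Cfsg.tau2 M) (hS : ∀ S : Sylow p G, ¬ IsMulCommutative (S : Subgroup G))
    (A : Subgroup G) (hA : (A ≤ E ∧ Cfsg.IsElementaryAbelian p A ∧ Nat.card A = p ^ 2)) :
    Cfsg.tau2 M = {p} ∧
      (Nat.card ↥(A ⊓ Subgroup.centralizer (Cfsg.sigmaCore M : Set G)) = p ∧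
        Cfsg.fittingOf M = Cfsg.sigmaCore M ⊔ (A ⊓ Subgroup.centralizer (Cfsg.sigmaCore M : Set G))) ∧
      ∀ X : Subgroup G, X ≤ E → Nat.card X = p → X ≠ A ⊓ Subgroup.centralizer (Cfsg.sigmaCore M : Set G) →
        Cfsg.sigmaCore M ⊓ Subgroup.centralizer (X : Set G) = ⊥ ∧ ¬ Subgroup.centralizer (X : Set G) ≤ M := by
  have hU : Cfsg.Agent.Helper22.BGUniq G := fun K hK h1 h2 => Cfsg.Agent.S1403.result hG K hK h1 h2
  have h12 : Cfsg.Agent.Helper24.BGRk2 G := fun p _ P hr => Cfsg.Agent.S1412.result hG p P hr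
  have hβ : Cfsg.Agent.Helper68.BGSigmaCompl G := fun M hM q hq hqM hqβ =>
    ((Cfsg.Agent.S1414.result hG M hM).2.2.2.2 q hq hqM hqβ).2.1
  have h125 : Cfsg.Agent.Helper22.BG125 G := fun M hM p _ hp A hA =>
    Cfsg.Agent.S1417.result hG M hM p hp A hA
  have h126 : Cfsg.Agent.Helper22.BG126 G := fun M hM E hE p _ hp A hA =>
    Cfsg.Agent.S1418.result hG M hM E hE p hp A hA
  have hmax := Cfsg.Agent.Helper22.bg10_elemAb_sq_maximal hG hU hM hp.2.2.1
    (hA.1.trans hE.1) hA.2.1 hA.2.2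
  have hp2 : p ≠ 2 := by
    rintro rfl
    have h2 : 2 ∣ Nat.card G := by
      have h1 : Nat.card A ∣ Nat.card G := Subgroup.card_subgroup_dvd_card A
      rw [hA.2.2] at h1
      exact (dvd_pow_self 2 two_ne_zero).trans h1
    have hodd : Odd (Nat.card G) := hG.1
    exact (Nat.not_even_iff_odd.mpr hodd) (even_iff_two_dvd.mpr h2)
  exact Cfsg.Agent.Helper22.bg127_main hG hU h125 h126 hM hE hp hS hA.1 hA.2.1 hA.2.2
    (fun S hAS s hs hsA =>
      Cfsg.Agent.Helper52.bg127_pow_central h12 hp2 S hAS hA.2.1 hA.2.2 hmax hs hsA)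
    (fun x e hxe hxA hxM q hq =>
      Cfsg.Agent.Helper4.bg127_tau2_unique hG hU h125 h126 hβ hM hE hp hA.1 hA.2.1 hA.2.2
        hxe hxA hxM hq)

end Cfsg.Agent.S1419
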