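import Cfsg.Statements.S1477
import Cfsg.Agent.Helper25.CN

set_option autoImplicit false
open Cfsg
open Cfsg.Agent.Helper25
set_option linter.style.haveILetI false
set_option linter.unusedVariables false

namespace Cfsg.Agent.S1477

/-- Let G be a finite group in which every non-identity element has nilpotent centralizer, and H a nilpotent subgroup not properly contained in any nilpotent subgroup. Then the order of H is coprime to its index; if the order of H is not a prime power then H ∩ gHg⁻¹ = 1 whenever gHg⁻¹ ≠ H; and if H ∩ gHg⁻¹ = 1 whenever gHg⁻¹ ≠ H, then C_G(x) ≤ H for every non-identity x ∈ H. -/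
theorem result {G : Type*} [Group G] [Finite G] (hCN : Cfsg.IsCNGroup G) (H : Subgroup G) (hH : Group.IsNilpotent H)
    (hmax : ∀ L : Subgroup G, Group.IsNilpotent L → H ≤ L → L = H) :
    (Nat.card H).Coprime H.index ∧
      (¬ IsPrimePow (Nat.card H) → Nat.card H ≠ 1 → ∀ g : G, H.map (MulAut.conj g).toMonoidHom ≠ H → H ⊓ H.map (MulAut.conj g).toMonoidHom = ⊥) ∧
      ((∀ g : G, H.map (MulAut.conj g).toMonoidHom ≠ H → H ⊓ H.map (MulAut.conj g).toMonoidHom = ⊥) → ∀ x ∈ H, x ≠ 1 → Subgroup.centralizer ({x} : Set G) ≤ H) := by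
  classical
  have hHm : IsMaxNilp H := ⟨hH, hmax⟩
  refine ⟨?_, ?_, ?_⟩
  · -- Hall
    apply Nat.coprime_of_dvd
    intro p hp hpH hpi
    haveI : Fact p.Prime := ⟨hp⟩
    obtain ⟨k, hk⟩ := exists_prime_orderOf_dvd_card' (G := H) p hpH
    obtain ⟨Q, hQ, hQmem⟩ := exists_pElts_subgroup H hH p hp
    obtain ⟨R, hR⟩ := hQ.exists_le_sylow
    have hkG : orderOf (k : G) = p := by rw [← hk]; simp [Subgroup.orderOf_mk]
    have hex : ∃ k' ∈ H, k' ≠ 1 ∧ ∃ n, orderOf k' = p ^ n := by
      refine ⟨k, k.2, ?_, 1, by rw [hkG, pow_one]⟩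
      intro h1
      rw [h1, orderOf_one] at hkG
      exact hp.ne_one hkG.symm
    have hRH : (R : Subgroup G) ≤ H :=
      le_of_isPGroup_of_pElts_le hCN H hHm p hp R R.isPGroup'
        (fun k' hk' hq => hR ((hQmem k').mpr ⟨hk', hq⟩)) hex
    exact R.not_dvd_index (dvd_trans hpi (Subgroup.index_dvd_of_le hRH))
  · -- TI when not a prime power
    intro hnpp hne1 g hne
    rw [Subgroup.eq_bot_iff_forall]
    intro x0 hx0
    by_contra hx01
    apply hne
    set Hg := H.map (MulAut.conj g).toMonoidHom with hHg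
    have hHgm : IsMaxNilp Hg := hHm.conj g
    -- reduce to x of prime order
    have ho1 : orderOf x0 ≠ 1 := fun h => hx01 (orderOf_eq_one_iff.mp h)
    obtain ⟨p, hp, hpd⟩ := Nat.exists_prime_and_dvd ho1
    set x := x0 ^ (orderOf x0 / p) with hxdef
    have hxo : orderOf x = p := orderOf_pow_orderOf_div (orderOf_pos x0).ne' hpd
    have hxH : x ∈ H := H.pow_mem hx0.1 _
    have hxHg : x ∈ Hg := Hg.pow_mem hx0.2 _
    have hx1 : x ≠ 1 := by
      intro h1
      rw [h1, orderOf_one] at hxo
      exact hp.ne_one hxo.symm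
    -- a second prime
    have hcard0 : Nat.card H ≠ 0 := Nat.card_pos.ne'
    obtain ⟨q, hq, hqd, hqp⟩ : ∃ q : ℕ, q.Prime ∧ q ∣ Nat.card H ∧ q ≠ p := by
      by_contra hcon
      push Not at hcon
      have := Nat.eq_prime_pow_of_unique_prime_dvd (p := p) hcard0 (fun {d} hd hdd => hcon d hd hdd)
      apply hnpp
      rw [isPrimePow_nat_iff]
      refine ⟨p, _, hp, ?_, this.symm⟩
      rcases Nat.eq_zero_or_pos (Nat.card H).primeFactorsList.length with h0 | h0
      · rw [h0, pow_zero] at this
        exact absurd this hne1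
      · exact h0
    haveI : Fact q.Prime := ⟨hq⟩
    obtain ⟨k, hk⟩ := exists_prime_orderOf_dvd_card' (G := H) q hqd
    have hkG : orderOf (k : G) = q := by rw [← hk]; simp [Subgroup.orderOf_mk]
    have hk1 : (k : G) ≠ 1 := by
      intro h1
      rw [h1, orderOf_one] at hkG
      exact hq.ne_one hkG.symm
    have hkq : ∃ n, orderOf (k : G) = q ^ n := ⟨1, by rw [hkG, pow_one]⟩
    -- M = C_G(x)
    set M := Subgroup.centralizer ({x} : Set G) with hM
    have hMn : Group.IsNilpotent M := hCN x hx1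
    have memM : ∀ {c : G}, c ∈ M ↔ x * c = c * x := by
      intro c
      rw [hM, Subgroup.mem_centralizer_iff]
      simp
    have hcop : ∀ n : ℕ, (orderOf x).Coprime (q ^ n) := by
      intro n
      rw [hxo]
      exact Nat.Coprime.pow_right n ((Nat.coprime_primes hp hq).mpr (Ne.symm hqp))
    have hi : ∀ h ∈ H, (∃ n, orderOf h = q ^ n) → h ∈ M := by
      rintro h hh ⟨n, hn⟩
      rw [memM]
      exact (commute_of_coprime_of_mem_nilpotent H hH hxH hh (by rw [hn]; exact hcop n)).eq
    have hi' : ∀ h ∈ Hg, (∃ n, orderOf h = q ^ n) → h ∈ M := by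
      rintro h hh ⟨n, hn⟩
      rw [memM]
      exact (commute_of_coprime_of_mem_nilpotent Hg hHgm.1 hxHg hh (by rw [hn]; exact hcop n)).eq
    obtain ⟨w, hwM, hw1, hwq, hwc⟩ := exists_central_pElt M hMn q hq (hi k k.2 hkq) hk1 hkq
    obtain ⟨y, hyH, hy1, hyq, hyc⟩ := exists_central_pElt H hH q hq k.2 hk1 hkq
    have hCy := centralizer_eq_of_central hCN H hHm hy1 hyc
    have hwH : w ∈ H := by
      rw [← hCy, Subgroup.mem_centralizer_iff]
      intro z hz
      rw [Set.mem_singleton_iff] at hz
      rw [hz]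
      exact ((hwc y (hi y hyH hyq)).eq).symm
    have hgk : g * (k : G) * g⁻¹ ∈ Hg := conj_mem_map_conj' g k.2
    have hgk1 : g * (k : G) * g⁻¹ ≠ 1 := by
      intro h
      apply hk1
      have : (k : G) = g⁻¹ * (g * (k : G) * g⁻¹) * g := by group
      rw [this, h]; group
    have hgkq : ∃ n, orderOf (g * (k : G) * g⁻¹) = q ^ n := by
      rw [orderOf_conj']; exact hkq
    obtain ⟨y', hy'H, hy'1, hy'q, hy'c⟩ := exists_central_pElt Hg hHgm.1 q hq hgk hgk1 hgkq
    have hCy' := centralizer_eq_of_central hCN Hg hHgm hy'1 hy'c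
    have hwHg : w ∈ Hg := by
      rw [← hCy', Subgroup.mem_centralizer_iff]
      intro z hz
      rw [Set.mem_singleton_iff] at hz
      rw [hz]
      exact ((hwc y' (hi' y' hy'H hy'q)).eq).symm
    have hwZ : ∀ h ∈ H, Commute w h :=
      central_of_commute_pElts H hH q hq hwH hwq (fun k' hk' hk'q => hwc k' (hi k' hk' hk'q))
    have hwZ' : ∀ h ∈ Hg, Commute w h :=
      central_of_commute_pElts Hg hHgm.1 q hq hwHg hwq (fun k' hk' hk'q => hwc k' (hi' k' hk' hk'q))
    have e1 := centralizer_eq_of_central hCN H hHm hw1 hwZ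
    have e2 := centralizer_eq_of_central hCN Hg hHgm hw1 hwZ'
    rw [← e2, e1]
  · -- centralizers
    intro hTI x hx hx1
    -- a central element of H
    have ho1 : orderOf x ≠ 1 := fun h => hx1 (orderOf_eq_one_iff.mp h)
    obtain ⟨r, hr, hrd⟩ := Nat.exists_prime_and_dvd ho1
    set x' := x ^ (orderOf x / r) with hx'def
    have hx'o : orderOf x' = r := orderOf_pow_orderOf_div (orderOf_pos x).ne' hrd
    have hx'H : x' ∈ H := H.pow_mem hx _
    have hx'1 : x' ≠ 1 := by
      intro h1
      rw [h1, orderOf_one] at hx'o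
      exact hr.ne_one hx'o.symm
    have hx'q : ∃ n, orderOf x' = r ^ n := ⟨1, by rw [hx'o, pow_one]⟩
    obtain ⟨y, hyH, hy1, ⟨ny, hyq⟩, hyc⟩ := exists_central_pElt H hH r hr hx'H hx'1 hx'q
    have hCy := centralizer_eq_of_central hCN H hHm hy1 hyc
    set M := Subgroup.centralizer ({x} : Set G) with hM
    have hMn : Group.IsNilpotent M := hCN x hx1
    have memM : ∀ {c : G}, c ∈ M ↔ x * c = c * x := by
      intro c
      rw [hM, Subgroup.mem_centralizer_iff]
      simp
    have hyM : y ∈ M := by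
      rw [memM]
      exact ((hyc x hx).eq).symm
    apply le_of_forall_primePow_mem
    intro c hc q n hq hcq
    by_cases hqr : q = r
    · subst hqr
      -- c normalizes H
      have hxc : x ∈ H.map (MulAut.conj c).toMonoidHom := by
        rw [mem_map_conj_iff']
        have : c⁻¹ * x * c = x := by
          rw [mul_assoc, (memM.mp hc), ← mul_assoc, inv_mul_cancel, one_mul]
        rw [this]; exact hx
      have hHc : H.map (MulAut.conj c).toMonoidHom = H := by
        by_contra hne
        have := hTI c hne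
        have hxb : x ∈ H ⊓ H.map (MulAut.conj c).toMonoidHom := ⟨hx, hxc⟩
        rw [this, Subgroup.mem_bot] at hxb
        exact hx1 hxb
      have hnorm : ∀ k : G, c * k * c⁻¹ ∈ H ↔ k ∈ H := by
        intro k
        have h1 : c * k * c⁻¹ ∈ H.map (MulAut.conj c).toMonoidHom ↔ k ∈ H := by
          rw [mem_map_conj_iff']
          have : c⁻¹ * (c * k * c⁻¹) * c = k := by group
          rw [this]
        rw [hHc] at h1
        exact h1
      obtain ⟨Q, hQ, hQmem⟩ := exists_pElts_subgroup H hH q hq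
      have hcN : c ∈ Subgroup.normalizer (Q : Set G) := by
        rw [Subgroup.mem_normalizer_iff]
        intro k
        rw [hQmem, hQmem, hnorm, orderOf_conj']
      have hzc : IsPGroup q (Subgroup.zpowers c) := by
        haveI : Fact q.Prime := ⟨hq⟩
        apply IsPGroup.of_card (n := n)
        rw [Nat.card_zpowers, hcq]
      have hR : IsPGroup q (Subgroup.zpowers c ⊔ Q : Subgroup G) :=
        hzc.to_sup_of_normal_right' hQ (Subgroup.zpowers_le.mpr hcN)
      have hRH := le_of_isPGroup_of_pElts_le hCN H hHm q hq _ hR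
        (fun k' hk' hk'q => (le_sup_right : Q ≤ Subgroup.zpowers c ⊔ Q) ((hQmem k').mpr ⟨hk', hk'q⟩))
        ⟨x', hx'H, hx'1, hx'q⟩
      exact hRH ((le_sup_left : Subgroup.zpowers c ≤ Subgroup.zpowers c ⊔ Q) (Subgroup.mem_zpowers c))
    · have hcy : Commute c y := by
        apply commute_of_coprime_of_mem_nilpotent M hMn hc hyM
        rw [hcq, hyq]
        exact Nat.Coprime.pow _ _ ((Nat.coprime_primes hq hr).mpr hqr)
      rw [← hCy, Subgroup.mem_centralizer_iff]
      intro z hz
      rw [Set.mem_singleton_iff] at hz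
      rw [hz]
      exact hcy.eq.symm

end Cfsg.Agent.S1477
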