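import Cfsg.Statements.S1351
import Cfsg.Agent.Helper1.BGSK
import Cfsg.Agent.Helper1.BGSMain
import Cfsg.Agent.Helper22.BG13iCore
import Cfsg.Agent.Helper62.BG51AB
import Cfsg.Agent.Helper49.BGCMain

set_option autoImplicit false
open Cfsg

namespace Cfsg.Agent.S1351

/-- Let G be a minimal simple group of odd order and M a maximal subgroup. Then M possesses a Hall κ(M)-subgroup, and every Hall κ(M)-subgroup of M is cyclic. -/
theorem result {G : Type*} [Group G] [Finite G] (hG : Cfsg.IsMinSimpleOddOrder G)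
    (M : Subgroup G) (hM : IsCoatom M) :
    (∃ K : Subgroup G, Cfsg.IsPiHallOf (Cfsg.kappa M) K M) ∧
      ∀ K : Subgroup G, Cfsg.IsPiHallOf (Cfsg.kappa M) K M → IsCyclic K := by
  have hAB : Cfsg.Agent.Helper49.StarAB G :=
    Cfsg.Agent.Helper62.bg51_star_AB hG
      (fun M E P p h => Cfsg.Agent.Helper22.bg13i_cent_E hG h)
  refine Cfsg.Agent.Helper1.bgs_1351_of_star hG (fun M P p hM hp hPM hP hD => ?_) M hM
  obtain ⟨ι, hfin, Mf, W, hS, j, k, hjk⟩ :=
    Cfsg.Agent.Helper49.star_exists_of_AB hG hAB hM hp hPM hP hD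
  exact Cfsg.Agent.Helper1.star_false hG hS j k hjk

end Cfsg.Agent.S1351
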