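import Cfsg.Statements.S1372
import Cfsg.Agent.S1350
import Cfsg.Agent.S1353
import Cfsg.Agent.S1354
import Cfsg.Agent.S1365
import Cfsg.Agent.S1414
import Cfsg.Agent.S1420
import Cfsg.Agent.S1426
import Cfsg.Agent.S1429
import Cfsg.Agent.S1446
import Cfsg.Agent.Helper49.BG14U
import Cfsg.Agent.Helper1.BGUniqA
import Cfsg.Agent.Helper62.BG72A
import Cfsg.Agent.Helper62.BG72B
import Cfsg.Agent.Helper62.BG72C
import Cfsg.Agent.Helper62.BG72D
import Cfsg.Agent.Helper4.BG72P6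
import Cfsg.Agent.Helper4.BG72P7

set_option autoImplicit false
open Cfsg

namespace Cfsg.Agent.S1372

open Subgroup Cfsg.Agent.Helper62

/-- Let G be a minimal simple group of odd order and M a maximal subgroup with standard factorisation M = K U M_σ, K ≠ 1 and U ≠ 1. Then K has prime order, and the Fitting subgroup F(M) contains M_σ and is a TI-subset of G. -/
theorem result {G : Type*} [Group G] [Finite G] (hG : Cfsg.IsMinSimpleOddOrder G)
    (M : Subgroup G) (hM : IsCoatom M) (K U : Subgroup G) (hKU : Cfsg.IsSigmaDecomposition M K U) (hK1 : K ≠ ⊥) (hU1 : U ≠ ⊥) :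
    (Nat.card K).Prime ∧ Cfsg.IsTISubset (Cfsg.fittingOf M : Set G) ∧ Cfsg.sigmaCore M ≤ Cfsg.fittingOf M := by
  haveI hsimple : IsSimpleGroup G := hG.2.1
  obtain ⟨hUM, hKσM, hinf, hprod⟩ := hKU.compl
  have hKM : K ≤ M := hKU.hall.1
  have hσM : sigmaCore M ≤ M := Cfsg.Agent.Helper23.piCoreOf_le _ _
  have hSn : M ≤ normalizer (sigmaCore M : Set G) :=
    Cfsg.Agent.Helper23.le_normalizer_piCoreOf (sigma M) M
  have hσhall := (Cfsg.Agent.S1350.result hG M hM).1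
  obtain ⟨hE, -, -, -⟩ := Cfsg.Agent.Helper49.bg14u_setup hG hKU
  have h54 := Cfsg.Agent.S1354.result hG M hM K hKU.cyclic hKU.hall
  have hKs1 := h54.1
  have hact := h54.2 hK1
  have hσ1 : sigmaCore M ≠ ⊥ := fun e => hKs1 (by rw [e, bot_inf_eq])
  have hKσ : K ⊓ sigmaCore M = ⊥ := Cfsg.Agent.Helper49.bg14u_kappa_inf_sigma hKU.hall.2.1
  have hUK : U ⊓ K = ⊥ := by
    rw [eq_bot_iff, ← hinf]
    exact inf_le_inf_left U le_sup_left
  -- primes of `U`
  have hUσ : ∀ p : ℕ, p.Prime → p ∣ Nat.card U → p ∉ sigma M := fun p hp hpU hσ =>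
    hσhall.2.2 p hp hσ (hpU.trans (bg72_card_dvd_relIndex le_sup_right hKU.compl))
  have hUκ : ∀ p : ℕ, p.Prime → p ∣ Nat.card U → p ∉ kappa M := fun p hp hpU hκ =>
    hKU.hall.2.2 p hp hκ (hpU.trans (bg72_card_dvd_relIndex le_sup_left hKU.compl))
  have hKκσ : ∀ p : ℕ, p.Prime → p ∣ Nat.card K → p ∉ sigma M := fun p hp hpK =>
    (hKU.hall.2.1 p hp hpK).2.2.1
  have hσσ : ∀ p : ℕ, p.Prime → p ∣ Nat.card (sigmaCore M) → p ∈ sigma M := hσhall.2.1
  have hUc1 : Nat.card U ≠ 1 := fun e => hU1 (Subgroup.card_eq_one.mp e)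
  obtain ⟨p, hp, hpU⟩ := Nat.exists_prime_and_dvd hUc1
  have hpM : p ∣ Nat.card M := hpU.trans (Subgroup.card_dvd_of_le hUM)
  have hP1 : ¬ (∀ q : ℕ, q.Prime → q ∣ Nat.card M → q ∉ sigma M → q ∈ kappa M) := fun h =>
    hUκ p hp hpU (h p hp hpM (hUσ p hp hpU))
  haveI := Fact.mk hp
  obtain ⟨P, hPU⟩ := bg72_exists_sylow_le hKU.compl (hKM.trans hSn)
    (fun h => hUκ p hp hpU (hKU.hall.2.1 p hp h)) (fun h => hUσ p hp hpU (hσσ p hp h))
  obtain ⟨-, hCA, hnil⟩ := Cfsg.Agent.S1429.result hG M hM hP1 p hpM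
    (fun h => h.elim (hUσ p hp hpU) (hUκ p hp hpU)) P
  have hCU : sigmaCore M ⊓ centralizer (U : Set G) = ⊥ := by
    rw [eq_bot_iff, ← hCA]
    refine inf_le_inf_left _ (Subgroup.centralizer_le ?_)
    exact (Subgroup.closure_le U).mpr (fun x hx => hPU hx.1)
  -- prime action of `K` on `M_σ`
  have hpr : ∀ x ∈ K, x ≠ 1 → sigmaCore M ⊓ centralizer ({x} : Set G) =
      sigmaCore M ⊓ centralizer (K : Set G) := fun x hx hx1 =>
    bg72_cent_eq hKσ hσM hx (hact x hx hx1)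
  -- S1446
  have hEM : U ⊔ K ≤ M := sup_le hUM hKM
  have hEtop : U ⊔ K ≠ ⊤ := fun e => hM.1 (top_le_iff.mp (e ▸ hEM))
  have hsolv : Group.IsSolvable ↥(U ⊔ K) := hG.2.2.2 _ hEtop
  have hodd : Odd (Nat.card ↥(U ⊔ K)) :=
    Odd.of_dvd_nat hG.1 (Subgroup.card_subgroup_dvd_card _)
  have hcop : (Nat.card ↥(U ⊔ K)).Coprime (Nat.card (sigmaCore M)) := by
    refine Nat.Coprime.symm (Nat.coprime_of_dvd ?_)
    intro q hq hq1 hq2
    exact hσhall.2.2 q hq (hσσ q hq hq1) (hq2.trans (bg72_card_dvd_relIndex le_rfl hE))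
  obtain ⟨hKprime, hcard, -⟩ := Cfsg.Agent.S1446.result (X := G) U K (sigmaCore M) hU1 hK1 hUK
    hKU.normal (Cfsg.Agent.S1353.result hG M hM K U hKU) hsolv hodd hσ1 hnil (hUM.trans hSn)
    (hKM.trans hSn) hcop hCU hpr
  have hσF : sigmaCore M ≤ fittingOf M := Cfsg.Agent.Helper1.bgu_le_fittingOf hσM hSn hnil
  refine ⟨hKprime, ?_, hσF⟩
  -- `K* < M_σ`
  have hlt : sigmaCore M ⊓ centralizer (K : Set G) ≠ sigmaCore M := by
    intro e
    rw [e] at hcard
    have h2 : 2 ≤ Nat.card (sigmaCore M) := by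
      have h0 : Nat.card (sigmaCore M) ≠ 0 := Nat.card_pos.ne'
      have h1 : Nat.card (sigmaCore M) ≠ 1 := fun e => hσ1 (Subgroup.card_eq_one.mp e)
      omega
    have h3 : Nat.card (sigmaCore M) ^ 1 < Nat.card (sigmaCore M) ^ Nat.card K :=
      Nat.pow_lt_pow_right h2 hKprime.one_lt
    rw [pow_one] at h3
    omega
  -- `σ(M) ⊆ β(M)` on `M_σ`
  have h14 := (Cfsg.Agent.S1414.result hG M hM).2.2.2.2
  have h65 := (Cfsg.Agent.S1365.result hG M hM K U hKU hK1).1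
  have hβ : ∀ q : ℕ, q.Prime → q ∣ Nat.card (sigmaCore M) → q ∈ beta M := by
    intro q hq hqσ
    by_contra hqβ
    have hnpc := (h14 q hq (hqσ.trans (Subgroup.card_dvd_of_le hσM)) hqβ).1
    exact bg72_sylow_cent hq hnpc (h65 ▸ le_sup_left) hσM hSn hnil hqσ
      (fun h => hUσ q hq h (hσσ q hq hqσ)) hCU
  -- `M_σ ∩ M^g = 1`
  have h26 := (Cfsg.Agent.S1426.result hG M hM (U ⊔ K) hE).2.2
  have hTIσ : ∀ g : G, g ∉ M → sigmaCore M ⊓ M.map (MulAut.conj g).toMonoidHom = ⊥ := by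
    intro g hg
    obtain ⟨-, h2, -⟩ := h26 g hg
    by_contra hne
    have hc1 : Nat.card ↥(sigmaCore M ⊓ M.map (MulAut.conj g).toMonoidHom) ≠ 1 :=
      fun e => hne (Subgroup.card_eq_one.mp e)
    obtain ⟨q, hq, hqd⟩ := Nat.exists_prime_and_dvd hc1
    exact h2 q hq hqd (hβ q hq (hqd.trans (Subgroup.card_dvd_of_le inf_le_left)))
  -- the normalizer of `F(M)`
  have hFM : fittingOf M ≤ M := Cfsg.Agent.Helper1.bgu_fittingOf_le M
  have hF1 : fittingOf M ≠ ⊥ := fun e => hσ1 (le_bot_iff.mp (e ▸ hσF))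
  have hNF : normalizer (fittingOf M : Set G) = M :=
    bg72_normalizer_eq hM hF1 hFM (Cfsg.Agent.Helper1.bgu_le_normalizer_fittingOf M)
  have hFnil := Cfsg.Agent.Helper1.bgu_fittingOf_isNilpotent M
  obtain ⟨s₀, hs₀, hs₀1⟩ : ∃ s ∈ sigmaCore M, s ≠ 1 := by
    by_contra hcon
    refine hσ1 (eq_bot_iff.mpr fun s hs => Subgroup.mem_bot.mpr ?_)
    by_contra hs1
    exact hcon ⟨s, hs, hs1⟩
  -- key: elements of prime order of `F(M)` outside `σ(M)`
  have key : ∀ y ∈ fittingOf M, ∀ r : ℕ, r.Prime → orderOf y = r → r ∉ sigma M →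
      (centralizer ({y} : Set G) ≤ M ∧
        ∀ L : Subgroup G, IsCoatom L → centralizer ({y} : Set G) ≤ L → L = M) := by
    intro y hy r hr hyo hrσ
    have hyM := hFM hy
    have hy1 : y ≠ 1 := fun e => hr.ne_one (by rw [← hyo, e, orderOf_one])
    have hyr : y ^ r = 1 := hyo ▸ pow_orderOf_eq_one y
    have hrS : ¬ r ∣ Nat.card (sigmaCore M) := fun h => hrσ (hσσ r hr h)
    have hcomm : ∀ s ∈ sigmaCore M, y * s = s * y := bg72_nilp_comm hFnil hσF hr hrS hy hyr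
    have hrM : r ∣ Nat.card M := hyo ▸ Subgroup.orderOf_dvd_natCard M hyM
    haveI := Fact.mk hr
    have hrκ : r ∉ kappa M := by
      intro hκ
      obtain ⟨m, hm, hmK⟩ := bg72_conj_mem hKM (hKU.hall.2.2 r hr hκ) hyM hyr
      have hk1 : m * y * m⁻¹ ≠ 1 := fun e => hy1 (by simpa using e)
      have h1 := hpr _ hmK hk1
      apply hlt
      rw [← h1]
      refine inf_eq_left.mpr (fun s hs => ?_)
      rw [Subgroup.mem_centralizer_iff]
      intro z hz
      rw [Set.mem_singleton_iff] at hz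
      subst hz
      have hs' : m⁻¹ * s * m ∈ sigmaCore M := by
        have := (Subgroup.mem_normalizer_iff.mp (hSn (M.inv_mem hm)) s).mp hs
        simpa using this
      have h2 := hcomm _ hs'
      calc m * y * m⁻¹ * s = m * (y * (m⁻¹ * s * m)) * m⁻¹ := by group
        _ = m * ((m⁻¹ * s * m) * y) * m⁻¹ := by rw [h2]
        _ = s * (m * y * m⁻¹) := by group
    obtain ⟨P', hyP'⟩ := bg72_exists_sylow_mem (p := r) hyM hyr
    obtain ⟨hA, hCA', -⟩ := Cfsg.Agent.S1429.result hG M hM hP1 r hrM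
      (fun h => h.elim hrσ hrκ) P'
    have hτ2 : r ∈ tau2 M := by
      refine ⟨hr, hrσ, Cfsg.Agent.Helper4.bg72_prank_le_two P' hA, Cfsg.Agent.Helper4.bg72_not_prank_le_one P' hA hyP' hyr hy1 ?_⟩
      intro hle
      apply hσ1
      rw [eq_bot_iff, ← hCA']
      refine le_inf le_rfl (fun s hs => ?_)
      rw [Subgroup.mem_centralizer_iff]
      intro z hz
      obtain ⟨n, rfl⟩ := Subgroup.mem_zpowers_iff.mp (hle hz)
      exact ((Commute.zpow_right (hcomm s hs).symm n)).eq.symm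
    have hyhat : y ∈ sigmaHat M := ⟨hyM, s₀, hs₀, hs₀1, hcomm s₀ hs₀⟩
    refine (Cfsg.Agent.S1420.result hG M hM (U ⊔ K) hE).2.2.2 y hyM hy1 ?_ hyhat
    intro q hq hqy
    rw [hyo] at hqy
    rw [(Nat.prime_dvd_prime_iff_eq hq hr).mp hqy]
    exact hτ2
  -- final assembly
  apply bg72_ti_of_prime
  intro g hg y hy hyo hgy
  rw [hNF] at hg
  have hgyo : orderOf (g * y * g⁻¹) = orderOf y :=
    orderOf_injective (MulAut.conj g).toMonoidHom (MulAut.conj g).injective y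
  by_cases hσ : orderOf y ∈ sigma M
  · have h1 : g * y * g⁻¹ ∈ sigmaCore M := by
      refine Cfsg.Agent.Helper68.bg123_mem_of_coprime hSn (hFM hgy) (n := orderOf y) ?_ ?_
      · rw [← hgyo]; exact pow_orderOf_eq_one _
      · exact (Nat.Prime.coprime_iff_not_dvd hyo).mpr (hσhall.2.2 _ hyo hσ)
    have h2 : g * y * g⁻¹ ∈ M.map (MulAut.conj g).toMonoidHom := ⟨y, hFM hy, rfl⟩
    have h3 : g * y * g⁻¹ ∈ sigmaCore M ⊓ M.map (MulAut.conj g).toMonoidHom := ⟨h1, h2⟩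
    rw [hTIσ g hg, Subgroup.mem_bot] at h3
    have h4 : y = 1 := by simpa using h3
    exact hyo.ne_one (by rw [h4, orderOf_one])
  · have k1 := key y hy _ hyo rfl hσ
    have k2 := key (g * y * g⁻¹) hgy _ hyo hgyo hσ
    exact hg (bg72_conj_uniq hM k1.1 k2.2)

end Cfsg.Agent.S1372
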