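import Cfsg.Statements.S1370
import Cfsg.Agent.Helper23.BG14U1
import Cfsg.Agent.Helper23.BG14Zhat

set_option autoImplicit false
open Cfsg

namespace Cfsg.Agent.S1370

/-- Let G be a minimal simple group of odd order, M a maximal subgroup with standard factorisation M = K U M_σ, K ≠ 1, K* = M_σ ∩ C_G(K) and Z the subgroup generated by K and K*. Then the set of elements of Z lying in neither K nor K* is a TI-subset of G, and its set-normalizer in G is exactly Z. -/
theorem result {G : Type*} [Group G] [Finite G] (hG : Cfsg.IsMinSimpleOddOrder G)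
    (M : Subgroup G) (hM : IsCoatom M) (K U : Subgroup G) (hKU : Cfsg.IsSigmaDecomposition M K U) (hK1 : K ≠ ⊥) :
    Cfsg.IsTISubset ((↑(K ⊔ (Cfsg.sigmaCore M ⊓ Subgroup.centralizer (K : Set G))) : Set G) \ ((K : Set G) ∪ ↑(Cfsg.sigmaCore M ⊓ Subgroup.centralizer (K : Set G)))) ∧ Subgroup.normalizer ((↑(K ⊔ (Cfsg.sigmaCore M ⊓ Subgroup.centralizer (K : Set G))) : Set G) \ ((K : Set G) ∪ ↑(Cfsg.sigmaCore M ⊓ Subgroup.centralizer (K : Set G)))) = K ⊔ (Cfsg.sigmaCore M ⊓ Subgroup.centralizer (K : Set G)) := by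
  obtain ⟨h65, hcop, -, hKs1, hcent, hu1⟩ := Cfsg.Agent.Helper23.bg14_pkg hG hM hKU hK1
  have hKM : K ≤ M := hKU.hall.1
  have hM1 : M ≠ ⊥ := fun h => hK1 (le_bot_iff.mp (h ▸ hKM))
  have hNM : Subgroup.normalizer (M : Set G) ≤ M :=
    (Cfsg.Agent.Helper23.uq_normalizer_eq hG hM hM1 le_rfl Subgroup.le_normalizer).le
  have hKsM' : Cfsg.sigmaCore M ⊓ Subgroup.centralizer (K : Set G) ≤ ⁅M, M⁆ := by
    rw [h65]
    exact inf_le_left.trans le_sup_right
  exact Cfsg.Agent.Helper23.bg14_zhat_ti hM hKM hKsM' inf_le_right hcop hcent hNM hu1 hK1 hKs1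

end Cfsg.Agent.S1370
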