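import Cfsg.Statements.S1364
import Cfsg.Agent.Helper25.BG15Main
import Cfsg.Agent.Helper25.BG15AC
import Cfsg.Agent.Helper49.BG15AH
import Cfsg.Agent.Helper58.BG15NILU
import Cfsg.Agent.Helper4.BG15NCY
import Cfsg.Agent.Helper31.BGCFHb
import Cfsg.Agent.Helper23.Uniq
import Cfsg.Agent.S1351
import Cfsg.Agent.S1354
import Cfsg.Agent.S1365
import Cfsg.Agent.S1366
import Cfsg.Agent.S1372
import Cfsg.Agent.S1373

set_option autoImplicit false
open Cfsg

namespace Cfsg.Agent.S1364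

open Cfsg.Agent.Helper25 Cfsg.Agent.Helper49 Cfsg.Agent.Helper58 Cfsg.Agent.Helper4

/-- Let G be a minimal simple group of odd order, M a maximal subgroup with standard factorisation M = K U M_σ and K ≠ 1, and put K* = M_σ ∩ C_G(K). Then K* is cyclic, nontrivial and contained in M_F, while M_F itself is not cyclic. -/
theorem result {G : Type*} [Group G] [Finite G] (hG : Cfsg.IsMinSimpleOddOrder G)
    (M : Subgroup G) (hM : IsCoatom M) (K U : Subgroup G) (hKU : Cfsg.IsSigmaDecomposition M K U) (hK1 : K ≠ ⊥) :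
    IsCyclic ↥(Cfsg.sigmaCore M ⊓ Subgroup.centralizer (K : Set G)) ∧ (Cfsg.sigmaCore M ⊓ Subgroup.centralizer (K : Set G)) ≠ ⊥ ∧ (Cfsg.sigmaCore M ⊓ Subgroup.centralizer (K : Set G)) ≤ Cfsg.fittingHallOf M ∧ ¬ IsCyclic (Cfsg.fittingHallOf M) := by
  classical
  have hKs1 : Cfsg.sigmaCore M ⊓ Subgroup.centralizer (K : Set G) ≠ ⊥ :=
    (Cfsg.Agent.S1354.result hG M hM K hKU.cyclic hKU.hall).1
  have hcyc : IsCyclic ↥(Cfsg.sigmaCore M ⊓ Subgroup.centralizer (K : Set G)) := by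
    obtain ⟨Ms, ⟨hMs, -, hKstH⟩, -⟩ := Cfsg.Agent.S1366.result hG M hM K U hKU hK1
    exact (Cfsg.Agent.S1351.result hG Ms hMs).2 _ hKstH
  have h65 := Cfsg.Agent.S1365.result hG M hM K U hKU hK1
  have hle : Cfsg.sigmaCore M ⊓ Subgroup.centralizer (K : Set G) ≤ Cfsg.fittingHallOf M := by
    by_cases hU : U = ⊥
    · have hprime := Cfsg.Agent.S1373.result hG M hM K U hKU hK1 hU
      obtain ⟨p, q, k, z, hp, hq, hkp, hpL, hzL, hzq, hzk, hfix, hz', hKs⟩ :=
        bg15_app_hyps hG M hM K U hKU hK1 hU hprime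
      have hodd : Odd (Nat.card ↥M) := Cfsg.Agent.Helper23.uq_odd hG M
      have hsolM : Group.IsSolvable ↥M := Cfsg.Agent.Helper23.uq_isSolvable hG hM.1
      have hsol : Group.IsSolvable ↥(Cfsg.piCore (Cfsg.sigma M) ↥M) := inferInstance
      obtain ⟨Q, hQL, hQq, hQidx, hQn, hzQ⟩ :=
        bg15_sylow_normal hodd (Cfsg.piCore (Cfsg.sigma M) ↥M) hsol hp hq hkp hpL hzL hzq hzk
          hfix hz'
      have hQF := bg15_app_concl hG M hM hq Q hQn hQL hQq hQidx
      rw [hKs]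
      exact Subgroup.map_mono (Subgroup.zpowers_le.mpr (hQF hzQ))
    · have h72 := Cfsg.Agent.S1372.result hG M hM K U hKU hK1 hU
      have hnil := bg15_sigma_nilpotent_of_le_fitting M h72.2.2
      exact inf_le_left.trans (Cfsg.Agent.Helper31.bgc_sigmaCore_le_fittingHall hG hM hnil)
  refine ⟨hcyc, hKs1, hle, ?_⟩
  obtain ⟨z, hz1⟩ := (Subgroup.ne_bot_iff_exists_ne_one).mp hKs1
  have hz1' : (z : G) ≠ 1 := fun h => hz1 (Subtype.ext h)
  exact bg15_fittingHall_not_cyclic M hz1' (hle z.2) (h65.2 z.2)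

end Cfsg.Agent.S1364
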