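import Cfsg.Statements.S1355
import Cfsg.Agent.Helper25.BG15Main
import Cfsg.Agent.Helper25.BG15AC
import Cfsg.Agent.Helper49.BG15AH
import Cfsg.Agent.Helper62.BG15T2
import Cfsg.Agent.Helper1.BG15C1
import Cfsg.Agent.Helper6.BG15C2
import Cfsg.Agent.Helper1.BG15E1
import Cfsg.Agent.Helper24.BG15E2
import Cfsg.Agent.Helper58.BG15E3
import Cfsg.Agent.Helper54.BG14T2
import Cfsg.Agent.Helper23.Uniq
import Cfsg.Agent.S1365
import Cfsg.Agent.S1373

set_option autoImplicit false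
open Cfsg

namespace Cfsg.Agent.S1355


/-- Let G be a minimal simple group of odd order and M a maximal subgroup. Then the largest normal nilpotent Hall subgroup M_F of M is nontrivial and contained in M_σ, M_σ is contained in the derived subgroup M', M' is proper in M, and the image of M' in M/M_F is nilpotent. -/
theorem result {G : Type*} [Group G] [Finite G] (hG : Cfsg.IsMinSimpleOddOrder G)
    (M : Subgroup G) (hM : IsCoatom M) :
    Cfsg.fittingHallOf M ≠ ⊥ ∧ Cfsg.fittingHallOf M ≤ Cfsg.sigmaCore M ∧ Cfsg.sigmaCore M ≤ ⁅M, M⁆ ∧ ⁅M, M⁆ < M ∧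
      Group.IsNilpotent ↥((commutator ↥M).map (QuotientGroup.mk' (Cfsg.fittingHall ↥M))) := by
  classical
  have hb : Cfsg.fittingHallOf M ≤ Cfsg.sigmaCore M := Cfsg.Agent.Helper54.bg14t_fittingHall_le hG hM
  have hc := Cfsg.Agent.Helper1.bg15_sigma_le_comm hG M hM
  have hd := Cfsg.Agent.Helper6.bg15_comm_lt hG M hM
  by_cases hnil : Group.IsNilpotent ↥(Cfsg.sigmaCore M)
  · obtain ⟨ha, he⟩ := Cfsg.Agent.Helper1.bg15_chain_nil hG M hM hnil
    exact ⟨ha, hb, hc, hd, he⟩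
  · obtain ⟨K, U, hKU, hK1, hU⟩ := Cfsg.Agent.Helper24.bg15_chain_KU hG M hM hnil
    have hprime := Cfsg.Agent.S1373.result hG M hM K U hKU hK1 hU
    obtain ⟨p, q, k, z, hp, hq, hkp, hpL, hzL, hzq, hzk, hfix, hz', -⟩ :=
      Cfsg.Agent.Helper49.bg15_app_hyps hG M hM K U hKU hK1 hU hprime
    have hodd : Odd (Nat.card ↥M) := Cfsg.Agent.Helper23.uq_odd hG M
    have hsolM : Group.IsSolvable ↥M := Cfsg.Agent.Helper23.uq_isSolvable hG hM.1
    have hsol : Group.IsSolvable ↥(Cfsg.piCore (Cfsg.sigma M) ↥M) := inferInstance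
    obtain ⟨Q, hQL, hQq, hQidx, hQn, hzQ⟩ :=
      Cfsg.Agent.Helper25.bg15_sylow_normal hodd (Cfsg.piCore (Cfsg.sigma M) ↥M) hsol hp hq hkp hpL hzL hzq hzk
        hfix hz'
    have hQF := Cfsg.Agent.Helper25.bg15_app_concl hG M hM hq Q hQn hQL hQq hQidx
    have hz1 : z ≠ 1 := by
      intro h
      rw [h, orderOf_one] at hzq
      exact hq.one_lt.ne hzq
    refine ⟨?_, hb, hc, hd, ?_⟩
    · intro hbot
      have hF : Cfsg.fittingHall ↥M = ⊥ :=
        (Subgroup.map_eq_bot_iff_of_injective _ M.subtype_injective).mp hbot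
      have hz0 := hQF hzQ
      rw [hF, Subgroup.mem_bot] at hz0
      exact hz1 hz0
    · have h65 := Cfsg.Agent.S1365.result hG M hM K U hKU hK1
      have hcomm : ⁅M, M⁆ = Cfsg.sigmaCore M := by rw [h65.1, hU, bot_sup_eq]
      rw [Cfsg.Agent.Helper58.bg15_comm_eq M hcomm]
      exact Cfsg.Agent.Helper62.bg15_section_nilpotent (Cfsg.piCore (Cfsg.sigma M) ↥M) (Cfsg.fittingHall ↥M) hp hkp hpL
        (fun a ha hak => hQF ((Subgroup.zpowers_le.mpr hzQ) (hfix a ha hak)))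

end Cfsg.Agent.S1355
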