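import Cfsg.Statements.S1363
import Cfsg.Agent.Helper68.BG63Main
import Cfsg.Agent.S1366

set_option autoImplicit false
open Cfsg

namespace Cfsg.Agent.S1363

/-- Let G be a minimal simple group of odd order and M a maximal subgroup with standard factorisation M = K U M_σ and K ≠ 1. Then U is abelian and the normalizer of U in G is not contained in M. -/
theorem result {G : Type*} [Group G] [Finite G] (hG : Cfsg.IsMinSimpleOddOrder G)
    (M : Subgroup G) (hM : IsCoatom M) (K U : Subgroup G) (hKU : Cfsg.IsSigmaDecomposition M K U) (hK1 : K ≠ ⊥) :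
    IsMulCommutative U ∧ ¬ Subgroup.normalizer (U : Set G) ≤ M := by
  refine ⟨Cfsg.Agent.Helper68.bg14r_U_comm hG hM hKU hK1, ?_⟩
  by_cases hU1 : U = ⊥
  · intro h
    apply hM.1
    rw [eq_top_iff]
    intro g _
    apply h
    rw [Subgroup.mem_normalizer_iff]
    intro x
    rw [hU1, Subgroup.mem_bot, Subgroup.mem_bot]
    constructor
    · intro hx
      rw [hx]
      group
    · intro hx
      have h1 : x = g⁻¹ * (g * x * g⁻¹) * g := by group
      rw [h1, hx]
      group
  · obtain ⟨Mstar, ⟨hMs, hKst, hKstH⟩, -⟩ := Cfsg.Agent.S1366.result hG M hM K U hKU hK1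
    exact Cfsg.Agent.Helper68.bg63_main hG hM hKU hK1 hU1 hMs hKst hKstH

end Cfsg.Agent.S1363
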