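-- Statement S1432 (B&G: centralizer dichotomy for elements of M_σ), helper24.
import Cfsg.Statements.S1432
import Cfsg.Agent.Helper24.BG13U
import Cfsg.Agent.Helper49.BG14U
import Cfsg.Agent.Helper50.BG14T2
import Cfsg.Agent.Helper98.BG14SET3
import Cfsg.Agent.S1420

set_option autoImplicit false
open Cfsg

namespace Cfsg.Agent.S1432

/-- Let G be a minimal simple group of odd order, M a maximal subgroup, x a non-identity element of M_σ and x' a non-identity element of C_M(x) no prime divisor of whose order lies in σ(M). Then either all prime divisors of the order of x' lie in κ(M) and C_G(x) ≤ M; or all of them lie in τ₂(M), they all lie in σ(L) for a single maximal subgroup L, and C_G(x') ≤ M with M the unique maximal subgroup containing C_G(x'). -/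
theorem result {G : Type*} [Group G] [Finite G] (hG : Cfsg.IsMinSimpleOddOrder G)
    (M : Subgroup G) (hM : IsCoatom M) (x : G) (hx : x ∈ Cfsg.sigmaCore M) (hx1 : x ≠ 1) (x' : G) (hx' : x' ∈ M ⊓ Subgroup.centralizer ({x} : Set G)) (hx'1 : x' ≠ 1)
    (hσ : ∀ p : ℕ, p.Prime → p ∣ orderOf x' → p ∉ Cfsg.sigma M) :
    ((∀ p : ℕ, p.Prime → p ∣ orderOf x' → p ∈ Cfsg.kappa M) ∧ Subgroup.centralizer ({x} : Set G) ≤ M) ∨
      ((∀ p : ℕ, p.Prime → p ∣ orderOf x' → p ∈ Cfsg.tau2 M) ∧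
        (∃ L : Subgroup G, IsCoatom L ∧ ∀ p : ℕ, p.Prime → p ∣ orderOf x' → p ∈ Cfsg.sigma L) ∧
        (Subgroup.centralizer ({x'} : Set G) ≤ M ∧ ∀ L : Subgroup G, IsCoatom L → Subgroup.centralizer ({x'} : Set G) ≤ L → L = M)) := by
  classical
  have hU : Helper22.BGUniq G := fun K hK h1 h2 => Cfsg.Agent.S1403.result hG K hK h1 h2
  have hpow : ∀ s : ℕ, s.Prime → ¬ s ^ 2 ≤ s ^ 1 := fun s hs h => by
    rw [pow_one, sq] at h; nlinarith [hs.two_le]
  have hx'M : x' ∈ M := hx'.1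
  have hxx' : x * x' = x' * x := Subgroup.mem_centralizer_iff.mp hx'.2 x rfl
  have hox : orderOf x' ≠ 0 := (orderOf_pos x').ne'
  have hox1 : orderOf x' ≠ 1 := fun h => hx'1 (orderOf_eq_one_iff.mp h)
  -- elements of prime order in `⟨x'⟩`
  have hy : ∀ p : ℕ, p.Prime → p ∣ orderOf x' →
      ∃ y : G, y ∈ Subgroup.zpowers x' ∧ orderOf y = p ∧ y ∈ M ∧ y * x = x * y := by
    intro p _ hpx
    refine ⟨x' ^ (orderOf x' / p), Subgroup.pow_mem _ (Subgroup.mem_zpowers x') _,
      orderOf_pow_orderOf_div hox hpx, Subgroup.pow_mem _ hx'M _, ?_⟩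
    have h1 : Commute x' x := hxx'.symm
    exact (h1.pow_left _).eq
  -- a complement `E` of `M_σ` containing `x'`
  have hcop : (Nat.card (Subgroup.zpowers x')).Coprime (Nat.card (sigmaCore M)) := by
    rw [Nat.card_zpowers]
    apply Nat.coprime_of_dvd
    intro k hk hkx hkσ
    exact hσ k hk hkx (Helper23.mem_of_dvd_card_piCoreOf (sigma M) M hk hkσ)
  obtain ⟨E, hE, hxE⟩ :=
    Helper20.bg13_exists_compl_ge hG hU hM ((Subgroup.zpowers_le).mpr hx'M) hcop
  -- the type of each prime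
  have hcls : ∀ p : ℕ, p.Prime → p ∣ orderOf x' → p ∈ tau1 M ∪ tau3 M ∨ p ∈ tau2 M := by
    intro p hpp hpx
    have hpσ := hσ p hpp hpx
    have hpM : p ∣ Nat.card M := hpx.trans (Subgroup.orderOf_dvd_natCard M hx'M)
    by_cases hr1 : PRankLE p 1 ↥M
    · left
      by_cases hd : p ∣ Nat.card ↥⁅M, M⁆
      · exact Or.inr ⟨hpp, hpσ, hd, hr1⟩
      · exact Or.inl ⟨hpp, hpσ, hpM, hd, hr1⟩
    · right
      exact ⟨hpp, hpσ, Helper22.bg10_pRank_of_not_alpha M p hpp
        (fun h => hpσ (Helper22.bg10_alpha_sub_sigma hG hU hM h)), hr1⟩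
  -- the two kinds of primes do not mix
  have hmix : ∀ p : ℕ, p.Prime → p ∣ orderOf x' → p ∈ tau1 M ∪ tau3 M →
      ∀ s : ℕ, s.Prime → s ∣ orderOf x' → s ∈ tau2 M → False := by
    intro p hpp hpx hp13 s hsp hsx hs2
    obtain ⟨y, hyz, hyo, hyM, hyx⟩ := hy p hpp hpx
    obtain ⟨z, hzz, hzo, hzM, hzx⟩ := hy s hsp hsx
    have hP : Nat.card (Subgroup.zpowers y) = p := by rw [Nat.card_zpowers]; exact hyo
    have hX : Nat.card (Subgroup.zpowers z) = s := by rw [Nat.card_zpowers]; exact hzo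
    have hPE : Subgroup.zpowers y ≤ E := (Subgroup.zpowers_le).mpr (hxE hyz)
    have hXE : Subgroup.zpowers z ≤ E := (Subgroup.zpowers_le).mpr (hxE hzz)
    have hXP : Subgroup.zpowers z ≤
        Subgroup.centralizer ((Subgroup.zpowers y : Subgroup G) : Set G) := by
      rw [Subgroup.zpowers_le, Subgroup.mem_centralizer_iff]
      intro w hw
      obtain ⟨k, rfl⟩ := Subgroup.mem_zpowers_iff.mp ((Subgroup.zpowers_le).mpr hyz hw)
      obtain ⟨l, rfl⟩ := Subgroup.mem_zpowers_iff.mp hzz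
      exact zpow_mul_comm x' k l
    have hxD : x ∈ sigmaCore M ⊓
        Subgroup.centralizer ((Subgroup.zpowers y : Subgroup G) : Set G) := by
      refine Subgroup.mem_inf.mpr ⟨hx, ?_⟩
      rw [Subgroup.mem_centralizer_iff]
      intro w hw
      obtain ⟨k, rfl⟩ := Subgroup.mem_zpowers_iff.mp hw
      have h1 : Commute y x := hyx
      exact (h1.zpow_left k).eq
    have hD : sigmaCore M ⊓
        Subgroup.centralizer ((Subgroup.zpowers y : Subgroup G) : Set G) ≠ ⊥ := by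
      intro h
      rw [h] at hxD
      exact hx1 (Subgroup.mem_bot.mp hxD)
    rcases hp13 with hp1 | hp3
    · exact Helper1.bg14_lemmaZ hG hM hE hp1 hPE hP hD hs2 hXE hX hXP
    · have : Fact p.Prime := ⟨hpp⟩
      have : Fact s.Prime := ⟨hsp⟩
      have hPp : IsPGroup p (Subgroup.zpowers y) :=
        IsPGroup.of_card (n := 1) (by rw [hP, pow_one])
      obtain ⟨hEN, -, -⟩ := Helper98.bg14_normal_in_compl hG hM hE hp3 hPE hPp
      obtain ⟨H, hH, hNP⟩ := Helper68.bg13_exists_over hG hpp hP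
      have hHM : H ≠ M := by
        intro h
        rw [h] at hNP
        exact (Cfsg.Agent.S1409.result hG M hM p hp3.2.1 _ hP hNP).1.2 hp3.2.2.2
      have hEH : E ≤ H := hEN.trans hNP
      have hne : sigmaCore M ⊓ H ≠ ⊥ := by
        intro h
        have h1 : x ∈ sigmaCore M ⊓ H :=
          Subgroup.mem_inf.mpr ⟨hx, hNP ((Subgroup.centralizer_le_normalizer _) hxD.2)⟩
        rw [h] at h1
        exact hx1 (Subgroup.mem_bot.mp h1)
      exact Helper50.bg14_not_tau2 hG hM hE hH hHM hEH hne (r := s) hs2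
  obtain ⟨p₀, hp₀, hp₀x⟩ := Nat.exists_prime_and_dvd hox1
  by_cases hall : ∀ p : ℕ, p.Prime → p ∣ orderOf x' → p ∈ tau2 M
  · right
    refine ⟨hall, ?_, ?_⟩
    · have : Fact p₀.Prime := ⟨hp₀⟩
      have hs2 := hall p₀ hp₀ hp₀x
      obtain ⟨A, hAE, hA, hAc⟩ := Helper4.bg127_exists_in_compl hE hs2
      obtain ⟨Ms, hMs, hne, hNA, hsσ, -, -⟩ :=
        Helper31.bgz_exists_Mstar hG hM hE hs2 hAE hA hAc
      obtain ⟨⟨hEA, -⟩, -, -⟩ := Cfsg.Agent.S1418.result hG M hM E hE p₀ hs2 A ⟨hAE, hA, hAc⟩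
      have hEMs : E ≤ Ms := hEA.trans hNA
      have hAσ : A ≤ sigmaCore Ms := Helper22.bg12_le_sigmaCore hG hU hMs hp₀ hsσ
        (hAE.trans hEMs) (Helper22.bg11_isPGroup_of_elemAb hA)
      refine ⟨Ms, hMs, ?_⟩
      intro t ht htx
      by_contra htσ
      have : Fact t.Prime := ⟨ht⟩
      have ht2 := hall t ht htx
      obtain ⟨B, hBE, hB, hBc⟩ := Helper4.bg127_exists_in_compl hE ht2
      have hBMs : B ≤ Ms := hBE.trans hEMs
      have ht1 : ¬ PRankLE t 1 ↥Ms :=
        Helper21.not_pRankLE_of_elemAb hBMs hB.1 hB.2 (by rw [hBc]; exact hpow t ht)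
      have ht2' : t ∈ tau2 Ms := ⟨ht, htσ, Helper22.bg10_pRank_of_not_alpha Ms t ht
        (fun h => htσ (Helper22.bg10_alpha_sub_sigma hG hU hMs h)), ht1⟩
      obtain ⟨-, -, -, -, hTI, -⟩ :=
        Cfsg.Agent.S1417.result hG Ms hMs t ht2' B ⟨hBMs, hB, hBc⟩
      have h0 : sigmaCore Ms ⊓ M = ⊥ := hTI M hM hne.symm (hBE.trans hE.1)
      have h1 : A ≤ sigmaCore Ms ⊓ M := le_inf hAσ (hAE.trans hE.1)
      rw [h0] at h1
      have h2 : Nat.card A = 1 := by rw [le_bot_iff.mp h1, Subgroup.card_bot]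
      rw [hAc] at h2
      have h3 := hp₀.two_le
      nlinarith
    · exact (Cfsg.Agent.S1420.result hG M hM E hE).2.2.2 x' hx'M hx'1 hall
        ⟨hx'M, x, hx, hx1, hxx'.symm⟩
  · left
    push Not at hall
    obtain ⟨s, hsp, hsx, hs2⟩ := hall
    have hs13 : s ∈ tau1 M ∪ tau3 M := (hcls s hsp hsx).resolve_right hs2
    have h13 : ∀ p : ℕ, p.Prime → p ∣ orderOf x' → p ∈ tau1 M ∪ tau3 M := by
      intro p hpp hpx
      rcases hcls p hpp hpx with h | h
      · exact h
      · exact (hmix s hsp hsx hs13 p hpp hpx h).elim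
    constructor
    · intro p hpp hpx
      by_contra hpκ
      obtain ⟨y, -, hyo, hyM, hyx⟩ := hy p hpp hpx
      exact hx1 (Helper49.bg14u_regular_of_not_kappa hG (h13 p hpp hpx) hpκ hyM hyo hx hyx)
    · obtain ⟨y, -, hyo, hyM, hyx⟩ := hy s hsp hsx
      have hP : Nat.card (Subgroup.zpowers y) = s := by rw [Nat.card_zpowers]; exact hyo
      refine Helper24.bg13u_cent_le hG hM hs13 ((Subgroup.zpowers_le).mpr hyM) hP hx hx1 ?_
      rw [Subgroup.mem_centralizer_iff]
      intro w hw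
      obtain ⟨k, rfl⟩ := Subgroup.mem_zpowers_iff.mp hw
      have h1 : Commute y x := hyx
      exact (h1.zpow_left k).eq

end Cfsg.Agent.S1432
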