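import Cfsg.Statements.S0653
import Cfsg.Agent.Helper11.ZJ
import Cfsg.Agent.S0647
import Cfsg.Agent.S0651

set_option autoImplicit false
open Cfsg

namespace Cfsg.Agent.S0653

open Cfsg.Agent.Helper11

/-- Glauberman's ZJ-Theorem: for odd p, if the largest normal p-subgroup of G contains its centralizer and G acts p-stably on every normal p-subgroup, then the centre of the abelian-version Thompson subgroup of a Sylow p-subgroup is a characteristic subgroup of G. -/
theorem result {G : Type*} [Group G] [Finite G] {p : ℕ} [Fact p.Prime] (hp : p ≠ 2) (hc : Subgroup.centralizer (Cfsg.pCore p G : Set G) ≤ Cfsg.pCore p G) (hst : ∀ (P : Subgroup G) [P.Normal], IsPGroup p P → Cfsg.IsPStableOn p P) (S : Sylow p G) : (Cfsg.centerThompsonAOf ((S : Subgroup G))).Characteristic := by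
  have hbot : IsMulCommutative (⊥ : Subgroup G) := by
    rw [isMulCommutative_iff_of_setLike]
    intro x hx y hy
    rw [Subgroup.mem_bot] at hx hy
    rw [hx, hy]
  have key := zj_generic hp hc hst S (fun A => IsMulCommutative A) (fun A h => h) hbot
    (fun φ A hA => by have := hA; infer_instance) (fun A A' _ h _ _ => h)
  have hF : maxFamily (fun A : Subgroup G => IsMulCommutative A) (S : Subgroup G) =
      (fun A : Subgroup ↥(S : Subgroup G) => A.map (S : Subgroup G).subtype) ''
        (maxAbelianSubgroups ↥(S : Subgroup G)) := by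
    ext X
    exact (Cfsg.Agent.S0651.mem_image_maxAbelian_iff (S : Subgroup G) X).symm
  have hne : (maxAbelianSubgroups ↥(S : Subgroup G)).Nonempty := by
    have h := maxFamily_nonempty (fun A : Subgroup G => IsMulCommutative A) hbot (S : Subgroup G)
    rw [hF] at h
    exact Set.image_nonempty.mp h
  have h47 := (Cfsg.Agent.S0647.result (maxAbelianSubgroups ↥(S : Subgroup G)) hne
    (fun A hA => hA.1)
    (fun A hA B hB hAB => (Subgroup.eq_of_le_of_card_ge hAB (hA.2 B hB)).symm)).1
  have heq : centerThompsonAOf (S : Subgroup G) =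
      sInf (maxFamily (fun A : Subgroup G => IsMulCommutative A) (S : Subgroup G)) := by
    rw [hF, ← map_subtype_sInf _ _ hne, h47]
    unfold centerThompsonAOf thompsonSubgroupAOf thompsonSubgroupA
    ext x
    rw [Subgroup.mem_inf, Subgroup.mem_map, Subgroup.mem_map]
    constructor
    · rintro ⟨⟨y, hy, rfl⟩, hx2⟩
      refine ⟨y, Subgroup.mem_inf.mpr ⟨hy, ?_⟩, rfl⟩
      rw [Subgroup.mem_centralizer_iff] at hx2 ⊢
      intro j hj
      apply Subtype.ext
      exact hx2 _ ⟨j, hj, rfl⟩
    · rintro ⟨y, hy, rfl⟩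
      rw [Subgroup.mem_inf] at hy
      obtain ⟨hy1, hy2⟩ := hy
      refine ⟨⟨y, hy1, rfl⟩, ?_⟩
      rw [Subgroup.mem_centralizer_iff] at hy2 ⊢
      rintro _ ⟨j, hj, rfl⟩
      exact congrArg Subtype.val (hy2 j hj)
  rw [heq]
  exact key

end Cfsg.Agent.S0653
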