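import Cfsg.Statements.S0611
import Mathlib
import Cfsg.Agent.Helper10.Offender

set_option autoImplicit false
open Cfsg

namespace Cfsg.Agent.S0611

open scoped commutatorElement

/-- The commutator map `v ↦ ⁅v, a⁆` on an abelian subgroup `V` normalized by `a`. -/
def commMap {G : Type*} [Group G] (V : Subgroup G) (hc : ∀ x ∈ V, ∀ y ∈ V, x * y = y * x)
    (a : G) (ha : a ∈ Subgroup.normalizer (V : Set G)) : ↥V →* G :=
  MonoidHom.mk' (fun v => ⁅(v : G), a⁆) (by
    intro v w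
    have h1 : a * (v : G)⁻¹ * a⁻¹ ∈ V :=
      (Subgroup.mem_normalizer_iff.mp ha _).mp (V.inv_mem v.2)
    have h2 : a * (w : G)⁻¹ * a⁻¹ ∈ V :=
      (Subgroup.mem_normalizer_iff.mp ha _).mp (V.inv_mem w.2)
    have h3 : (w : G) * (a * (w : G)⁻¹ * a⁻¹) ∈ V := V.mul_mem w.2 h2
    have e := hc _ h3 _ h1
    show ⁅((v * w : ↥V) : G), a⁆ = ⁅(v : G), a⁆ * ⁅(w : G), a⁆
    rw [Subgroup.coe_mul, commutatorElement_def, commutatorElement_def, commutatorElement_def]
    calc (v : G) * (w : G) * a * ((v : G) * (w : G))⁻¹ * a⁻¹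
        = (v : G) * ((w : G) * (a * (w : G)⁻¹ * a⁻¹) * (a * (v : G)⁻¹ * a⁻¹)) := by group
      _ = (v : G) * ((a * (v : G)⁻¹ * a⁻¹) * ((w : G) * (a * (w : G)⁻¹ * a⁻¹))) := by rw [e]
      _ = (v : G) * a * (v : G)⁻¹ * a⁻¹ * ((w : G) * a * (w : G)⁻¹ * a⁻¹) := by group)

theorem commMap_apply {G : Type*} [Group G] (V : Subgroup G)
    (hc : ∀ x ∈ V, ∀ y ∈ V, x * y = y * x) (a : G) (ha : a ∈ Subgroup.normalizer (V : Set G))
    (v : ↥V) : commMap V hc a ha v = ⁅(v : G), a⁆ := rfl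

/-- Commutators with powers of `a` lie in any subgroup containing the commutators with `a`. -/
theorem comm_pow_mem {G : Type*} [Group G] (V W : Subgroup G) (a : G)
    (ha : a ∈ Subgroup.normalizer (V : Set G)) (hW : ∀ v ∈ V, ⁅v, a⁆ ∈ W) (k : ℕ) :
    ∀ v ∈ V, ⁅v, a ^ k⁆ ∈ W := by
  induction k with
  | zero =>
    intro v _
    rw [pow_zero, commutatorElement_def]
    simp
  | succ k ih =>
    intro v hv
    have h1 : a ^ k * v * (a ^ k)⁻¹ ∈ V :=
      (Subgroup.mem_normalizer_iff.mp (Subgroup.pow_mem _ ha k) v).mp hv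
    have e : ⁅v, a ^ (k + 1)⁆ = ⁅v, a ^ k⁆ * ⁅a ^ k * v * (a ^ k)⁻¹, a⁆ := by
      rw [commutatorElement_def, commutatorElement_def, commutatorElement_def, pow_succ]
      group
    rw [e]
    exact W.mul_mem (ih v hv) (hW _ h1)


/-- Minimal nontrivially-acting best offenders in such a faithful group have order p, commutator [V, B] of order p and fixed points of index p. -/
theorem result {G : Type*} [Group G] [Finite G] {p : ℕ} [Fact p.Prime] (V H : Subgroup G) (hV : Cfsg.IsElementaryAbelian p V) (hHV : H ≤ Subgroup.normalizer (V : Set G)) (hf : H ⊓ Subgroup.centralizer (V : Set G) = ⊥) (hS1 : Subgroup.centralizer (Cfsg.pPrimeCore p ↥H : Set ↥H) ≤ Cfsg.pPrimeCore p ↥H) (hS3 : H = ⨆ A : {A : Subgroup G // A ≤ H ∧ Cfsg.IsBestOffenderOn p V A}, (A : Subgroup G)) (hH1 : H ≠ ⊥) (A : Subgroup G) (hAH : A ≤ H) (hA : Cfsg.IsBestOffenderOn p V A) (hAV : ⁅V, A⁆ ≠ ⊥) (hmin : ∀ B : Subgroup G, B ≤ A → Cfsg.IsBestOffenderOn p V B → ⁅V, B⁆ ≠ ⊥ → B = A) : Nat.card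 A = p ∧ Nat.card ↥(⁅V, A⁆) = p ∧ ((V ⊓ Subgroup.centralizer (A : Set G))).relIndex V = p := by
  have hp : p.Prime := Fact.out
  obtain ⟨hQH, hHQ, hQp, hfaith⟩ := Helper10.hypS_of_pPrimeCore (p := p) H hS1
  have hVp : IsPGroup p V := Helper10.elemAb_isPGroup hV
  have hVc : ∀ x ∈ V, ∀ y ∈ V, x * y = y * x := ((Helper10.elemAb_iff p V).mp hV).1
  have hA1 : A ≠ ⊥ := by
    rintro rfl
    exact hAV (Subgroup.commutator_bot_right V)
  have hAea := Helper10.offender_elemAb V H hf A hAH hA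
  have hAp : IsPGroup p A := Helper10.elemAb_isPGroup hAea
  obtain ⟨B, hBA, hBne, hBp, hBbo, hEq⟩ :=
    Helper10.exists_sub_offender V H _ hV hHV hf hQH hHQ hQp hfaith A hAH hA hA1
  have hB1 : B = ⊥ := by
    by_contra hB
    have hVB : ⁅V, B⁆ = ⊥ := by
      by_contra h
      exact hBne (hmin B hBA hBbo h)
    apply hB
    rw [eq_bot_iff, ← hf]
    exact le_inf (hBA.trans hAH)
      (Subgroup.le_centralizer_iff.mp (Subgroup.commutator_eq_bot_iff_le_centralizer.mp hVB))
  subst hB1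
  have hcA : Nat.card A = p := by
    rw [Subgroup.relIndex_bot_left] at hBp
    obtain ⟨k, hk⟩ := IsPGroup.iff_card.mp hAp
    have hk0 : k ≠ 0 := by
      rintro rfl
      rw [pow_zero] at hk
      exact hA1 (Subgroup.eq_bot_of_card_eq A hk)
    apply le_antisymm hBp
    rw [hk]
    exact Nat.le_self_pow hk0 p
  have hcV : (V ⊓ Subgroup.centralizer (A : Set G)).relIndex V = p := by
    have h1 : V ⊓ Subgroup.centralizer (((⊥ : Subgroup G)) : Set G) = V := by
      apply inf_eq_left.mpr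
      intro v _
      rw [Subgroup.mem_centralizer_iff]
      intro h hh
      rw [SetLike.mem_coe, Subgroup.mem_bot] at hh
      rw [hh, one_mul, mul_one]
    rw [h1, Subgroup.card_bot, one_mul, hcA,
      Helper10.card_eq_card_mul_relIndex (inf_le_left :
        V ⊓ Subgroup.centralizer (A : Set G) ≤ V), mul_comm] at hEq
    exact (Nat.eq_of_mul_eq_mul_right Nat.card_pos hEq)
  refine ⟨hcA, ?_, hcV⟩
  -- a generator of `A`
  obtain ⟨⟨a, haA⟩, ha1'⟩ := (Subgroup.ne_bot_iff_exists_ne_one.mp hA1)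
  have ha1 : a ≠ 1 := fun h => ha1' (Subtype.ext h)
  have hgen : ∀ a' ∈ A, ∃ k : ℕ, a ^ k = a' := by
    have hz : Subgroup.zpowers a = A := by
      apply Subgroup.eq_of_le_of_card_ge (Subgroup.zpowers_le.mpr haA)
      rw [hcA, Nat.card_zpowers]
      have h1 : orderOf a ∣ p := by
        rw [← hcA, ← Subgroup.orderOf_mk a haA]
        exact orderOf_dvd_natCard _
      rcases (Nat.dvd_prime hp).mp h1 with h | h
      · exact absurd (orderOf_eq_one_iff.mp h) ha1
      · exact le_of_eq h.symm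
    intro a' ha'
    rw [← hz] at ha'
    exact (Submonoid.mem_powers_iff _ _).mp
      (mem_powers_iff_mem_zpowers.mpr ha')
  have haN : a ∈ Subgroup.normalizer (V : Set G) := hHV (hAH haA)
  have hker : (commMap V hVc a haN).ker = (V ⊓ Subgroup.centralizer (A : Set G)).subgroupOf V := by
    ext v
    rw [MonoidHom.mem_ker, commMap_apply, Subgroup.mem_subgroupOf, Subgroup.mem_inf,
      commutatorElement_eq_one_iff_commute]
    constructor
    · intro h
      refine ⟨v.2, ?_⟩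
      rw [Subgroup.mem_centralizer_iff]
      intro a' ha'
      obtain ⟨k, rfl⟩ := hgen a' ha'
      exact ((h.pow_right k).eq).symm
    · rintro ⟨-, h⟩
      exact (Subgroup.mem_centralizer_iff.mp h a haA).symm
  have hrange : Nat.card (commMap V hVc a haN).range = p := by
    rw [← Subgroup.index_ker, hker]
    exact hcV
  have hle : ⁅V, A⁆ ≤ (commMap V hVc a haN).range := by
    rw [Subgroup.commutator_le]
    intro v hv a' ha'
    obtain ⟨k, rfl⟩ := hgen a' ha'
    exact comm_pow_mem V (commMap V hVc a haN).range a haN (fun w hw => ⟨⟨w, hw⟩, rfl⟩) k v hv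
  have hdvd : Nat.card ↥(⁅V, A⁆) ∣ p := by
    rw [← hrange]
    exact Subgroup.card_dvd_of_le hle
  rcases (Nat.dvd_prime hp).mp hdvd with h | h
  · exact absurd (Subgroup.eq_bot_of_card_eq _ h) hAV
  · exact h

end Cfsg.Agent.S0611
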