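-- Statement S3736: the Hall–Higman reduction for a minimal non-trivial coprime action.
import Cfsg.Statements.S3736
import Cfsg.Agent.Helper35.CoprimeAbelian
import Cfsg.Agent.Helper2.PGroup
import Cfsg.Agent.Helper22.Fitting
import Cfsg.Agent.Helper62.Subnormal

set_option autoImplicit false
open Cfsg

namespace Cfsg.Agent.S3736

open scoped commutatorElement

/-- coprime action with `[P, A] = P`: the fixed points lie in the derived subgroup -/
theorem fixed_le_commutator {X : Type*} [Group X] [Finite X] {A P : Subgroup X}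
    (hAP : A ≤ Subgroup.normalizer (P : Set X))
    (hcop : (Nat.card A).Coprime (Nat.card P)) (hPA : ⁅P, A⁆ = P) :
    P ⊓ Subgroup.centralizer (A : Set X) ≤ (commutator ↥P).map P.subtype := by
  classical
  haveI : Fintype A := Fintype.ofFinite A
  let φ : A → (↥P →* ↥P) := fun a =>
    MonoidHom.mk' (fun x => ⟨(a : X) * x * (a : X)⁻¹,
      (Subgroup.mem_normalizer_iff.mp (hAP a.2) x).mp x.2⟩)
      (fun x y => Subtype.ext (by simp [mul_assoc]))
  have hφ : ∀ (a : A) (x : ↥P), ((φ a x : ↥P) : X) = (a : X) * x * (a : X)⁻¹ := fun a x => rfl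
  let ν : ↥P →* Abelianization ↥P := ∏ a : A, (Abelianization.of).comp (φ a)
  have hν : ∀ x : ↥P, ν x = ∏ a : A, Abelianization.of (φ a x) := by
    intro x
    exact MonoidHom.finsetProd_apply _ _ _
  have hνφ : ∀ (b : A) (x : ↥P), ν (φ b x) = ν x := by
    intro b x
    rw [hν, hν]
    refine Fintype.prod_equiv (Equiv.mulRight b) _ _ ?_
    intro a
    congr 1
    apply Subtype.ext
    rw [hφ, hφ, hφ]
    simp [mul_assoc]
  have h1 : ⁅P, A⁆ ≤ (ν.ker).map P.subtype := by
    rw [Subgroup.commutator_le]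
    intro x hx a ha
    refine ⟨⟨x, hx⟩ * φ ⟨a, ha⟩ (⟨x, hx⟩⁻¹), ?_, ?_⟩
    · show ν _ = 1
      rw [map_mul, hνφ, ← map_mul, mul_inv_cancel, map_one]
    · show x * (a * x⁻¹ * a⁻¹) = ⁅x, a⁆
      rw [commutatorElement_def]; group
  have hker : ∀ x : ↥P, ν x = 1 := by
    intro x
    have h2 : (x : X) ∈ ⁅P, A⁆ := by rw [hPA]; exact x.2
    obtain ⟨y, hy, hyx⟩ := h1 h2
    have : y = x := Subtype.ext hyx
    rw [← this]
    exact hy
  intro c hc
  obtain ⟨hcP, hcA⟩ := Subgroup.mem_inf.1 hc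
  rw [Subgroup.mem_centralizer_iff] at hcA
  have hfix : ∀ a : A, φ a ⟨c, hcP⟩ = ⟨c, hcP⟩ := by
    intro a
    apply Subtype.ext
    rw [hφ]
    show (a : X) * c * (a : X)⁻¹ = c
    rw [hcA a a.2]; group
  have h3 : Abelianization.of (⟨c, hcP⟩ : ↥P) ^ Fintype.card A = 1 := by
    have h4 := hker ⟨c, hcP⟩
    rw [hν] at h4
    rw [← h4]
    rw [Finset.prod_congr rfl (fun a _ => by rw [hfix a]), Finset.prod_const, Finset.card_univ]
  have h5 : Abelianization.of (⟨c, hcP⟩ : ↥P) ^ Nat.card P = 1 := by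
    rw [← map_pow, pow_card_eq_one', map_one]
  have h6 : orderOf (Abelianization.of (⟨c, hcP⟩ : ↥P)) = 1 := by
    have h7 := Nat.dvd_gcd (orderOf_dvd_of_pow_eq_one h3) (orderOf_dvd_of_pow_eq_one h5)
    rw [← Nat.card_eq_fintype_card, hcop.gcd_eq_one, Nat.dvd_one] at h7
    exact h7
  rw [orderOf_eq_one_iff] at h6
  have h8 : (⟨c, hcP⟩ : ↥P) ∈ commutator ↥P := by
    rw [← Abelianization.ker_of]
    exact h6
  exact ⟨⟨c, hcP⟩, h8, rfl⟩

/-- the power of a product when the commutator is central -/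
theorem mul_pow_of_central {G : Type*} [Group G] (x y : G) (hx : ⁅y, x⁆ * x = x * ⁅y, x⁆)
    (hy : ⁅y, x⁆ * y = y * ⁅y, x⁆) (n : ℕ) :
    (x * y) ^ n = ⁅y, x⁆ ^ (∑ i ∈ Finset.range n, i) * x ^ n * y ^ n := by
  have hcx : Commute ⁅y, x⁆ x := hx
  have hcy : Commute ⁅y, x⁆ y := hy
  have hyx : y * x = ⁅y, x⁆ * x * y := by rw [commutatorElement_def]; group
  have h1 : ∀ m : ℕ, y ^ m * x = ⁅y, x⁆ ^ m * x * y ^ m := by
    intro m
    induction m with
    | zero => simp
    | succ m ihm =>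
      calc y ^ (m + 1) * x = y * (y ^ m * x) := by rw [pow_succ', mul_assoc]
        _ = y * (⁅y, x⁆ ^ m * x * y ^ m) := by rw [ihm]
        _ = (y * ⁅y, x⁆ ^ m) * x * y ^ m := by simp only [mul_assoc]
        _ = (⁅y, x⁆ ^ m * y) * x * y ^ m := by rw [(hcy.pow_left m).eq]
        _ = ⁅y, x⁆ ^ m * (y * x) * y ^ m := by simp only [mul_assoc]
        _ = ⁅y, x⁆ ^ m * (⁅y, x⁆ * x * y) * y ^ m := by rw [hyx]
        _ = ⁅y, x⁆ ^ (m + 1) * x * y ^ (m + 1) := by
          rw [pow_succ, pow_succ']; simp only [mul_assoc]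
  induction n with
  | zero => simp
  | succ n ih =>
    calc (x * y) ^ (n + 1) = (x * y) ^ n * (x * y) := pow_succ _ _
      _ = ⁅y, x⁆ ^ (∑ i ∈ Finset.range n, i) * x ^ n * y ^ n * (x * y) := by rw [ih]
      _ = ⁅y, x⁆ ^ (∑ i ∈ Finset.range n, i) * x ^ n * (y ^ n * x) * y := by
          simp only [mul_assoc]
      _ = ⁅y, x⁆ ^ (∑ i ∈ Finset.range n, i) * x ^ n * (⁅y, x⁆ ^ n * x * y ^ n) * y := by
          rw [h1]
      _ = ⁅y, x⁆ ^ (∑ i ∈ Finset.range n, i) * (x ^ n * ⁅y, x⁆ ^ n) * x * y ^ n * y := by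
          simp only [mul_assoc]
      _ = ⁅y, x⁆ ^ (∑ i ∈ Finset.range n, i) * (⁅y, x⁆ ^ n * x ^ n) * x * y ^ n * y := by
          rw [(hcx.pow_pow n n).eq]
      _ = ⁅y, x⁆ ^ (∑ i ∈ Finset.range (n + 1), i) * x ^ (n + 1) * y ^ (n + 1) := by
          rw [Finset.sum_range_succ, pow_add, pow_succ, pow_succ]; simp only [mul_assoc]

/-- The Hall–Higman reduction for a minimal non-trivial action. Let B, A and P be subgroups of a finite group with P a p-group, B normalizing P, and A a normal subgroup of B of order prime to p. Suppose A does not centralize P but centralizes every proper B-invariant subgroup of P. Then [P, A] = P; P is elementary abelian or special; B acts irreducibly on P/Φ(P), that is, the only B-invariant subgroups of P containing Φ(P) are Φ(P) and P; and if p is odd then every element of P has order dividing p. -/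
theorem result {X : Type*} [Group X] [Finite X] {p : ℕ} [Fact p.Prime] (B A P : Subgroup X) (hP : IsPGroup p P) (hBP : B ≤ Subgroup.normalizer (P : Set X)) (hAB : A ≤ B) (hAn : B ≤ Subgroup.normalizer (A : Set X)) (hAp : (Nat.card A).Coprime p) (hnt : ⁅P, A⁆ ≠ ⊥) (hmin : ∀ U : Subgroup X, U < P → B ≤ Subgroup.normalizer (U : Set X) → ⁅U, A⁆ = ⊥) : ⁅P, A⁆ = P ∧ (Cfsg.IsElementaryAbelian p P ∨ Cfsg.IsSpecial p ↥P) ∧ (∀ U : Subgroup X, (frattini ↥P).map P.subtype ≤ U → U ≤ P → B ≤ Subgroup.normalizer (U : Set X) → U = (frattini ↥P).map P.subtype ∨ U = P) ∧ (p ≠ 2 → ∀ x ∈ P, x ^ p = 1) := by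
  have hp : p.Prime := Fact.out
  have hAP : A ≤ Subgroup.normalizer (P : Set X) := hAB.trans hBP
  obtain ⟨k, hk⟩ := (IsPGroup.iff_card).1 hP
  have hcop : (Nat.card A).Coprime (Nat.card P) := by
    rw [hk]; exact Nat.Coprime.pow_right k hAp
  haveI : Group.IsNilpotent ↥P := hP.isNilpotent
  have hsolv : Group.IsSolvable ↥A ∨ Group.IsSolvable ↥P := Or.inr inferInstance
  have hle : ⁅P, A⁆ ≤ P := Cfsg.Agent.Helper35.commutator_le_of_le_normalizer hAP
  -- Step 1: [P, A] = P
  have hBcomm : B ≤ Subgroup.normalizer ((⁅P, A⁆ : Subgroup X) : Set X) := by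
    apply Cfsg.Agent.Helper62.le_normalizer_of_map_conj_le
    intro b hb
    rw [Subgroup.map_commutator, Cfsg.Agent.Helper62.map_conj_eq_of_mem_normalizer P b (hBP hb),
      Cfsg.Agent.Helper62.map_conj_eq_of_mem_normalizer A b (hAn hb)]
  have hPA : ⁅P, A⁆ = P := by
    by_contra hne
    have h1 := hmin _ (lt_of_le_of_ne hle hne) hBcomm
    rw [Cfsg.Agent.Helper35.commutator_commutator_eq_of_coprime hAP hcop hsolv] at h1
    exact hnt h1
  -- Step 2: proper invariant subgroups lie in the derived subgroup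
  set D : Subgroup X := (commutator ↥P).map P.subtype with hD
  set Φ : Subgroup X := (frattini ↥P).map P.subtype with hΦ
  set Z : Subgroup X := (Subgroup.center ↥P).map P.subtype with hZ
  have hkey : ∀ U : Subgroup X, U < P → B ≤ Subgroup.normalizer (U : Set X) → U ≤ D := by
    intro U hU hBU
    have h1 := hmin U hU hBU
    rw [Subgroup.commutator_eq_bot_iff_le_centralizer] at h1
    exact (le_inf hU.le h1).trans (fixed_le_commutator hAP hcop hPA)
  have hND : Subgroup.normalizer (P : Set X) ≤ Subgroup.normalizer (D : Set X) :=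
    Cfsg.Agent.Helper22.normalizer_le_normalizer_map_subtype P (commutator ↥P)
  have hBD : B ≤ Subgroup.normalizer (D : Set X) := hBP.trans hND
  have hBΦ : B ≤ Subgroup.normalizer (Φ : Set X) :=
    hBP.trans (Cfsg.Agent.Helper22.normalizer_le_normalizer_map_subtype P (frattini ↥P))
  have hBZ : B ≤ Subgroup.normalizer (Z : Set X) :=
    hBP.trans (Cfsg.Agent.Helper22.normalizer_le_normalizer_map_subtype P (Subgroup.center ↥P))
  have hDΦ : D ≤ Φ :=
    Subgroup.map_mono (Cfsg.Agent.Helper2.commutator_le_frattini_of_isPGroup hP)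
  have htop : (⊤ : Subgroup ↥P).map P.subtype = P := by
    rw [← MonoidHom.range_eq_map, Subgroup.range_subtype]
  have hΦP : Φ < P := by
    refine lt_of_le_of_ne (Subgroup.map_subtype_le _) ?_
    intro h
    have h1 : frattini ↥P = ⊤ := by
      apply Subgroup.map_injective P.subtype_injective
      rw [← hΦ, h, htop]
    have h2 : (⊥ : Subgroup ↥P) = ⊤ := frattini_nongenerating (by rw [h1]; simp)
    apply hnt
    have h3 : P = ⊥ := by
      rw [eq_bot_iff]
      intro x hx
      have : (⟨x, hx⟩ : ↥P) ∈ (⊥ : Subgroup ↥P) := by rw [h2]; trivial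
      rw [Subgroup.mem_bot] at this
      rw [Subgroup.mem_bot]
      exact congrArg Subtype.val this
    rw [h3]
    exact Subgroup.commutator_bot_left A
  have hΦD : Φ = D := le_antisymm (hkey Φ hΦP hBΦ) hDΦ
  have hfc : frattini ↥P = commutator ↥P := Subgroup.map_injective P.subtype_injective hΦD
  have hDP : D < P := hΦD ▸ hΦP
  have hDA : ⁅D, A⁆ = ⊥ := hmin D hDP hBD
  -- three subgroups: [P, D] = 1
  have hPD : ⁅P, D⁆ = ⊥ := by
    have h1 : ⁅⁅A, D⁆, P⁆ = ⊥ := by
      rw [Subgroup.commutator_comm A D, hDA]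
      exact Subgroup.commutator_bot_left P
    have h2 : ⁅⁅D, P⁆, A⁆ = ⊥ := by
      have h3 : ⁅D, P⁆ ≤ D :=
        Cfsg.Agent.Helper35.commutator_le_of_le_normalizer (Subgroup.le_normalizer.trans hND)
      rw [eq_bot_iff, ← hDA]
      exact Subgroup.commutator_mono h3 le_rfl
    have h4 := Subgroup.commutator_commutator_eq_bot_of_rotate h1 h2
    rwa [hPA] at h4
  have hDc : ∀ d ∈ D, ∀ g ∈ P, d * g = g * d := by
    intro d hd g hg
    have h2 := (Subgroup.commutator_eq_bot_iff_le_centralizer.1 hPD) hg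
    rw [Subgroup.mem_centralizer_iff] at h2
    exact h2 d hd
  have hcz : commutator ↥P ≤ Subgroup.center ↥P := by
    intro d hd
    rw [Subgroup.mem_center_iff]
    intro g
    have h1 : (d : X) ∈ D := Subgroup.mem_map_of_mem _ hd
    exact Subtype.ext (hDc _ h1 _ g.2).symm
  have hpowD : ∀ y (hy : y ∈ P), y ^ p ∈ D := by
    intro y hy
    have h1 := Cfsg.Agent.Helper2.pow_mem_frattini_of_isPGroup hP (⟨y, hy⟩ : ↥P)
    rw [hfc] at h1
    exact ⟨_, h1, rfl⟩
  refine ⟨hPA, ?_, ?_, ?_⟩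
  · by_cases hZtop : Subgroup.center ↥P = ⊤
    · left
      refine ⟨⟨⟨fun a b => ?_⟩⟩, ?_⟩
      · have h1 : b ∈ Subgroup.center ↥P := by rw [hZtop]; trivial
        exact Subgroup.mem_center_iff.1 h1 a
      · intro a ha
        have h1 := Cfsg.Agent.Helper2.pow_mem_frattini_of_isPGroup hP (⟨a, ha⟩ : ↥P)
        rw [hfc, (commutator_eq_bot_iff_center_eq_top ↥P).2 hZtop, Subgroup.mem_bot] at h1
        exact congrArg Subtype.val h1
    · right
      have hZP : Z < P := by
        refine lt_of_le_of_ne (Subgroup.map_subtype_le _) ?_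
        intro h
        apply hZtop
        apply Subgroup.map_injective P.subtype_injective
        rw [← hZ, h, htop]
      have h1 : Subgroup.center ↥P ≤ commutator ↥P :=
        (Subgroup.map_le_map_iff_of_injective P.subtype_injective).1 (hkey Z hZP hBZ)
      have h2 : commutator ↥P = Subgroup.center ↥P := le_antisymm hcz h1
      exact ⟨hP, hfc.trans h2, h2⟩
  · intro U hΦU hUP hBU
    by_cases hUeq : U = P
    · exact Or.inr hUeq
    · left
      refine le_antisymm ?_ hΦU
      have := hkey U (lt_of_le_of_ne hUP hUeq) hBU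
      rw [← hΦD] at this
      exact this
  · intro hp2 x hx
    have hDcomm : D = ⁅P, P⁆ := Subgroup.map_subtype_commutator P
    have hcD : ∀ y ∈ P, ∀ z ∈ P, ⁅y, z⁆ ∈ D := by
      intro y hy z hz
      rw [hDcomm]
      exact Subgroup.commutator_mem_commutator hy hz
    have hcp : ∀ y ∈ P, ∀ z ∈ P, ⁅y, z⁆ ^ p = 1 := by
      intro y hy z hz
      rw [← Cfsg.Agent.Helper2.commutatorElement_pow_left y z (hDc _ (hcD y hy z hz) y hy) p,
        commutatorElement_eq_one_iff_mul_comm]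
      exact hDc _ (hpowD y hy) z hz
    have hdvd : p ∣ ∑ i ∈ Finset.range p, i := by
      have h1 : p ∣ (∑ i ∈ Finset.range p, i) * 2 := by
        rw [Finset.sum_range_id_mul_two]
        exact dvd_mul_right p (p - 1)
      have h2 : Nat.Coprime p 2 := (Nat.coprime_primes hp Nat.prime_two).2 hp2
      exact (Nat.Coprime.dvd_mul_right h2).1 h1
    have hmulpow : ∀ y ∈ P, ∀ z ∈ P, (y * z) ^ p = y ^ p * z ^ p := by
      intro y hy z hz
      rw [mul_pow_of_central y z (hDc _ (hcD z hz y hy) y hy) (hDc _ (hcD z hz y hy) z hz) p]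
      obtain ⟨t, ht⟩ := hdvd
      rw [ht, pow_mul, hcp z hz y hy, one_pow, one_mul]
    let Ω : Subgroup X :=
      { carrier := {y | y ∈ P ∧ y ^ p = 1}
        mul_mem' := fun {y z} hy hz =>
          ⟨P.mul_mem hy.1 hz.1, by rw [hmulpow y hy.1 z hz.1, hy.2, hz.2, one_mul]⟩
        one_mem' := ⟨P.one_mem, one_pow p⟩
        inv_mem' := fun {y} hy => ⟨P.inv_mem hy.1, by rw [inv_pow, hy.2, inv_one]⟩ }
    have hΩ : ⁅P, A⁆ ≤ Ω := by
      rw [Subgroup.commutator_le]
      intro y hy a ha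
      have h1 : a * y⁻¹ * a⁻¹ ∈ P :=
        (Subgroup.mem_normalizer_iff.mp (hAP ha) y⁻¹).mp (P.inv_mem hy)
      have h2 : ⁅y, a⁆ = y * (a * y⁻¹ * a⁻¹) := by rw [commutatorElement_def]; group
      have h3 : a * y ^ p = y ^ p * a := by
        have h4 := (Subgroup.commutator_eq_bot_iff_le_centralizer.1 hDA) (hpowD y hy)
        rw [Subgroup.mem_centralizer_iff] at h4
        exact h4 a ha
      refine ⟨by rw [h2]; exact P.mul_mem hy h1, ?_⟩
      rw [h2, hmulpow y hy _ h1, conj_pow, inv_pow]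
      have h5 : a * (y ^ p)⁻¹ * a⁻¹ = (y ^ p)⁻¹ := by
        have : a * (y ^ p)⁻¹ * a⁻¹ = (a * y ^ p * a⁻¹)⁻¹ := by group
        rw [this, h3]; group
      rw [h5, mul_inv_cancel]
    have hxΩ : x ∈ Ω := hΩ (by rw [hPA]; exact hx)
    exact hxΩ.2

end Cfsg.Agent.S3736
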