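import Cfsg.Statements.S0223
import Mathlib
import Cfsg.Agent.Helper4.Invol

set_option autoImplicit false
open Cfsg

namespace Cfsg.Agent.S0223

/-- Let H be a proper subgroup of even order of the finite group G. Then H is strongly embedded if and only if (i) C_G(t) ≤ H for every involution t of H and (ii) H controls fusion of its involutions: involutions of H conjugate in G are conjugate in H. -/
theorem result {G : Type*} [Group G] [Finite G] (H : Subgroup G) (hH : H ≠ ⊤) (heven : Even (Nat.card H)) : Cfsg.IsStronglyEmbedded H ↔ ((∀ t ∈ H, orderOf t = 2 → Subgroup.centralizer ({t} : Set G) ≤ H) ∧ (∀ t ∈ H, ∀ s ∈ H, orderOf t = 2 → orderOf s = 2 → IsConj t s → ∃ h ∈ H, h * t * h⁻¹ = s)) := by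
  constructor
  · rintro ⟨-, -, hSE⟩
    constructor
    · intro t htH ht g hg
      by_contra hgH
      have hodd := hSE g hgH
      have hgc : g * t = t * g := Subgroup.mem_centralizer_singleton_iff.mp hg
      have hmem : t ∈ H ⊓ H.map (MulAut.conj g).toMonoidHom := by
        refine Subgroup.mem_inf.mpr ⟨htH, ?_⟩
        rw [Helper4.mem_map_conj_iff]
        have : g⁻¹ * t * g = t := by
          calc g⁻¹ * t * g = g⁻¹ * (t * g) := by group
            _ = g⁻¹ * (g * t) := by rw [hgc]
            _ = t := by group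
        rw [this]; exact htH
      exact (Helper4.not_odd_card_iff_exists_involution _).mpr ⟨t, hmem, ht⟩ hodd
    · intro t htH s hsH ht hs hconj
      obtain ⟨c, hc⟩ := isConj_iff.mp hconj
      by_cases hcH : c ∈ H
      · exact ⟨c, hcH, hc⟩
      · exfalso
        have hodd := hSE c hcH
        have hmem : s ∈ H ⊓ H.map (MulAut.conj c).toMonoidHom := by
          refine Subgroup.mem_inf.mpr ⟨hsH, ?_⟩
          rw [Helper4.mem_map_conj_iff]
          have : c⁻¹ * s * c = t := by
            rw [← hc]; group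
          rw [this]; exact htH
        exact (Helper4.not_odd_card_iff_exists_involution _).mpr ⟨s, hmem, hs⟩ hodd
  · rintro ⟨hcent, hfus⟩
    refine ⟨hH, heven, fun g hgH => ?_⟩
    by_contra hodd
    obtain ⟨s, hs, hs2⟩ := (Helper4.not_odd_card_iff_exists_involution _).mp hodd
    obtain ⟨hsH, hsg⟩ := Subgroup.mem_inf.mp hs
    rw [Helper4.mem_map_conj_iff] at hsg
    have ht2 : orderOf (g⁻¹ * s * g) = 2 := by rw [Helper4.orderOf_conj_eq']; exact hs2
    have hconj : IsConj (g⁻¹ * s * g) s := isConj_iff.mpr ⟨g, by group⟩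
    obtain ⟨h, hhH, hh⟩ := hfus (g⁻¹ * s * g) hsg s hsH ht2 hs2 hconj
    have hmem : g⁻¹ * h ∈ Subgroup.centralizer ({g⁻¹ * s * g} : Set G) := by
      rw [Subgroup.mem_centralizer_singleton_iff]
      calc g⁻¹ * h * (g⁻¹ * s * g) = g⁻¹ * (h * (g⁻¹ * s * g) * h⁻¹) * h := by group
        _ = g⁻¹ * s * h := by rw [hh]
        _ = g⁻¹ * s * g * (g⁻¹ * h) := by group
    have h1 : g⁻¹ * h ∈ H := hcent _ hsg ht2 hmem
    apply hgH
    have : g = h * (g⁻¹ * h)⁻¹ := by group
    rw [this]
    exact H.mul_mem hhH (H.inv_mem h1)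

end Cfsg.Agent.S0223
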