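import Mathlib
import Cfsg.Statements.S3377

set_option autoImplicit false
open Cfsg

namespace Cfsg.Agent.S3377

open Equiv

section abstract

variable {G : Type*} [Group G]

/-- the covering predicate: `g` lies in one of the twelve cosets of `⟨y⟩` -/
def cov (a y g : G) : Prop :=
  (∃ k : ℤ, g = y ^ k) ∨
  (∃ i : ℕ, i < 5 ∧ ∃ k : ℤ, g = y ^ i * a * y ^ k) ∨
  (∃ i : ℕ, i < 5 ∧ ∃ k : ℤ, g = y ^ i * a * y ^ 2 * a * y ^ k) ∨
  (∃ k : ℤ, g = a * y ^ 3 * a * y ^ 2 * a * y ^ k)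

variable (a y : G) (ha : a * a = 1) (hy : y ^ 5 = 1) (hk : a * y⁻¹ * a = y * a * y)

include ha in
theorem hainv : a⁻¹ = a := inv_eq_of_mul_eq_one_left ha

include hy in
theorem hy4 : y ^ 4 = y⁻¹ := by
  have : y ^ 4 * y = 1 := by rw [← pow_succ]; exact hy
  exact eq_inv_of_mul_eq_one_left this

include hy in
theorem hy3 : y ^ 3 = y⁻¹ * y⁻¹ := by
  have : y ^ 3 * (y * y) = 1 := by
    rw [← hy]; group
  have h2 : y ^ 3 = (y * y)⁻¹ := eq_inv_of_mul_eq_one_left this
  rw [h2, mul_inv_rev]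

include ha hk in
theorem K1 : a * y * a = y⁻¹ * a * y⁻¹ := by
  calc a * y * a = (a * y⁻¹ * a)⁻¹ := by
        rw [mul_inv_rev, mul_inv_rev, inv_inv, hainv a ha, mul_assoc]
    _ = (y * a * y)⁻¹ := by rw [hk]
    _ = y⁻¹ * a * y⁻¹ := by rw [mul_inv_rev, mul_inv_rev, hainv a ha, mul_assoc]

include ha hy hk in
theorem K2 : a * y ^ 3 * a = y * a * y ^ 2 * a * y := by
  calc a * y ^ 3 * a = a * (y⁻¹ * y⁻¹) * a := by rw [hy3 y hy]
    _ = a * y⁻¹ * (a * a) * y⁻¹ * a := by rw [ha]; group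
    _ = (a * y⁻¹ * a) * (a * y⁻¹ * a) := by group
    _ = (y * a * y) * (y * a * y) := by rw [hk]
    _ = y * a * y ^ 2 * a * y := by simp only [pow_two, mul_assoc]

include ha hy hk in
theorem K3 : a * y ^ 4 * a * y ^ 2 * a = y ^ 2 * a * y ^ 2 * a * y := by
  calc a * y ^ 4 * a * y ^ 2 * a = (a * y⁻¹ * a) * y ^ 2 * a := by rw [hy4 y hy]
    _ = (y * a * y) * y ^ 2 * a := by rw [hk]
    _ = y * (a * y ^ 3 * a) := by group
    _ = y * (y * a * y ^ 2 * a * y) := by rw [K2 a y ha hy hk]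
    _ = y ^ 2 * a * y ^ 2 * a * y := by simp only [pow_two, mul_assoc]

include ha hy hk in
theorem K4 : y * (a * y ^ 3 * a * y ^ 2 * a) = (a * y ^ 3 * a * y ^ 2 * a) * y⁻¹ := by
  have hb : a * y ^ 3 * a * y ^ 2 * a = y * (a * y ^ 3 * a * y ^ 2 * a) * y := by
    calc a * y ^ 3 * a * y ^ 2 * a = (y * a * y ^ 2 * a * y) * y ^ 2 * a := by
          rw [K2 a y ha hy hk]
      _ = y * a * y ^ 2 * (a * y ^ 3 * a) := by group
      _ = y * a * y ^ 2 * (y * a * y ^ 2 * a * y) := by rw [K2 a y ha hy hk]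
      _ = y * (a * y ^ 3 * a * y ^ 2 * a) * y := by group
  calc y * (a * y ^ 3 * a * y ^ 2 * a) = (y * (a * y ^ 3 * a * y ^ 2 * a) * y) * y⁻¹ := by group
    _ = (a * y ^ 3 * a * y ^ 2 * a) * y⁻¹ := by rw [← hb]

include hy in
theorem succ_idx (i : ℕ) (hi : i < 5) : ∃ i' : ℕ, i' < 5 ∧ y ^ i' = y ^ (i + 1) := by
  by_cases h : i + 1 < 5
  · exact ⟨i + 1, h, rfl⟩
  · refine ⟨0, by norm_num, ?_⟩
    have : i + 1 = 5 := by omega
    rw [this, hy, pow_zero]

include ha hy hk in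
theorem cov_y (g : G) (hg : cov a y g) : cov a y (y * g) := by
  rcases hg with ⟨k, rfl⟩ | ⟨i, hi, k, rfl⟩ | ⟨i, hi, k, rfl⟩ | ⟨k, rfl⟩
  · exact Or.inl ⟨k + 1, by group⟩
  · obtain ⟨i', hi', h⟩ := succ_idx y hy i hi
    refine Or.inr (Or.inl ⟨i', hi', k, ?_⟩)
    rw [h, pow_succ' y i]; simp only [mul_assoc]
  · obtain ⟨i', hi', h⟩ := succ_idx y hy i hi
    refine Or.inr (Or.inr (Or.inl ⟨i', hi', k, ?_⟩))
    rw [h, pow_succ' y i]; simp only [mul_assoc]
  · refine Or.inr (Or.inr (Or.inr ⟨k - 1, ?_⟩))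
    calc y * (a * y ^ 3 * a * y ^ 2 * a * y ^ k)
        = (y * (a * y ^ 3 * a * y ^ 2 * a)) * y ^ k := by group
      _ = (a * y ^ 3 * a * y ^ 2 * a * y⁻¹) * y ^ k := by rw [K4 a y ha hy hk]
      _ = a * y ^ 3 * a * y ^ 2 * a * y ^ (k - 1) := by group

include ha in
theorem aa_mul (Z : G) : a * (a * Z) = Z := by
  rw [← mul_assoc, ha, one_mul]

include ha hy hk in
theorem cov_a (g : G) (hg : cov a y g) : cov a y (a * g) := by
  rcases hg with ⟨k, rfl⟩ | ⟨i, hi, k, rfl⟩ | ⟨i, hi, k, rfl⟩ | ⟨k, rfl⟩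
  · exact Or.inr (Or.inl ⟨0, by norm_num, k, by group⟩)
  · interval_cases i
    · refine Or.inl ⟨k, ?_⟩
      calc a * (y ^ 0 * a * y ^ k) = a * (a * y ^ k) := by group
        _ = y ^ k := aa_mul a ha _
    · refine Or.inr (Or.inl ⟨4, by norm_num, k - 1, ?_⟩)
      calc a * (y ^ 1 * a * y ^ k) = (a * y * a) * y ^ k := by group
        _ = (y⁻¹ * a * y⁻¹) * y ^ k := by rw [K1 a y ha hk]
        _ = y ^ 4 * a * y ^ (k - 1) := by rw [hy4 y hy]; group
    · refine Or.inr (Or.inr (Or.inl ⟨0, by norm_num, k, ?_⟩))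
      group
    · refine Or.inr (Or.inr (Or.inl ⟨1, by norm_num, k + 1, ?_⟩))
      calc a * (y ^ 3 * a * y ^ k) = (a * y ^ 3 * a) * y ^ k := by group
        _ = (y * a * y ^ 2 * a * y) * y ^ k := by rw [K2 a y ha hy hk]
        _ = y ^ 1 * a * y ^ 2 * a * y ^ (k + 1) := by group
    · refine Or.inr (Or.inl ⟨1, by norm_num, k + 1, ?_⟩)
      calc a * (y ^ 4 * a * y ^ k) = (a * y ^ 4 * a) * y ^ k := by group
        _ = (a * y⁻¹ * a) * y ^ k := by rw [hy4 y hy]
        _ = (y * a * y) * y ^ k := by rw [hk]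
        _ = y ^ 1 * a * y ^ (k + 1) := by group
  · interval_cases i
    · refine Or.inr (Or.inl ⟨2, by norm_num, k, ?_⟩)
      calc a * (y ^ 0 * a * y ^ 2 * a * y ^ k) = a * (a * (y ^ 2 * a * y ^ k)) := by group
        _ = y ^ 2 * a * y ^ k := aa_mul a ha _
    · refine Or.inr (Or.inl ⟨3, by norm_num, k - 1, ?_⟩)
      have K2' : y * a * y ^ 2 * a = a * y ^ 3 * a * y⁻¹ := by
        rw [K2 a y ha hy hk]; group
      calc a * (y ^ 1 * a * y ^ 2 * a * y ^ k) = a * ((y * a * y ^ 2 * a) * y ^ k) := by group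
        _ = a * ((a * y ^ 3 * a * y⁻¹) * y ^ k) := by rw [K2']
        _ = a * (a * (y ^ 3 * a * y ^ (k - 1))) := by group
        _ = y ^ 3 * a * y ^ (k - 1) := aa_mul a ha _
    · refine Or.inr (Or.inr (Or.inl ⟨4, by norm_num, k - 1, ?_⟩))
      have K3' : y ^ 2 * a * y ^ 2 * a = a * y ^ 4 * a * y ^ 2 * a * y⁻¹ := by
        rw [K3 a y ha hy hk]; group
      calc a * (y ^ 2 * a * y ^ 2 * a * y ^ k) = a * ((y ^ 2 * a * y ^ 2 * a) * y ^ k) := by group
        _ = a * ((a * y ^ 4 * a * y ^ 2 * a * y⁻¹) * y ^ k) := by rw [K3']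
        _ = a * (a * (y ^ 4 * a * y ^ 2 * a * y ^ (k - 1))) := by group
        _ = y ^ 4 * a * y ^ 2 * a * y ^ (k - 1) := aa_mul a ha _
    · refine Or.inr (Or.inr (Or.inr ⟨k, ?_⟩))
      group
    · refine Or.inr (Or.inr (Or.inl ⟨2, by norm_num, k + 1, ?_⟩))
      calc a * (y ^ 4 * a * y ^ 2 * a * y ^ k) = (a * y ^ 4 * a * y ^ 2 * a) * y ^ k := by group
        _ = (y ^ 2 * a * y ^ 2 * a * y) * y ^ k := by rw [K3 a y ha hy hk]
        _ = y ^ 2 * a * y ^ 2 * a * y ^ (k + 1) := by group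
  · refine Or.inr (Or.inr (Or.inl ⟨3, by norm_num, k, ?_⟩))
    calc a * (a * y ^ 3 * a * y ^ 2 * a * y ^ k) = a * (a * (y ^ 3 * a * y ^ 2 * a * y ^ k)) := by
          group
      _ = y ^ 3 * a * y ^ 2 * a * y ^ k := aa_mul a ha _

/-- the sixty words -/
def wd (a y : G) : (Unit ⊕ Fin 5 ⊕ Fin 5 ⊕ Unit) × Fin 5 → G
  | (Sum.inl _, k) => y ^ (k : ℕ)
  | (Sum.inr (Sum.inl i), k) => y ^ (i : ℕ) * a * y ^ (k : ℕ)
  | (Sum.inr (Sum.inr (Sum.inl i)), k) => y ^ (i : ℕ) * a * y ^ 2 * a * y ^ (k : ℕ)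
  | (Sum.inr (Sum.inr (Sum.inr _)), k) => a * y ^ 3 * a * y ^ 2 * a * y ^ (k : ℕ)

include hy in
theorem zpow_red (k : ℤ) : ∃ k' : Fin 5, y ^ k = y ^ (k' : ℕ) := by
  refine ⟨⟨(k % 5).toNat, by omega⟩, ?_⟩
  have h5 : y ^ (5 : ℤ) = 1 := by exact_mod_cast hy
  rw [zpow_eq_zpow_emod k h5]
  show y ^ (k % 5) = y ^ ((k % 5).toNat)
  rw [← zpow_natCast, Int.toNat_of_nonneg (Int.emod_nonneg k (by norm_num))]

include hy in
theorem cov_range (g : G) (hg : cov a y g) : g ∈ Set.range (wd a y) := by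
  rcases hg with ⟨k, rfl⟩ | ⟨i, hi, k, rfl⟩ | ⟨i, hi, k, rfl⟩ | ⟨k, rfl⟩
  · obtain ⟨k', hk'⟩ := zpow_red y hy k
    exact ⟨(Sum.inl (), k'), by rw [hk']; rfl⟩
  · obtain ⟨k', hk'⟩ := zpow_red y hy k
    exact ⟨(Sum.inr (Sum.inl ⟨i, hi⟩), k'), by rw [hk']; rfl⟩
  · obtain ⟨k', hk'⟩ := zpow_red y hy k
    exact ⟨(Sum.inr (Sum.inr (Sum.inl ⟨i, hi⟩)), k'), by rw [hk']; rfl⟩
  · obtain ⟨k', hk'⟩ := zpow_red y hy k
    exact ⟨(Sum.inr (Sum.inr (Sum.inr ())), k'), by rw [hk']; rfl⟩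

end abstract

/-- the relators -/
abbrev rels : Set (FreeGroup (Fin 2)) :=
  {FreeGroup.of (0 : Fin 2) ^ 3, FreeGroup.of (1 : Fin 2) ^ 5,
    (FreeGroup.of (0 : Fin 2) * FreeGroup.of 1) ^ 2}

abbrev P := PresentedGroup rels

def px : P := PresentedGroup.of 0
def py : P := PresentedGroup.of 1

theorem px3 : px ^ 3 = 1 := by
  have : PresentedGroup.mk rels (FreeGroup.of (0 : Fin 2) ^ 3) = 1 :=
    PresentedGroup.one_of_mem (by simp [rels])
  rw [map_pow] at this
  exact this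

theorem py5 : py ^ 5 = 1 := by
  have : PresentedGroup.mk rels (FreeGroup.of (1 : Fin 2) ^ 5) = 1 :=
    PresentedGroup.one_of_mem (by simp [rels])
  rw [map_pow] at this
  exact this

theorem pxy2 : (px * py) ^ 2 = 1 := by
  have : PresentedGroup.mk rels ((FreeGroup.of (0 : Fin 2) * FreeGroup.of 1) ^ 2) = 1 :=
    PresentedGroup.one_of_mem (by simp [rels])
  rw [map_pow, map_mul] at this
  exact this

theorem pa2 : (px * py) * (px * py) = 1 := by
  rw [← pow_two]; exact pxy2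

theorem pk : (px * py) * py⁻¹ * (px * py) = py * (px * py) * py := by
  have h1 : (px * py) * py⁻¹ = px := by group
  have h3 : px * px * px = 1 := by
    rw [← px3, pow_succ, pow_succ, pow_one]
  have hainv := hainv (px * py) pa2
  calc (px * py) * py⁻¹ * (px * py) = px * (px * py) := by rw [h1]
    _ = (px * px * px) * (py * (px * py)⁻¹ * py) := by group
    _ = py * (px * py)⁻¹ * py := by rw [h3, one_mul]
    _ = py * (px * py) * py := by rw [hainv]

theorem cov_all (w : FreeGroup (Fin 2)) :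
    ∀ g : P, cov (px * py) py g → cov (px * py) py (PresentedGroup.mk rels w * g) := by
  have hyc : ∀ g : P, cov (px * py) py g → cov (px * py) py (py * g) :=
    fun g hg => cov_y _ _ pa2 py5 pk g hg
  have hac : ∀ g : P, cov (px * py) py g → cov (px * py) py ((px * py) * g) :=
    fun g hg => cov_a _ _ pa2 py5 pk g hg
  have hyi : ∀ g : P, cov (px * py) py g → cov (px * py) py (py⁻¹ * g) := by
    intro g hg
    have h4 : py⁻¹ * g = py * (py * (py * (py * g))) := by
      rw [← hy4 py py5]; simp only [pow_succ, pow_zero, one_mul, mul_assoc]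
    rw [h4]
    exact hyc _ (hyc _ (hyc _ (hyc _ hg)))
  have hxc : ∀ g : P, cov (px * py) py g → cov (px * py) py (px * g) := by
    intro g hg
    have h : px * g = (px * py) * (py⁻¹ * g) := by group
    rw [h]
    exact hac _ (hyi _ hg)
  have hxi : ∀ g : P, cov (px * py) py g → cov (px * py) py (px⁻¹ * g) := by
    intro g hg
    have h3 : px * px * px = 1 := by
      rw [← px3, pow_succ, pow_succ, pow_one]
    have h : px⁻¹ * g = px * (px * g) := by
      calc px⁻¹ * g = px⁻¹ * (px * px * px) * g := by rw [h3, mul_one]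
        _ = px * (px * g) := by group
    rw [h]
    exact hxc _ (hxc _ hg)
  induction w using FreeGroup.induction_on with
  | C1 =>
    intro g hg
    rw [map_one, one_mul]; exact hg
  | of i =>
    intro g hg
    fin_cases i
    · exact hxc g hg
    · exact hyc g hg
  | inv_of i _ =>
    intro g hg
    rw [map_inv]
    fin_cases i
    · exact hxi g hg
    · exact hyi g hg
  | mul u v hu hv =>
    intro g hg
    rw [map_mul, mul_assoc]
    exact hu _ (hv g hg)

theorem wd_surj : Function.Surjective (wd (px * py) py) := by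
  intro g
  obtain ⟨w, rfl⟩ := PresentedGroup.mk_surjective rels g
  have h := cov_all w 1 (Or.inl ⟨0, by simp⟩)
  rw [mul_one] at h
  exact cov_range _ _ py5 _ h

instance finiteP : Finite P := Finite.of_surjective _ wd_surj

theorem cardP : Nat.card P ≤ 60 := by
  have h := Nat.card_le_card_of_surjective _ wd_surj
  have h60 : Nat.card ((Unit ⊕ Fin 5 ⊕ Fin 5 ⊕ Unit) × Fin 5) = 60 := by
    rw [Nat.card_eq_fintype_card]; rfl
  rw [h60] at h
  exact h

def xP : Perm (Fin 5) := swap 1 4 * swap 4 2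
def yP : Perm (Fin 5) := swap 0 1 * swap 1 2 * swap 2 3 * swap 3 4

theorem xP_mem : xP ∈ alternatingGroup (Fin 5) := Equiv.Perm.mem_alternatingGroup.mpr (by decide)
theorem yP_mem : yP ∈ alternatingGroup (Fin 5) := Equiv.Perm.mem_alternatingGroup.mpr (by decide)

def xA : alternatingGroup (Fin 5) := ⟨xP, xP_mem⟩
def yA : alternatingGroup (Fin 5) := ⟨yP, yP_mem⟩

theorem xA3 : xA ^ 3 = 1 := by decide
theorem yA5 : yA ^ 5 = 1 := by decide
theorem xyA2 : (xA * yA) ^ 2 = 1 := by decide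
theorem xA_ne : xA ≠ 1 := by decide
theorem yA_ne : yA ≠ 1 := by decide
theorem xyA_ne : xA * yA ≠ 1 := by decide

def gens : Fin 2 → alternatingGroup (Fin 5) := ![xA, yA]

theorem gens_rel : ∀ r ∈ rels, FreeGroup.lift gens r = 1 := by
  intro r hr
  simp only [rels, Set.mem_insert_iff, Set.mem_singleton_iff] at hr
  rcases hr with rfl | rfl | rfl
  · simp only [map_pow, FreeGroup.lift_apply_of]
    exact xA3
  · simp only [map_pow, FreeGroup.lift_apply_of]
    exact yA5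
  · simp only [map_pow, map_mul, FreeGroup.lift_apply_of]
    exact xyA2

def phi : P →* alternatingGroup (Fin 5) := PresentedGroup.toGroup gens_rel

theorem phi_x : phi px = xA := PresentedGroup.toGroup.of gens_rel
theorem phi_y : phi py = yA := PresentedGroup.toGroup.of gens_rel

theorem cardA : Nat.card (alternatingGroup (Fin 5)) = 60 := by
  rw [nat_card_alternatingGroup]
  simp [Nat.factorial]

theorem phi_surj : Function.Surjective phi := by
  rw [← MonoidHom.range_eq_top]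
  have hx : xA ∈ phi.range := ⟨px, phi_x⟩
  have hy : yA ∈ phi.range := ⟨py, phi_y⟩
  have hxy : xA * yA ∈ phi.range := mul_mem hx hy
  have o3 : orderOf xA = 3 := orderOf_eq_prime xA3 xA_ne
  have o5 : orderOf yA = 5 := by
    have : Fact (Nat.Prime 5) := ⟨by norm_num⟩
    exact orderOf_eq_prime yA5 yA_ne
  have o2 : orderOf (xA * yA) = 2 := orderOf_eq_prime xyA2 xyA_ne
  have d3 : 3 ∣ Nat.card phi.range := by
    rw [← o3]; exact Subgroup.orderOf_dvd_natCard _ hx
  have d5 : 5 ∣ Nat.card phi.range := by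
    have h := Subgroup.orderOf_dvd_natCard _ hy
    rwa [o5] at h
  have d2 : 2 ∣ Nat.card phi.range := by
    have h := Subgroup.orderOf_dvd_natCard _ hxy
    rwa [o2] at h
  have d30 : 30 ∣ Nat.card phi.range := by
    have h6 : 6 ∣ Nat.card phi.range :=
      Nat.Coprime.mul_dvd_of_dvd_of_dvd (by norm_num : Nat.Coprime 2 3) d2 d3
    exact Nat.Coprime.mul_dvd_of_dvd_of_dvd (by norm_num : Nat.Coprime 6 5) h6 d5
  have hidx := Subgroup.card_mul_index phi.range
  rw [cardA] at hidx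
  obtain ⟨m, hm⟩ := d30
  rw [hm] at hidx
  have hm0 : m ≠ 0 := by
    rintro rfl
    simp at hidx
  have hi : phi.range.index = 1 ∨ phi.range.index = 2 := by
    have h1 : m * phi.range.index = 2 := by
      have : 30 * (m * phi.range.index) = 30 * 2 := by rw [← mul_assoc, hidx]
      exact Nat.eq_of_mul_eq_mul_left (by norm_num) this
    have h2 : phi.range.index ∣ 2 := ⟨m, by rw [mul_comm]; exact h1.symm⟩
    have h3 := Nat.le_of_dvd (by norm_num) h2
    have h4 : phi.range.index ≠ 0 := by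
      intro h0
      rw [h0] at h1
      simp at h1
    omega
  rcases hi with hi | hi
  · exact Subgroup.index_eq_one.mp hi
  · have hn : phi.range.Normal := Subgroup.normal_of_index_eq_two hi
    have hs : IsSimpleGroup (alternatingGroup (Fin 5)) :=
      alternatingGroup.isSimpleGroup (by simp)
    rcases hn.eq_bot_or_eq_top with h | h
    · exfalso
      rw [h, Subgroup.card_bot] at hm
      omega
    · exact h

/-- The alternating group of degree 5 has the presentation ⟨x, y | x³ = 1, y⁵ = 1, (xy)² = 1⟩: the group so presented is isomorphic to Alt(5). -/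
theorem result :
    Nonempty (PresentedGroup ({FreeGroup.of (0 : Fin 2) ^ 3, FreeGroup.of (1 : Fin 2) ^ 5,
        (FreeGroup.of (0 : Fin 2) * FreeGroup.of 1) ^ 2} : Set (FreeGroup (Fin 2))) ≃* alternatingGroup (Fin 5)) := by
  have hbij : Function.Bijective phi :=
    Function.Surjective.bijective_of_nat_card_le phi_surj (by rw [cardA]; exact cardP)
  exact ⟨MulEquiv.ofBijective phi hbij⟩

end Cfsg.Agent.S3377
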