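import Mathlib
import Cfsg.Statements.S3374
import Cfsg.Agent.Helper56.SL25
import Cfsg.Agent.Helper71.Frobenius

set_option autoImplicit false
open Cfsg

namespace Cfsg.Agent.S3374

open Cfsg.Agent.Helper56

abbrev SL11 := Matrix.SpecialLinearGroup (Fin 2) (ZMod 11)

instance fact_prime_eleven : Fact (Nat.Prime 11) := ⟨by norm_num⟩

def X11 : SL11 := ⟨!![0, 10; 1, 10], by decide⟩
def Y11 : SL11 := ⟨!![3, 0; 7, 4], by decide⟩
def Z11 : SL11 := ⟨!![10, 0; 0, 10], by decide⟩

theorem X11_3 : X11 ^ 3 = 1 := by decide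
theorem Y11_5 : Y11 ^ 5 = 1 := by decide
theorem Z11_2 : Z11 ^ 2 = 1 := by decide
theorem X11Z11 : X11 * Z11 = Z11 * X11 := by decide
theorem Y11Z11 : Y11 * Z11 = Z11 * Y11 := by decide
theorem XY11 : (X11 * Y11) ^ 2 = Z11 := by decide
theorem X11_ne : X11 ≠ 1 := by decide
theorem Y11_ne : Y11 ≠ 1 := by decide
theorem Z11_ne : Z11 ≠ 1 := by decide

theorem order_X11 : orderOf X11 = 3 := orderOf_eq_prime X11_3 X11_ne

theorem order_Y11 : orderOf Y11 = 5 := orderOf_eq_prime Y11_5 Y11_ne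

theorem order_XY11 : orderOf (X11 * Y11) = 4 := by
  have h1 : ¬ (X11 * Y11) ^ 2 ^ 1 = 1 := by
    rw [pow_one, XY11]; exact Z11_ne
  have h2 : (X11 * Y11) ^ 2 ^ (1 + 1) = 1 := by
    have e : (2 : ℕ) ^ (1 + 1) = 2 * 2 := by norm_num
    rw [e, pow_mul, XY11, Z11_2]
  exact orderOf_eq_prime_pow h1 h2

/-- a matrix of determinant one over `F₁₁` fixing a nonzero vector has order dividing 11 -/
theorem unipotent_pow (M : Matrix (Fin 2) (Fin 2) (ZMod 11)) (hdet : M.det = 1)
    (v : Fin 2 → ZMod 11) (hv : v ≠ 0) (hMv : M.mulVec v = v) : M ^ 11 = 1 := by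
  set N : Matrix (Fin 2) (Fin 2) (ZMod 11) := M - 1 with hN
  have hNv : N.mulVec v = 0 := by
    rw [hN, Matrix.sub_mulVec, hMv, Matrix.one_mulVec, sub_self]
  have hdetN : N.det = 0 := Matrix.exists_mulVec_eq_zero_iff.mp ⟨v, hv, hNv⟩
  rw [Matrix.det_fin_two] at hdet hdetN
  have e00 : N 0 0 = M 0 0 - 1 := by simp [hN]
  have e01 : N 0 1 = M 0 1 := by simp [hN]
  have e10 : N 1 0 = M 1 0 := by simp [hN]
  have e11 : N 1 1 = M 1 1 - 1 := by simp [hN]
  rw [e00, e01, e10, e11] at hdetN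
  have hs : M 0 0 + M 1 1 = 2 := by linear_combination hdet - hdetN
  have hNN : N * N = 0 := by
    ext i j
    rw [Matrix.mul_apply, Fin.sum_univ_two]
    fin_cases i <;> fin_cases j
    · show N 0 0 * N 0 0 + N 0 1 * N 1 0 = 0
      rw [e00, e01, e10]
      linear_combination (M 0 0 - 1) * hs - hdetN
    · show N 0 0 * N 0 1 + N 0 1 * N 1 1 = 0
      rw [e00, e01, e11]
      linear_combination (M 0 1) * hs
    · show N 1 0 * N 0 0 + N 1 1 * N 1 0 = 0
      rw [e00, e10, e11]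
      linear_combination (M 1 0) * hs
    · show N 1 0 * N 0 1 + N 1 1 * N 1 1 = 0
      rw [e01, e10, e11]
      linear_combination (M 1 1 - 1) * hs - hdetN
  have hM : M = 1 + N := by rw [hN]; abel
  have hN11 : N ^ 11 = 0 := by
    have : N ^ 11 = N * N * N ^ 9 := by
      rw [← pow_two, ← pow_add]
    rw [this, hNN, zero_mul]
  rw [hM, add_pow_char_of_commute 11 (Commute.one_left N), one_pow, hN11, add_zero]

theorem exists_rho : ∃ f : Q →* SL11, f qx = X11 ∧ f qy = Y11 ∧ f qz = Z11 :=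
  exists_hom X11 Y11 Z11 X11_3 Y11_5 Z11_2 X11Z11 Y11Z11 XY11

/-- the only involution of `SL(2,5)` -/
theorem invol_SL25 : ∀ A : SL25, A * A = 1 → A = 1 ∨ A = Z5 := by
  decide +kernel

theorem rho_injective (f : Q →* SL11) (hx : f qx = X11) (hy : f qy = Y11) (hz : f qz = Z11) :
    Function.Injective f := by
  rw [← MonoidHom.ker_eq_bot_iff]
  have h1 : X11 ∈ f.range := ⟨qx, hx⟩
  have h2 : Y11 ∈ f.range := ⟨qy, hy⟩
  have h3 : X11 * Y11 ∈ f.range := mul_mem h1 h2
  have d3 : 3 ∣ Nat.card f.range := by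
    have h := Subgroup.orderOf_dvd_natCard _ h1
    rwa [order_X11] at h
  have d4 : 4 ∣ Nat.card f.range := by
    have h := Subgroup.orderOf_dvd_natCard _ h3
    rwa [order_XY11] at h
  have d5 : 5 ∣ Nat.card f.range := by
    have h := Subgroup.orderOf_dvd_natCard _ h2
    rwa [order_Y11] at h
  have d60 : 60 ∣ Nat.card f.range := by
    have h12 : 12 ∣ Nat.card f.range :=
      Nat.Coprime.mul_dvd_of_dvd_of_dvd (by norm_num : Nat.Coprime 3 4) d3 d4
    exact Nat.Coprime.mul_dvd_of_dvd_of_dvd (by norm_num : Nat.Coprime 12 5) h12 d5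
  have hidx := Subgroup.card_mul_index f.ker
  rw [Subgroup.index_ker, card_Q] at hidx
  obtain ⟨m, hm⟩ := d60
  rw [hm] at hidx
  have hk : Nat.card f.ker * m = 2 := by
    have : 60 * (Nat.card f.ker * m) = 60 * 2 := by
      have e : (60 : ℕ) * 2 = 120 := by norm_num
      rw [e, ← hidx]; ring
    exact Nat.eq_of_mul_eq_mul_left (by norm_num) this
  have hdvd : Nat.card f.ker ∣ 2 := ⟨m, hk.symm⟩
  have hle := Nat.le_of_dvd (by norm_num) hdvd
  have hpos : 0 < Nat.card f.ker := Nat.card_pos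
  by_contra hne
  have hcard2 : Nat.card f.ker = 2 := by
    have : Nat.card f.ker ≠ 1 := fun h => hne (Subgroup.eq_bot_of_card_eq _ h)
    omega
  obtain ⟨k, hk2⟩ := exists_prime_orderOf_dvd_card' (G := f.ker) 2 (by rw [hcard2])
  have hkQ : orderOf (k : Q) = 2 := by rw [Subgroup.orderOf_coe]; exact hk2
  have hk1 : (k : Q) ≠ 1 := by
    intro h
    rw [h, orderOf_one] at hkQ
    norm_num at hkQ
  have hkk : (k : Q) * (k : Q) = 1 := by
    have h := pow_orderOf_eq_one (k : Q)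
    rw [hkQ, pow_two] at h
    exact h
  obtain ⟨φ, hφx, hφy, hφz⟩ := exists_phi
  have hbij := phi_bijective φ hφx hφy
  have hinv := invol_SL25 (φ k) (by rw [← map_mul, hkk, map_one])
  rcases hinv with h | h
  · exact hk1 (hbij.1 (h.trans (map_one φ).symm))
  · have hkz : (k : Q) = qz := hbij.1 (h.trans hφz.symm)
    have hker : f (k : Q) = 1 := k.2
    rw [hkz, hz] at hker
    exact Z11_ne hker

/-- SL(2,5) occurs as a Frobenius complement: there is a finite group L with a subgroup H isomorphic to SL(2,5) which is a non-trivial proper subgroup meeting each conjugate gHg⁻¹ with g outside H trivially. -/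
theorem result :
    ∃ (L : Type) (_ : Group L) (_ : Finite L) (H : Subgroup L),
      Cfsg.IsFrobeniusComplement H ∧ Nonempty (H ≃* Matrix.SpecialLinearGroup (Fin 2) (ZMod 5)) := by
  obtain ⟨φ, hφx, hφy, hφz⟩ := exists_phi
  have hbij := phi_bijective φ hφx hφy
  let e : Q ≃* SL25 := MulEquiv.ofBijective φ hbij
  obtain ⟨ρ, hρx, hρy, hρz⟩ := exists_rho
  have hρinj := rho_injective ρ hρx hρy hρz
  let F : SL25 →* ((Fin 2 → ZMod 11) ≃ₗ[ZMod 11] (Fin 2 → ZMod 11)) :=
    Matrix.SpecialLinearGroup.toLin'.comp (ρ.comp e.symm.toMonoidHom)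
  letI : DistribMulAction SL25 (Fin 2 → ZMod 11) := DistribMulAction.compHom _ F
  have hfin : Finite SL25 := Finite.of_equiv Q e.toEquiv
  have hnt : Nontrivial SL25 := ⟨⟨X5, 1, X5_ne⟩⟩
  have hfree : ∀ h : SL25, h ≠ 1 → ∀ a : Fin 2 → ZMod 11, h • a = a → a = 0 := by
    intro h hh a ha
    by_contra ha0
    apply hh
    have hsmul : h • a = (ρ (e.symm h) : Matrix (Fin 2) (Fin 2) (ZMod 11)).mulVec a := rfl
    rw [hsmul] at ha
    have h11 : (ρ (e.symm h) : Matrix (Fin 2) (Fin 2) (ZMod 11)) ^ 11 = 1 :=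
      unipotent_pow _ (ρ (e.symm h)).2 a ha0 ha
    have h11' : ρ (e.symm h) ^ 11 = 1 := by
      apply Subtype.ext
      rw [Matrix.SpecialLinearGroup.coe_pow, h11]; rfl
    have h120 : ρ (e.symm h) ^ 120 = 1 := by
      rw [← map_pow, ← card_Q, pow_card_eq_one', map_one]
    have h1 : ρ (e.symm h) = 1 := by
      have h121 : ρ (e.symm h) ^ 121 = 1 := by
        rw [show (121 : ℕ) = 11 * 11 from rfl, pow_mul, h11', one_pow]
      rw [show (121 : ℕ) = 120 + 1 from rfl, pow_succ, h120, one_mul] at h121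
      exact h121
    have h2 : e.symm h = 1 := hρinj (h1.trans (map_one ρ).symm)
    have h3 : h = e 1 := by rw [← h2, MulEquiv.apply_symm_apply]
    rw [h3, map_one]
  obtain ⟨L, hL1, hL2, K, hK, ⟨eK⟩⟩ :=
    Cfsg.Agent.Helper71.exists_frobenius_of_free_distribMulAction (H := SL25)
      (A := Fin 2 → ZMod 11) hfree
  exact ⟨L, hL1, hL2, K, hK, ⟨eK.symm⟩⟩

end Cfsg.Agent.S3374
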