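import Cfsg.Statements.S0685
import Mathlib

set_option autoImplicit false
open Cfsg

namespace Cfsg.Agent.S0685

open scoped IsMulCommutative

/-- An abelian group of linear maps acting faithfully and irreducibly (in the weak sense of a
minimal invariant subspace on which only the identity fixes a nonzero vector) is cyclic. -/
theorem cyclic_of_min {p : ℕ} [Fact p.Prime] {V : Type*} [AddCommGroup V] [Module (ZMod p) V]
    [Finite V] (H : Subgroup (V ≃ₗ[ZMod p] V))
    (hfix : ∀ (h : H) (v : V), v ≠ 0 → (h : V ≃ₗ[ZMod p] V) v = v → h = 1)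
    (A : Subgroup H) (hAc : IsMulCommutative A)
    (W : Submodule (ZMod p) V) (hW0 : W ≠ ⊥)
    (hWinv : ∀ a ∈ A, ∀ v ∈ W, ((a : H) : V ≃ₗ[ZMod p] V) v ∈ W)
    (hWmin : ∀ W' : Submodule (ZMod p) V, W' ≠ ⊥ → W' ≤ W →
      (∀ a ∈ A, ∀ v ∈ W', ((a : H) : V ≃ₗ[ZMod p] V) v ∈ W') → W' = W) :
    IsCyclic A := by
  classical
  have : Finite (V ≃ₗ[ZMod p] V) :=
    Finite.of_injective (fun e : V ≃ₗ[ZMod p] V => (e : V → V)) DFunLike.coe_injective
  let ρ : A → Module.End (ZMod p) W := fun a =>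
    ((((a : H) : V ≃ₗ[ZMod p] V) : V →ₗ[ZMod p] V)).restrict (hWinv a a.2)
  have hρ : ∀ (a : A) (w : W), ((ρ a w : W) : V) = ((a : H) : V ≃ₗ[ZMod p] V) (w : V) :=
    fun a w => rfl
  have hρmul : ∀ a b : A, ρ (a * b) = ρ a * ρ b := by
    intro a b
    ext w
    rw [hρ, Module.End.mul_apply, hρ, hρ]
    rfl
  have hρone : ρ 1 = 1 := by
    ext w
    rw [hρ]
    rfl
  have hcomm : ∀ x ∈ Set.range ρ, ∀ y ∈ Set.range ρ, x * y = y * x := by
    rintro _ ⟨a, rfl⟩ _ ⟨b, rfl⟩
    rw [← hρmul, ← hρmul, mul_comm]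
  have := Algebra.isMulCommutative_adjoin (ZMod p) hcomm
  obtain ⟨w₀, hw₀, hw₀0⟩ := (Submodule.ne_bot_iff W).mp hW0
  have hinj_of_ne : ∀ x : Algebra.adjoin (ZMod p) (Set.range ρ), x ≠ 0 →
      Function.Injective (x : Module.End (ZMod p) W) := by
    intro x hx
    have hcx : ∀ a : A, (x : Module.End (ZMod p) W) * ρ a = ρ a * (x : Module.End (ZMod p) W) := by
      intro a
      have := mul_comm x ⟨ρ a, Algebra.subset_adjoin ⟨a, rfl⟩⟩
      exact congrArg Subtype.val this
    have hK : (LinearMap.ker (x : Module.End (ZMod p) W)).map W.subtype = ⊥ := by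
      by_contra hK0
      have hKW := hWmin _ hK0 (by
          rintro _ ⟨u, -, rfl⟩
          exact u.2)
        (by
          rintro a ha _ ⟨u, hu, rfl⟩
          refine ⟨ρ ⟨a, ha⟩ u, ?_, rfl⟩
          rw [SetLike.mem_coe, LinearMap.mem_ker] at hu ⊢
          have h1 := congrArg (fun f => f u) (hcx ⟨a, ha⟩)
          simp only [Module.End.mul_apply] at h1
          rw [h1, hu, map_zero])
      apply hx
      apply Subtype.ext
      apply LinearMap.ext
      intro w
      have hw : (w : V) ∈ (LinearMap.ker (x : Module.End (ZMod p) W)).map W.subtype := by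
        rw [hKW]; exact w.2
      obtain ⟨u, hu, huw⟩ := hw
      have huw' : u = w := Subtype.ext huw
      subst huw'
      exact hu
    rw [← LinearMap.ker_eq_bot, Submodule.eq_bot_iff]
    intro u hu
    have h1 : (u : V) ∈ (LinearMap.ker (x : Module.End (ZMod p) W)).map W.subtype := ⟨u, hu, rfl⟩
    rw [hK] at h1
    exact Subtype.ext ((Submodule.mem_bot _).mp h1)
  have : Nontrivial (Algebra.adjoin (ZMod p) (Set.range ρ)) := by
    refine ⟨⟨0, 1, ?_⟩⟩
    intro h01
    have h1 := congrArg (fun x : Algebra.adjoin (ZMod p) (Set.range ρ) =>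
      ((x : Module.End (ZMod p) W) ⟨w₀, hw₀⟩ : V)) h01
    simp at h1
    exact hw₀0 h1.symm
  have : NoZeroDivisors (Algebra.adjoin (ZMod p) (Set.range ρ)) := by
    constructor
    intro x y hxy
    by_contra hcon
    push Not at hcon
    apply hcon.2
    apply Subtype.ext
    apply LinearMap.ext
    intro w
    have h1 := congrArg (fun z : Algebra.adjoin (ZMod p) (Set.range ρ) =>
      (z : Module.End (ZMod p) W) w) hxy
    simp only [Subalgebra.coe_mul, Module.End.mul_apply, ZeroMemClass.coe_zero,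
      LinearMap.zero_apply] at h1
    have h2 := hinj_of_ne x hcon.1 (h1.trans (map_zero _).symm)
    simpa using h2
  have : IsDomain (Algebra.adjoin (ZMod p) (Set.range ρ)) := NoZeroDivisors.to_isDomain _
  let f : A →* Algebra.adjoin (ZMod p) (Set.range ρ) :=
    { toFun := fun a => ⟨ρ a, Algebra.subset_adjoin ⟨a, rfl⟩⟩
      map_one' := Subtype.ext hρone
      map_mul' := fun a b => Subtype.ext (hρmul a b) }
  have hf : Function.Injective f := by
    intro a b hab
    have h1 : ρ a = ρ b := congrArg Subtype.val hab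
    have h2 := congrArg (fun g => ((g ⟨w₀, hw₀⟩ : W) : V)) h1
    simp only [hρ] at h2
    have h3 : ((b⁻¹ * a : A) : H) = 1 := by
      apply hfix _ w₀ hw₀0
      have : (((b⁻¹ * a : A) : H) : V ≃ₗ[ZMod p] V) w₀ =
          (((b : H) : V ≃ₗ[ZMod p] V))⁻¹ ((((a : H) : V ≃ₗ[ZMod p] V)) w₀) := rfl
      rw [this, h2]
      exact (((b : H) : V ≃ₗ[ZMod p] V)).symm_apply_apply w₀
    have h4 : b⁻¹ * a = 1 := Subtype.ext h3
    exact (inv_mul_eq_one.mp h4).symm
  exact isCyclic_of_injective_ringHom f hf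

/-- The key counting argument: `C_H(A) = A` is impossible. -/
theorem centralizer_ne {p : ℕ} [Fact p.Prime] {V : Type*} [AddCommGroup V] [Module (ZMod p) V]
    [Finite V] (H : Subgroup (V ≃ₗ[ZMod p] V))
    (hreg : ∀ v w : V, v ≠ 0 → w ≠ 0 → ∃! h : H, (h : V ≃ₗ[ZMod p] V) v = w)
    (hI : ∀ A : Subgroup H, A.Normal → IsCyclic A → ∃ W : Submodule (ZMod p) V, W ≠ ⊥ ∧ W ≠ ⊤ ∧
      ∀ a ∈ A, ∀ v ∈ W, ((a : H) : V ≃ₗ[ZMod p] V) v ∈ W)
    (A : Subgroup H) (hAn : A.Normal) (hAc : IsMulCommutative A)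
    (hcent : Subgroup.centralizer (A : Set H) = A) : False := by
  classical
  have : Finite (V ≃ₗ[ZMod p] V) :=
    Finite.of_injective (fun e : V ≃ₗ[ZMod p] V => (e : V → V)) DFunLike.coe_injective
  have hfix : ∀ (h : H) (v : V), v ≠ 0 → (h : V ≃ₗ[ZMod p] V) v = v → h = 1 := by
    intro h v hv hh
    obtain ⟨h0, -, huniq⟩ := hreg v v hv hv
    rw [huniq h hh, huniq 1 rfl]
  have hmin : ∀ n : ℕ, ∀ W₀ : Submodule (ZMod p) V, Nat.card W₀ ≤ n → W₀ ≠ ⊥ →
      (∀ a ∈ A, ∀ v ∈ W₀, ((a : H) : V ≃ₗ[ZMod p] V) v ∈ W₀) →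
      ∃ W : Submodule (ZMod p) V, W ≠ ⊥ ∧ W ≤ W₀ ∧
        (∀ a ∈ A, ∀ v ∈ W, ((a : H) : V ≃ₗ[ZMod p] V) v ∈ W) ∧
        ∀ W' : Submodule (ZMod p) V, W' ≠ ⊥ → W' ≤ W →
          (∀ a ∈ A, ∀ v ∈ W', ((a : H) : V ≃ₗ[ZMod p] V) v ∈ W') → W' = W := by
    intro n
    induction n with
    | zero =>
      intro W₀ hc
      have := Nat.card_pos (α := W₀)
      omega
    | succ n ih =>
      intro W₀ hc h0 hinv
      by_cases hex : ∃ W' : Submodule (ZMod p) V, W' ≠ ⊥ ∧ W' ≤ W₀ ∧
          (∀ a ∈ A, ∀ v ∈ W', ((a : H) : V ≃ₗ[ZMod p] V) v ∈ W') ∧ W' ≠ W₀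
      · obtain ⟨W', h1, h2, h3, h4⟩ := hex
        have hlt : Nat.card W' < Nat.card W₀ := by
          show Nat.card (W' : Set V) < Nat.card (W₀ : Set V)
          rw [Nat.card_coe_set_eq, Nat.card_coe_set_eq]
          exact Set.ncard_lt_ncard (SetLike.coe_ssubset_coe.mpr (lt_of_le_of_ne h2 h4))
        obtain ⟨W, a, b, c, d⟩ := ih W' (by omega) h1 h3
        exact ⟨W, a, b.trans h2, c, d⟩
      · push Not at hex
        exact ⟨W₀, h0, le_refl _, hinv, fun W' h1 h2 h3 => hex W' h1 h2 h3⟩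
  obtain ⟨Wb, hWb0, hWbT, -⟩ := hI ⊥ inferInstance inferInstance
  have htop : (⊤ : Submodule (ZMod p) V) ≠ ⊥ := by
    intro h
    apply hWb0
    rw [eq_bot_iff, ← h]
    exact le_top
  obtain ⟨W₁, h1a, -, h1c, h1d⟩ := hmin _ ⊤ le_rfl htop (fun _ _ _ _ => Submodule.mem_top)
  have hcyc : IsCyclic A := cyclic_of_min H hfix A hAc W₁ h1a h1c h1d
  obtain ⟨W₀, hW₀0, hW₀T, hW₀inv⟩ := hI A hAn hcyc
  obtain ⟨W, hW0, hWle, hWinv, hWmin⟩ := hmin _ W₀ le_rfl hW₀0 hW₀inv
  obtain ⟨w, hw, hw0⟩ := (Submodule.ne_bot_iff W).mp hW0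
  have hne0 : ∀ (h : H), (h : V ≃ₗ[ZMod p] V) w ≠ 0 := by
    intro h hh
    exact hw0 ((LinearEquiv.map_eq_zero_iff _).mp hh)
  have hinjw : ∀ (h h' : H), (h : V ≃ₗ[ZMod p] V) w = (h' : V ≃ₗ[ZMod p] V) w → h = h' := by
    intro h h' hh
    obtain ⟨h0, -, huniq⟩ := hreg w _ hw0 (hne0 h')
    rw [huniq h hh, huniq h' rfl]
  -- `|H| + 1 = |V|`
  have hHV : Nat.card H + 1 = Nat.card V := by
    rw [← Finite.card_option]
    apply Nat.card_congr
    refine Equiv.ofBijective (fun o : Option H => o.elim 0 (fun h => (h : V ≃ₗ[ZMod p] V) w))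
      ⟨?_, ?_⟩
    · intro o1 o2 h12
      cases o1 with
      | none =>
        cases o2 with
        | none => rfl
        | some h2 => exact absurd h12.symm (hne0 h2)
      | some h1 =>
        cases o2 with
        | none => exact absurd h12 (hne0 h1)
        | some h2 => exact congrArg some (hinjw h1 h2 h12)
    · intro v
      by_cases hv : v = 0
      · exact ⟨none, hv.symm⟩
      · obtain ⟨h, hh, -⟩ := hreg w v hw0 hv
        exact ⟨some h, hh⟩
  -- `|A| + 1 ≤ |W|`
  have hAW : Nat.card A + 1 ≤ Nat.card W := by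
    rw [← Finite.card_option]
    apply Nat.card_le_card_of_injective (fun o : Option A => o.elim (0 : W)
      (fun a => ⟨((a : H) : V ≃ₗ[ZMod p] V) w, hWinv a a.2 w hw⟩))
    intro o1 o2 h12
    have h12' := congrArg Subtype.val h12
    cases o1 with
    | none =>
      cases o2 with
      | none => rfl
      | some a2 => exact absurd h12'.symm (hne0 a2)
    | some a1 =>
      cases o2 with
      | none => exact absurd h12' (hne0 a1)
      | some a2 => exact congrArg some (Subtype.ext (hinjw a1 a2 h12'))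
  -- `|W|² ≤ |V|`
  have hWV : Nat.card W * Nat.card W ≤ Nat.card V := by
    have hex : ∃ h : H, ∃ u ∈ W, (h : V ≃ₗ[ZMod p] V) u ∉ W := by
      by_contra hcon
      push Not at hcon
      apply hW₀T
      have hWtop : W = ⊤ := by
        rw [eq_top_iff]
        intro v _
        by_cases hv : v = 0
        · rw [hv]; exact W.zero_mem
        · obtain ⟨h, hh, -⟩ := hreg w v hw0 hv
          rw [← hh]; exact hcon h w hw
      rw [hWtop] at hWle
      exact top_le_iff.mp hWle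
    obtain ⟨h, u, hu, hhu⟩ := hex
    have hbot : W ⊓ W.map ((h : V ≃ₗ[ZMod p] V) : V →ₗ[ZMod p] V) = ⊥ := by
      by_contra hne
      have hWW := hWmin _ hne inf_le_left (by
        intro a ha v hv
        refine ⟨hWinv a ha v hv.1, ?_⟩
        obtain ⟨y, hy, rfl⟩ := hv.2
        refine ⟨((h⁻¹ * a * h : H) : V ≃ₗ[ZMod p] V) y, hWinv _ ?_ y hy, ?_⟩
        · have := hAn.conj_mem a ha h⁻¹
          rwa [inv_inv] at this
        · show (h : V ≃ₗ[ZMod p] V) (((h⁻¹ * a * h : H) : V ≃ₗ[ZMod p] V) y) = _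
          have e : ((h⁻¹ * a * h : H) : V ≃ₗ[ZMod p] V) y =
              ((h : V ≃ₗ[ZMod p] V))⁻¹ ((a : V ≃ₗ[ZMod p] V) ((h : V ≃ₗ[ZMod p] V) y)) := rfl
          rw [e]
          exact (h : V ≃ₗ[ZMod p] V).apply_symm_apply _)
      have hle : W ≤ W.map ((h : V ≃ₗ[ZMod p] V) : V →ₗ[ZMod p] V) := inf_eq_left.mp hWW
      have hcard : (W.map ((h : V ≃ₗ[ZMod p] V) : V →ₗ[ZMod p] V) : Set V).ncard ≤
          (W : Set V).ncard := by
        rw [Submodule.map_coe]
        exact Set.ncard_image_le (Set.toFinite _)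
      have heq : (W : Set V) = (W.map ((h : V ≃ₗ[ZMod p] V) : V →ₗ[ZMod p] V) : Set V) :=
        Set.eq_of_subset_of_ncard_le hle hcard (Set.toFinite _)
      apply hhu
      have : (h : V ≃ₗ[ZMod p] V) u ∈ (W.map ((h : V ≃ₗ[ZMod p] V) : V →ₗ[ZMod p] V) : Set V) :=
        ⟨u, hu, rfl⟩
      rw [← heq] at this
      exact this
    rw [← Nat.card_prod]
    apply Nat.card_le_card_of_injective
      (fun xy : W × W => (xy.1 : V) + (h : V ≃ₗ[ZMod p] V) (xy.2 : V))
    rintro ⟨x, y⟩ ⟨x', y'⟩ hxy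
    simp only at hxy
    have hmem : (x : V) - x' ∈ W ⊓ W.map ((h : V ≃ₗ[ZMod p] V) : V →ₗ[ZMod p] V) := by
      refine ⟨W.sub_mem x.2 x'.2, ?_⟩
      refine ⟨(y' : V) - y, W.sub_mem y'.2 y.2, ?_⟩
      show (h : V ≃ₗ[ZMod p] V) ((y' : V) - y) = (x : V) - x'
      rw [map_sub, sub_eq_sub_iff_add_eq_add, add_comm]
      exact hxy.symm
    rw [hbot, Submodule.mem_bot, sub_eq_zero] at hmem
    have hx : x = x' := Subtype.ext hmem
    subst hx
    have hy : (h : V ≃ₗ[ZMod p] V) (y : V) = (h : V ≃ₗ[ZMod p] V) (y' : V) := add_left_cancel hxy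
    have hy' : y = y' := Subtype.ext ((h : V ≃ₗ[ZMod p] V).injective hy)
    rw [hy']
  -- `|H| ≤ |A|²`
  have hHA : Nat.card H ≤ Nat.card A * Nat.card A := by
    obtain ⟨g, hg⟩ := hcyc.exists_generator
    rw [← Subgroup.index_mul_card A]
    apply Nat.mul_le_mul_right
    rw [Subgroup.index_eq_card]
    have hcommA : ∀ a ∈ A, ∀ b ∈ A, a * b = b * a := by
      intro a ha b hb
      have := mul_comm (⟨a, ha⟩ : A) ⟨b, hb⟩
      exact congrArg Subtype.val this
    let φ : H ⧸ A → A := fun q => Quotient.liftOn' q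
      (fun h => (⟨h * g * h⁻¹, hAn.conj_mem g g.2 h⟩ : A)) (by
        intro h h' hr
        rw [QuotientGroup.leftRel_apply] at hr
        apply Subtype.ext
        show h * (g : H) * h⁻¹ = h' * (g : H) * h'⁻¹
        have hc : (h⁻¹ * h') * (g : H) = (g : H) * (h⁻¹ * h') := hcommA _ hr _ g.2
        calc h * (g : H) * h⁻¹ = h * ((g : H) * (h⁻¹ * h')) * (h⁻¹ * h')⁻¹ * h⁻¹ := by group
          _ = h * ((h⁻¹ * h') * (g : H)) * (h⁻¹ * h')⁻¹ * h⁻¹ := by rw [hc]
          _ = h' * (g : H) * h'⁻¹ := by group)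
    apply Nat.card_le_card_of_injective φ
    intro q q' hqq
    induction q using Quotient.inductionOn' with
    | h x =>
      induction q' using Quotient.inductionOn' with
      | h y =>
        have h1 : x * (g : H) * x⁻¹ = y * (g : H) * y⁻¹ := congrArg Subtype.val hqq
        apply Quotient.sound'
        rw [QuotientGroup.leftRel_apply, ← hcent, Subgroup.mem_centralizer_iff]
        have hcg : (x⁻¹ * y) * (g : H) = (g : H) * (x⁻¹ * y) := by
          have : (g : H) = x⁻¹ * (y * (g : H) * y⁻¹) * x := by rw [← h1]; group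
          calc (x⁻¹ * y) * (g : H) = x⁻¹ * (y * (g : H) * y⁻¹) * x * (x⁻¹ * y) := by group
            _ = (g : H) * (x⁻¹ * y) := by rw [← this]
        intro a ha
        obtain ⟨k, hk⟩ := hg ⟨a, ha⟩
        have hak : a = (g : H) ^ k := by
          have := congrArg Subtype.val hk
          simpa using this.symm
        rw [hak]
        exact ((Commute.zpow_left (show Commute (g : H) (x⁻¹ * y) from hcg.symm) k).eq)
  have hApos : 1 ≤ Nat.card A := Nat.card_pos
  have h5 : (Nat.card A + 1) * (Nat.card A + 1) ≤ Nat.card W * Nat.card W :=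
    Nat.mul_le_mul hAW hAW
  nlinarith

/-- In a linear group over the prime field that is regular on non-zero vectors and has no irreducible cyclic normal subgroup, a maximal normal abelian subgroup is properly contained in its centraliser, which is non-abelian. -/
theorem result {p : ℕ} [Fact p.Prime] {V : Type*} [AddCommGroup V] [Module (ZMod p) V] [Finite V] (H : Subgroup (V ≃ₗ[ZMod p] V)) (hreg : ∀ v w : V, v ≠ 0 → w ≠ 0 → ∃! h : H, (h : V ≃ₗ[ZMod p] V) v = w) (hI : ∀ A : Subgroup H, A.Normal → IsCyclic A → ∃ W : Submodule (ZMod p) V, W ≠ ⊥ ∧ W ≠ ⊤ ∧ ∀ a ∈ A, ∀ v ∈ W, ((a : H) : V ≃ₗ[ZMod p] V) v ∈ W) (A : Subgroup H) (hAn : A.Normal) (hAc : IsMulCommutative A) (hAmax : ∀ B : Subgroup H, B.Normal → IsMulCommutative B → A ≤ B → B = A) : A < Subgroup.centralizer (A : Set H) ∧ ¬ IsMulCommutative (Subgroup.centralizer (A : Set H)) := by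
  have hle : A ≤ Subgroup.centralizer (A : Set H) :=
    Subgroup.le_centralizer_iff_isMulCommutative.mpr hAc
  have hne : Subgroup.centralizer (A : Set H) ≠ A := fun h =>
    centralizer_ne H hreg hI A hAn hAc h
  refine ⟨lt_of_le_of_ne hle (Ne.symm hne), ?_⟩
  intro hc
  exact hne (hAmax _ inferInstance hc hle)

end Cfsg.Agent.S0685
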