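import Mathlib
import Cfsg.Statements.S0873
import Cfsg.Agent.Helper15.LinChar

set_option autoImplicit false
open Cfsg

namespace Cfsg.Agent.S0873

open Cfsg.Agent.Helper15

/-- The conjugation action of `P` on a fibre of an invariant homomorphism on the normal
subgroup `C`. -/
def fibreAction {G : Type*} [Group G] (C P : Subgroup G) [hC : C.Normal] (f : C →* ℂˣ)
    (hinv : ∀ (g : G) (c : C), f ⟨g * c * g⁻¹, hC.conj_mem (c : G) c.2 g⟩ = f c) (z : ℂˣ) :
    MulAction P {x : C // f x = z} where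
  smul u x := ⟨⟨(u : G) * x.1 * (u : G)⁻¹, hC.conj_mem _ x.1.2 u⟩, by rw [hinv]; exact x.2⟩
  one_smul x := by
    apply Subtype.ext; apply Subtype.ext
    change ((1 : P) : G) * x.1 * ((1 : P) : G)⁻¹ = x.1
    simp
  mul_smul u v x := by
    apply Subtype.ext; apply Subtype.ext
    change ((u * v : P) : G) * x.1 * ((u * v : P) : G)⁻¹ =
      (u : G) * ((v : G) * x.1 * (v : G)⁻¹) * (u : G)⁻¹
    simp [mul_assoc]

theorem result {G : Type*} [Group G] [Finite G] (p : ℕ) [Fact p.Prime] (C P : Subgroup G) [hC : C.Normal] (hP : IsPGroup p P) (hcop : Nat.Coprime (Nat.card C) p) (hCP : C ⊔ P = ⊤) (lam : C → ℂ) (hlam : Cfsg.IsCharacter C lam ∧ lam 1 = 1) (hinv : ∀ (g : G) (c : C), lam ⟨g * c * g⁻¹, hC.conj_mem (c : G) c.2 g⟩ = lam c) (hker : ∀ c : C, (c : G) ∈ Subgroup.centralizer (P : Set G) → lam c = 1) : lam = fun _ => 1 := by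
  obtain ⟨f, hf⟩ := linChar_exists_hom lam hlam
  have hinv' : ∀ (g : G) (c : C), f ⟨g * c * g⁻¹, hC.conj_mem (c : G) c.2 g⟩ = f c := by
    intro g c
    apply Units.ext
    rw [← hf, ← hf, hinv]
  funext c
  letI : MulAction P {x : C // f x = f c} := fibreAction C P f hinv' (f c)
  have hcard : Nat.card {x : C // f x = f c} = Nat.card f.ker := by
    apply Nat.card_congr
    exact {
      toFun := fun x => ⟨x.1 * c⁻¹, by rw [MonoidHom.mem_ker, map_mul, x.2, map_inv]; simp⟩
      invFun := fun k => ⟨k.1 * c, by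
        have := MonoidHom.mem_ker.mp k.2
        rw [map_mul, this, one_mul]⟩
      left_inv := fun x => by simp
      right_inv := fun k => by simp }
  have hndvd : ¬ p ∣ Nat.card {x : C // f x = f c} := by
    rw [hcard]
    intro hdvd
    have h1 : p ∣ Nat.card C := hdvd.trans (Subgroup.card_subgroup_dvd_card _)
    have h2 : p ∣ Nat.gcd (Nat.card C) p := Nat.dvd_gcd h1 dvd_rfl
    rw [hcop] at h2
    exact (Fact.out : p.Prime).one_lt.ne' (Nat.dvd_one.mp h2)
  obtain ⟨x, hx⟩ := hP.nonempty_fixed_point_of_prime_not_dvd_card {x : C // f x = f c} hndvd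
  have hcent : (x.1 : G) ∈ Subgroup.centralizer (P : Set G) := by
    rw [Subgroup.mem_centralizer_iff]
    intro u hu
    have h1 := hx ⟨u, hu⟩
    have h2 : u * (x.1 : G) * u⁻¹ = (x.1 : G) :=
      congrArg (fun y : {x : C // f x = f c} => ((y.1 : C) : G)) h1
    calc u * (x.1 : G) = u * (x.1 : G) * u⁻¹ * u := by group
      _ = (x.1 : G) * u := by rw [h2]
  have h3 := hker x.1 hcent
  rw [hf c, ← x.2, ← hf x.1, h3]

end Cfsg.Agent.S0873
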