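import Cfsg.Statements.S0916
import Cfsg.Agent.Helper16.SylowSub

set_option autoImplicit false
open Cfsg

namespace Cfsg.Agent.S0916

/-- Let P be a p-subgroup of the finite group G, C its centralizer and N its normalizer. Say that a conjugacy class (of G, or of N) has defect group P when P is a Sylow p-subgroup of the centralizer (in G, respectively in N) of some element of the class. Then: (i) if the class of g in G has defect group P, the elements of that class lying in C form a single N-class, again with defect group P; (ii) every N-class with defect group P arises this way from exactly one G-class with defect group P. -/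
theorem result {G : Type*} [Group G] [Finite G] (p : ℕ) [Fact p.Prime] (P : Subgroup G) (hP : IsPGroup p P) : (∀ g : G, (∃ S : Sylow p (Subgroup.centralizer ({g} : Set G)), (S : Subgroup (Subgroup.centralizer ({g} : Set G))).map (Subgroup.centralizer ({g} : Set G)).subtype = P) → (∃ c : G, IsConj g c ∧ c ∈ Subgroup.centralizer (P : Set G)) ∧ (∀ c₁ c₂ : G, IsConj g c₁ → IsConj g c₂ → c₁ ∈ Subgroup.centralizer (P : Set G) → c₂ ∈ Subgroup.centralizer (P : Set G) → ∃ n ∈ Subgroup.normalizer (P : Set G), n * c₁ * n⁻¹ = c₂)) ∧ (∀ c : G, c ∈ Subgroup.centralizer (P : Set G) → (∃ S : Sylow p (Subgroup.centralizer ({c} : Set G) ⊓ Subgroup.normalizer (P : Set G) : Subgroup G), (S : Subgroup ↥(Subgroup.centralizer ({c} : Set G) ⊓ Subgroup.normalizer (P : Set G))).map (Subgroup.centralizer ({c} : Set G) ⊓ Subgroup.normalizer (P : Set G)).subtype = P) → ∃ S : Sylow p (Subgroup.centralizer ({c} : Set G)), (S : Subgroup (Subgroup.centralizer ({c} : Set G))).map (Subgroup.centralizer ({c} : Set G)).subtype = P) := by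
  constructor
  · rintro g ⟨S, hS⟩
    obtain ⟨hle, hcard⟩ := Cfsg.Agent.Helper16.sylow_map_subtype_le_card S
    rw [hS] at hle hcard
    have hgP : g ∈ Subgroup.centralizer (P : Set G) := by
      rw [Subgroup.mem_centralizer_iff]
      intro x hx
      have h1 := hle hx
      rw [Subgroup.mem_centralizer_iff] at h1
      exact (h1 g rfl).symm
    have key : ∀ c : G, IsConj g c → c ∈ Subgroup.centralizer (P : Set G) →
        ∃ n ∈ Subgroup.normalizer (P : Set G), n * g * n⁻¹ = c := by
      intro c hc hcP
      obtain ⟨b, rfl⟩ := isConj_iff.mp hc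
      have hP'K : P.map (MulAut.conj b⁻¹).toMonoidHom ≤ Subgroup.centralizer ({g} : Set G) := by
        rintro _ ⟨x, hx, rfl⟩
        rw [Subgroup.mem_centralizer_iff]
        intro h hh
        rw [Set.mem_singleton_iff] at hh
        subst hh
        have h1 := (Subgroup.mem_centralizer_iff.mp hcP) x hx
        simp only [MulEquiv.coe_toMonoidHom, MulAut.conj_apply, inv_inv]
        calc h * (b⁻¹ * x * b) = b⁻¹ * ((b * h * b⁻¹) * x) * b := by group
          _ = b⁻¹ * (x * (b * h * b⁻¹)) * b := by rw [h1]
          _ = b⁻¹ * x * b * h := by group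
      have hcard' : Nat.card (P.map (MulAut.conj b⁻¹).toMonoidHom)
          = p ^ (Nat.card (Subgroup.centralizer ({g} : Set G))).factorization p := by
        rw [Subgroup.card_map_of_injective (MulAut.conj b⁻¹).injective]
        exact hcard
      obtain ⟨k, hkK, hk⟩ := Cfsg.Agent.Helper16.sylow_conj_in_subgroup hle hP'K hcard hcard'
      refine ⟨b * k, ?_, ?_⟩
      · rw [Subgroup.mem_normalizer_iff'']
        intro z
        have h2 : z ∈ P ↔ b⁻¹ * z * b ∈ P.map (MulAut.conj b⁻¹).toMonoidHom := by
          constructor
          · intro hz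
            exact ⟨z, hz, by simp⟩
          · rintro ⟨y, hy, hyz⟩
            have : y = z := by
              simp only [MulEquiv.coe_toMonoidHom, MulAut.conj_apply, inv_inv] at hyz
              have h3 : b * (b⁻¹ * y * b) * b⁻¹ = b * (b⁻¹ * z * b) * b⁻¹ := by rw [hyz]
              have e1 : b * (b⁻¹ * y * b) * b⁻¹ = y := by group
              have e2 : b * (b⁻¹ * z * b) * b⁻¹ = z := by group
              rw [e1, e2] at h3
              exact h3
            rw [← this]
            exact hy
        rw [h2, hk]
        have e : k⁻¹ * (b⁻¹ * z * b) * k = (b * k)⁻¹ * z * (b * k) := by group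
        rw [e]
      · have h4 := Subgroup.mem_centralizer_iff.mp hkK g rfl
        calc b * k * g * (b * k)⁻¹ = b * (k * g) * k⁻¹ * b⁻¹ := by group
          _ = b * (g * k) * k⁻¹ * b⁻¹ := by rw [h4]
          _ = b * g * b⁻¹ := by group
    refine ⟨⟨g, IsConj.refl g, hgP⟩, ?_⟩
    intro c₁ c₂ h1 h2 hc1 hc2
    obtain ⟨n₁, hn₁, rfl⟩ := key c₁ h1 hc1
    obtain ⟨n₂, hn₂, rfl⟩ := key c₂ h2 hc2
    exact ⟨n₂ * n₁⁻¹, Subgroup.mul_mem _ hn₂ (Subgroup.inv_mem _ hn₁), by group⟩
  · rintro c hc ⟨S, hS⟩
    have hPC : P ≤ Subgroup.centralizer ({c} : Set G) := by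
      intro x hx
      rw [Subgroup.mem_centralizer_iff]
      intro h hh
      rw [Set.mem_singleton_iff] at hh
      subst hh
      exact (Subgroup.mem_centralizer_iff.mp hc x hx).symm
    have hPsub : IsPGroup p (P.subgroupOf (Subgroup.centralizer ({c} : Set G))) :=
      hP.comap_of_injective (Subgroup.centralizer ({c} : Set G)).subtype
        (Subgroup.subtype_injective _)
    obtain ⟨T, hT⟩ := hPsub.exists_le_sylow
    have hT'p : IsPGroup p ((T : Subgroup (Subgroup.centralizer ({c} : Set G))).map
        (Subgroup.centralizer ({c} : Set G)).subtype) := T.isPGroup'.map _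
    have hPT' : P ≤ (T : Subgroup (Subgroup.centralizer ({c} : Set G))).map
        (Subgroup.centralizer ({c} : Set G)).subtype := by
      intro x hx
      exact ⟨⟨x, hPC hx⟩, hT (by rw [Subgroup.mem_subgroupOf]; exact hx), rfl⟩
    have hT'C : (T : Subgroup (Subgroup.centralizer ({c} : Set G))).map
        (Subgroup.centralizer ({c} : Set G)).subtype ≤ Subgroup.centralizer ({c} : Set G) :=
      Subgroup.map_subtype_le _
    have hR : (T : Subgroup (Subgroup.centralizer ({c} : Set G))).map
        (Subgroup.centralizer ({c} : Set G)).subtype ⊓ Subgroup.normalizer (P : Set G) = P := by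
      have hRp : IsPGroup p ((T : Subgroup (Subgroup.centralizer ({c} : Set G))).map
          (Subgroup.centralizer ({c} : Set G)).subtype ⊓ Subgroup.normalizer (P : Set G) :
          Subgroup G) := hT'p.to_le inf_le_left
      have h5 := Cfsg.Agent.Helper16.sylow_map_subtype_maximal S hRp
        (by rw [hS]; exact le_inf hPT' Subgroup.le_normalizer) (inf_le_inf_right _ hT'C)
      rw [h5, hS]
    exact ⟨T, Cfsg.Agent.Helper16.eq_of_inf_normalizer_eq hT'p hPT' hR⟩

end Cfsg.Agent.S0916
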