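import Mathlib
import Cfsg.Statements.S0213
-- import your own Cfsg.Agent.* helpers here

set_option autoImplicit false
open Cfsg

namespace Cfsg.Agent.S0213

/-- Two non-conjugate involutions: the cyclic group generated by the product contains
an involution. -/
lemma exists_invol {G : Type*} [Group G] [Finite G] {u v : G} (hu : u * u = 1) (hv : v * v = 1)
    (hnc : ¬ IsConj u v) : ∃ t ∈ Subgroup.zpowers (u * v), orderOf t = 2 := by
  have hn : 0 < orderOf (u * v) := orderOf_pos (u * v)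
  rcases Nat.even_or_odd (orderOf (u * v)) with ⟨m, hm⟩ | ⟨k, hk⟩
  · have hm0 : m ≠ 0 := by omega
    refine ⟨(u * v) ^ m, ⟨m, by simp⟩, ?_⟩
    rw [orderOf_pow_of_dvd hm0 ⟨2, by omega⟩, hm]
    have : m + m = 2 * m := by ring
    rw [this, Nat.mul_div_cancel _ (Nat.pos_of_ne_zero hm0)]
  · exfalso
    apply hnc
    have h1 : (u * v) ^ (2 * k + 1) = 1 := hk ▸ pow_orderOf_eq_one (u * v)
    have hinv : (u * v)⁻¹ = v * u := by
      apply inv_eq_of_mul_eq_one_right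
      calc u * v * (v * u) = u * (v * v) * u := by simp only [mul_assoc]
        _ = 1 := by rw [hv, mul_one, hu]
    have hs : SemiconjBy u (u * v) (u * v)⁻¹ := by
      unfold SemiconjBy
      rw [hinv, ← mul_assoc, hu, one_mul, mul_assoc, hu, mul_one]
    have hk' := (hs.pow_right k).eq
    rw [isConj_iff]
    refine ⟨(u * v) ^ k, ?_⟩
    have e1 : (u * v) ^ k * u * (u * v) ^ k = u := by
      rw [mul_assoc, hk', ← mul_assoc, inv_pow, mul_inv_cancel, one_mul]
    have e2 : (u * v) ^ k * (u * v) ^ k * (u * v) = 1 := by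
      rw [← pow_add, ← pow_succ]
      rw [← h1]
      congr 1
      ring
    have e3 : v = u * (u * v) := by rw [← mul_assoc, hu, one_mul]
    rw [mul_inv_eq_iff_eq_mul]
    calc (u * v) ^ k * u = (u * v) ^ k * u * ((u * v) ^ k * (u * v) ^ k * (u * v)) := by
          rw [e2, mul_one]
      _ = ((u * v) ^ k * u * (u * v) ^ k) * ((u * v) ^ k * (u * v)) := by
          simp only [mul_assoc]
      _ = u * ((u * v) ^ k * (u * v)) := by rw [e1]
      _ = u * ((u * v) * (u * v) ^ k) := by rw [← pow_succ, ← pow_succ']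
      _ = v * (u * v) ^ k := by rw [← mul_assoc, ← e3]

/-- A cyclic group contains at most one involution. -/
lemma invol_unique {G : Type*} [Group G] {d s t : G} (hs : s ∈ Subgroup.zpowers d)
    (ht : t ∈ Subgroup.zpowers d) (hs2 : orderOf s = 2) (ht2 : orderOf t = 2) : s = t := by
  obtain ⟨i, rfl⟩ := Subgroup.mem_zpowers_iff.1 hs
  obtain ⟨j, rfl⟩ := Subgroup.mem_zpowers_iff.1 ht
  have hs1 : (d ^ i) ^ 2 = 1 := hs2 ▸ pow_orderOf_eq_one (d ^ i)
  have ht1 : (d ^ j) ^ 2 = 1 := ht2 ▸ pow_orderOf_eq_one (d ^ j)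
  have hs0 : d ^ i ≠ 1 := by intro h; rw [h, orderOf_one] at hs2; omega
  have ht0 : d ^ j ≠ 1 := by intro h; rw [h, orderOf_one] at ht2; omega
  have a1 : (orderOf d : ℤ) ∣ i * 2 := by
    rw [orderOf_dvd_iff_zpow_eq_one, zpow_mul, zpow_ofNat]; exact hs1
  have b1 : (orderOf d : ℤ) ∣ j * 2 := by
    rw [orderOf_dvd_iff_zpow_eq_one, zpow_mul, zpow_ofNat]; exact ht1
  have a2 : ¬ (orderOf d : ℤ) ∣ i := by rw [orderOf_dvd_iff_zpow_eq_one]; exact hs0
  have b2 : ¬ (orderOf d : ℤ) ∣ j := by rw [orderOf_dvd_iff_zpow_eq_one]; exact ht0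
  have key : (orderOf d : ℤ) ∣ i - j := by
    obtain ⟨a, ha⟩ := a1
    obtain ⟨b, hb⟩ := b1
    rcases Int.even_or_odd a with ⟨a', rfl⟩ | ⟨a', rfl⟩
    · exact absurd ⟨a', by linarith⟩ a2
    rcases Int.even_or_odd b with ⟨b', rfl⟩ | ⟨b', rfl⟩
    · exact absurd ⟨b', by linarith⟩ b2
    exact ⟨a' - b', by linarith⟩
  rw [orderOf_dvd_iff_zpow_eq_one, zpow_sub, mul_inv_eq_one] at key
  exact key

/-- The number of elements conjugating `x` to a given conjugate is the order of the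
centralizer. -/
lemma card_conj_eq {G : Type*} [Group G] {x t : G} (h : IsConj x t) :
    Nat.card {g : G // g * x * g⁻¹ = t} = Nat.card (Subgroup.centralizer ({x} : Set G)) := by
  obtain ⟨c, rfl⟩ := isConj_iff.1 h
  refine Nat.card_congr ⟨fun g => ⟨c⁻¹ * g.1, ?_⟩, fun k => ⟨c * k.1, ?_⟩, ?_, ?_⟩
  · rw [Subgroup.mem_centralizer_singleton_iff]
    have hg := g.2
    rw [mul_assoc, mul_inv_eq_iff_eq_mul.1 hg]
    group
  · have hk := Subgroup.mem_centralizer_singleton_iff.1 k.2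
    rw [mul_assoc c k.1 x, hk]
    group
  · intro g; simp
  · intro k; simp

lemma card_eq_sum_fiber {α β : Type*} [Finite α] [Fintype β] (f : α → β) :
    Nat.card α = ∑ y, Nat.card {x // f x = y} := by
  rw [Nat.card_congr (Equiv.sigmaFiberEquiv f).symm, Nat.card_sigma]

lemma card_class {G : Type*} [Group G] [Finite G] (x : G) :
    Nat.card G = Nat.card {u : G // IsConj x u} *
      Nat.card (Subgroup.centralizer ({x} : Set G)) := by
  classical
  have : Fintype {u : G // IsConj x u} := Fintype.ofFinite _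
  rw [card_eq_sum_fiber
    (fun a : G => (⟨a * x * a⁻¹, isConj_iff.2 ⟨a, rfl⟩⟩ : {u : G // IsConj x u}))]
  have : ∀ y : {u : G // IsConj x u},
      Nat.card {a : G // (⟨a * x * a⁻¹, isConj_iff.2 ⟨a, rfl⟩⟩ : {u : G // IsConj x u}) = y}
        = Nat.card (Subgroup.centralizer ({x} : Set G)) := by
    intro y
    rw [← card_conj_eq y.2]
    exact Nat.card_congr (Equiv.subtypeEquivRight fun a => Subtype.ext_iff)
  simp only [this, Finset.sum_const, Finset.card_univ, smul_eq_mul, Nat.card_eq_fintype_card]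

lemma orderOf_of_isConj {G : Type*} [Group G] {x u : G} (h : IsConj x u) :
    orderOf u = orderOf x := by
  obtain ⟨c, hc⟩ := isConj_iff.1 h
  have : SemiconjBy c x u := by
    unfold SemiconjBy
    rw [← hc]; group
  exact (this.orderOf_eq).symm

lemma mem_zpowers_conj {G : Type*} [Group G] {a d : G} (c : G) (h : a ∈ Subgroup.zpowers d) :
    c * a * c⁻¹ ∈ Subgroup.zpowers (c * d * c⁻¹) := by
  obtain ⟨k, rfl⟩ := Subgroup.mem_zpowers_iff.1 h
  exact Subgroup.mem_zpowers_iff.2 ⟨k, by rw [conj_zpow]⟩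

lemma pointwise {G : Type*} [Group G] [Finite G] (x₁ x₂ : G) (h₁ : orderOf x₁ = 2)
    (h₂ : orderOf x₂ = 2) (hnc : ¬ IsConj x₁ x₂)
    (hall : ∀ t : G, orderOf t = 2 → IsConj x₁ t ∨ IsConj x₂ t) {u v : G}
    (hu : IsConj x₁ u) (hv : IsConj x₂ v) :
    Nat.card (Subgroup.centralizer ({x₂} : Set G)) *
        Nat.card {g : G // g * x₁ * g⁻¹ ∈ Subgroup.zpowers (u * v)} +
      Nat.card (Subgroup.centralizer ({x₁} : Set G)) *
        Nat.card {g : G // g * x₂ * g⁻¹ ∈ Subgroup.zpowers (u * v)} =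
      Nat.card (Subgroup.centralizer ({x₁} : Set G)) *
        Nat.card (Subgroup.centralizer ({x₂} : Set G)) := by
  have ou : orderOf u = 2 := by rw [orderOf_of_isConj hu, h₁]
  have ov : orderOf v = 2 := by rw [orderOf_of_isConj hv, h₂]
  have huu : u * u = 1 := by rw [← pow_two, ← ou]; exact pow_orderOf_eq_one u
  have hvv : v * v = 1 := by rw [← pow_two, ← ov]; exact pow_orderOf_eq_one v
  have hncuv : ¬ IsConj u v := fun h => hnc (hu.trans (h.trans hv.symm))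
  obtain ⟨t, ht, ht2⟩ := exists_invol huu hvv hncuv
  have key : ∀ x : G, orderOf x = 2 → ∀ g : G,
      g * x * g⁻¹ ∈ Subgroup.zpowers (u * v) ↔ g * x * g⁻¹ = t := by
    intro x hx g
    constructor
    · intro h
      exact invol_unique h ht (by rw [orderOf_of_isConj (isConj_iff.2 ⟨g, rfl⟩), hx]) ht2
    · intro h; rw [h]; exact ht
  rcases hall t ht2 with h | h
  · have e1 : Nat.card {g : G // g * x₁ * g⁻¹ ∈ Subgroup.zpowers (u * v)} =
        Nat.card (Subgroup.centralizer ({x₁} : Set G)) := by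
      rw [← card_conj_eq h]; exact Nat.card_congr (Equiv.subtypeEquivRight (key x₁ h₁))
    have e2 : Nat.card {g : G // g * x₂ * g⁻¹ ∈ Subgroup.zpowers (u * v)} = 0 := by
      have : IsEmpty {g : G // g * x₂ * g⁻¹ ∈ Subgroup.zpowers (u * v)} :=
        ⟨fun ⟨g, hg⟩ => hnc (h.trans (isConj_iff.2 ⟨g, (key x₂ h₂ g).1 hg⟩).symm)⟩
      exact Nat.card_of_isEmpty
    rw [e1, e2]; ring
  · have e1 : Nat.card {g : G // g * x₂ * g⁻¹ ∈ Subgroup.zpowers (u * v)} =
        Nat.card (Subgroup.centralizer ({x₂} : Set G)) := by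
      rw [← card_conj_eq h]; exact Nat.card_congr (Equiv.subtypeEquivRight (key x₂ h₂))
    have e2 : Nat.card {g : G // g * x₁ * g⁻¹ ∈ Subgroup.zpowers (u * v)} = 0 := by
      have : IsEmpty {g : G // g * x₁ * g⁻¹ ∈ Subgroup.zpowers (u * v)} :=
        ⟨fun ⟨g, hg⟩ => hnc ((isConj_iff.2 ⟨g, (key x₁ h₁ g).1 hg⟩).trans h.symm)⟩
      exact Nat.card_of_isEmpty
    rw [e1, e2]; ring

/-- Pairs of conjugates. -/
abbrev PairS {G : Type*} [Group G] (x₁ x₂ : G) : Type _ :=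
  {p : G × G // IsConj x₁ p.1 ∧ IsConj x₂ p.2}

/-- Triples `(u, v, g)` with `g x g⁻¹ ∈ ⟨u v⟩`. -/
abbrev TripT {G : Type*} [Group G] (x₁ x₂ x : G) : Type _ :=
  {q : PairS x₁ x₂ × G // q.2 * x * q.2⁻¹ ∈ Subgroup.zpowers (q.1.1.1 * q.1.1.2)}

/-- The pairs counted in the statement. -/
abbrev PairP {G : Type*} [Group G] (x₁ x₂ x : G) : Type _ :=
  {p : G × G // IsConj x₁ p.1 ∧ IsConj x₂ p.2 ∧ x ∈ Subgroup.zpowers (p.1 * p.2)}

lemma card_TripT {G : Type*} [Group G] [Finite G] (x₁ x₂ x : G) [Fintype (PairS x₁ x₂)] :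
    Nat.card (TripT x₁ x₂ x) = ∑ p : PairS x₁ x₂,
      Nat.card {g : G // g * x * g⁻¹ ∈ Subgroup.zpowers (p.1.1 * p.1.2)} := by
  rw [Nat.card_congr (Equiv.subtypeProdEquivSigmaSubtype
    (fun (p : PairS x₁ x₂) (g : G) => g * x * g⁻¹ ∈ Subgroup.zpowers (p.1.1 * p.1.2))),
    Nat.card_sigma]

/-- Conjugating the pair by `g⁻¹`. -/
def equivT {G : Type*} [Group G] (x₁ x₂ x : G) : TripT x₁ x₂ x ≃ G × PairP x₁ x₂ x where
  toFun q := (q.1.2, ⟨(q.1.2⁻¹ * q.1.1.1.1 * q.1.2, q.1.2⁻¹ * q.1.1.1.2 * q.1.2),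
    q.1.1.2.1.trans (isConj_iff.2 ⟨q.1.2⁻¹, by simp⟩),
    q.1.1.2.2.trans (isConj_iff.2 ⟨q.1.2⁻¹, by simp⟩), by
      have h := mem_zpowers_conj q.1.2⁻¹ q.2
      have e1 : q.1.2⁻¹ * (q.1.2 * x * q.1.2⁻¹) * q.1.2⁻¹⁻¹ = x := by group
      have e2 : q.1.2⁻¹ * (q.1.1.1.1 * q.1.1.1.2) * q.1.2⁻¹⁻¹ =
          q.1.2⁻¹ * q.1.1.1.1 * q.1.2 * (q.1.2⁻¹ * q.1.1.1.2 * q.1.2) := by group
      rw [e1, e2] at h
      exact h⟩)
  invFun r := ⟨(⟨(r.1 * r.2.1.1 * r.1⁻¹, r.1 * r.2.1.2 * r.1⁻¹),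
    r.2.2.1.trans (isConj_iff.2 ⟨r.1, rfl⟩), r.2.2.2.1.trans (isConj_iff.2 ⟨r.1, rfl⟩)⟩, r.1), by
      have h := mem_zpowers_conj r.1 r.2.2.2.2
      have e2 : r.1 * (r.2.1.1 * r.2.1.2) * r.1⁻¹ =
          r.1 * r.2.1.1 * r.1⁻¹ * (r.1 * r.2.1.2 * r.1⁻¹) := by group
      rw [e2] at h
      exact h⟩
  left_inv := by
    rintro ⟨⟨⟨⟨u, v⟩, hu, hv⟩, g⟩, h⟩
    simp [mul_assoc]
  right_inv := by
    rintro ⟨g, ⟨⟨u, v⟩, hu, hv, h⟩⟩
    simp [mul_assoc]

/-- Thompson Order Formula, two-class case: if every involution of the finite group G is conjugate to exactly one of the non-conjugate involutions x₁, x₂, and nᵢ is the number of pairs (u, v) with u conjugate to x₁, v conjugate to x₂ and xᵢ in the cyclic group generated by uv, then |G| = |C(x₂)| n₁ + |C(x₁)| n₂. -/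
theorem result {G : Type*} [Group G] [Finite G] (x₁ x₂ : G) (h₁ : orderOf x₁ = 2) (h₂ : orderOf x₂ = 2) (hnc : ¬ IsConj x₁ x₂) (hall : ∀ t : G, orderOf t = 2 → IsConj x₁ t ∨ IsConj x₂ t) : Nat.card G = Nat.card (Subgroup.centralizer ({x₂} : Set G)) * Nat.card {p : G × G // IsConj x₁ p.1 ∧ IsConj x₂ p.2 ∧ x₁ ∈ Subgroup.zpowers (p.1 * p.2)} + Nat.card (Subgroup.centralizer ({x₁} : Set G)) * Nat.card {p : G × G // IsConj x₁ p.1 ∧ IsConj x₂ p.2 ∧ x₂ ∈ Subgroup.zpowers (p.1 * p.2)} := by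
  classical
  have : Fintype (PairS x₁ x₂) := Fintype.ofFinite _
  have A1 := card_TripT x₁ x₂ x₁
  have A2 := card_TripT x₁ x₂ x₂
  have B1 : Nat.card (TripT x₁ x₂ x₁) = Nat.card G * Nat.card (PairP x₁ x₂ x₁) := by
    rw [Nat.card_congr (equivT x₁ x₂ x₁), Nat.card_prod]
  have B2 : Nat.card (TripT x₁ x₂ x₂) = Nat.card G * Nat.card (PairP x₁ x₂ x₂) := by
    rw [Nat.card_congr (equivT x₁ x₂ x₂), Nat.card_prod]
  have C : Nat.card (Subgroup.centralizer ({x₂} : Set G)) * Nat.card (TripT x₁ x₂ x₁) +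
      Nat.card (Subgroup.centralizer ({x₁} : Set G)) * Nat.card (TripT x₁ x₂ x₂) =
      Nat.card (PairS x₁ x₂) * (Nat.card (Subgroup.centralizer ({x₁} : Set G)) *
        Nat.card (Subgroup.centralizer ({x₂} : Set G))) := by
    rw [A1, A2, Finset.mul_sum, Finset.mul_sum, ← Finset.sum_add_distrib]
    rw [Finset.sum_congr rfl (fun p _ => pointwise x₁ x₂ h₁ h₂ hnc hall p.2.1 p.2.2)]
    simp only [Finset.sum_const, Finset.card_univ, smul_eq_mul, Nat.card_eq_fintype_card]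
  have D : Nat.card (PairS x₁ x₂) * (Nat.card (Subgroup.centralizer ({x₁} : Set G)) *
        Nat.card (Subgroup.centralizer ({x₂} : Set G))) = Nat.card G * Nat.card G := by
    have e : Nat.card (PairS x₁ x₂) =
        Nat.card {u : G // IsConj x₁ u} * Nat.card {u : G // IsConj x₂ u} := by
      rw [Nat.card_congr Equiv.subtypeProdEquivProd, Nat.card_prod]
    rw [e]
    have k1 := card_class x₁
    have k2 := card_class x₂
    calc Nat.card {u : G // IsConj x₁ u} * Nat.card {u : G // IsConj x₂ u} *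
          (Nat.card (Subgroup.centralizer ({x₁} : Set G)) *
            Nat.card (Subgroup.centralizer ({x₂} : Set G)))
        = (Nat.card {u : G // IsConj x₁ u} * Nat.card (Subgroup.centralizer ({x₁} : Set G))) *
          (Nat.card {u : G // IsConj x₂ u} * Nat.card (Subgroup.centralizer ({x₂} : Set G))) := by
          ring
      _ = Nat.card G * Nat.card G := by rw [← k1, ← k2]
  have hG : 0 < Nat.card G := Nat.card_pos
  apply Nat.eq_of_mul_eq_mul_left hG
  show Nat.card G * Nat.card G = Nat.card G *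
    (Nat.card (Subgroup.centralizer ({x₂} : Set G)) * Nat.card (PairP x₁ x₂ x₁) +
      Nat.card (Subgroup.centralizer ({x₁} : Set G)) * Nat.card (PairP x₁ x₂ x₂))
  rw [← D, ← C, B1, B2]; ring

end Cfsg.Agent.S0213
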