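import Mathlib
import Cfsg.Statements.S0107
import Cfsg.Agent.Helper55.ThompsonTransfer
import Cfsg.Agent.S0213
-- import your own Cfsg.Agent.* helpers here

set_option autoImplicit false
open Cfsg

namespace Cfsg.Agent.S0107

/-- The homomorphism from a dihedral group onto `C₂` killing the rotations. -/
def dihedralSign (m : ℕ) : DihedralGroup m →* Multiplicative (ZMod 2) where
  toFun x := match x with
    | DihedralGroup.r _ => 1
    | DihedralGroup.sr _ => Multiplicative.ofAdd 1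
  map_one' := rfl
  map_mul' := by
    rintro (a | a) (b | b)
    · show (1 : Multiplicative (ZMod 2)) = 1 * 1
      decide
    · show (Multiplicative.ofAdd 1 : Multiplicative (ZMod 2)) = 1 * Multiplicative.ofAdd 1
      decide
    · show (Multiplicative.ofAdd 1 : Multiplicative (ZMod 2)) = Multiplicative.ofAdd 1 * 1
      decide
    · show (1 : Multiplicative (ZMod 2)) = Multiplicative.ofAdd 1 * Multiplicative.ofAdd 1
      decide

lemma exists_r_of_dihedralSign_eq_one (m : ℕ) (z : DihedralGroup m)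
    (hz : dihedralSign m z = 1) : ∃ i, z = DihedralGroup.r i := by
  rcases z with i | i
  · exact ⟨i, rfl⟩
  · exfalso
    have h1 : dihedralSign m (DihedralGroup.sr i) = Multiplicative.ofAdd 1 := rfl
    rw [h1] at hz
    exact absurd hz (by decide)

lemma r_mem_zpowers (m : ℕ) (i : ZMod m) :
    (DihedralGroup.r i : DihedralGroup m) ∈ Subgroup.zpowers (DihedralGroup.r 1) :=
  Subgroup.mem_zpowers_iff.2
    ⟨(ZMod.cast i : ℤ), by rw [DihedralGroup.r_one_zpow, ZMod.intCast_zmod_cast]⟩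

/-- A finite group with no nontrivial 2-group quotient and dihedral Sylow 2-subgroups of order at least 8 has a single class of involutions. -/
theorem result {G : Type*} [Group G] [Finite G] (T : Sylow 2 G) (n : ℕ) (hn : 2 ≤ n) (hT : Nonempty ((T : Subgroup G) ≃* DihedralGroup (2 ^ n))) (hO : Cfsg.pResidual 2 G = ⊤) (x y : G) (hx : orderOf x = 2) (hy : orderOf y = 2) : ∃ g : G, g * x * g⁻¹ = y := by
  obtain ⟨e⟩ := hT
  have hfact : Fact (Nat.Prime 2) := ⟨Nat.prime_two⟩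
  have hG : ∀ f : G →* Multiplicative (ZMod 2), ∀ g : G, f g = 1 :=
    Cfsg.Agent.Helper55.hom_eq_one_of_closure_odd_eq_top hO
  have key : ∀ w : G, orderOf w = 2 → ∃ g : G, ∃ h : g * w * g⁻¹ ∈ (T : Subgroup G),
      ∃ i, e ⟨g * w * g⁻¹, h⟩ = DihedralGroup.r i := by
    intro w hw
    have hww : w * w = 1 := by rw [← pow_two, ← hw]; exact pow_orderOf_eq_one w
    obtain ⟨g, h, hϕ⟩ := Cfsg.Agent.Helper55.thompson_transfer_conj hG T
      ((dihedralSign (2 ^ n)).comp e.toMonoidHom) w hww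
    have h' : g⁻¹ * w * g⁻¹⁻¹ ∈ (T : Subgroup G) := by rw [inv_inv]; exact h
    refine ⟨g⁻¹, h', ?_⟩
    obtain ⟨i, hi⟩ := exists_r_of_dihedralSign_eq_one _ _ hϕ
    refine ⟨i, ?_⟩
    rw [← hi]
    have e1 : (⟨g⁻¹ * w * g⁻¹⁻¹, h'⟩ : (T : Subgroup G)) = ⟨g⁻¹ * w * g, h⟩ :=
      Subtype.ext (by
        show g⁻¹ * w * g⁻¹⁻¹ = g⁻¹ * w * g
        rw [inv_inv])
    rw [e1]
    rfl
  have ho : ∀ (w g : G) (h : g * w * g⁻¹ ∈ (T : Subgroup G)), orderOf w = 2 →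
      orderOf (e ⟨g * w * g⁻¹, h⟩) = 2 := by
    intro w g h hw
    rw [MulEquiv.orderOf_eq, Subgroup.orderOf_mk,
      Cfsg.Agent.S0213.orderOf_of_isConj (isConj_iff.2 ⟨g, rfl⟩), hw]
  obtain ⟨g₁, h₁, i, hi⟩ := key x hx
  obtain ⟨g₂, h₂, j, hj⟩ := key y hy
  have heq : e ⟨g₁ * x * g₁⁻¹, h₁⟩ = e ⟨g₂ * y * g₂⁻¹, h₂⟩ := by
    have o1 := ho x g₁ h₁ hx
    have o2 := ho y g₂ h₂ hy
    rw [hi] at o1 ⊢
    rw [hj] at o2 ⊢
    exact Cfsg.Agent.S0213.invol_unique (r_mem_zpowers _ i) (r_mem_zpowers _ j) o1 o2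
  have h3 : g₁ * x * g₁⁻¹ = g₂ * y * g₂⁻¹ := congrArg Subtype.val (e.injective heq)
  refine ⟨g₂⁻¹ * g₁, ?_⟩
  calc g₂⁻¹ * g₁ * x * (g₂⁻¹ * g₁)⁻¹ = g₂⁻¹ * (g₁ * x * g₁⁻¹) * g₂ := by group
    _ = g₂⁻¹ * (g₂ * y * g₂⁻¹) * g₂ := by rw [h3]
    _ = y := by group

end Cfsg.Agent.S0107
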