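import Cfsg.Statements.S0944
-- import your own Cfsg.Agent.* helpers here

set_option autoImplicit false
open Cfsg

namespace Cfsg.Agent.S0944

theorem trace_involutive {n : ℕ} (f : (Fin n → ℂ) →ₗ[ℂ] (Fin n → ℂ)) (hf : f * f = 1) :
    ∃ k : ℕ, LinearMap.trace ℂ (Fin n → ℂ) f = 2 * (k : ℂ) - (n : ℂ) := by
  set P : (Fin n → ℂ) →ₗ[ℂ] (Fin n → ℂ) := (1 / 2 : ℂ) • (1 + f) with hP
  have hidem : IsIdempotentElem P := by
    unfold IsIdempotentElem
    rw [hP, smul_mul_smul_comm]
    have : (1 + f) * (1 + f) = (2 : ℂ) • (1 + f) := by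
      rw [mul_add, add_mul, add_mul, hf, one_mul, one_mul, mul_one, two_smul]
      abel
    rw [this, smul_smul]
    norm_num
  refine ⟨Module.finrank ℂ (LinearMap.range P), ?_⟩
  have h1 := (LinearMap.IsIdempotentElem.isProj_range P hidem).trace
  have h2 : LinearMap.trace ℂ (Fin n → ℂ) P
      = (1 / 2 : ℂ) * ((n : ℂ) + LinearMap.trace ℂ (Fin n → ℂ) f) := by
    rw [hP, map_smul, map_add, LinearMap.trace_one]
    simp
  rw [h2] at h1
  rw [← h1]
  ring

/-- Let χ be an irreducible character of the finite group G and u an involution. Then χ u is a rational integer n with n ≡ χ 1 (mod 2). -/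
theorem result {G : Type*} [Group G] [Finite G] (χ : Cfsg.IrrCharacter G) (u : G) (hu : orderOf u = 2) : ∃ n : ℤ, (χ : G → ℂ) u = (n : ℂ) ∧ (2 : ℤ) ∣ (Cfsg.charDegree (χ : G → ℂ) : ℤ) - n := by
  obtain ⟨χ, n, ρ, -, rfl⟩ := χ
  have huu : u * u = 1 := by
    rw [← pow_two, ← hu, pow_orderOf_eq_one]
  have hf : ρ u * ρ u = 1 := by
    rw [← map_mul, huu, map_one]
  obtain ⟨k, hk⟩ := trace_involutive (ρ u) hf
  have hdeg : Cfsg.charDegree ρ.character = n := by
    unfold Cfsg.charDegree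
    rw [Representation.char_one]
    simp
  refine ⟨2 * (k : ℤ) - (n : ℤ), ?_, ?_⟩
  · show ρ.character u = _
    unfold Representation.character
    rw [hk]
    push_cast
    ring
  · show (2 : ℤ) ∣ (Cfsg.charDegree ρ.character : ℤ) - _
    rw [hdeg]
    exact ⟨(n : ℤ) - k, by ring⟩

end Cfsg.Agent.S0944
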