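import Mathlib
import Cfsg.Statements.S1454
import Cfsg.Agent.Helper52.NarrowAut
import Cfsg.Agent.S1448
import Cfsg.Agent.S1449
import Cfsg.Agent.Helper35.CoprimeAbelian
import Cfsg.Agent.Helper24.PLen
import Cfsg.Agent.Helper11.ZJ

set_option autoImplicit false
open Cfsg

namespace Cfsg.Agent.S1454

open scoped commutatorElement

/-- If the derived subgroup is a `p`-group then it lies in `O_p` and `O_p` is a Sylow subgroup. -/
theorem tail {A : Type*} [Group A] [Finite A] (p : ℕ) [Fact p.Prime]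
    (h : IsPGroup p ↥(commutator A)) :
    commutator A ≤ Cfsg.pCore p A ∧ ((Cfsg.pCore p A).index).Coprime p := by
  have hn : (commutator A).Normal := inferInstance
  have h1 : commutator A ≤ Cfsg.pCore p A := Cfsg.Agent.Helper24.le_pCore hn h
  refine ⟨h1, ?_⟩
  obtain ⟨S⟩ := (inferInstance : Nonempty (Sylow p A))
  have h2 : Cfsg.pCore p A ≤ S := Cfsg.Agent.Helper11.pCore_le_sylow S
  have hSn : (S : Subgroup A).Normal := by
    refine ⟨fun n hn g => ?_⟩
    have e : g * n * g⁻¹ = ⁅g, n⁆ * n := by simp [commutatorElement_def]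
    rw [e]
    exact (S : Subgroup A).mul_mem
      (h2 (h1 (Subgroup.commutator_mem_commutator (Subgroup.mem_top g) (Subgroup.mem_top n)))) hn
  have h3 : (S : Subgroup A) ≤ Cfsg.pCore p A := Cfsg.Agent.Helper24.le_pCore hSn S.isPGroup'
  have h4 : Cfsg.pCore p A = S := le_antisymm h2 h3
  rw [h4]
  exact ((Nat.Prime.coprime_iff_not_dvd Fact.out).mpr S.not_dvd_index).symm

/-- The conjugation action of `A` on `R`. -/
noncomputable def psi {G : Type*} [Group G] (R A : Subgroup G)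
    (hA : A ≤ Subgroup.normalizer (R : Set G)) : ↥A →* MulAut ↥R :=
  R.normalizerMonoidHom.comp (Subgroup.inclusion hA)

theorem psi_apply {G : Type*} [Group G] (R A : Subgroup G)
    (hA : A ≤ Subgroup.normalizer (R : Set G)) (a : ↥A) (r : ↥R) :
    ((psi R A hA a) r : G) = a * r * (a : G)⁻¹ := rfl

theorem psi_injective {G : Type*} [Group G] (R A : Subgroup G)
    (hA : A ≤ Subgroup.normalizer (R : Set G))
    (hfaith : A ⊓ Subgroup.centralizer (R : Set G) = ⊥) : Function.Injective (psi R A hA) := by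
  rw [injective_iff_map_eq_one]
  intro a ha
  have h1 : (a : G) ∈ A ⊓ Subgroup.centralizer (R : Set G) := by
    refine Subgroup.mem_inf.mpr ⟨a.2, ?_⟩
    rw [Subgroup.mem_centralizer_iff]
    intro r hr
    have h2 := psi_apply R A hA a ⟨r, hr⟩
    rw [ha] at h2
    simp only [MulAut.one_apply] at h2
    exact (mul_inv_eq_iff_eq_mul.mp h2.symm).symm
  rw [hfaith, Subgroup.mem_bot] at h1
  exact Subtype.ext h1

/-- Rank at least 3: the image of `A` in `Aut R` has a normal `p`-subgroup with abelian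
quotient of exponent dividing `p - 1`. -/
theorem caseII {G : Type*} [Group G] [Finite G] (p : ℕ) [Fact p.Prime] (hp : p ≠ 2)
    (R A : Subgroup G) (hR : IsPGroup p R) (hr : ¬ Cfsg.PRankLE p 2 R) (hRn : Cfsg.IsNarrow p R)
    (hA : A ≤ Subgroup.normalizer (R : Set G))
    (hfaith : A ⊓ Subgroup.centralizer (R : Set G) = ⊥) :
    ∃ N : Subgroup ↥A, N.Normal ∧ IsPGroup p N ∧ commutator ↥A ≤ N ∧
      ∀ a : ↥A, a ^ (p - 1) ∈ N := by
  obtain ⟨R₀, R₁, h0, h1, -, hc, hcent⟩ := hRn.resolve_left hr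
  obtain ⟨𝒞, hn, hCp, hcomm, hpow⟩ :=
    Cfsg.Agent.Helper52.NarrowAut.narrowAut_main p hp hR hr R₀ R₁ h0 h1 hc hcent
  refine ⟨𝒞.comap (psi R A hA), hn.comap _,
    hCp.comap_of_injective _ (psi_injective R A hA hfaith), ?_, ?_⟩
  · rw [commutator_def, Subgroup.commutator_le]
    intro a _ b _
    rw [Subgroup.mem_comap, map_commutatorElement]
    exact hcomm _ _
  · intro a
    rw [Subgroup.mem_comap, map_pow]
    exact hpow _

theorem order_dvd_of_pow_mem {A : Type*} [Group A] (p : ℕ) (N : Subgroup A) (hN : IsPGroup p N)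
    (a : A) (ha : a ^ (p - 1) ∈ N) (hcop : (orderOf a).Coprime p) : orderOf a ∣ p - 1 := by
  obtain ⟨k, hk⟩ := hN ⟨a ^ (p - 1), ha⟩
  have h1 : a ^ ((p - 1) * p ^ k) = 1 := by
    rw [pow_mul]
    have := congrArg Subtype.val hk
    simpa using this
  have h2 : orderOf a ∣ (p - 1) * p ^ k := orderOf_dvd_of_pow_eq_one h1
  exact (Nat.Coprime.pow_right k hcop).dvd_of_dvd_mul_right h2

theorem isPGroup_commutator_of_rank {G : Type*} [Group G] [Finite G] (p : ℕ) [Fact p.Prime]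
    (hp : p ≠ 2) (R A : Subgroup G) (hR : IsPGroup p R) (hr : Cfsg.PRankLE p 2 R)
    (hA : (A ≤ Subgroup.normalizer (R : Set G))) (hAs : Group.IsSolvable A)
    (hAodd : Odd (Nat.card A)) (hfaith : A ⊓ Subgroup.centralizer (R : Set G) = ⊥) :
    IsPGroup p ↥(commutator ↥A) := by
  have h := Cfsg.Agent.S1449.result p hp R A hR hr hA hAs hAodd hfaith
  have hmap : (commutator ↥A).map A.subtype = ⁅A, A⁆ := by
    rw [commutator_def, Subgroup.map_commutator, ← MonoidHom.range_eq_map, Subgroup.range_subtype]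
  intro x
  have hx : ((x : ↥A) : G) ∈ ⁅A, A⁆ := by
    rw [← hmap]; exact Subgroup.mem_map_of_mem _ x.2
  obtain ⟨k, hk⟩ := h ⟨_, hx⟩
  refine ⟨k, ?_⟩
  apply Subtype.ext; apply Subtype.ext
  have := congrArg Subtype.val hk
  simpa using this

/-- Fixed-point congruence for a `q`-group `A` normalizing `Y`. -/
theorem card_modEq_fixed {G : Type*} [Group G] [Finite G] (q : ℕ) [Fact q.Prime]
    (A Y : Subgroup G) (hA : IsPGroup q A) (hAY : A ≤ Subgroup.normalizer (Y : Set G)) :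
    Nat.card Y ≡ Nat.card ↥(Y ⊓ Subgroup.centralizer (A : Set G)) [MOD q] := by
  classical
  let _ : MulAction ↥A ↥Y := MulAction.compHom ↥Y (psi Y A hAY)
  have h := hA.card_modEq_card_fixedPoints ↥Y
  have hsmul : ∀ (a : ↥A) (y : ↥Y), ((a • y : ↥Y) : G) = a * y * (a : G)⁻¹ := fun a y => rfl
  have e : Nat.card ↥(MulAction.fixedPoints ↥A ↥Y) =
      Nat.card ↥(Y ⊓ Subgroup.centralizer (A : Set G)) := by
    refine Nat.card_congr ⟨fun y => ⟨y.1.1, Subgroup.mem_inf.mpr ⟨y.1.2, ?_⟩⟩,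
      fun y => ⟨⟨y.1, (Subgroup.mem_inf.mp y.2).1⟩, ?_⟩, fun y => rfl, fun y => rfl⟩
    · rw [Subgroup.mem_centralizer_iff]
      intro a ha
      have h1 := y.2 ⟨a, ha⟩
      have h2 := congrArg Subtype.val h1
      rw [hsmul] at h2
      exact mul_inv_eq_iff_eq_mul.mp h2
    · intro a
      apply Subtype.ext
      rw [hsmul]
      have := (Subgroup.mem_centralizer_iff.mp (Subgroup.mem_inf.mp y.2).2) a a.2
      exact mul_inv_eq_iff_eq_mul.mpr this
  rw [e] at h
  exact h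

theorem nt (p q i j : ℕ) (hq : q.Prime) (hp1 : 1 ≤ p) (hqp : ¬ q ∣ p * (p - 1)) (hij : i < j)
    (hj : j ≤ 3) (h : q ∣ p ^ j - p ^ i) (h03 : ¬ (i = 0 ∧ j = 3)) : q ∣ p + 1 := by
  obtain ⟨m, rfl⟩ := Nat.exists_eq_add_of_le hp1
  have hm : 1 + m - 1 = m := by omega
  rw [hm] at hqp
  have h1 : ¬ q ∣ 1 + m := fun h => hqp (h.mul_right _)
  have h2 : ¬ q ∣ m := fun h => hqp (h.mul_left _)
  interval_cases j <;> interval_cases i
  · have e : (1 + m) ^ 1 - (1 + m) ^ 0 = m := by simp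
    rw [e] at h; exact absurd h h2
  · have e : (1 + m) ^ 2 - (1 + m) ^ 0 = m * (1 + m + 1) := by
      apply Nat.sub_eq_of_eq_add; ring
    rw [e] at h
    rcases hq.dvd_mul.mp h with h | h
    · exact absurd h h2
    · exact h
  · have e : (1 + m) ^ 2 - (1 + m) ^ 1 = (1 + m) * m := by
      apply Nat.sub_eq_of_eq_add; ring
    rw [e] at h; exact absurd h hqp
  · exact absurd ⟨rfl, rfl⟩ h03
  · have e : (1 + m) ^ 3 - (1 + m) ^ 1 = (1 + m) * m * (1 + m + 1) := by
      apply Nat.sub_eq_of_eq_add; ring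
    rw [e] at h
    rcases hq.dvd_mul.mp h with h | h
    · exact absurd h hqp
    · exact h
  · have e : (1 + m) ^ 3 - (1 + m) ^ 2 = (1 + m) * ((1 + m) * m) := by
      apply Nat.sub_eq_of_eq_add; ring
    rw [e] at h
    rcases hq.dvd_mul.mp h with h | h
    · exact absurd h h1
    · exact absurd h hqp

theorem pow_three_sub (p : ℕ) (hp1 : 1 ≤ p) : p ^ 3 - p ^ 2 = p * (p * (p - 1)) := by
  obtain ⟨m, rfl⟩ := Nat.exists_eq_add_of_le hp1
  have hm : 1 + m - 1 = m := by omega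
  rw [hm]; apply Nat.sub_eq_of_eq_add; ring

theorem dvd_succ_of_action {G : Type*} [Group G] [Finite G] (p q : ℕ) [Fact p.Prime]
    [Fact q.Prime] (A Ω : Subgroup G) (hAq : Nat.card A = q) (hqp : ¬ q ∣ p * (p - 1))
    (hΩ : IsPGroup p Ω) (hAΩ : A ≤ Subgroup.normalizer (Ω : Set G))
    (hnc : ¬ Ω ≤ Subgroup.centralizer (A : Set G)) (hcard : Nat.card Ω ∣ p ^ 3)
    (h3 : Nat.card Ω = p ^ 3 → Ω ⊓ Subgroup.centralizer (A : Set G) ≠ ⊥) : q ∣ p + 1 := by
  have hpp : p.Prime := Fact.out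
  have hqq : q.Prime := Fact.out
  obtain ⟨j, hj⟩ := IsPGroup.iff_card.mp hΩ
  have hF : IsPGroup p ↥(Ω ⊓ Subgroup.centralizer (A : Set G)) := hΩ.to_le inf_le_left
  obtain ⟨i, hi⟩ := IsPGroup.iff_card.mp hF
  have hij : i ≤ j := by
    have := Subgroup.card_dvd_of_le (inf_le_left : Ω ⊓ Subgroup.centralizer (A : Set G) ≤ Ω)
    rw [hi, hj] at this
    exact (Nat.pow_dvd_pow_iff_le_right hpp.one_lt).mp this
  have hne : i ≠ j := by
    intro h
    apply hnc
    have : Ω ⊓ Subgroup.centralizer (A : Set G) = Ω :=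
      Subgroup.eq_of_le_of_card_ge inf_le_left (by rw [hi, hj, h])
    rw [← this]; exact inf_le_right
  have hj3 : j ≤ 3 := by
    rw [hj] at hcard
    exact (Nat.pow_dvd_pow_iff_le_right hpp.one_lt).mp hcard
  have hmod := card_modEq_fixed q A Ω (IsPGroup.of_card (n := 1) (by rw [hAq, pow_one])) hAΩ
  rw [hi, hj] at hmod
  have hdvd : q ∣ p ^ j - p ^ i :=
    (Nat.modEq_iff_dvd' (Nat.pow_le_pow_right hpp.pos hij)).mp hmod.symm
  refine nt p q i j hqq hpp.one_lt.le hqp (lt_of_le_of_ne hij hne) hj3 hdvd ?_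
  rintro ⟨rfl, rfl⟩
  apply h3 hj
  rw [← Subgroup.card_eq_one]
  simpa using hi

theorem exists_mul_of_mem_sup {G : Type*} [Group G] (P₁ P₂ : Subgroup G)
    (hc : ∀ a ∈ P₁, ∀ b ∈ P₂, a * b = b * a) {x : G} (hx : x ∈ P₁ ⊔ P₂) :
    ∃ a ∈ P₁, ∃ b ∈ P₂, x = a * b := by
  have hcomm : ∀ (m : ↥P₁) (n : ↥P₂), Commute (P₁.subtype m) (P₂.subtype n) :=
    fun m n => hc m.1 m.2 n.1 n.2
  have hrange := MonoidHom.noncommCoprod_range P₁.subtype P₂.subtype hcomm
  rw [Subgroup.range_subtype, Subgroup.range_subtype] at hrange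
  rw [← hrange] at hx
  obtain ⟨⟨a, b⟩, rfl⟩ := hx
  exact ⟨a.1, a.2, b.1, b.2, by simp [MonoidHom.noncommCoprod_apply]⟩

theorem le_normalizer_of_conj_mem {G : Type*} [Group G] (A P : Subgroup G)
    (h : ∀ a ∈ A, ∀ x ∈ P, a * x * a⁻¹ ∈ P) : A ≤ Subgroup.normalizer (P : Set G) := by
  intro a ha
  rw [Subgroup.mem_normalizer_iff]
  intro x
  refine ⟨h a ha x, fun hx => ?_⟩
  have := h a⁻¹ (A.inv_mem ha) _ hx
  simpa [mul_assoc] using this

theorem le_normalizer_center {G : Type*} [Group G] (A P : Subgroup G)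
    (hAP : A ≤ Subgroup.normalizer (P : Set G)) :
    A ≤ Subgroup.normalizer ((P ⊓ Subgroup.centralizer (P : Set G) : Subgroup G) : Set G) := by
  apply le_normalizer_of_conj_mem
  intro a ha z hz
  have hz1 := (Subgroup.mem_inf.mp hz).1
  have hz2 := Subgroup.mem_centralizer_iff.mp (Subgroup.mem_inf.mp hz).2
  refine Subgroup.mem_inf.mpr ⟨(Subgroup.mem_normalizer_iff.mp (hAP ha) z).mp hz1, ?_⟩
  rw [Subgroup.mem_centralizer_iff]
  intro x hx
  have hx' : a⁻¹ * x * a ∈ P := by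
    have := (Subgroup.mem_normalizer_iff.mp (hAP (A.inv_mem ha)) x).mp hx
    simpa using this
  have h1 := hz2 _ hx'
  calc x * (a * z * a⁻¹) = a * (a⁻¹ * x * a * z) * a⁻¹ := by group
    _ = a * (z * (a⁻¹ * x * a)) * a⁻¹ := by rw [h1]
    _ = a * z * a⁻¹ * x := by group

/-- Rank at most 2, `A` of prime order `q` not dividing `p (p - 1)`. -/
theorem caseI_three {G : Type*} [Group G] [Finite G] (p : ℕ) [Fact p.Prime] (hp : p ≠ 2)
    (R A : Subgroup G) (hR : IsPGroup p R) (hr : Cfsg.PRankLE p 2 R)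
    (hA : A ≤ Subgroup.normalizer (R : Set G)) (hAs : Group.IsSolvable A)
    (hAodd : Odd (Nat.card A))
    (hfaith : A ⊓ Subgroup.centralizer (R : Set G) = ⊥)
    (hq : (Nat.card A).Prime) (hqp : ¬ Nat.card A ∣ p * (p - 1)) :
    2 * Nat.card A ∣ p + 1 ∧ (⁅R, A⁆ = R → ¬ IsMulCommutative R → Nat.card R = p ^ 3) := by
  classical
  have hpp : p.Prime := Fact.out
  have : Fact (Nat.card A).Prime := ⟨hq⟩
  have hqnep : Nat.card A ≠ p := fun h => hqp (by rw [h]; exact dvd_mul_right _ _)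
  have hcop : (Nat.card A).Coprime p := (Nat.coprime_primes hq hpp).mpr hqnep
  have hpodd : Odd p := hpp.eq_two_or_odd'.resolve_left hp
  have hfin : Nat.card A ∣ p + 1 → 2 * Nat.card A ∣ p + 1 := by
    intro h
    have h2 : 2 ∣ p + 1 := by
      obtain ⟨k, hk⟩ := hpodd
      exact ⟨k + 1, by omega⟩
    exact Nat.Coprime.mul_dvd_of_dvd_of_dvd (Nat.coprime_two_left.mpr hAodd) h2 h
  have hR₁R : ⁅R, A⁆ ≤ R := Subgroup.le_normalizer_iff_commutator_le_left.mp hA
  have hAR₁ : A ≤ Subgroup.normalizer ((⁅R, A⁆ : Subgroup G) : Set G) :=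
    (le_inf hA Subgroup.le_normalizer).trans
      (Cfsg.Agent.Helper24.normalizer_inf_le_normalizer_commutator R A)
  have hR₁p : IsPGroup p ↥⁅R, A⁆ := hR.to_le hR₁R
  have hR₁ne : ⁅R, A⁆ ≠ ⊥ := by
    intro h
    have h1 : R ≤ Subgroup.centralizer (A : Set G) :=
      Subgroup.commutator_eq_bot_iff_le_centralizer.mp h
    have h2 : A ≤ Subgroup.centralizer (R : Set G) := Subgroup.le_centralizer_iff.mp h1
    have h3 : A = ⊥ := by rw [← hfaith]; exact (inf_eq_left.mpr h2).symm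
    rw [h3, Subgroup.card_bot] at hq
    exact Nat.not_prime_one hq
  have hcopR : (Nat.card A).Coprime (Nat.card R) := by
    obtain ⟨n, hn⟩ := IsPGroup.iff_card.mp hR
    rw [hn]; exact Nat.Coprime.pow_right n hcop
  have hR₁A : ⁅⁅R, A⁆, A⁆ = ⁅R, A⁆ :=
    Cfsg.Agent.Helper35.commutator_commutator_eq_of_coprime hA hcopR (Or.inl hAs)
  have hr₁ : Cfsg.PRankLE p 2 ↥⁅R, A⁆ := Cfsg.Agent.Helper23.pRankLE_of_le hR₁R hr
  obtain ⟨-, h48⟩ :=
    Cfsg.Agent.S1448.result p hp ⁅R, A⁆ A hR₁p hR₁ne hr₁ hAR₁ hcop hAodd hR₁A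
  have homega : ∀ P : Subgroup G, IsPGroup p P → A ≤ Subgroup.normalizer (P : Set G) →
      (∀ x ∈ P, x ^ p = 1 → ∀ a ∈ A, a * x = x * a) → P ≤ Subgroup.centralizer (A : Set G) :=
    fun P hP hAP h => Cfsg.Agent.Helper24.le_centralizer_of_odd_of_centralizes_omega hp A hcop
      (Nat.card P) P le_rfl hP hAP h
  have hR₁nc : ¬ ⁅R, A⁆ ≤ Subgroup.centralizer (A : Set G) := by
    intro h
    apply hR₁ne
    rw [← hR₁A]
    exact Subgroup.commutator_eq_bot_iff_le_centralizer.mpr h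
  have hR₁om : ¬ ∀ x ∈ ⁅R, A⁆, x ^ p = 1 → ∀ a ∈ A, a * x = x * a :=
    fun h => hR₁nc (homega _ hR₁p hAR₁ h)
  have hAqp : IsPGroup (Nat.card A) A := IsPGroup.of_card (n := 1) (by rw [pow_one])
  rcases h48 with hab | ⟨P₁, P₂, hsup, hc, hP₁nc, hP₁card, hP₁exp, hP₂cyc, hclo⟩
  · -- abelian case
    have hcomm : ∀ x ∈ ⁅R, A⁆, ∀ y ∈ ⁅R, A⁆, x * y = y * x := fun x hx y hy =>
      congrArg Subtype.val (mul_comm' (⟨x, hx⟩ : ↥⁅R, A⁆) ⟨y, hy⟩)
    let Ω : Subgroup G := Cfsg.Agent.Helper23.powKer p ⁅R, A⁆ (fun x hx y hy hxp hyp => by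
      rw [(show Commute x y from hcomm x hx y hy).mul_pow, hxp, hyp, one_mul])
    have hΩmem : ∀ x, x ∈ Ω ↔ x ∈ ⁅R, A⁆ ∧ x ^ p = 1 := fun x => Iff.rfl
    have hΩle : Ω ≤ ⁅R, A⁆ := fun x hx => ((hΩmem x).mp hx).1
    have hΩp : IsPGroup p Ω := hR₁p.to_le hΩle
    have hΩcard : Nat.card Ω ≤ p ^ 2 :=
      Cfsg.Agent.Helper23.pRank_internal hr Ω (hΩle.trans hR₁R)
        (fun x hx y hy => hcomm x (hΩle hx) y (hΩle hy)) (fun b hb => ((hΩmem b).mp hb).2)
    have hAΩ : A ≤ Subgroup.normalizer (Ω : Set G) := by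
      apply le_normalizer_of_conj_mem
      intro a ha x hx
      rw [hΩmem] at hx ⊢
      refine ⟨(Subgroup.mem_normalizer_iff.mp (hAR₁ ha) x).mp hx.1, ?_⟩
      rw [conj_pow, hx.2]; simp
    have hΩnc : ¬ Ω ≤ Subgroup.centralizer (A : Set G) := by
      intro h
      apply hR₁om
      intro x hx hxp a ha
      exact Subgroup.mem_centralizer_iff.mp (h ((hΩmem x).mpr ⟨hx, hxp⟩)) a ha
    obtain ⟨j, hj⟩ := IsPGroup.iff_card.mp hΩp
    have hj2 : j ≤ 2 := by
      rw [hj] at hΩcard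
      exact (Nat.pow_le_pow_iff_right hpp.one_lt).mp hΩcard
    have hdvd : Nat.card A ∣ p + 1 := by
      refine dvd_succ_of_action p (Nat.card A) A Ω rfl hqp hΩp hAΩ hΩnc ?_ ?_
      · rw [hj]; exact pow_dvd_pow p (by omega)
      · intro h
        rw [hj] at h
        have := Nat.pow_right_injective hpp.two_le h
        omega
    refine ⟨hfin hdvd, fun hRA hRnc => ?_⟩
    exfalso
    apply hRnc
    rw [← hRA]
    exact hab
  · -- nonabelian case
    have hP₁le : P₁ ≤ ⁅R, A⁆ := hsup ▸ le_sup_left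
    have hP₂le : P₂ ≤ ⁅R, A⁆ := hsup ▸ le_sup_right
    have hP₁pow : ∀ x ∈ P₁, x ^ p = 1 := by
      intro x hx
      have := Monoid.pow_exponent_eq_one (⟨x, hx⟩ : ↥P₁)
      rw [hP₁exp] at this
      have := congrArg Subtype.val this
      simpa using this
    have hP₁p : IsPGroup p P₁ := hR₁p.to_le hP₁le
    have hYle : ⁅P₁, P₁⁆ ≤ P₁ := Subgroup.commutator_le.mpr (fun a ha b hb =>
      P₁.mul_mem (P₁.mul_mem (P₁.mul_mem ha hb) (P₁.inv_mem ha)) (P₁.inv_mem hb))
    have hΩ : ∀ x ∈ ⁅R, A⁆, x ^ p = 1 → x ∈ P₁ := by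
      intro x hx hxp
      rw [← hsup] at hx
      obtain ⟨a, ha, b, hb, rfl⟩ := exists_mul_of_mem_sup P₁ P₂ hc hx
      have hbp : b ^ p = 1 := by
        rw [(show Commute a b from hc a ha b hb).mul_pow, hP₁pow a ha, one_mul] at hxp
        exact hxp
      have hbY : b ∈ ⁅P₁, P₁⁆ := by
        rw [← hclo]; exact Subgroup.subset_closure ⟨hb, hbp⟩
      exact P₁.mul_mem ha (hYle hbY)
    have hAP₁ : A ≤ Subgroup.normalizer (P₁ : Set G) := by
      apply le_normalizer_of_conj_mem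
      intro a ha x hx
      apply hΩ
      · exact (Subgroup.mem_normalizer_iff.mp (hAR₁ ha) x).mp (hP₁le hx)
      · rw [conj_pow, hP₁pow x hx]; simp
    have hP₁ncA : ¬ P₁ ≤ Subgroup.centralizer (A : Set G) := by
      intro h
      apply hR₁om
      intro x hx hxp a ha
      exact Subgroup.mem_centralizer_iff.mp (h (hΩ x hx hxp)) a ha
    have hYP₂ : ⁅P₁, P₁⁆ ≤ P₂ := by
      rw [← hclo, Subgroup.closure_le]; exact fun x hx => hx.1
    have hYne : ⁅P₁, P₁⁆ ≠ ⊥ := by
      intro h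
      apply hP₁nc
      have h1 : P₁ ≤ Subgroup.centralizer (P₁ : Set G) :=
        Subgroup.commutator_eq_bot_iff_le_centralizer.mp h
      exact ⟨⟨fun a b => Subtype.ext (Subgroup.mem_centralizer_iff.mp (h1 b.2) a a.2)⟩⟩
    have hYcard : Nat.card ↥⁅P₁, P₁⁆ = p := by
      have hYcyc : IsCyclic ↥⁅P₁, P₁⁆ :=
        isCyclic_of_injective (Subgroup.inclusion hYP₂) (Subgroup.inclusion_injective hYP₂)
      obtain ⟨g, hg⟩ := hYcyc.exists_generator
      have hgp : g ^ p = 1 := Subtype.ext (by simpa using hP₁pow g.1 (hYle g.2))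
      have h1 : Nat.card ↥⁅P₁, P₁⁆ = orderOf g := (orderOf_eq_card_of_forall_mem_zpowers hg).symm
      have h2 : orderOf g ∣ p := orderOf_dvd_of_pow_eq_one hgp
      rcases (Nat.dvd_prime hpp).mp h2 with h3 | h3
      · exfalso; apply hYne; rw [← Subgroup.card_eq_one, h1, h3]
      · rw [h1, h3]
    have hAY : A ≤ Subgroup.normalizer ((⁅P₁, P₁⁆ : Subgroup G) : Set G) :=
      (le_inf hAP₁ hAP₁).trans (Cfsg.Agent.Helper24.normalizer_inf_le_normalizer_commutator P₁ P₁)
    have hYcent : ⁅P₁, P₁⁆ ≤ Subgroup.centralizer (A : Set G) := by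
      have hmod := card_modEq_fixed (Nat.card A) A ⁅P₁, P₁⁆ hAqp hAY
      have hdv := Subgroup.card_dvd_of_le
        (inf_le_left : ⁅P₁, P₁⁆ ⊓ Subgroup.centralizer (A : Set G) ≤ ⁅P₁, P₁⁆)
      rw [hYcard] at hmod hdv
      rcases (Nat.dvd_prime hpp).mp hdv with h1 | h1
      · exfalso
        rw [h1] at hmod
        have : Nat.card A ∣ p - 1 := (Nat.modEq_iff_dvd' hpp.one_lt.le).mp hmod.symm
        exact hqp (this.mul_left _)
      · have : ⁅P₁, P₁⁆ ⊓ Subgroup.centralizer (A : Set G) = ⁅P₁, P₁⁆ :=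
          Subgroup.eq_of_le_of_card_ge inf_le_left (by rw [h1, hYcard])
        rw [← this]; exact inf_le_right
    have hdvd : Nat.card A ∣ p + 1 := by
      refine dvd_succ_of_action p (Nat.card A) A P₁ rfl hqp hP₁p hAP₁ hP₁ncA
        (by rw [hP₁card]) ?_
      intro _ h
      apply hYne
      rw [eq_bot_iff, ← h]
      exact le_inf hYle hYcent
    refine ⟨hfin hdvd, fun hRA _ => ?_⟩
    -- the fixed points of `A` on `P₁` have order `p`
    have hF : Nat.card ↥(P₁ ⊓ Subgroup.centralizer (A : Set G)) = p := by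
      have hFp : IsPGroup p ↥(P₁ ⊓ Subgroup.centralizer (A : Set G)) := hP₁p.to_le inf_le_left
      obtain ⟨i, hi⟩ := IsPGroup.iff_card.mp hFp
      have hmod := card_modEq_fixed (Nat.card A) A P₁ hAqp hAP₁
      rw [hP₁card, hi] at hmod
      have hi3 : i ≤ 3 := by
        have := Subgroup.card_dvd_of_le
          (inf_le_left : P₁ ⊓ Subgroup.centralizer (A : Set G) ≤ P₁)
        rw [hi, hP₁card] at this
        exact (Nat.pow_dvd_pow_iff_le_right hpp.one_lt).mp this
      have hi0 : i ≠ 0 := by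
        rintro rfl
        apply hYne
        have : P₁ ⊓ Subgroup.centralizer (A : Set G) = ⊥ :=
          Subgroup.card_eq_one.mp (by simpa using hi)
        rw [eq_bot_iff, ← this]; exact le_inf hYle hYcent
      have hi3' : i ≠ 3 := by
        rintro rfl
        apply hP₁ncA
        have : P₁ ⊓ Subgroup.centralizer (A : Set G) = P₁ :=
          Subgroup.eq_of_le_of_card_ge inf_le_left (by rw [hi, hP₁card])
        rw [← this]; exact inf_le_right
      have hi2 : i ≠ 2 := by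
        rintro rfl
        have hd : Nat.card A ∣ p ^ 3 - p ^ 2 :=
          (Nat.modEq_iff_dvd' (Nat.pow_le_pow_right hpp.pos (by norm_num))).mp hmod.symm
        rw [pow_three_sub p hpp.one_lt.le] at hd
        rcases hq.dvd_mul.mp hd with h | h
        · exact hqp (h.mul_right _)
        · exact hqp h
      have : i = 1 := by omega
      rw [hi, this, pow_one]
    have hFY : ⁅P₁, P₁⁆ = P₁ ⊓ Subgroup.centralizer (A : Set G) :=
      Subgroup.eq_of_le_of_card_ge (le_inf hYle hYcent) (by rw [hF, hYcard])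
    -- the centre of `P₁`
    have hYZ₁ : ⁅P₁, P₁⁆ ≤ P₁ ⊓ Subgroup.centralizer (P₁ : Set G) := by
      refine le_inf hYle ?_
      intro y hy
      rw [Subgroup.mem_centralizer_iff]
      intro x hx
      exact hc x hx y (hYP₂ hy)
    have hAZ₁ := le_normalizer_center A P₁ hAP₁
    have hZ₁p : IsPGroup p ↥(P₁ ⊓ Subgroup.centralizer (P₁ : Set G)) := hP₁p.to_le inf_le_left
    have hZ₁card : Nat.card ↥(P₁ ⊓ Subgroup.centralizer (P₁ : Set G)) = p := by
      obtain ⟨k, hk⟩ := IsPGroup.iff_card.mp hZ₁p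
      have hmod := card_modEq_fixed (Nat.card A) A _ hAqp hAZ₁
      have hfix : P₁ ⊓ Subgroup.centralizer (P₁ : Set G) ⊓ Subgroup.centralizer (A : Set G) =
          ⁅P₁, P₁⁆ := by
        apply le_antisymm
        · rw [hFY]; exact inf_le_inf_right _ inf_le_left
        · exact le_inf hYZ₁ hYcent
      rw [hfix, hYcard, hk] at hmod
      have hk3 : k ≤ 3 := by
        have := Subgroup.card_dvd_of_le
          (inf_le_left : P₁ ⊓ Subgroup.centralizer (P₁ : Set G) ≤ P₁)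
        rw [hk, hP₁card] at this
        exact (Nat.pow_dvd_pow_iff_le_right hpp.one_lt).mp this
      have hk0 : k ≠ 0 := by
        rintro rfl
        apply hYne
        have : P₁ ⊓ Subgroup.centralizer (P₁ : Set G) = ⊥ :=
          Subgroup.card_eq_one.mp (by simpa using hk)
        rw [eq_bot_iff, ← this]; exact hYZ₁
      have hk3' : k ≠ 3 := by
        rintro rfl
        apply hP₁nc
        have : P₁ ⊓ Subgroup.centralizer (P₁ : Set G) = P₁ :=
          Subgroup.eq_of_le_of_card_ge inf_le_left (by rw [hk, hP₁card])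
        have h1 : P₁ ≤ Subgroup.centralizer (P₁ : Set G) :=
          (le_of_eq this.symm).trans inf_le_right
        exact ⟨⟨fun a b => Subtype.ext (Subgroup.mem_centralizer_iff.mp (h1 b.2) a a.2)⟩⟩
      have hk2 : k ≠ 2 := by
        rintro rfl
        have hd : Nat.card A ∣ p ^ 2 - p :=
          (Nat.modEq_iff_dvd' (by nlinarith [hpp.one_lt])).mp hmod.symm
        have e : p ^ 2 - p = p * (p - 1) := by rw [Nat.mul_sub_one, sq]
        rw [e] at hd
        exact hqp hd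
      have : k = 1 := by omega
      rw [hk, this, pow_one]
    have hZ₁cent : P₁ ⊓ Subgroup.centralizer (P₁ : Set G) ≤ Subgroup.centralizer (A : Set G) := by
      have : ⁅P₁, P₁⁆ = P₁ ⊓ Subgroup.centralizer (P₁ : Set G) :=
        Subgroup.eq_of_le_of_card_ge hYZ₁ (by rw [hZ₁card, hYcard])
      rw [← this]; exact hYcent
    -- the centre of `R`
    have hAZ := le_normalizer_center A R hA
    have hZp : IsPGroup p ↥(R ⊓ Subgroup.centralizer (R : Set G)) := hR.to_le inf_le_left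
    have hZcent : R ⊓ Subgroup.centralizer (R : Set G) ≤ Subgroup.centralizer (A : Set G) := by
      apply homega _ hZp hAZ
      intro x hx hxp a ha
      have hxR : x ∈ R := (Subgroup.mem_inf.mp hx).1
      have hxP₁ : x ∈ P₁ := hΩ x (by rw [hRA]; exact hxR) hxp
      have hxZ₁ : x ∈ P₁ ⊓ Subgroup.centralizer (P₁ : Set G) := by
        refine Subgroup.mem_inf.mpr ⟨hxP₁, ?_⟩
        rw [Subgroup.mem_centralizer_iff]
        intro y hy
        exact Subgroup.mem_centralizer_iff.mp (Subgroup.mem_inf.mp hx).2 y (hR₁R (hP₁le hy))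
      exact Subgroup.mem_centralizer_iff.mp (hZ₁cent hxZ₁) a ha
    have hP₂Z : P₂ ≤ R ⊓ Subgroup.centralizer (R : Set G) := by
      intro b hb
      refine Subgroup.mem_inf.mpr ⟨hR₁R (hP₂le hb), ?_⟩
      rw [Subgroup.mem_centralizer_iff]
      intro r hr'
      rw [← hRA, ← hsup] at hr'
      obtain ⟨x, hx, y, hy, rfl⟩ := exists_mul_of_mem_sup P₁ P₂ hc hr'
      have h1 : x * b = b * x := hc x hx b hb
      have h2 : y * b = b * y := congrArg Subtype.val (mul_comm' (⟨y, hy⟩ : ↥P₂) ⟨b, hb⟩)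
      calc x * y * b = x * (y * b) := by group
        _ = x * (b * y) := by rw [h2]
        _ = (x * b) * y := by group
        _ = b * x * y := by rw [h1]
        _ = b * (x * y) := by group
    have hRP₁ : R ≤ P₁ := by
      rw [← hRA, Subgroup.commutator_le]
      intro r hr' a ha
      rw [← hRA, ← hsup] at hr'
      obtain ⟨x, hx, y, hy, rfl⟩ := exists_mul_of_mem_sup P₁ P₂ hc hr'
      have hya : a * y = y * a := Subgroup.mem_centralizer_iff.mp (hZcent (hP₂Z hy)) a ha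
      rw [Cfsg.Agent.Helper35.commutatorElement_mul_of_commute x y a hya]
      have h1 : a * x⁻¹ * a⁻¹ ∈ P₁ :=
        (Subgroup.mem_normalizer_iff.mp (hAP₁ ha) x⁻¹).mp (P₁.inv_mem hx)
      have e : ⁅x, a⁆ = x * (a * x⁻¹ * a⁻¹) := by rw [commutatorElement_def]; group
      rw [e]; exact P₁.mul_mem hx h1
    have hRe : R = P₁ := le_antisymm hRP₁ (hP₁le.trans hR₁R)
    rw [hRe, hP₁card]

theorem result {G : Type*} [Group G] [Finite G] (p : ℕ) [Fact p.Prime] (hp : p ≠ 2) (R A : Subgroup G) (hR : IsPGroup p R) (hRn : Cfsg.IsNarrow p R)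
    (hA : (A ≤ Subgroup.normalizer (R : Set G))) (hAs : Group.IsSolvable A) (hAodd : Odd (Nat.card A)) (hfaith : A ⊓ Subgroup.centralizer (R : Set G) = ⊥) :
    (commutator ↥A ≤ Cfsg.pCore p ↥A ∧ ((Cfsg.pCore p ↥A).index).Coprime p) ∧
      (¬ Cfsg.PRankLE p 2 R → ∀ a ∈ A, (orderOf a).Coprime p → orderOf a ∣ p - 1) ∧
      ((Nat.card A).Prime → ¬ Nat.card A ∣ p * (p - 1) →
        2 * Nat.card A ∣ p + 1 ∧ (⁅R, A⁆ = R → ¬ IsMulCommutative R → Nat.card R = p ^ 3)) := by
  by_cases hr : Cfsg.PRankLE p 2 R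
  · exact ⟨tail p (isPGroup_commutator_of_rank p hp R A hR hr hA hAs hAodd hfaith),
      fun h => absurd hr h,
      fun hq hqp => caseI_three p hp R A hR hr hA hAs hAodd hfaith hq hqp⟩
  · obtain ⟨N, hNn, hNp, hNc, hNpow⟩ := caseII p hp R A hR hr hRn hA hfaith
    have h2 : ∀ a ∈ A, (orderOf a).Coprime p → orderOf a ∣ p - 1 := by
      intro a ha hcop
      have := order_dvd_of_pow_mem p N hNp ⟨a, ha⟩ (hNpow _)
        (by rw [Subgroup.orderOf_mk]; exact hcop)
      rwa [Subgroup.orderOf_mk] at this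
    refine ⟨tail p (hNp.to_le hNc), fun _ => h2, fun hq hqp => ?_⟩
    exfalso
    have : Fact (Nat.card A).Prime := ⟨hq⟩
    obtain ⟨x, hx⟩ := exists_prime_orderOf_dvd_card' (G := ↥A) (Nat.card A) dvd_rfl
    have hpp : p.Prime := Fact.out
    have hne : Nat.card A ≠ p := fun h => hqp (by rw [h]; exact dvd_mul_right _ _)
    have hcop : (orderOf (x : G)).Coprime p := by
      rw [Subgroup.orderOf_coe, hx]; exact (Nat.coprime_primes hq hpp).mpr hne
    have := h2 x x.2 hcop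
    rw [Subgroup.orderOf_coe, hx] at this
    exact hqp (this.mul_left _)

end Cfsg.Agent.S1454
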