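import Cfsg.Statements.S1492
import Mathlib
import Cfsg.Agent.Helper4.CentralSection
import Cfsg.Agent.Helper4.GoingDown2

set_option autoImplicit false
open Cfsg

namespace Cfsg.Agent.S1492

open Cfsg.Agent.Helper75 Cfsg.Agent.Helper4

/-- Let ψ be an irreducible character of the finite group G and B ≤ D ≤ C subgroups with B normal in C, every commutator of an element of D with an element of C lying in B (so D/B is central in C/B), and ψ constant equal to ψ 1 on B. Then ψ(1) ^ 2 * |C| * |D| ≤ |G| ^ 2. -/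
theorem result {G : Type*} [Group G] [Finite G] (ψ : G → ℂ) (hψ : Cfsg.IsIrrCharacter G ψ) (B C D : Subgroup G) (hBD : B ≤ D) (hDC : D ≤ C) (hBn : ∀ c ∈ C, ∀ b ∈ B, c * b * c⁻¹ ∈ B) (hcent : ∀ d ∈ D, ∀ c ∈ C, d * c * d⁻¹ * c⁻¹ ∈ B) (hker : ∀ b ∈ B, ψ b = ψ 1) : ‖ψ 1‖ ^ 2 * (Nat.card C : ℝ) * (Nat.card D : ℝ) ≤ (Nat.card G : ℝ) ^ 2 := by
  classical
  letI : Fintype G := Fintype.ofFinite G
  letI : Fintype ↥C := Fintype.ofFinite _
  letI : Fintype ↥D := Fintype.ofFinite _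
  letI : Fintype (IrrCharacter ↥C) := Fintype.ofFinite _
  have hψc : IsCharacter G ψ := Cfsg.Agent.Helper79.isCharacter_of_irr hψ
  have hΨ : IsCharacter ↥C (fun c : ↥C => ψ c) := Cfsg.Agent.Helper79.isCharacter_restrict hψc C
  obtain ⟨m, hm⟩ := exists_nat_mult hΨ
  have hdec : (fun c : ↥C => ψ c) = ∑ χ : IrrCharacter ↥C, (m χ : ℂ) • (χ : ↥C → ℂ) := by
    conv_lhs => rw [character_eq_sum_irr hΨ]
    apply Finset.sum_congr rfl
    intro χ _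
    rw [hm]
  have hval : ∀ c : ↥C, ψ c = ∑ χ : IrrCharacter ↥C, (m χ : ℂ) * (χ : ↥C → ℂ) c := by
    intro c
    have := congrFun hdec c
    simp only [Finset.sum_apply, Pi.smul_apply, smul_eq_mul] at this
    exact this
  -- constituents are trivial on B
  have hBker : ∀ χ : IrrCharacter ↥C, m χ ≠ 0 → ∀ b : ↥C, (b : G) ∈ B →
      (χ : ↥C → ℂ) b = (χ : ↥C → ℂ) 1 := by
    intro χ hχ b hb
    apply constituent_eq_one_of_eq_one m b _ χ hχ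
    rw [← hval b, ← hval 1]
    exact hker b hb
  -- degree bound for constituents
  have hdegb : ∀ χ : IrrCharacter ↥C, m χ ≠ 0 →
      ((charDegree (χ : ↥C → ℂ) : ℕ) : ℝ) ^ 2 * (Nat.card ↥D : ℝ) ≤ (Nat.card ↥C : ℝ) := by
    intro χ hχ
    have h1 : ∀ x : ↥D, Complex.normSq (resTo hDC (χ : ↥C → ℂ) x)
        = ((charDegree (χ : ↥C → ℂ) : ℕ) : ℝ) ^ 2 := by
      intro x
      rw [resTo_apply]
      apply normSq_eq_deg_sq_of_central_mod_ker χ.2 {b : ↥C | (b : G) ∈ B}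
        (fun b hb => hBker χ hχ b hb)
      intro c
      exact hcent x x.2 c c.2
    have h2 := sum_normSq_resTo_le hDC (χ : ↥C → ℂ)
    rw [sum_normSq_of_irr χ.2] at h2
    simp_rw [h1] at h2
    rw [Finset.sum_const, Finset.card_univ, nsmul_eq_mul, ← Nat.card_eq_fintype_card] at h2
    linarith
  -- the norm bound
  have hq : (Nat.card ↥C : ℝ) * ∑ χ : IrrCharacter ↥C, ((m χ : ℕ) : ℝ) ^ 2 ≤ (Nat.card G : ℝ) := by
    have h1 := sum_normSq_eq_classInner (fun c : ↥C => ψ c)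
    have h2 : classInner (fun c : ↥C => ψ c) (fun c : ↥C => ψ c)
        = ∑ χ : IrrCharacter ↥C, (m χ : ℂ) * (starRingEnd ℂ) (m χ : ℂ) := by
      conv_lhs => rw [hdec]
      exact classInner_sum_irr _ _
    rw [h2] at h1
    have h3 : ((∑ c : ↥C, Complex.normSq (ψ c) : ℝ) : ℂ)
        = (((Nat.card ↥C : ℝ) * ∑ χ : IrrCharacter ↥C, ((m χ : ℕ) : ℝ) ^ 2 : ℝ) : ℂ) := by
      rw [h1]
      push_cast
      congr 1
      apply Finset.sum_congr rfl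
      intro χ _
      rw [Complex.conj_natCast]
      ring
    have h4 : (∑ c : ↥C, Complex.normSq (ψ c) : ℝ)
        = (Nat.card ↥C : ℝ) * ∑ χ : IrrCharacter ↥C, ((m χ : ℕ) : ℝ) ^ 2 := by
      exact_mod_cast h3
    rw [← h4]
    have h5 := sum_normSq_subgroup_le C ψ
    rw [sum_normSq_of_irr hψ] at h5
    exact h5
  -- ψ 1
  have hψ1 : ‖ψ 1‖ = ∑ χ : IrrCharacter ↥C, ((m χ : ℕ) : ℝ) * ((charDegree (χ : ↥C → ℂ) : ℕ) : ℝ) := by
    have h1 := hval 1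
    have h2 : ψ ((1 : ↥C) : G)
        = ((∑ χ : IrrCharacter ↥C, m χ * charDegree (χ : ↥C → ℂ) : ℕ) : ℂ) := by
      rw [h1]
      push_cast
      apply Finset.sum_congr rfl
      intro χ _
      rw [Cfsg.Agent.Helper80.irr_one_eq χ]
    have h3 : ψ 1 = ((∑ χ : IrrCharacter ↥C, m χ * charDegree (χ : ↥C → ℂ) : ℕ) : ℂ) := h2
    rw [h3, Complex.norm_natCast]
    push_cast
    rfl
  have hDpos : (0 : ℝ) < (Nat.card ↥D : ℝ) := by exact_mod_cast Nat.card_pos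
  have hCpos : (0 : ℝ) < (Nat.card ↥C : ℝ) := by exact_mod_cast Nat.card_pos
  set r : ℝ := Real.sqrt ((Nat.card ↥C : ℝ) / (Nat.card ↥D : ℝ)) with hr
  have hr2 : r ^ 2 = (Nat.card ↥C : ℝ) / (Nat.card ↥D : ℝ) := Real.sq_sqrt (by positivity)
  have hr0 : 0 ≤ r := Real.sqrt_nonneg _
  set q : ℝ := ∑ χ : IrrCharacter ↥C, ((m χ : ℕ) : ℝ) ^ 2 with hqdef
  have hq0 : 0 ≤ q := Finset.sum_nonneg (fun χ _ => by positivity)
  have hN : ‖ψ 1‖ ≤ r * q := by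
    rw [hψ1, hqdef, Finset.mul_sum]
    apply Finset.sum_le_sum
    intro χ _
    by_cases hχ : m χ = 0
    · rw [hχ]
      simp
    · have h1 : ((charDegree (χ : ↥C → ℂ) : ℕ) : ℝ) ≤ r := by
        apply Real.le_sqrt_of_sq_le
        rw [le_div_iff₀ hDpos]
        exact hdegb χ hχ
      have h2 : (1 : ℝ) ≤ ((m χ : ℕ) : ℝ) := by exact_mod_cast Nat.one_le_iff_ne_zero.2 hχ
      have h4 : ((m χ : ℕ) : ℝ) ≤ ((m χ : ℕ) : ℝ) ^ 2 := by nlinarith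
      calc ((m χ : ℕ) : ℝ) * ((charDegree (χ : ↥C → ℂ) : ℕ) : ℝ)
          ≤ ((m χ : ℕ) : ℝ) * r := mul_le_mul_of_nonneg_left h1 (by positivity)
        _ = r * ((m χ : ℕ) : ℝ) := mul_comm _ _
        _ ≤ r * ((m χ : ℕ) : ℝ) ^ 2 := mul_le_mul_of_nonneg_left h4 hr0
  have hN2 : ‖ψ 1‖ ^ 2 ≤ (r * q) ^ 2 := pow_le_pow_left₀ (norm_nonneg _) hN 2
  have h6 : ‖ψ 1‖ ^ 2 * (Nat.card ↥C : ℝ) * (Nat.card ↥D : ℝ)
      ≤ ((Nat.card ↥C : ℝ) * q) ^ 2 := by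
    have h7 : (r * q) ^ 2 * (Nat.card ↥C : ℝ) * (Nat.card ↥D : ℝ) = ((Nat.card ↥C : ℝ) * q) ^ 2 := by
      rw [mul_pow, hr2]
      field_simp
    rw [← h7]
    have := mul_le_mul_of_nonneg_right hN2 (mul_pos hCpos hDpos).le
    linarith
  calc ‖ψ 1‖ ^ 2 * (Nat.card ↥C : ℝ) * (Nat.card ↥D : ℝ)
      ≤ ((Nat.card ↥C : ℝ) * q) ^ 2 := h6
    _ ≤ (Nat.card G : ℝ) ^ 2 := pow_le_pow_left₀ (by positivity) hq 2

end Cfsg.Agent.S1492
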