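import Cfsg.Statements.S1528
import Cfsg.Agent.Helper75.CliffordCorr
import Cfsg.Agent.Helper3.BrauerPerm2

set_option autoImplicit false
open Cfsg

namespace Cfsg.Agent.S1528


open Cfsg.Agent.Helper75 in
/-- Under the centralizer hypothesis, a non-principal irreducible character of `N` is fixed only
by the elements of `N`. -/
theorem inertia_aux {G : Type*} [Group G] [Finite G] (N : Subgroup G) [hN : N.Normal]
    (hC : ∀ n ∈ N, n ≠ 1 → Subgroup.centralizer ({n} : Set G) ≤ N)
    {φ : N → ℂ} (hφ : Cfsg.IsIrrCharacter N φ) (hφ1 : φ ≠ fun _ => 1) (g : G)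
    (hg : Cfsg.Agent.Helper75.conjFun N g φ = φ) : g ∈ N := by
  classical
  by_contra hgN
  have hcard := Cfsg.Agent.Helper3.card_fixed_classes_eq (MulAut.conjNormal g : N ≃* N)
  have hsub : Subsingleton {C : ConjClasses N //
      ConjClasses.map (MulAut.conjNormal g : N ≃* N).toMonoidHom C = C} := by
    have key : ∀ C : ConjClasses N,
        ConjClasses.map (MulAut.conjNormal g : N ≃* N).toMonoidHom C = C → C = ConjClasses.mk 1 := by
      intro C hCfix
      obtain ⟨n, rfl⟩ := ConjClasses.exists_rep C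
      have h1 : ConjClasses.mk ((MulAut.conjNormal g : N ≃* N) n) = ConjClasses.mk n := hCfix
      rw [ConjClasses.mk_eq_mk_iff_isConj, isConj_iff] at h1
      obtain ⟨k, hk⟩ := h1
      by_cases hn : (n : G) = 1
      · have : n = 1 := Subtype.ext hn
        rw [this]
      · exfalso
        have hk' : (k : G) * (g * (n : G) * g⁻¹) * (k : G)⁻¹ = (n : G) := by
          have := congrArg (Subtype.val : N → G) hk
          simpa [MulAut.conjNormal_apply] using this
        have hcent : (k : G) * g ∈ Subgroup.centralizer ({(n : G)} : Set G) := by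
          rw [Subgroup.mem_centralizer_iff]
          intro x hx
          rw [Set.mem_singleton_iff] at hx
          subst hx
          have h2 : (k : G) * g * (n : G) = (n : G) * ((k : G) * g) := by
            calc (k : G) * g * (n : G) = ((k : G) * (g * (n : G) * g⁻¹) * (k : G)⁻¹) * ((k : G) * g) := by
                  group
              _ = (n : G) * ((k : G) * g) := by rw [hk']
          exact h2.symm
        have h3 := hC (n : G) n.2 hn hcent
        apply hgN
        have h4 : g = (k : G)⁻¹ * ((k : G) * g) := by group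
        rw [h4]
        exact N.mul_mem (N.inv_mem k.2) h3
    constructor
    intro a b
    apply Subtype.ext
    rw [key a.1 a.2, key b.1 b.2]
  have h1 : Nat.card {C : ConjClasses N //
      ConjClasses.map (MulAut.conjNormal g : N ≃* N).toMonoidHom C = C} ≤ 1 :=
    Finite.card_le_one_iff_subsingleton.mpr hsub
  rw [hcard] at h1
  have hsub2 := Finite.card_le_one_iff_subsingleton.mp h1
  have e1 : ((Cfsg.Agent.Helper80.trivIrr N : Cfsg.IrrCharacter N) : N → ℂ) ∘
      (MulAut.conjNormal g : N ≃* N) =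
      ((Cfsg.Agent.Helper80.trivIrr N : Cfsg.IrrCharacter N) : N → ℂ) := by
    funext n
    rfl
  have e2 : ((⟨φ, hφ⟩ : Cfsg.IrrCharacter N) : N → ℂ) ∘ (MulAut.conjNormal g : N ≃* N) =
      ((⟨φ, hφ⟩ : Cfsg.IrrCharacter N) : N → ℂ) := by
    have := hg
    rw [Cfsg.Agent.Helper75.conjFun_eq_comp] at this
    exact this
  have h5 := hsub2.elim ⟨Cfsg.Agent.Helper80.trivIrr N, e1⟩ ⟨⟨φ, hφ⟩, e2⟩
  apply hφ1
  have h6 := congrArg (fun x => ((x.1 : Cfsg.IrrCharacter N) : N → ℂ)) h5
  exact h6.symm

/-- Let N be a normal subgroup of the finite group G such that every element of G commuting with a non-identity element of N lies in N. If χ is an irreducible character of G with χ n ≠ χ 1 for some n ∈ N, then χ is the function induced from some irreducible character of N. -/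
theorem result {G : Type*} [Group G] [Fintype G] (N : Subgroup G) [N.Normal] (hC : ∀ n ∈ N, n ≠ 1 → Subgroup.centralizer ({n} : Set G) ≤ N) (χ : G → ℂ) (hχ : Cfsg.IsIrrCharacter G χ) (hker : ∃ n ∈ N, χ n ≠ χ 1) : ∃ φ : N → ℂ, Cfsg.IsIrrCharacter N φ ∧ χ = Cfsg.indFun N φ := by
  classical
  let _ : Fintype N := Fintype.ofFinite N
  let _ : Fintype (Cfsg.IrrCharacter N) := Fintype.ofFinite _
  have hχc := Cfsg.Agent.Helper80.isCharacter_of_irr hχ
  have hres : Cfsg.IsCharacter N (fun n : N => χ n) :=
    Cfsg.Agent.Helper79.isCharacter_restrict hχc N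
  have hsum := Cfsg.Agent.Helper75.character_eq_sum_irr hres
  -- a non-principal constituent
  have hex : ∃ φ : Cfsg.IrrCharacter N, (φ : N → ℂ) ≠ (fun _ => 1) ∧
      Cfsg.classInner (fun n : N => χ n) (φ : N → ℂ) ≠ 0 := by
    by_contra hcon
    push Not at hcon
    obtain ⟨n, hn, hne⟩ := hker
    apply hne
    have h1 : ∀ x : N, χ x = Cfsg.classInner (fun n : N => χ n)
        ((Cfsg.Agent.Helper80.trivIrr N : Cfsg.IrrCharacter N) : N → ℂ) := by
      intro x
      have h2 := congrFun hsum x
      rw [Finset.sum_apply, Finset.sum_eq_single (Cfsg.Agent.Helper80.trivIrr N)] at h2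
      · rw [h2, Pi.smul_apply, smul_eq_mul, Cfsg.Agent.Helper80.trivIrr_apply, mul_one]
      · intro φ _ hφ
        have hφ' : (φ : N → ℂ) ≠ fun _ => 1 := fun h => hφ (Subtype.ext h)
        rw [Pi.smul_apply, hcon φ hφ', zero_smul]
      · intro h; exact absurd (Finset.mem_univ _) h
    have h3 := h1 ⟨n, hn⟩
    have h4 := h1 1
    rw [OneMemClass.coe_one] at h4
    rw [Subgroup.coe_mk] at h3
    rw [h3, h4]
  obtain ⟨φ, hφ1, hφne⟩ := hex
  have hT : ∀ g : G, g ∈ N ↔ Cfsg.Agent.Helper75.conjFun N g (φ : N → ℂ) = (φ : N → ℂ) := by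
    intro g
    constructor
    · intro hg
      funext n
      rw [Cfsg.Agent.Helper75.conjFun_apply]
      have h1 := Cfsg.Agent.Helper80.isCharacter_conj
        (Cfsg.Agent.Helper80.isCharacter_of_irr φ.2) n ⟨g, hg⟩
      rw [← h1]
      congr 1
    · intro hg
      exact inertia_aux N hC φ.2 hφ1 g hg
  have hres2 : Cfsg.Agent.Helper75.resTo (le_refl N) (φ : N → ℂ) = (φ : N → ℂ) := by
    funext n
    rfl
  have hf : Cfsg.classInner (Cfsg.Agent.Helper75.resTo (le_refl N) (φ : N → ℂ)) (φ : N → ℂ) ≠ 0 := by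
    rw [hres2, Cfsg.Agent.Helper75.classInner_irr_self φ.2]
    exact one_ne_zero
  obtain ⟨hEq, -⟩ := Cfsg.Agent.Helper75.clifford_correspondence (le_refl N) φ.2 hT φ.2 hχ hf hφne
  exact ⟨φ, φ.2, hEq.symm⟩

end Cfsg.Agent.S1528
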