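import Cfsg.Statements.S0033
import Cfsg.Agent.Helper19.ThompsonThesis

set_option autoImplicit false
open Cfsg

namespace Cfsg.Agent.S0033

open Cfsg.Agent.Helper19

/-- **Thompson's theorem** (1959): a finite group admitting a fixed-point-free automorphism of
prime order is nilpotent. -/
theorem result {G : Type*} [Group G] [Finite G] (φ : G ≃* G)
    (hφ : MonoidHom.FixedPointFree (φ : G →* G)) (p : ℕ) (hp : p.Prime) (hord : orderOf φ = p) :
    Group.IsNilpotent G := by
  apply thompson_thesis hp (φ : G →* G)
  constructor
  · exact hφ
  · intro g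
    have h1 : φ ^ p = 1 := by rw [← hord]; exact pow_orderOf_eq_one φ
    have h2 : ∀ (k : ℕ) (x : G), (φ ^ k) x = (⇑(φ : G →* G))^[k] x := by
      intro k
      induction k with
      | zero => intro x; rfl
      | succ k ih =>
        intro x
        rw [pow_succ', MulAut.mul_apply, ih, Function.iterate_succ_apply']
        rfl
    rw [← h2, h1]
    rfl

end Cfsg.Agent.S0033
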