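import Cfsg.Statements.S0433
import Cfsg.Agent.Helper8.GolayBasic

set_option autoImplicit false
open Cfsg

namespace Cfsg.Agent.S0433

open Cfsg.Agent.Helper8

/-- the sign change on `c` -/
def flip (c : Finset GolayPt) (x : GolayPt → ℤ) : GolayPt → ℤ :=
  fun i => if i ∈ c then -x i else x i

theorem sum_flip (c : Finset GolayPt) (x : GolayPt → ℤ) :
    ∑ i, flip c x i = ∑ i, x i - 2 * ∑ i ∈ c, x i := by
  have h1 : ∀ i, flip c x i = x i - 2 * (if i ∈ c then x i else 0) := by
    intro i
    unfold flip
    split_ifs <;> ring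
  simp only [h1]
  rw [Finset.sum_sub_distrib, ← Finset.mul_sum, Finset.sum_ite_mem, Finset.univ_inter]

/-- the key congruence: the sum of the coordinates over a codeword is divisible by 4 -/
theorem sum_codeword (c : Finset GolayPt)
    (hc : c ∈ supports (golayCode : Set (GolayPt → ZMod 2))) (x : GolayPt → ℤ) (m : ℤ)
    (h1 : ∀ i, x i ≡ m [ZMOD 2])
    (h3 : ∀ k : ℤ, (Finset.univ.filter fun i => x i ≡ k [ZMOD 4]) ∈
      supports (golayCode : Set (GolayPt → ZMod 2))) :
    (4 : ℤ) ∣ ∑ i ∈ c, x i := by
  set A := Finset.univ.filter fun i => x i ≡ m + 2 [ZMOD 4] with hA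
  have hAs : A ∈ supports (golayCode : Set (GolayPt → ZMod 2)) := h3 (m + 2)
  have hcard := supports_card c hc
  have heven := supports_inter_even c A hc hAs
  -- pointwise
  have hpt : ∀ i, ∃ t : ℤ, x i = m + 2 * (if i ∈ A then 1 else 0) + 4 * t := by
    intro i
    have h := h1 i
    unfold Int.ModEq at h
    by_cases hi : i ∈ A
    · have hi' : x i ≡ m + 2 [ZMOD 4] := by
        rw [hA, Finset.mem_filter] at hi; exact hi.2
      unfold Int.ModEq at hi'
      rw [if_pos hi]
      exact ⟨(x i - m - 2) / 4, by omega⟩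
    · have hi' : ¬ x i ≡ m + 2 [ZMOD 4] := by
        intro h'
        apply hi
        rw [hA, Finset.mem_filter]; exact ⟨Finset.mem_univ _, h'⟩
      unfold Int.ModEq at hi'
      rw [if_neg hi]
      exact ⟨(x i - m) / 4, by omega⟩
  choose t ht using hpt
  have hsum : ∑ i ∈ c, x i = m * c.card + 2 * (c ∩ A).card + 4 * ∑ i ∈ c, t i := by
    calc ∑ i ∈ c, x i = ∑ i ∈ c, (m + 2 * (if i ∈ A then 1 else 0) + 4 * t i) :=
          Finset.sum_congr rfl (fun i _ => ht i)
      _ = m * c.card + 2 * (c ∩ A).card + 4 * ∑ i ∈ c, t i := by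
          rw [Finset.sum_add_distrib, Finset.sum_add_distrib, ← Finset.mul_sum, ← Finset.mul_sum,
            Finset.sum_const, Finset.sum_ite_mem, Finset.sum_const]
          simp only [nsmul_eq_mul, mul_one]
          ring
  rw [hsum]
  obtain ⟨a, ha⟩ := hcard
  obtain ⟨b, hb⟩ := heven
  rw [ha, hb]
  push_cast
  exact ⟨m * a + b + ∑ i ∈ c, t i, by ring⟩

theorem leechSet_flip (c : Finset GolayPt)
    (hc : c ∈ supports (golayCode : Set (GolayPt → ZMod 2))) (x : GolayPt → ℤ)
    (hx : x ∈ leechSet) : flip c x ∈ leechSet := by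
  obtain ⟨m, h1, h2, h3⟩ := hx
  refine ⟨m, fun i => ?_, ?_, fun k => ?_⟩
  · have h := h1 i
    unfold Int.ModEq at h ⊢
    unfold flip
    split_ifs <;> omega
  · rw [sum_flip]
    obtain ⟨s, hs⟩ := sum_codeword c hc x m h1 h3
    unfold Int.ModEq at h2 ⊢
    rw [hs]
    omega
  · have hAk := h3 k
    by_cases hk : k % 2 = 0
    · convert hAk using 1
      ext i
      simp only [Finset.mem_filter, Finset.mem_univ, true_and]
      unfold flip Int.ModEq
      split_ifs <;> omega
    by_cases hm : m % 2 = 0
    · convert hAk using 1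
      ext i
      simp only [Finset.mem_filter, Finset.mem_univ, true_and]
      have h := h1 i
      unfold Int.ModEq at h
      unfold flip Int.ModEq
      split_ifs <;> omega
    · have := supports_symmDiff _ c hAk hc
      convert this using 1
      ext i
      simp only [Finset.mem_filter, Finset.mem_univ, true_and, Finset.mem_symmDiff]
      have h := h1 i
      unfold Int.ModEq at h
      unfold flip Int.ModEq
      by_cases hi : i ∈ c
      · simp only [hi, if_true, not_true, and_false, true_and, false_or]
        omega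
      · simp only [hi, if_false, not_false_eq_true, and_true, false_and, or_false]

theorem result (c : Finset Cfsg.GolayPt) (hc : c ∈ Cfsg.supports (Cfsg.golayCode : Set (Cfsg.GolayPt → ZMod 2))) (x : Cfsg.GolayPt → ℤ) (hx : x ∈ Cfsg.leechLattice) : (fun i => if i ∈ c then -x i else x i) ∈ Cfsg.leechLattice := by
  change flip c x ∈ Cfsg.leechLattice
  unfold Cfsg.leechLattice at hx ⊢
  induction hx using AddSubgroup.closure_induction with
  | mem y hy => exact AddSubgroup.subset_closure (leechSet_flip c hc y hy)
  | zero =>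
    have : flip c 0 = 0 := by
      funext i; unfold flip; simp
    rw [this]; exact AddSubgroup.zero_mem _
  | add y z _ _ hy hz =>
    have : flip c (y + z) = flip c y + flip c z := by
      funext i; unfold flip; simp only [Pi.add_apply]; split_ifs <;> ring
    rw [this]; exact AddSubgroup.add_mem _ hy hz
  | neg y _ hy =>
    have : flip c (-y) = -flip c y := by
      funext i; unfold flip; simp only [Pi.neg_apply]; split_ifs <;> ring
    rw [this]; exact AddSubgroup.neg_mem _ hy

end Cfsg.Agent.S0433
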