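import Cfsg.Statements.S0378
import Cfsg.Agent.Helper7.M24Trans

set_option autoImplicit false
open scoped Pointwise
open Cfsg

namespace Cfsg.Agent.S0378

/-- A two-point stabiliser in the group of the length-24 code has order 443520 = 2^7·3^2·5·7·11. -/
theorem result (p q : Cfsg.GolayPt) (hpq : p ≠ q) : Nat.card ↥(MulAction.stabilizer Cfsg.M24 p ⊓ MulAction.stabilizer Cfsg.M24 q) = 443520 := by
  have h := Cfsg.Agent.Helper7.card_orbit_mul_card_stabilizer (X := GolayPt × GolayPt) (p, q)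
  have hstab : MulAction.stabilizer (↥M24) (p, q)
      = MulAction.stabilizer (↥M24) p ⊓ MulAction.stabilizer (↥M24) q := by
    ext g
    simp only [MulAction.mem_stabilizer_iff, Subgroup.mem_inf, Prod.smul_mk, Prod.mk.injEq]
  have horb : MulAction.orbit (↥M24) (p, q) = {xy : GolayPt × GolayPt | xy.1 ≠ xy.2} := by
    ext ⟨x, y⟩
    constructor
    · rintro ⟨g, hg⟩
      simp only [Prod.smul_mk, Prod.mk.injEq] at hg
      show x ≠ y
      rw [← hg.1, ← hg.2]
      exact fun h => hpq (MulAction.injective g h)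
    · intro hxy
      obtain ⟨g, hg, h1, h2⟩ := Cfsg.Agent.Helper7.m24_trans2 hpq hxy
      refine ⟨⟨g, hg⟩, ?_⟩
      show ((⟨g, hg⟩ : ↥M24) • p, (⟨g, hg⟩ : ↥M24) • q) = (x, y)
      rw [Prod.mk.injEq]
      exact ⟨h1, h2⟩
  have hc : Nat.card (MulAction.orbit (↥M24) (p, q)) = 552 := by
    rw [horb, Nat.card_eq_fintype_card, Fintype.card_subtype]
    decide +kernel
  rw [hc, hstab] at h
  omega

end Cfsg.Agent.S0378
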