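import Cfsg.Statements.S0379
import Cfsg.Agent.Helper7.MathieuSimple

set_option autoImplicit false
open Cfsg

namespace Cfsg.Agent.S0379

/-- A two-point stabiliser in the group of the length-24 code is simple. -/
theorem result (p q : Cfsg.GolayPt) (hpq : p ≠ q) : IsSimpleGroup ↥(MulAction.stabilizer Cfsg.M24 p ⊓ MulAction.stabilizer Cfsg.M24 q) := by
  have hstab : MulAction.stabilizer (↥M24) p ⊓ MulAction.stabilizer (↥M24) q
      = MulAction.stabilizer (↥M24) (p, q) := by
    ext g
    simp only [MulAction.mem_stabilizer_iff, Subgroup.mem_inf, Prod.smul_mk, Prod.mk.injEq]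
  have := Cfsg.Agent.Helper7.simple_stab_pair hpq
  exact ((MulEquiv.subgroupCongr hstab).trans
    (Cfsg.Agent.Helper7.stabSubEquiv M24 (p, q))).isSimpleGroup

end Cfsg.Agent.S0379
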