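import Cfsg.Statements.S0063
-- import your own Cfsg.Agent.* helpers here

set_option autoImplicit false
open Cfsg

namespace Cfsg.Agent.S0063

universe u

theorem aux (p : ℕ) [Fact p.Prime] : ∀ (m : ℕ) (G : Type u) [Group G] [Finite G],
    Nat.card G = p ^ m → 1 < m → Group.nilpotencyClass G ≤ m - 1 := by
  intro m
  induction m using Nat.strong_induction_on with
  | _ m ih =>
    intro G _ _ hG hm
    have hp : p.Prime := Fact.out
    have hPG : IsPGroup p G := IsPGroup.of_card hG
    haveI : Group.IsNilpotent G := hPG.isNilpotent
    haveI : Nontrivial G := by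
      rw [← Finite.one_lt_card_iff_nontrivial, hG]
      exact Nat.one_lt_pow (by omega) hp.one_lt
    by_cases hcyc : IsCyclic (G ⧸ Subgroup.center G)
    · have hc : IsMulCommutative G := isMulCommutative_of_isCyclic_quotient_center_self G
      have := Group.IsNilpotent.nilpotencyClass_le_one_iff.mpr hc
      omega
    · have hZ : Nontrivial (Subgroup.center G) := hPG.center_nontrivial
      have hcard : Nat.card G = Nat.card (G ⧸ Subgroup.center G) * Nat.card (Subgroup.center G) :=
        Subgroup.card_eq_card_quotient_mul_card_subgroup _
      obtain ⟨j, hj⟩ := (IsPGroup.iff_card).mp (hPG.to_quotient (Subgroup.center G))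
      obtain ⟨k, hk⟩ := (IsPGroup.iff_card).mp (hPG.to_subgroup (Subgroup.center G))
      have hk1 : 1 ≤ k := by
        by_contra h
        have h0 : k = 0 := by omega
        rw [h0, pow_zero] at hk
        exact absurd hk (Finite.one_lt_card_iff_nontrivial.mpr hZ).ne'
      have hmjk : m = j + k := by
        rw [hG, hj, hk, ← pow_add] at hcard
        exact Nat.pow_right_injective hp.two_le hcard
      have hj2 : 2 ≤ j := by
        by_contra h
        apply hcyc
        interval_cases j
        · haveI : Subsingleton (G ⧸ Subgroup.center G) :=
            (Nat.card_eq_one_iff_unique.mp (by simpa using hj)).1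
          exact isCyclic_of_subsingleton
        · exact isCyclic_of_prime_card (p := p) (by simpa using hj)
      have := ih j (by omega) (G ⧸ Subgroup.center G) hj (by omega)
      rw [Group.nilpotencyClass_eq_quotient_center_plus_one]
      omega


/-- A finite group of prime-power order p ^ m with m > 1 is nilpotent of class at most m - 1. -/
theorem result {G : Type*} [Group G] [Finite G] (p m : ℕ) [Fact p.Prime]
    (hG : Nat.card G = p ^ m) (hm : 1 < m) : Group.nilpotencyClass G ≤ m - 1 := by
  exact aux p m G hG hm

end Cfsg.Agent.S0063
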