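import Cfsg.Statements.S1140

set_option autoImplicit false
open Cfsg

namespace Cfsg.Agent.S1140

/-- Dedekind independence for ring automorphisms of a field, as functions. -/
theorem indep_fun (F : Type*) [Field F] :
    LinearIndependent F (fun σ : F ≃+* F => ((σ : F →+* F) : F → F)) := by
  have h := linearIndependent_monoidHom F F
  have hinj : Function.Injective (fun σ : F ≃+* F => ((σ : F →+* F) : F →* F)) := by
    intro σ τ hστ
    ext x
    exact congrArg (fun f : F →* F => f x) hστ
  exact h.comp _ hinj

section
variable (F : Type*) [Field F] [Fintype F] [CharP F 2]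

/-- The algebra structure used below. -/
@[reducible] noncomputable def alg : Algebra (ZMod 2) F := ZMod.algebra F 2

attribute [local instance] alg

/-- A ring automorphism as a `ZMod 2`-linear map. -/
noncomputable def vmap (σ : F ≃+* F) : F →ₗ[ZMod 2] F := ((σ : F →+* F) : F →+ F).toZModLinearMap 2

theorem vmap_apply (σ : F ≃+* F) (x : F) : vmap F σ x = σ x := rfl

/-- Coercion to functions as an `F`-linear map. -/
noncomputable def coeLin : (F →ₗ[ZMod 2] F) →ₗ[F] (F → F) where
  toFun f := ⇑f
  map_add' _ _ := rfl
  map_smul' _ _ := rfl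

theorem indep_vmap : LinearIndependent F (vmap F) := by
  apply LinearIndependent.of_comp (coeLin F)
  exact indep_fun F

noncomputable instance : Fintype (F ≃+* F) :=
  @Fintype.ofFinite _ (Finite.of_injective (fun σ : F ≃+* F => (σ : F → F)) DFunLike.coe_injective)

/-- ring automorphisms are `ZMod 2`-algebra automorphisms. -/
noncomputable def toAlg : (F ≃+* F) ≃ (F ≃ₐ[ZMod 2] F) where
  toFun σ := AlgEquiv.ofRingEquiv (f := σ) (fun x =>
    congrArg (fun g : ZMod 2 →+* F => g x)
      (Subsingleton.elim ((σ : F →+* F).comp (algebraMap (ZMod 2) F)) (algebraMap (ZMod 2) F)))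
  invFun τ := τ.toRingEquiv
  left_inv σ := by ext x; rfl
  right_inv τ := by ext x; rfl

theorem card_aut : Fintype.card (F ≃+* F) = Module.finrank F (F →ₗ[ZMod 2] F) := by
  rw [Module.finrank_linearMap_self (ZMod 2) F F, ← IsGalois.card_aut_eq_finrank (ZMod 2) F,
    ← Nat.card_eq_fintype_card]
  exact Nat.card_congr (toAlg F)

/-- The automorphisms form a basis of the additive endomorphisms. -/
noncomputable def autBasis : Module.Basis (F ≃+* F) F (F →ₗ[ZMod 2] F) :=
  basisOfLinearIndependentOfCardEqFinrank' (vmap F) (indep_vmap F) (card_aut F)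

theorem autBasis_apply (σ : F ≃+* F) : autBasis F σ = vmap F σ := by
  unfold autBasis
  rw [coe_basisOfLinearIndependentOfCardEqFinrank']

/-- expansion of a linear map in the basis of automorphisms. -/
theorem expand (f : F →ₗ[ZMod 2] F) (x : F) :
    f x = ∑ σ : F ≃+* F, (autBasis F).repr f σ * σ x := by
  have h := (autBasis F).sum_repr f
  have h2 := congrArg (fun g : F →ₗ[ZMod 2] F => g x) h
  simp only [LinearMap.coe_sum, Finset.sum_apply, LinearMap.smul_apply, autBasis_apply, vmap_apply,
    smul_eq_mul] at h2
  exact h2.symm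

end

/-- For a finite field `F` of characteristic 2, the automorphisms of `F`, viewed as additive maps `F → F`, are linearly independent over `F` (acting on values) every additive endomorphism of `F` is an `F`-linear combination of them, and every biadditive map `F → F → F` is an `F`-combination of the maps `(x, y) ↦ σ(x) τ(y)`. -/
theorem result {F : Type*} [Field F] [Fintype F] [CharP F 2] :
    LinearIndependent F (fun σ : F ≃+* F => ((σ : F →+* F) : F → F)) ∧
      (∀ f : F →+ F, ∃ (s : Finset (F ≃+* F)) (c : (F ≃+* F) → F), ∀ x : F, f x = ∑ σ ∈ s, c σ * σ x) ∧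
      ∀ B : F →+ F →+ F, ∃ (s : Finset ((F ≃+* F) × (F ≃+* F))) (c : (F ≃+* F) × (F ≃+* F) → F),
        ∀ x y : F, B x y = ∑ p ∈ s, c p * (p.1 x * p.2 y) := by
  letI := alg F
  refine ⟨indep_fun F, ?_, ?_⟩
  · intro f
    exact ⟨Finset.univ, fun σ => (autBasis F).repr (f.toZModLinearMap 2) σ,
      fun x => expand F (f.toZModLinearMap 2) x⟩
  · intro B
    -- coefficient of `τ` in `B x`, as an additive map of `x`
    let cτ : (F ≃+* F) → F →+ F := fun τ =>
      { toFun := fun x => (autBasis F).repr ((B x).toZModLinearMap 2) τ
        map_zero' := by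
          have : (B 0).toZModLinearMap 2 = 0 := by ext y; simp
          rw [this]; simp
        map_add' := by
          intro x x'
          have : (B (x + x')).toZModLinearMap 2 = (B x).toZModLinearMap 2 + (B x').toZModLinearMap 2 := by
            ext y; simp
          rw [this]; simp }
    refine ⟨Finset.univ, fun p => (autBasis F).repr ((cτ p.2).toZModLinearMap 2) p.1, ?_⟩
    intro x y
    have h1 := expand F ((B x).toZModLinearMap 2) y
    have h1' : B x y = ∑ τ : F ≃+* F, cτ τ x * τ y := h1
    rw [h1', Fintype.sum_prod_type, Finset.sum_comm]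
    apply Finset.sum_congr rfl
    intro τ _
    have h2 := expand F ((cτ τ).toZModLinearMap 2) x
    have h2' : cτ τ x = ∑ σ : F ≃+* F, (autBasis F).repr ((cτ τ).toZModLinearMap 2) σ * σ x := h2
    rw [h2', Finset.sum_mul]
    apply Finset.sum_congr rfl
    intro σ _
    ring

end Cfsg.Agent.S1140
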