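import Cfsg.Statements.S1527

set_option autoImplicit false
open Cfsg

namespace Cfsg.Agent.S1527

open Classical in
/-- the number of non-identity elements conjugate into a TI-subgroup `K`. -/
theorem card_conj {G : Type*} [Group G] [Fintype G] (K : Subgroup G)
    (hTI : Cfsg.IsTISubset (K : Set G)) :
    (Finset.univ.filter (fun g : G => g ≠ 1 ∧ ∃ x : G, x * g * x⁻¹ ∈ K)).card
      = (Subgroup.normalizer (K : Set G)).index * (Nat.card K - 1) := by
  set N := Subgroup.normalizer (K : Set G) with hN
  set C := Finset.univ.filter (fun g : G => g ≠ 1 ∧ ∃ x : G, x * g * x⁻¹ ∈ K) with hC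
  set Hs : Finset G := (Finset.univ.filter (fun g : G => g ∈ K)).erase 1 with hHs
  set NF : Finset G := Finset.univ.filter (fun g : G => g ∈ N) with hNF
  have hHscard : Hs.card = Nat.card K - 1 := by
    rw [hHs, Finset.card_erase_of_mem (by simp [K.one_mem])]
    congr 1
    rw [Nat.card_eq_fintype_card, Fintype.card_subtype]
  have hNFcard : NF.card = Nat.card N := by
    rw [hNF, Nat.card_eq_fintype_card, Fintype.card_subtype]
  -- the conjugation map
  let f : G × G → G := fun p => p.1 * p.2 * p.1⁻¹
  have hmaps : ∀ p ∈ (Finset.univ : Finset G) ×ˢ Hs, f p ∈ C := by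
    rintro ⟨x, h⟩ hp
    simp only [Finset.mem_product, Finset.mem_univ, true_and, hHs, Finset.mem_erase,
      Finset.mem_filter] at hp
    simp only [hC, Finset.mem_filter, Finset.mem_univ, true_and, f]
    refine ⟨?_, x⁻¹, ?_⟩
    · intro h1
      apply hp.1
      have : x⁻¹ * (x * h * x⁻¹) * x = x⁻¹ * 1 * x := by rw [h1]
      simpa [mul_assoc] using this
    · simpa [mul_assoc] using hp.2
  have hfib : ∀ c ∈ C, (((Finset.univ : Finset G) ×ˢ Hs).filter (fun p => f p = c)).card = NF.card := by
    intro c hc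
    simp only [hC, Finset.mem_filter, Finset.mem_univ, true_and] at hc
    obtain ⟨hc1, y, hy⟩ := hc
    -- representative: x₀ = y⁻¹, h₀ = y c y⁻¹
    set h₀ := y * c * y⁻¹ with hh₀
    have hh₀1 : h₀ ≠ 1 := by
      intro h1
      apply hc1
      have : y⁻¹ * h₀ * y = y⁻¹ * 1 * y := by rw [h1]
      simpa [hh₀, mul_assoc] using this
    symm
    apply Finset.card_bij (fun n _ => (y⁻¹ * n⁻¹, n * h₀ * n⁻¹))
    · intro n hn
      simp only [hNF, Finset.mem_filter, Finset.mem_univ, true_and] at hn
      simp only [Finset.mem_filter, Finset.mem_product, Finset.mem_univ, true_and, hHs,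
        Finset.mem_erase, f]
      refine ⟨⟨?_, ?_⟩, ?_⟩
      · intro h1
        apply hh₀1
        have : n⁻¹ * (n * h₀ * n⁻¹) * n = n⁻¹ * 1 * n := by rw [h1]
        simpa [mul_assoc] using this
      · exact (Subgroup.mem_normalizer_iff.1 hn h₀).1 hy
      · simp [hh₀, mul_assoc]
    · intro n₁ _ n₂ _ h
      have h1 := (Prod.mk.inj h).1
      have h2 : n₁⁻¹ = n₂⁻¹ := mul_left_cancel h1
      exact inv_injective h2
    · rintro ⟨x, h⟩ hp
      simp only [Finset.mem_filter, Finset.mem_product, Finset.mem_univ, true_and, hHs,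
        Finset.mem_erase, f] at hp
      obtain ⟨⟨hh1, hhK⟩, hxc⟩ := hp
      -- n = x⁻¹ * y⁻¹
      have hconj : (x⁻¹ * y⁻¹) * h₀ * (x⁻¹ * y⁻¹)⁻¹ = h := by
        rw [hh₀, ← hxc]; simp [mul_assoc]
      have hnN : x⁻¹ * y⁻¹ ∈ N := by
        by_contra hnot
        exact hh₀1 (hTI (x⁻¹ * y⁻¹) hnot h₀ hy (by rw [hconj]; exact hhK))
      refine ⟨x⁻¹ * y⁻¹, ?_, ?_⟩
      · simp only [hNF, Finset.mem_filter, Finset.mem_univ, true_and]; exact hnN
      · refine Prod.ext ?_ hconj
        simp
  have hcount : ((Finset.univ : Finset G) ×ˢ Hs).card = C.card * NF.card := by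
    rw [Finset.card_eq_sum_card_fiberwise hmaps, Finset.sum_congr rfl hfib, Finset.sum_const,
      smul_eq_mul]
  rw [Finset.card_product, Finset.card_univ, hHscard, hNFcard] at hcount
  have hidx : N.index * Nat.card N = Fintype.card G := by
    rw [mul_comm, Subgroup.card_mul_index, Nat.card_eq_fintype_card]
  have hNpos : 0 < Nat.card N := Nat.card_pos
  have : C.card * Nat.card N = (N.index * (Nat.card K - 1)) * Nat.card N := by
    rw [← hcount, ← hidx]; ring
  exact Nat.eq_of_mul_eq_mul_right hNpos this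

/-- Let G be a finite group and H i (i in a finite index type) subgroups of pairwise coprime orders, each of whose underlying sets is a TI-subset of G, such that every non-identity element of G is conjugate to an element of some H i. Then Nat.card G − 1 = Σ_i [G : N_G(H i)] · (Nat.card (H i) − 1). -/
theorem result {G : Type*} [Group G] [Finite G] {ι : Type*} [Fintype ι] (H : ι → Subgroup G) (hcop : ∀ i j, i ≠ j → Nat.Coprime (Nat.card (H i)) (Nat.card (H j))) (hTI : ∀ i, Cfsg.IsTISubset (H i : Set G)) (hcover : ∀ g : G, g ≠ 1 → ∃ i, ∃ x : G, x * g * x⁻¹ ∈ H i) : Nat.card G - 1 = ∑ i, (Subgroup.normalizer (H i : Set G)).index * (Nat.card (H i) - 1) := by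
  classical
  have := Fintype.ofFinite G
  let C : ι → Finset G := fun i =>
    Finset.univ.filter (fun g : G => g ≠ 1 ∧ ∃ x : G, x * g * x⁻¹ ∈ H i)
  have hdisj : ∀ i j, i ≠ j → Disjoint (C i) (C j) := by
    intro i j hij
    rw [Finset.disjoint_left]
    intro g hgi hgj
    simp only [C, Finset.mem_filter, Finset.mem_univ, true_and] at hgi hgj
    obtain ⟨hg1, x, hx⟩ := hgi
    obtain ⟨_, y, hy⟩ := hgj
    have ho1 : orderOf g ∣ Nat.card (H i) := by
      have := Subgroup.orderOf_dvd_natCard (H i) hx
      rwa [← MulAut.conj_apply, MulEquiv.orderOf_eq] at this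
    have ho2 : orderOf g ∣ Nat.card (H j) := by
      have := Subgroup.orderOf_dvd_natCard (H j) hy
      rwa [← MulAut.conj_apply, MulEquiv.orderOf_eq] at this
    have : orderOf g ∣ 1 := by
      have h := Nat.dvd_gcd ho1 ho2
      rwa [(hcop i j hij)] at h
    exact hg1 (orderOf_eq_one_iff.1 (Nat.dvd_one.1 this))
  have hunion : (Finset.univ.erase (1 : G)) = Finset.univ.biUnion C := by
    ext g
    simp only [Finset.mem_erase, Finset.mem_univ, and_true, Finset.mem_biUnion, true_and, C,
      Finset.mem_filter]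
    constructor
    · intro hg
      obtain ⟨i, x, hx⟩ := hcover g hg
      exact ⟨i, hg, x, hx⟩
    · rintro ⟨i, hg, _⟩
      exact hg
  calc Nat.card G - 1 = (Finset.univ.erase (1 : G)).card := by
        rw [Finset.card_erase_of_mem (Finset.mem_univ _), Finset.card_univ, Nat.card_eq_fintype_card]
    _ = ∑ i, (C i).card := by
        rw [hunion, Finset.card_biUnion (fun i _ j _ hij => hdisj i j hij)]
    _ = _ := Finset.sum_congr rfl (fun i _ => by
        have := card_conj (H i) (hTI i)
        convert this using 2)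

end Cfsg.Agent.S1527
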