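import Cfsg.Statements.S1526
import Cfsg.Agent.Helper3.TIFrob
import Cfsg.Agent.Helper3.ExcFinal
import Cfsg.Agent.Helper3.Bessel
import Cfsg.Agent.Helper3.BrauerPerm2
import Cfsg.Agent.S1527

set_option autoImplicit false
set_option linter.style.haveILetI false
open Cfsg

namespace Cfsg.Agent.S1526

open Cfsg.Agent.Helper3
open scoped ComplexConjugate

theorem classInner_smul_left' {G : Type*} [Group G] [Fintype G] (c : ℂ) (f ψ : G → ℂ) :
    Cfsg.classInner (c • f) ψ = c * Cfsg.classInner f ψ := by
  unfold Cfsg.classInner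
  simp only [Pi.smul_apply, smul_eq_mul, Finset.mul_sum]
  refine Finset.sum_congr rfl fun g _ => by ring

theorem parseval_int {G : Type*} [Group G] [Fintype G] [Fintype (Cfsg.IrrCharacter G)]
    (φ ψ : G → ℂ) (hφ : Cfsg.IsClassFunction G φ) (a b : Cfsg.IrrCharacter G → ℤ)
    (ha : ∀ Y : Cfsg.IrrCharacter G, Cfsg.classInner φ (Y : G → ℂ) = (a Y : ℂ))
    (hb : ∀ Y : Cfsg.IrrCharacter G, Cfsg.classInner ψ (Y : G → ℂ) = (b Y : ℂ)) :
    Cfsg.classInner φ ψ = ((∑ Y, a Y * b Y : ℤ) : ℂ) := by
  calc Cfsg.classInner φ ψ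
      = Cfsg.classInner (∑ χ : Cfsg.IrrCharacter G, Cfsg.classInner φ χ • (χ : G → ℂ)) ψ := by
        rw [← classFunction_eq_sum φ hφ]
    _ = ∑ χ : Cfsg.IrrCharacter G, Cfsg.classInner φ χ * Cfsg.classInner (χ : G → ℂ) ψ :=
        classInner_sum_left _ _ _ _
    _ = ((∑ Y, a Y * b Y : ℤ) : ℂ) := by
        push_cast
        refine Finset.sum_congr rfl fun Y _ => ?_
        rw [ha, classInner_conj ψ (Y : G → ℂ), hb]
        congr 1
        exact Complex.conj_eq_iff_re.mpr rfl

/-- Let G be a finite group of odd order and (L i, H i), i in a finite index type with at least two elements, pairs of subgroups with H i a nontrivial proper normal subgroup of L i such that every non-identity element of H i has its centraliser within L i contained in H i (L i is a Frobenius group with kernel H i), the orders of the H i pairwise coprime, and the underlying set of each H i a TI-subset of G with normaliser L i. If every non-identity element of G is conjugate to an element of some H i, we reach a contradiction. -/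
theorem result {G : Type*} [Group G] [Finite G] (hodd : Odd (Nat.card G)) {ι : Type*} [Fintype ι] (hι : 2 ≤ Fintype.card ι) (L H : ι → Subgroup G) (hHL : ∀ i, H i < L i) (hH1 : ∀ i, H i ≠ ⊥) (hHn : ∀ i, ∀ x ∈ L i, ∀ h ∈ H i, x * h * x⁻¹ ∈ H i) (hfrob : ∀ i, ∀ h ∈ H i, h ≠ 1 → L i ⊓ Subgroup.centralizer ({h} : Set G) ≤ H i) (hcop : ∀ i j, i ≠ j → Nat.Coprime (Nat.card (H i)) (Nat.card (H j))) (hTI : ∀ i, Cfsg.IsTISubset (H i : Set G) ∧ Subgroup.normalizer (H i : Set G) = L i) (hcover : ∀ g : G, g ≠ 1 → ∃ i, ∃ x : G, x * g * x⁻¹ ∈ H i) : False := by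
  classical
  haveI : Fintype G := Fintype.ofFinite G
  haveI : Fintype (Cfsg.IrrCharacter G) := Fintype.ofFinite _
  haveI : Nonempty ι := Fintype.card_pos_iff.mp (by omega)
  have hN : ∀ i, Subgroup.normalizer (H i : Set G) = L i := fun i => (hTI i).2
  have hdata : ∀ i, ∃ (t e : ℕ) (α : Fin t → G → ℂ) (ε : ℤ) (X : Fin t → Cfsg.IrrCharacter G)
      (σ : Fin t → Fin t), TIData (H i) t e α ε X σ := by
    intro i
    apply exists_tiData hodd (H i) (hH1 i)
    · rw [hN i]; exact hHL i
    · exact (hTI i).1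
    · intro h hh hh1
      rw [hN i]
      exact hfrob i h hh hh1
  choose t e α ε X σ hD using hdata
  have hint : ∀ i r (Y : Cfsg.IrrCharacter G),
      ∃ n : ℤ, Cfsg.classInner (α i r) (Y : G → ℂ) = (n : ℂ) := fun i r Y => (hD i).int r Y
  choose A hA using hint
  -- disjoint supports
  have hsd : ∀ i j, i ≠ j → ∀ r s g, α i r g ≠ 0 → α j s g = 0 := by
    intro i j hij r s g h1
    by_contra h2
    obtain ⟨hg1, x, hx⟩ := (hD i).supp r g h1
    obtain ⟨_, y, hy⟩ := (hD j).supp s g h2
    have ho1 : orderOf g ∣ Nat.card (H i) := by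
      have := Subgroup.orderOf_dvd_natCard (H i) hx
      rwa [← MulAut.conj_apply, MulEquiv.orderOf_eq] at this
    have ho2 : orderOf g ∣ Nat.card (H j) := by
      have := Subgroup.orderOf_dvd_natCard (H j) hy
      rwa [← MulAut.conj_apply, MulEquiv.orderOf_eq] at this
    have : orderOf g ∣ 1 := by
      have h := Nat.dvd_gcd ho1 ho2
      rwa [(hcop i j hij)] at h
    exact hg1 (orderOf_eq_one_iff.1 (Nat.dvd_one.1 this))
  have hα1 : ∀ i r, α i r 1 = 0 := by
    intro i r
    by_contra h
    exact ((hD i).supp r 1 h).1 rfl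
  -- the integer system
  have hsys : ExcSystem (Cfsg.Agent.Helper3.conjIrr) (Cfsg.Agent.Helper79.trivIrr G) t
      (fun i => (e i : ℤ)) A ε X σ := by
    refine { conj_conj := ?_, conj_one := ?_, conj_fix := ?_, two_le := ?_, even := ?_,
             eps := ?_, inj := ?_, gram_same := ?_, gram_diff := ?_, triv := ?_, diff := ?_,
             conj_eq := ?_ }
    · exact fun Y => conjIrr_conjIrr Y
    · apply Subtype.ext
      funext g
      simp [conjIrr_apply]
    · intro Y hY
      have := irr_eq_one_of_real_of_odd hodd Y ((conjIrr_eq_iff Y).mp hY)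
      exact Subtype.ext this
    · exact fun i => (hD i).two_le
    · exact fun i => (hD i).even_t
    · exact fun i => (hD i).eps
    · exact fun i => (hD i).inj
    · intro i r s
      have h1 := parseval_int (α i r) (α i s) ((hD i).cls r) (A i r) (A i s) (hA i r) (hA i s)
      rw [(hD i).gram r s] at h1
      by_cases hrs : r = s
      · rw [if_pos hrs] at h1 ⊢
        exact_mod_cast h1.symm
      · rw [if_neg hrs] at h1 ⊢
        exact_mod_cast h1.symm
    · intro i j hij r s
      have h1 := parseval_int (α i r) (α j s) ((hD i).cls r) (A i r) (A j s) (hA i r) (hA j s)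
      have h2 : Cfsg.classInner (α i r) (α j s) = 0 := by
        unfold Cfsg.classInner
        rw [Finset.sum_eq_zero, mul_zero]
        intro g _
        by_cases h3 : α i r g = 0
        · rw [h3, zero_mul]
        · rw [hsd i j hij r s g h3, map_zero, mul_zero]
      rw [h2] at h1
      exact_mod_cast h1.symm
    · intro i r
      have h1 : ((A i r (Cfsg.Agent.Helper79.trivIrr G) : ℤ) : ℂ) = 1 := by
        rw [← hA i r]
        exact (hD i).triv r
      exact_mod_cast h1
    · intro i r s Y
      have h1 : Cfsg.classInner (α i r - α i s) (Y : G → ℂ) = (A i r Y : ℂ) - A i s Y := by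
        rw [classInner_sub_left, hA, hA]
      rw [(hD i).diff r s, classInner_smul_left', classInner_sub_left, classInner_irr,
        classInner_irr] at h1
      have h2 : ((A i r Y - A i s Y : ℤ) : ℂ)
          = ((ε i * ((if Y = X i s then 1 else 0) - (if Y = X i r then 1 else 0)) : ℤ) : ℂ) := by
        push_cast
        rw [← h1]
        congr 2
        · by_cases h3 : X i s = Y
          · rw [if_pos h3, if_pos h3.symm]
          · rw [if_neg h3, if_neg (fun h => h3 h.symm)]
        · by_cases h3 : X i r = Y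
          · rw [if_pos h3, if_pos h3.symm]
          · rw [if_neg h3, if_neg (fun h => h3 h.symm)]
      exact_mod_cast h2
    · intro i r Y
      have h1 : Cfsg.classInner (α i (σ i r)) (Cfsg.Agent.Helper3.conjIrr Y : G → ℂ)
          = conj (Cfsg.classInner (α i r) (Y : G → ℂ)) := by
        unfold Cfsg.classInner
        rw [map_mul, map_inv₀, Complex.conj_natCast, map_sum]
        congr 1
        refine Finset.sum_congr rfl fun g _ => ?_
        rw [map_mul, (hD i).cconj r g, conjIrr_apply]
      rw [hA, hA] at h1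
      have h2 : conj ((A i r Y : ℤ) : ℂ) = ((A i r Y : ℤ) : ℂ) := Complex.conj_eq_iff_re.mpr rfl
      rw [h2] at h1
      exact_mod_cast h1
  have hGpos : (0 : ℚ) < (Nat.card G : ℚ) := by exact_mod_cast Nat.card_pos
  refine hsys.final (fun i => (hD i).three_le) (fun i => (hD i).odd_e) ?_
    (1 / (Nat.card G : ℚ)) (by positivity) ?_ ?_
  · -- distinctness of the numbers of linear characters
    intro i j hij heq
    have d1 := (hD i).dvd
    have d2 := (hD j).dvd
    rw [heq] at d1
    have h1 := Nat.dvd_gcd d1 d2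
    rw [(hcop i j hij)] at h1
    have h2 := Nat.dvd_one.mp h1
    have h3 := (hD j).two_le
    have h4 := (hD j).three_le
    have h5 : 0 < t j * e j := Nat.mul_pos (by omega) (by omega)
    omega
  · -- Bessel
    intro Y k hpos
    set F : ι → G → ℂ := fun i g => ∑ r, (k i r : ℂ) * α i r g with hF
    have hb : ∀ i, Cfsg.classInner (Y : G → ℂ) (F i)
        = (((∑ r, k i r * A i r Y : ℤ) : ℝ) : ℂ) := by
      intro i
      rw [hF]
      beta_reduce
      rw [classInner_lin_right]
      push_cast
      refine Finset.sum_congr rfl fun r _ => ?_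
      rw [classInner_conj (α i r) (Y : G → ℂ), hA]
      congr 1
      exact Complex.conj_eq_iff_re.mpr rfl
    have hn : ∀ i, Cfsg.classInner (F i) (F i) = ((excNorm (e i : ℤ) (k i) : ℝ) : ℂ) := by
      intro i
      rw [hF]
      beta_reduce
      rw [classInner_lin_lin]
      unfold excNorm
      push_cast
      refine Finset.sum_congr rfl fun r _ => Finset.sum_congr rfl fun s _ => ?_
      rw [(hD i).gram r s]
      by_cases hrs : r = s <;> simp [hrs]
    have hdisj : ∀ i j, i ≠ j → ∀ g, F i g ≠ 0 → F j g = 0 := by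
      intro i j hij g hg
      have hex : ∃ r, α i r g ≠ 0 := by
        by_contra hcon
        push Not at hcon
        apply hg
        show ∑ r, (k i r : ℂ) * α i r g = 0
        apply Finset.sum_eq_zero
        intro r _
        rw [hcon r, mul_zero]
      obtain ⟨r, hr⟩ := hex
      show ∑ s, (k j s : ℂ) * α j s g = 0
      apply Finset.sum_eq_zero
      intro s _
      rw [hsd i j hij r s g hr, mul_zero]
    have h1 : ∀ i, F i 1 = 0 := by
      intro i
      show ∑ r, (k i r : ℂ) * α i r 1 = 0
      apply Finset.sum_eq_zero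
      intro r _
      rw [hα1 i r, mul_zero]
    have hYY : Cfsg.classInner (Y : G → ℂ) (Y : G → ℂ) = ((1 : ℝ) : ℂ) := by
      rw [classInner_irr, if_pos rfl]
      simp
    have hbes := bessel_disjoint (Y : G → ℂ) F hdisj h1
      (fun i => (excNorm (e i : ℤ) (k i) : ℝ)) (fun i => ((∑ r, k i r * A i r Y : ℤ) : ℝ))
      hn hb (fun i => by exact_mod_cast hpos i) 1 hYY
    have hY1 : (1 : ℝ) ≤ ‖(Y : G → ℂ) 1‖ ^ 2 := by
      rw [Cfsg.Agent.Helper80.irr_one_eq Y, Complex.norm_natCast]
      have h2 := Cfsg.Agent.Helper80.irr_degree_pos Y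
      have h3 : (1 : ℝ) ≤ (charDegree (Y : G → ℂ) : ℝ) := by exact_mod_cast h2
      nlinarith
    have hGposR : (0 : ℝ) < (Nat.card G : ℝ) := by exact_mod_cast Nat.card_pos
    have hR : (((∑ i, ((∑ r, k i r * A i r Y : ℤ) : ℚ) ^ 2 / (excNorm (e i : ℤ) (k i) : ℚ)
        + 1 / (Nat.card G : ℚ) : ℚ)) : ℝ) ≤ ((1 : ℚ) : ℝ) := by
      push_cast
      have h4 : (1 : ℝ) / (Nat.card G : ℝ) ≤ ‖(Y : G → ℂ) 1‖ ^ 2 / (Nat.card G : ℝ) :=
        div_le_div_of_nonneg_right hY1 hGposR.le
      push_cast at hbes
      linarith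
    exact_mod_cast hR
  · -- counting
    intro m
    have hcount := Cfsg.Agent.S1527.result H hcop (fun i => (hTI i).1) hcover
    have h1 : ((Nat.card G - 1 : ℕ) : ℚ) = (Nat.card G : ℚ) - 1 := by
      rw [Nat.cast_sub Nat.card_pos]
      simp
    have hterm : ∀ i, (((Subgroup.normalizer (H i : Set G)).index * (Nat.card (H i) - 1) : ℕ) : ℚ)
        = (Nat.card G : ℚ) * (1 / (e i : ℚ) - 1 / ((e i : ℚ) * (Nat.card (H i) : ℚ))) := by
      intro i
      have hidx : ((Subgroup.normalizer (H i : Set G)).index : ℚ)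
          * ((e i : ℚ) * (Nat.card (H i) : ℚ)) = Nat.card G := by
        have := Subgroup.index_mul_card (Subgroup.normalizer (H i : Set G))
        rw [(hD i).card_norm] at this
        exact_mod_cast this
      have hHi : (0 : ℚ) < Nat.card (H i) := by exact_mod_cast Nat.card_pos
      have hei : (0 : ℚ) < e i := by
        have := (hD i).three_le
        exact_mod_cast (by omega : 0 < e i)
      rw [Nat.cast_mul, Nat.cast_sub Nat.card_pos, ← hidx]
      push_cast
      field_simp
    have h2 : (Nat.card G : ℚ) - 1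
        = (Nat.card G : ℚ) * ∑ i, (1 / (e i : ℚ) - 1 / ((e i : ℚ) * (Nat.card (H i) : ℚ))) := by
      rw [← h1, hcount, Nat.cast_sum, Finset.mul_sum]
      exact Finset.sum_congr rfl fun i _ => hterm i
    have h3 : (1 : ℚ) - 1 / (Nat.card G : ℚ)
        = ∑ i, (1 / (e i : ℚ) - 1 / ((e i : ℚ) * (Nat.card (H i) : ℚ))) := by
      have : (1 : ℚ) - 1 / (Nat.card G : ℚ) = ((Nat.card G : ℚ) - 1) / (Nat.card G : ℚ) := by
        field_simp
      rw [this, h2]
      field_simp
    have h4 : ∑ i, (1 / (e i : ℚ) - 1 / ((e i : ℚ) * (Nat.card (H i) : ℚ))) < ∑ i, 1 / (e i : ℚ) := by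
      apply Finset.sum_lt_sum_of_nonempty Finset.univ_nonempty
      intro i _
      have hHi : (0 : ℚ) < Nat.card (H i) := by exact_mod_cast Nat.card_pos
      have hei : (0 : ℚ) < e i := by
        have := (hD i).three_le
        exact_mod_cast (by omega : 0 < e i)
      have : (0 : ℚ) < 1 / ((e i : ℚ) * (Nat.card (H i) : ℚ)) := by positivity
      linarith
    have h5 : ∑ i, 1 / (e i : ℚ) = 1 / (e m : ℚ) + ∑ i ∈ Finset.univ.erase m, 1 / (e i : ℚ) :=
      (Finset.add_sum_erase Finset.univ (fun i => 1 / (e i : ℚ)) (Finset.mem_univ m)).symm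
    linarith

end Cfsg.Agent.S1526
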