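import Cfsg.Statements.S0740
-- import your own Cfsg.Agent.* helpers here

set_option autoImplicit false
open Cfsg


namespace Cfsg.Agent.S0740

open MulAction

section core

open Classical

variable {G Ω : Type*} [Group G] [MulAction G Ω] [Fintype Ω]

lemma card_fixedBy_eq (s : G) :
    Nat.card (fixedBy Ω s) = (MulAction.toPerm s : Equiv.Perm Ω).supportᶜ.card := by
  rw [← Nat.card_eq_finsetCard]
  apply Nat.card_congr
  exact Equiv.subtypeEquivRight (fun x => by simp [MulAction.mem_fixedBy])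

lemma card_fixedBy_le_two
    (h3 : ∀ g : G, ∀ a b c : Ω, a ≠ b → b ≠ c → a ≠ c → g • a = a → g • b = b → g • c = c → g = 1)
    (s : G) (hs : s ≠ 1) : Nat.card (fixedBy Ω s) ≤ 2 := by
  rw [card_fixedBy_eq]
  by_contra hcon
  push Not at hcon
  rw [Finset.two_lt_card] at hcon
  obtain ⟨x, hx, y, hy, z, hz, hxy, hxz, hyz⟩ := hcon
  simp only [Finset.mem_compl, Equiv.Perm.mem_support, not_not, MulAction.toPerm_apply] at hx hy hz
  exact hs (h3 s x y z hxy hyz hxz hx hy hz)

lemma card_fixedBy_modEq (s : G) (hs : s * s = 1) :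
    Nat.card (fixedBy Ω s) ≡ Fintype.card Ω [MOD 2] := by
  rw [card_fixedBy_eq]
  have : Fact (Nat.Prime 2) := ⟨Nat.prime_two⟩
  apply Equiv.Perm.card_compl_support_modEq (n := 1)
  rw [pow_one, pow_two]
  ext x
  rw [Equiv.Perm.mul_apply, MulAction.toPerm_apply, MulAction.toPerm_apply, ← mul_smul, hs, one_smul]
  rfl

lemma two_le_card_fixedBy (s : G) {x y : Ω} (hxy : x ≠ y) (hx : s • x = x) (hy : s • y = y) :
    2 ≤ Nat.card (fixedBy Ω s) := by
  rw [card_fixedBy_eq, Nat.succ_le_iff, Finset.one_lt_card]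
  exact ⟨x, by simp [hx], y, by simp [hy], hxy⟩

omit [Fintype Ω] in
lemma orderOf_two {s : G} (hs : s ≠ 1) (hs2 : s * s = 1) : orderOf s = 2 := by
  have : Fact (Nat.Prime 2) := ⟨Nat.prime_two⟩
  exact orderOf_eq_prime (by rw [pow_two]; exact hs2) hs

lemma exists_swap_of_even [Finite G] [FaithfulSMul G Ω]
    (h2 : ∀ x y x' y' : Ω, x ≠ y → x' ≠ y' → ∃ g : G, g • x = x' ∧ g • y = y')
    (h3 : ∀ g : G, ∀ a b c : Ω, a ≠ b → b ≠ c → a ≠ c → g • a = a → g • b = b → g • c = c → g = 1)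
    {a b : Ω} (hab : a ≠ b) (heven : Even (Nat.card ↥(stabilizer G a ⊓ stabilizer G b))) :
    ∃ s : G, orderOf s = 2 ∧ s • a = b ∧ s • b = a ∧ Nat.card (fixedBy Ω s) = 2 := by
  have : Fact (Nat.Prime 2) := ⟨Nat.prime_two⟩
  obtain ⟨h, hh⟩ := exists_prime_orderOf_dvd_card' (G := ↥(stabilizer G a ⊓ stabilizer G b)) 2
    (even_iff_two_dvd.mp heven)
  have hmem := h.2
  rw [Subgroup.mem_inf, mem_stabilizer_iff, mem_stabilizer_iff] at hmem
  have hne : (h : G) ≠ 1 := by
    intro h1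
    have h1' : h = 1 := Subtype.ext h1
    rw [h1', orderOf_one] at hh
    omega
  have hsq : (h : G) * (h : G) = 1 := by
    have h1 := pow_orderOf_eq_one h
    rw [hh, pow_two] at h1
    exact congrArg Subtype.val h1
  generalize (h : G) = t at hmem hne hsq
  obtain ⟨c, hc⟩ : ∃ c : Ω, t • c ≠ c := by
    by_contra hcon
    push Not at hcon
    exact hne (FaithfulSMul.eq_of_smul_eq_smul (α := Ω) (fun x => by rw [hcon x, one_smul]))
  obtain ⟨g, hg1, hg2⟩ := h2 c (t • c) a b (Ne.symm hc) hab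
  have hsa : (g * t * g⁻¹) • a = b := by
    rw [mul_smul, mul_smul, ← hg1, inv_smul_smul, hg2]
  have hsb : (g * t * g⁻¹) • b = a := by
    rw [mul_smul, mul_smul, ← hg2, inv_smul_smul, smul_smul t t c, hsq, one_smul, hg1]
  have hs2 : (g * t * g⁻¹) * (g * t * g⁻¹) = 1 := by
    calc (g * t * g⁻¹) * (g * t * g⁻¹) = g * (t * t) * g⁻¹ := by group
      _ = 1 := by rw [hsq]; group
  have hs1 : g * t * g⁻¹ ≠ 1 := by
    intro h1
    rw [h1, one_smul] at hsa
    exact hab hsa
  refine ⟨g * t * g⁻¹, orderOf_two hs1 hs2, hsa, hsb, ?_⟩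
  refine le_antisymm (card_fixedBy_le_two h3 _ hs1) (two_le_card_fixedBy _ (x := g • a) (y := g • b)
    (fun he => hab (smul_left_cancel g he)) ?_ ?_)
  · rw [mul_smul, mul_smul, inv_smul_smul, hmem.1]
  · rw [mul_smul, mul_smul, inv_smul_smul, hmem.2]

omit [Fintype Ω] in
lemma exists_swap_of_odd
    (h2 : ∀ x y x' y' : Ω, x ≠ y → x' ≠ y' → ∃ g : G, g • x = x' ∧ g • y = y')
    {a b : Ω} (hab : a ≠ b) (hodd : Odd (Nat.card ↥(stabilizer G a ⊓ stabilizer G b))) :
    ∃ s : G, orderOf s = 2 ∧ s • a = b ∧ s • b = a := by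
  obtain ⟨g, hg1, hg2⟩ := h2 a b b a hab (Ne.symm hab)
  have hga : g * g ∈ stabilizer G a := by
    rw [mem_stabilizer_iff, mul_smul, hg1, hg2]
  have hgb : g * g ∈ stabilizer G b := by
    rw [mem_stabilizer_iff, mul_smul, hg2, hg1]
  have hg2mem : g * g ∈ stabilizer G a ⊓ stabilizer G b := ⟨hga, hgb⟩
  have hpow : (g * g) ^ Nat.card ↥(stabilizer G a ⊓ stabilizer G b) = 1 := by
    have h1 := pow_card_eq_one' (G := ↥(stabilizer G a ⊓ stabilizer G b)) (x := ⟨g * g, hg2mem⟩)
    exact congrArg Subtype.val h1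
  obtain ⟨k, hk⟩ := hodd
  have hs : g ^ Nat.card ↥(stabilizer G a ⊓ stabilizer G b) = (g * g) ^ k * g := by
    rw [hk, pow_succ, pow_mul, pow_two]
  have hka : ((g * g) ^ k) • a = a := mem_stabilizer_iff.mp (Subgroup.pow_mem _ hga k)
  have hkb : ((g * g) ^ k) • b = b := mem_stabilizer_iff.mp (Subgroup.pow_mem _ hgb k)
  have hsa : (g ^ Nat.card ↥(stabilizer G a ⊓ stabilizer G b)) • a = b := by
    rw [hs, mul_smul, hg1, hkb]
  have hsb : (g ^ Nat.card ↥(stabilizer G a ⊓ stabilizer G b)) • b = a := by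
    rw [hs, mul_smul, hg2, hka]
  have hs2 : (g ^ Nat.card ↥(stabilizer G a ⊓ stabilizer G b))
      * (g ^ Nat.card ↥(stabilizer G a ⊓ stabilizer G b)) = 1 := by
    rw [← pow_add, ← two_mul, pow_mul, pow_two, hpow]
  have hs1 : g ^ Nat.card ↥(stabilizer G a ⊓ stabilizer G b) ≠ 1 := by
    intro h1
    rw [h1, one_smul] at hsa
    exact hab hsa
  exact ⟨_, orderOf_two hs1 hs2, hsa, hsb⟩

end core

/-- In a finite Zassenhaus group any two points `a ≠ b` are swapped by an involution; every such involution has exactly one fixed point when the degree is odd and 0 or 2 fixed points when the degree is even; and if the two-point stabiliser has even order, some such involution has exactly 2 fixed points. -/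
theorem result {G Ω : Type*} [Group G] [Finite G] [MulAction G Ω] [Fintype Ω] (hZ : Cfsg.IsZassenhausGroup G Ω) {a b : Ω} (hab : a ≠ b) : (∃ s : G, orderOf s = 2 ∧ s • a = b ∧ s • b = a) ∧ (∀ s : G, orderOf s = 2 → s • a = b → s • b = a → (Odd (Fintype.card Ω) → Nat.card (MulAction.fixedBy Ω s) = 1) ∧ (Even (Fintype.card Ω) → Nat.card (MulAction.fixedBy Ω s) = 0 ∨ Nat.card (MulAction.fixedBy Ω s) = 2)) ∧ (Even (Fintype.card Ω) → Even (Nat.card ↥(MulAction.stabilizer G a ⊓ MulAction.stabilizer G b)) → ∃ s : G, orderOf s = 2 ∧ s • a = b ∧ s • b = a ∧ Nat.card (MulAction.fixedBy Ω s) = 2) := by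
  obtain ⟨hfaith, h2, h3, _, _⟩ := hZ
  rw [MulAction.is_two_pretransitive_iff] at h2
  have h2' : ∀ x y x' y' : Ω, x ≠ y → x' ≠ y' → ∃ g : G, g • x = x' ∧ g • y = y' :=
    fun x y x' y' h h' => h2 h h'
  refine ⟨?_, ?_, ?_⟩
  · rcases Nat.even_or_odd (Nat.card ↥(stabilizer G a ⊓ stabilizer G b)) with he | ho
    · obtain ⟨s, hs1, hs2, hs3, _⟩ := exists_swap_of_even h2' h3 hab he
      exact ⟨s, hs1, hs2, hs3⟩
    · exact exists_swap_of_odd h2' hab ho
  · intro s hs _ _
    have hs1 : s ≠ 1 := by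
      rintro rfl
      rw [orderOf_one] at hs
      omega
    have hs2 : s * s = 1 := by rw [← pow_two, ← hs, pow_orderOf_eq_one]
    have hle := card_fixedBy_le_two h3 s hs1
    have hmod := card_fixedBy_modEq (Ω := Ω) s hs2
    unfold Nat.ModEq at hmod
    constructor
    · intro hodd
      have : Fintype.card Ω % 2 = 1 := Nat.odd_iff.mp hodd
      omega
    · intro heven
      have : Fintype.card Ω % 2 = 0 := Nat.even_iff.mp heven
      omega
  · intro _ he
    exact exists_swap_of_even h2' h3 hab he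

end Cfsg.Agent.S0740
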