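import Cfsg.Statements.S0739
import Cfsg.Agent.Helper56.ZFrob
import Cfsg.Agent.Helper59.FpfOdd
import Cfsg.Agent.S0740

set_option autoImplicit false
open Cfsg

namespace Cfsg.Agent.S0739

open MulAction Cfsg.Agent.Helper56 Cfsg.Agent.Helper59

/-- An element of odd order cannot swap two distinct points. -/
theorem no_swap_of_odd {G Ω : Type*} [Group G] [MulAction G Ω] {a b : Ω} (hab : a ≠ b) {g : G}
    (hg : Odd (orderOf g)) (h1 : g • a = b) (h2 : g • b = a) : False := by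
  have h3 : ∀ n : ℕ, (g ^ (2 * n)) • a = a := by
    intro n
    induction n with
    | zero => simp
    | succ n ih =>
      have : g ^ (2 * (n + 1)) = g ^ (2 * n) * (g * g) := by
        rw [← pow_two, ← pow_add, mul_add, mul_one]
      rw [this, mul_smul, mul_smul, h1, h2, ih]
  obtain ⟨m, hm⟩ := hg
  have h4 : g ^ (2 * (m + 1)) = g := by
    have : 2 * (m + 1) = orderOf g + 1 := by omega
    rw [this, pow_succ, pow_orderOf_eq_one, one_mul]
  have h5 := h3 (m + 1)
  rw [h4, h1] at h5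
  exact hab h5.symm

/-- The two-point stabiliser of a Zassenhaus group is not trivial. -/
theorem exists_ne_one {G Ω : Type*} [Group G] [MulAction G Ω]
    (hZ : Cfsg.IsZassenhausGroup G Ω) {a b : Ω} (hab : a ≠ b) :
    ∃ g : G, g ≠ 1 ∧ g • a = a ∧ g • b = b := by
  obtain ⟨-, h2, -, hex, -⟩ := hZ
  rw [MulAction.is_two_pretransitive_iff] at h2
  obtain ⟨g, hg1, a', b', hab', hga, hgb⟩ := hex
  obtain ⟨t, hta, htb⟩ := h2 hab' hab
  refine ⟨t * g * t⁻¹, ?_, ?_, ?_⟩
  · intro h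
    apply hg1
    have : g = t⁻¹ * (t * g * t⁻¹) * t := by group
    rw [this, h]; group
  · rw [mul_smul, mul_smul, ← hta, inv_smul_smul, hga]
  · rw [mul_smul, mul_smul, ← htb, inv_smul_smul, hgb]

/-- The two-point stabiliser of a Zassenhaus group has a fixed-point-free ring
representation. -/
theorem exists_fpf.{u, v} {G : Type u} {Ω : Type v} [Group G] [Finite G] [MulAction G Ω]
    (hZ : Cfsg.IsZassenhausGroup G Ω) {a b : Ω} (hab : a ≠ b) :
    ∃ (R : Type u) (_ : Ring R) (_ : Nontrivial R)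
      (ρ : ↥(stabilizer G a ⊓ stabilizer G b) →* R), Fpf ρ := by
  obtain ⟨g0, hg01, hg0a, hg0b⟩ := exists_ne_one hZ hab
  obtain ⟨hfaith, h2, h3, hex, -⟩ := hZ
  rw [MulAction.is_two_pretransitive_iff] at h2
  -- a third point
  obtain ⟨c, hc⟩ : ∃ c : Ω, g0 • c ≠ c := by
    by_contra hno
    push Not at hno
    apply hg01
    apply hfaith.eq_of_smul_eq_smul
    intro c
    rw [hno c, one_smul]
  have hca : c ≠ a := by rintro rfl; exact hc hg0a
  have hcb : c ≠ b := by rintro rfl; exact hc hg0b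
  have hFC : Cfsg.IsFrobeniusComplement
      ((stabilizer G a ⊓ stabilizer G b).subgroupOf (stabilizer G a)) := by
    refine ⟨?_, ?_, ?_⟩
    · intro hbot
      have h1 : (⟨g0, hg0a⟩ : stabilizer G a) ∈
          (stabilizer G a ⊓ stabilizer G b).subgroupOf (stabilizer G a) := by
        rw [Subgroup.mem_subgroupOf]
        exact ⟨hg0a, hg0b⟩
      rw [hbot, Subgroup.mem_bot] at h1
      exact hg01 (congrArg Subtype.val h1)
    · intro htop
      obtain ⟨t, hta, htb⟩ := h2 hab (Ne.symm hca)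
      have h1 : (⟨t, hta⟩ : stabilizer G a) ∈
          (stabilizer G a ⊓ stabilizer G b).subgroupOf (stabilizer G a) := by
        rw [htop]; exact Subgroup.mem_top _
      rw [Subgroup.mem_subgroupOf] at h1
      have h2' : t • b = b := h1.2
      rw [htb] at h2'
      exact hcb h2'
    · intro g hg
      rw [Subgroup.eq_bot_iff_forall]
      intro y hy
      rw [Subgroup.mem_inf] at hy
      obtain ⟨hy1, hy2⟩ := hy
      rw [Subgroup.mem_subgroupOf] at hg
      have hga : (g : G) • a = a := g.2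
      have hgb : (g : G) • b ≠ b := fun h => hg ⟨hga, h⟩
      have hya : (y : G) • a = a := y.2
      have hyb : (y : G) • b = b := by
        rw [Subgroup.mem_subgroupOf] at hy1
        exact hy1.2
      have hygb : (y : G) • ((g : G) • b) = (g : G) • b := by
        rw [Subgroup.mem_pointwise_smul_iff_inv_smul_mem,
          Subgroup.mem_subgroupOf] at hy2
        have h4 : ((g : G)⁻¹ * (y : G) * (g : G)) • b = b := by
          have := hy2.2
          simpa [MulAut.smul_def, mul_assoc] using this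
        rw [mul_smul, mul_smul, inv_smul_eq_iff] at h4
        exact h4
      have hgba : (g : G) • b ≠ a := by
        intro h
        exact hab (smul_left_cancel (g : G) (h.trans hga.symm)).symm
      have hy1' : (y : G) = 1 :=
        h3 (y : G) a b ((g : G) • b) hab (Ne.symm hgb) (Ne.symm hgba) hya hyb hygb
      exact Subtype.ext hy1'
  obtain ⟨R, hR, hRn, ρ, hρ⟩ := frobComp_fpf_ring _ hFC
  refine ⟨R, hR, hRn,
    ρ.comp (Subgroup.subgroupOfEquivOfLe (inf_le_left : stabilizer G a ⊓ stabilizer G b ≤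
      stabilizer G a)).symm.toMonoidHom, ?_⟩
  exact hρ.comp _ (fun x y hxy => (Subgroup.subgroupOfEquivOfLe (inf_le_left :
    stabilizer G a ⊓ stabilizer G b ≤ stabilizer G a)).symm.injective hxy)

section

variable {G : Type*} {Ω : Type*} [Group G] [MulAction G Ω] {a b : Ω} {H : Subgroup G}
  {τ : G}

theorem perm_of_commute (hab : a ≠ b) (hHa : ∀ h ∈ H, h • a = a) (hHb : ∀ h ∈ H, h • b = b)
    (hfix : ∀ h ∈ H, h ≠ 1 → ∀ c : Ω, h • c = c → c = a ∨ c = b)
    {z : G} (hz : z ∈ H) (hz1 : z ≠ 1) {g : G} (hgz : Commute g z) :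
    (g • a = a ∧ g • b = b) ∨ (g • a = b ∧ g • b = a) := by
  have h1 : z • (g • a) = g • a := by
    rw [← mul_smul, ← hgz.eq, mul_smul, hHa z hz]
  have h2 : z • (g • b) = g • b := by
    rw [← mul_smul, ← hgz.eq, mul_smul, hHb z hz]
  rcases hfix z hz hz1 _ h1 with h1' | h1' <;> rcases hfix z hz hz1 _ h2 with h2' | h2'
  · exact (hab (smul_left_cancel g (h1'.trans h2'.symm))).elim
  · exact Or.inl ⟨h1', h2'⟩
  · exact Or.inr ⟨h1', h2'⟩
  · exact (hab (smul_left_cancel g (h1'.trans h2'.symm))).elim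

theorem tau_conj_mem (hHa : ∀ h ∈ H, h • a = a) (hHb : ∀ h ∈ H, h • b = b)
    (hHmem : ∀ g : G, g • a = a → g • b = b → g ∈ H) (hτ2 : τ * τ = 1) (hτa : τ • a = b)
    (hτb : τ • b = a) {h : G} (hh : h ∈ H) : τ * h * τ⁻¹ ∈ H := by
  have hinv : τ⁻¹ = τ := inv_eq_of_mul_eq_one_left hτ2
  apply hHmem
  · rw [hinv, mul_smul, mul_smul, hτa, hHb h hh, hτb]
  · rw [hinv, mul_smul, mul_smul, hτb, hHa h hh, hτa]

theorem tau_decomp (hτH : ∀ h ∈ H, τ * h * τ⁻¹ ∈ H) (hodd : Odd (Nat.card H))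
    (hτ2 : τ * τ = 1) {h : G} (hh : h ∈ H) :
    ∃ c w : G, c ∈ H ∧ w ∈ H ∧ τ * c * τ⁻¹ = c ∧ τ * w * τ⁻¹ = w⁻¹ ∧ h = c * w⁻¹ ∧
      w ∈ Subgroup.zpowers (h⁻¹ * (τ * h * τ⁻¹)) := by
  have hinv : τ⁻¹ = τ := inv_eq_of_mul_eq_one_left hτ2
  have hyH : h⁻¹ * (τ * h * τ⁻¹) ∈ H := H.mul_mem (H.inv_mem hh) (hτH h hh)
  obtain ⟨m, hm⟩ := Odd.of_dvd_nat hodd (Subgroup.orderOf_dvd_natCard H hyH)
  have hτy : τ * (h⁻¹ * (τ * h * τ⁻¹)) * τ⁻¹ = (h⁻¹ * (τ * h * τ⁻¹))⁻¹ := by
    rw [hinv]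
    calc τ * (h⁻¹ * (τ * h * τ)) * τ = τ * h⁻¹ * τ * h * (τ * τ) := by group
      _ = τ * h⁻¹ * τ * h := by rw [hτ2, mul_one]
      _ = τ⁻¹ * h⁻¹ * τ⁻¹ * h := by rw [hinv]
      _ = (h⁻¹ * (τ * h * τ))⁻¹ := by group
  have hww : (h⁻¹ * (τ * h * τ⁻¹)) ^ (m + 1) * (h⁻¹ * (τ * h * τ⁻¹)) ^ (m + 1) =
      h⁻¹ * (τ * h * τ⁻¹) := by
    rw [← pow_add]
    have : m + 1 + (m + 1) = orderOf (h⁻¹ * (τ * h * τ⁻¹)) + 1 := by omega
    rw [this, pow_succ, pow_orderOf_eq_one, one_mul]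
  have hτw : τ * (h⁻¹ * (τ * h * τ⁻¹)) ^ (m + 1) * τ⁻¹ =
      ((h⁻¹ * (τ * h * τ⁻¹)) ^ (m + 1))⁻¹ := by
    rw [← conj_pow, hτy, inv_pow]
  refine ⟨h * (h⁻¹ * (τ * h * τ⁻¹)) ^ (m + 1), (h⁻¹ * (τ * h * τ⁻¹)) ^ (m + 1),
    H.mul_mem hh (H.pow_mem hyH _), H.pow_mem hyH _, ?_, hτw, by group, ?_⟩
  · have h1 : τ * (h * (h⁻¹ * (τ * h * τ⁻¹)) ^ (m + 1)) * τ⁻¹ =
        (τ * h * τ⁻¹) * (τ * (h⁻¹ * (τ * h * τ⁻¹)) ^ (m + 1) * τ⁻¹) := by group
    have h2 : τ * h * τ⁻¹ = h * (h⁻¹ * (τ * h * τ⁻¹)) := by group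
    rw [h1, hτw]
    nth_rewrite 1 [h2]
    nth_rewrite 1 [← hww]
    group
  · exact Subgroup.pow_mem _ (Subgroup.mem_zpowers _) _

theorem all_commute [Finite G] (hτH : ∀ h ∈ H, τ * h * τ⁻¹ ∈ H) (hodd : Odd (Nat.card H))
    (hτ2 : τ * τ = 1) {x : G} (hτx : Commute τ x) {r : ℕ} (hr : r.Prime)
    (hox : orderOf x = r)
    (hmin : r = (Nat.card ↥(H ⊓ Subgroup.centralizer {τ})).minFac)
    (hX : ∀ h ∈ H, ∃ n : ℕ, h * x * h⁻¹ = x ^ n) : ∀ h ∈ H, Commute h x := by
  have : Fact r.Prime := ⟨hr⟩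
  have hinv : τ⁻¹ = τ := inv_eq_of_mul_eq_one_left hτ2
  have hA1 : ∀ c ∈ H, τ * c * τ⁻¹ = c → Commute c x := by
    intro c hc hτc
    obtain ⟨n, hn⟩ := hX c hc
    have hcC : c ∈ H ⊓ Subgroup.centralizer {τ} := by
      refine Subgroup.mem_inf.mpr ⟨hc, ?_⟩
      rw [Subgroup.mem_centralizer_singleton_iff]
      calc c * τ = τ * c * τ⁻¹ * τ := by rw [hτc]
        _ = τ * c := by group
    have ho : orderOf c ∣ Nat.card ↥(H ⊓ Subgroup.centralizer {τ}) :=
      Subgroup.orderOf_dvd_natCard _ hcC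
    have h1 : x ^ (n ^ orderOf c) = x ^ 1 := by
      rw [← fpfOdd_conj_pow hn (orderOf c), pow_orderOf_eq_one]
      simp
    have h2 : n ^ orderOf c ≡ 1 [MOD r] := hox ▸ pow_eq_pow_iff_modEq.mp h1
    have h3 : ((n : ℕ) : ZMod r) ^ orderOf c = 1 := by
      have := (ZMod.natCast_eq_natCast_iff _ _ _).mpr h2
      simpa using this
    have hn0 : ((n : ℕ) : ZMod r) ≠ 0 := by
      intro h0
      rw [h0, zero_pow (orderOf_pos c).ne'] at h3
      exact zero_ne_one h3
    have h4 : ((n : ℕ) : ZMod r) ^ (r - 1) = 1 := ZMod.pow_card_sub_one_eq_one hn0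
    have h5 : orderOf ((n : ℕ) : ZMod r) ∣ Nat.gcd (orderOf c) (r - 1) :=
      Nat.dvd_gcd (orderOf_dvd_of_pow_eq_one h3) (orderOf_dvd_of_pow_eq_one h4)
    have h6 : Nat.gcd (orderOf c) (r - 1) = 1 := by
      by_contra hne
      obtain ⟨q, hq, hqd⟩ := Nat.exists_prime_and_dvd hne
      have hq1 : q ∣ orderOf c := dvd_trans hqd (Nat.gcd_dvd_left _ _)
      have hq2 : q ∣ r - 1 := dvd_trans hqd (Nat.gcd_dvd_right _ _)
      have hq3 : r ≤ q := by
        rw [hmin]
        exact Nat.minFac_le_of_dvd hq.two_le (dvd_trans hq1 ho)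
      have hq4 : q ≤ r - 1 := Nat.le_of_dvd (by have := hr.one_lt; omega) hq2
      have := hr.one_lt
      omega
    rw [h6, Nat.dvd_one, orderOf_eq_one_iff] at h5
    have h7 : n ≡ 1 [MOD r] := by
      apply (ZMod.natCast_eq_natCast_iff _ _ _).mp
      simpa using h5
    have h8 : x ^ n = x ^ 1 := pow_eq_pow_iff_modEq.mpr (hox ▸ h7)
    rw [h8, pow_one] at hn
    show c * x = x * c
    calc c * x = c * x * c⁻¹ * c := by group
      _ = x * c := by rw [hn]
  intro h hh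
  obtain ⟨c, w, hcH, hwH, hτc, hτw, hcw, hwz⟩ := tau_decomp hτH hodd hτ2 hh
  have hcx := hA1 c hcH hτc
  have hyx : Commute (h⁻¹ * (τ * h * τ⁻¹)) x := by
    obtain ⟨n, hn⟩ := hX h hh
    have e1 : τ⁻¹ * x * τ = x := by
      calc τ⁻¹ * x * τ = τ⁻¹ * (x * τ) := by group
        _ = τ⁻¹ * (τ * x) := by rw [hτx.eq]
        _ = x := by group
    have h1 : (τ * h * τ⁻¹) * x * (τ * h * τ⁻¹)⁻¹ = x ^ n := by
      calc (τ * h * τ⁻¹) * x * (τ * h * τ⁻¹)⁻¹ = τ * (h * (τ⁻¹ * x * τ) * h⁻¹) * τ⁻¹ := by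
            group
        _ = τ * x ^ n * τ⁻¹ := by rw [e1, hn]
        _ = x ^ n := by rw [(hτx.pow_right n).eq, mul_inv_cancel_right]
    have e2 : (τ * h * τ⁻¹) * x = x ^ n * (τ * h * τ⁻¹) := by
      rw [← h1]; group
    have e3 : h⁻¹ * x ^ n = x * h⁻¹ := by
      rw [← hn]; group
    show h⁻¹ * (τ * h * τ⁻¹) * x = x * (h⁻¹ * (τ * h * τ⁻¹))
    calc h⁻¹ * (τ * h * τ⁻¹) * x = h⁻¹ * ((τ * h * τ⁻¹) * x) := by group
      _ = h⁻¹ * x ^ n * (τ * h * τ⁻¹) := by rw [e2]; group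
      _ = x * (h⁻¹ * (τ * h * τ⁻¹)) := by rw [e3]; group
  have hwx : Commute w x := by
    obtain ⟨k, rfl⟩ := Subgroup.mem_zpowers_iff.mp hwz
    exact hyx.zpow_left k
  rw [hcw]
  exact hcx.mul_left hwx.inv_left

theorem exists_normal_of_central [Finite G] {R : Type*} [Ring R] [Nontrivial R] (hab : a ≠ b)
    (hHa : ∀ h ∈ H, h • a = a) (hHb : ∀ h ∈ H, h • b = b)
    (hHmem : ∀ g : G, g • a = a → g • b = b → g ∈ H)
    (hfix : ∀ h ∈ H, h ≠ 1 → ∀ c : Ω, h • c = c → c = a ∨ c = b)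
    {ρ : H →* R} (hρ : Fpf ρ) (hτa : τ • a = b) (hτb : τ • b = a)
    {r : ℕ} (hr : r.Prime) (hr2 : r ≠ 2) {x : G} (hxH : x ∈ H) (hx1 : x ≠ 1) (hxr : x ^ r = 1)
    (hτx : Commute τ x) (hA : ∀ h ∈ H, Commute h x) :
    ∃ N : Subgroup G, N.Normal ∧ N.index = r ^ (Nat.card G).factorization r := by
  have : Fact r.Prime := ⟨hr⟩
  have hrodd : Odd r := hr.odd_of_ne_two hr2
  have hxP : IsPGroup r (Subgroup.zpowers x) := by
    apply IsPGroup.of_card (n := 1)
    rw [Nat.card_zpowers, orderOf_eq_prime hxr hx1, pow_one]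
  obtain ⟨P, hP⟩ := hxP.exists_le_sylow
  have hxP' : x ∈ (P : Subgroup G) := hP (Subgroup.mem_zpowers x)
  have hoddP : ∀ g ∈ (P : Subgroup G), Odd (orderOf g) := by
    intro g hg
    obtain ⟨k, hk⟩ := P.isPGroup' ⟨g, hg⟩
    have h1 : g ^ r ^ k = 1 := by simpa using congrArg Subtype.val hk
    exact Odd.of_dvd_nat hrodd.pow (orderOf_dvd_of_pow_eq_one h1)
  have hoddH : ∀ z ∈ H, z ≠ 1 → ∀ g : G, Commute g z → Odd (orderOf g) → g ∈ H := by
    intro z hz hz1 g hgz hg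
    rcases perm_of_commute hab hHa hHb hfix hz hz1 hgz with ⟨h1, h2⟩ | ⟨h1, h2⟩
    · exact hHmem g h1 h2
    · exact (no_swap_of_odd hab hg h1 h2).elim
  have hPnt : Nontrivial (P : Subgroup G) :=
    ⟨⟨⟨x, hxP'⟩, 1, fun h => hx1 (congrArg Subtype.val h)⟩⟩
  obtain ⟨z, hzc, hz1⟩ : ∃ z : (P : Subgroup G), z ∈ Subgroup.center (P : Subgroup G) ∧ z ≠ 1 := by
    have := P.isPGroup'.center_nontrivial
    obtain ⟨⟨z, hz⟩, hz1⟩ := exists_ne (1 : Subgroup.center (P : Subgroup G))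
    exact ⟨z, hz, fun h => hz1 (Subtype.ext h)⟩
  have hzH : (z : G) ∈ H := by
    apply hoddH x hxH hx1 _ _ (hoddP _ z.2)
    have := Subgroup.mem_center_iff.mp hzc ⟨x, hxP'⟩
    exact (congrArg Subtype.val this).symm
  have hz1' : (z : G) ≠ 1 := fun h => hz1 (Subtype.ext h)
  have hPH : (P : Subgroup G) ≤ H := by
    intro g hg
    apply hoddH z hzH hz1' g _ (hoddP g hg)
    have := Subgroup.mem_center_iff.mp hzc ⟨g, hg⟩
    exact congrArg Subtype.val this
  have hcyc : IsCyclic (P : Subgroup G) :=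
    (hρ.comp (Subgroup.inclusion hPH) (Subgroup.inclusion_injective hPH)).isCyclic_of_odd hr2
      P.isPGroup'
  obtain ⟨u, hu⟩ := hcyc.exists_generator
  have hgen : ∀ g ∈ (P : Subgroup G), ∃ n : ℕ, g = (u : G) ^ n := by
    intro g hg
    have := hu ⟨g, hg⟩
    rw [← mem_powers_iff_mem_zpowers] at this
    obtain ⟨n, hn⟩ := this
    exact ⟨n, by simpa using (congrArg Subtype.val hn).symm⟩
  have hou : orderOf (u : G) = r ^ (Nat.card G).factorization r := by
    rw [Subgroup.orderOf_coe, orderOf_eq_card_of_forall_mem_zpowers hu, Sylow.card_eq_multiplicity]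
  have hNx : ∀ g ∈ Subgroup.normalizer ((P : Subgroup G) : Set G), Commute g x := by
    intro g hg
    have hgx : g * x * g⁻¹ ∈ H := hPH ((Subgroup.mem_normalizer_iff.mp hg x).mp hxP')
    have hgx1 : g * x * g⁻¹ ≠ 1 := by
      intro h
      exact hx1 (conj_eq_one_iff.mp h)
    have h1 : (g * x * g⁻¹) • (g • a) = g • a := by
      rw [mul_smul, mul_smul, inv_smul_smul, hHa x hxH]
    have h2 : (g * x * g⁻¹) • (g • b) = g • b := by
      rw [mul_smul, mul_smul, inv_smul_smul, hHb x hxH]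
    rcases hfix _ hgx hgx1 _ h1 with h1' | h1' <;> rcases hfix _ hgx hgx1 _ h2 with h2' | h2'
    · exact (hab (smul_left_cancel g (h1'.trans h2'.symm))).elim
    · exact hA g (hHmem g h1' h2')
    · have h3 : τ * g ∈ H :=
        hHmem _ (by rw [mul_smul, h1', hτb]) (by rw [mul_smul, h2', hτa])
      have h4 := hA _ h3
      have h5 : g = τ⁻¹ * (τ * g) := by group
      rw [h5]
      exact hτx.inv_left.mul_left h4
    · exact (hab (smul_left_cancel g (h1'.trans h2'.symm))).elim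
  have hNC : Subgroup.normalizer ((P : Subgroup G) : Set G) ≤
      Subgroup.centralizer ((P : Subgroup G) : Set G) := by
    intro g hg
    have hgu : g * (u : G) * g⁻¹ ∈ (P : Subgroup G) :=
      (Subgroup.mem_normalizer_iff.mp hg u).mp u.2
    obtain ⟨k, hk⟩ := hgen _ hgu
    obtain ⟨i, hi⟩ := hgen x hxP'
    have hj : Nat.Coprime
        ((P : Subgroup G).relIndex (Subgroup.normalizer ((P : Subgroup G) : Set G))) r := by
      rw [Nat.coprime_comm, Nat.Prime.coprime_iff_not_dvd hr]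
      intro hd
      exact P.not_dvd_index (dvd_trans hd (Subgroup.relIndex_dvd_index_of_le Subgroup.le_normalizer))
    have hgj : g ^ ((P : Subgroup G).relIndex (Subgroup.normalizer ((P : Subgroup G) : Set G))) ∈
        (P : Subgroup G) := by
      have hn : ((P : Subgroup G).subgroupOf
          (Subgroup.normalizer ((P : Subgroup G) : Set G))).Normal := Subgroup.normal_in_normalizer
      have := Subgroup.pow_index_mem ((P : Subgroup G).subgroupOf
          (Subgroup.normalizer ((P : Subgroup G) : Set G))) ⟨g, hg⟩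
      rw [Subgroup.mem_subgroupOf, Subgroup.coe_pow] at this
      exact this
    have hgju : Commute
        (g ^ ((P : Subgroup G).relIndex (Subgroup.normalizer ((P : Subgroup G) : Set G))))
        (u : G) := by
      obtain ⟨n, hn⟩ := hgen _ hgj
      rw [hn]
      exact (Commute.refl (u : G)).pow_left n
    have hgx := hNx g hg
    rw [hi] at hgx
    have hi' : ¬ r ^ (Nat.card G).factorization r ∣ i := by
      intro hd
      apply hx1
      rw [hi]
      exact orderOf_dvd_iff_pow_eq_one.mp (hou ▸ hd)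
    have hk1 := fpfOdd_modEq_of_conj hk hr (hou ▸ dvd_rfl) hj hgju hi' hgx
    have h2 : (u : G) ^ k = (u : G) ^ 1 := pow_eq_pow_iff_modEq.mpr (hou ▸ hk1)
    rw [h2, pow_one] at hk
    have hcu : Commute g (u : G) := by
      show g * u = u * g
      calc g * (u : G) = g * u * g⁻¹ * g := by group
        _ = u * g := by rw [hk]
    rw [Subgroup.mem_centralizer_iff]
    intro y hy
    obtain ⟨n, rfl⟩ := hgen y hy
    exact (hcu.pow_right n).eq.symm
  refine ⟨(MonoidHom.transferSylow P hNC).ker, MonoidHom.normal_ker _, ?_⟩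
  rw [(MonoidHom.ker_transferSylow_isComplement' P hNC).symm.index_eq_card,
    Sylow.card_eq_multiplicity]

end

/-- In a finite Zassenhaus group whose two-point stabiliser `H = G_{a,b}` has odd order `d`, and which has no normal `q`-complement for any prime `q ∣ d`, `H` is cyclic, `C_G(H) = H`, and every element swapping `a` and `b` inverts each element of `H`. -/
theorem result {G Ω : Type*} [Group G] [Finite G] [MulAction G Ω] [Fintype Ω] (hZ : Cfsg.IsZassenhausGroup G Ω) {a b : Ω} (hab : a ≠ b) (hodd : Odd (Nat.card ↥(MulAction.stabilizer G a ⊓ MulAction.stabilizer G b))) (hnil : ∀ q : ℕ, q.Prime → q ∣ Nat.card ↥(MulAction.stabilizer G a ⊓ MulAction.stabilizer G b) → ¬ ∃ N : Subgroup G, N.Normal ∧ N.index = q ^ (Nat.card G).factorization q) : IsCyclic ↥(MulAction.stabilizer G a ⊓ MulAction.stabilizer G b) ∧ Subgroup.centralizer ((MulAction.stabilizer G a ⊓ MulAction.stabilizer G b : Subgroup G) : Set G) = MulAction.stabilizer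 G a ⊓ MulAction.stabilizer G b ∧ ∀ s : G, s • a = b → s • b = a → ∀ h ∈ MulAction.stabilizer G a ⊓ MulAction.stabilizer G b, s * h * s⁻¹ = h⁻¹ := by
  classical
  have hZ0 := hZ
  obtain ⟨hfaith, h2, h3, hex, -⟩ := hZ
  obtain ⟨R, hR, hRn, ρ, hρ⟩ := exists_fpf hZ0 hab
  obtain ⟨⟨τ, hτo, hτa, hτb⟩, -, -⟩ := Cfsg.Agent.S0740.result hZ0 hab
  obtain ⟨x0, hx01, hx0a, hx0b⟩ := exists_ne_one hZ0 hab
  have hτ2 : τ * τ = 1 := by rw [← pow_two, ← hτo, pow_orderOf_eq_one]
  have hinv : τ⁻¹ = τ := inv_eq_of_mul_eq_one_left hτ2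
  have hHa : ∀ h ∈ stabilizer G a ⊓ stabilizer G b, h • a = a := fun h hh => hh.1
  have hHb : ∀ h ∈ stabilizer G a ⊓ stabilizer G b, h • b = b := fun h hh => hh.2
  have hHmem : ∀ g : G, g • a = a → g • b = b → g ∈ stabilizer G a ⊓ stabilizer G b :=
    fun g h1 h2 => ⟨h1, h2⟩
  have hfix : ∀ h ∈ stabilizer G a ⊓ stabilizer G b, h ≠ 1 → ∀ c : Ω, h • c = c →
      c = a ∨ c = b := by
    intro h hh h1 c hc
    by_contra hne
    push Not at hne
    exact h1 (h3 h a b c hab (Ne.symm hne.2) (Ne.symm hne.1) (hHa h hh) (hHb h hh) hc)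
  have hτH : ∀ h ∈ stabilizer G a ⊓ stabilizer G b, τ * h * τ⁻¹ ∈
      stabilizer G a ⊓ stabilizer G b :=
    fun h hh => tau_conj_mem hHa hHb hHmem hτ2 hτa hτb hh
  -- the centraliser of `τ` in `H` is trivial
  have hkey : ∀ c ∈ stabilizer G a ⊓ stabilizer G b, τ * c * τ⁻¹ = c → c = 1 := by
    intro c0 hc0 hτc0
    by_contra hc01
    have hc0C : c0 ∈ (stabilizer G a ⊓ stabilizer G b) ⊓ Subgroup.centralizer {τ} := by
      refine Subgroup.mem_inf.mpr ⟨hc0, ?_⟩
      rw [Subgroup.mem_centralizer_singleton_iff]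
      calc c0 * τ = τ * c0 * τ⁻¹ * τ := by rw [hτc0]
        _ = τ * c0 := by group
    have hcard : Nat.card ↥((stabilizer G a ⊓ stabilizer G b) ⊓ Subgroup.centralizer {τ}) ≠ 1 := by
      intro h1
      have := Subgroup.eq_bot_of_card_eq _ h1
      rw [this] at hc0C
      exact hc01 (Subgroup.mem_bot.mp hc0C)
    have hr := Nat.minFac_prime hcard
    have : Fact (Nat.card ↥((stabilizer G a ⊓ stabilizer G b) ⊓
        Subgroup.centralizer {τ})).minFac.Prime := ⟨hr⟩
    obtain ⟨⟨x, hxC⟩, hx⟩ := exists_prime_orderOf_dvd_card'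
      (G := ↥((stabilizer G a ⊓ stabilizer G b) ⊓ Subgroup.centralizer {τ})) _ (Nat.minFac_dvd _)
    have hox : orderOf x = (Nat.card ↥((stabilizer G a ⊓ stabilizer G b) ⊓
        Subgroup.centralizer {τ})).minFac := by
      rw [← hx, Subgroup.orderOf_mk]
    have hxH : x ∈ stabilizer G a ⊓ stabilizer G b := (Subgroup.mem_inf.mp hxC).1
    have hτx : Commute τ x := by
      have := (Subgroup.mem_inf.mp hxC).2
      rw [Subgroup.mem_centralizer_singleton_iff] at this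
      exact this.symm
    have hx1 : x ≠ 1 := by
      rintro rfl
      rw [orderOf_one] at hox
      exact hr.one_lt.ne hox
    have hrH : (Nat.card ↥((stabilizer G a ⊓ stabilizer G b) ⊓
        Subgroup.centralizer {τ})).minFac ∣ Nat.card ↥(stabilizer G a ⊓ stabilizer G b) :=
      dvd_trans (Nat.minFac_dvd _) (Subgroup.card_dvd_of_le inf_le_left)
    have hr2 : (Nat.card ↥((stabilizer G a ⊓ stabilizer G b) ⊓
        Subgroup.centralizer {τ})).minFac ≠ 2 := by
      intro h2'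
      rw [h2'] at hrH
      exact (Nat.not_even_iff_odd.mpr hodd) (even_iff_two_dvd.mpr hrH)
    have hxr : x ^ (Nat.card ↥((stabilizer G a ⊓ stabilizer G b) ⊓
        Subgroup.centralizer {τ})).minFac = 1 := by
      rw [← hox]; exact pow_orderOf_eq_one x
    have hX : ∀ h ∈ stabilizer G a ⊓ stabilizer G b, ∃ n : ℕ, h * x * h⁻¹ = x ^ n := by
      intro h hh
      have h1 : (⟨h * x * h⁻¹, Subgroup.mul_mem _ (Subgroup.mul_mem _ hh hxH)
          (Subgroup.inv_mem _ hh)⟩ : ↥(stabilizer G a ⊓ stabilizer G b)) ∈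
          Subgroup.zpowers (⟨x, hxH⟩ : ↥(stabilizer G a ⊓ stabilizer G b)) := by
        apply fpfOdd_mem_zpowers hρ hodd hr
        · exact Subtype.ext hxr
        · intro h
          exact hx1 (congrArg Subtype.val h)
        · apply Subtype.ext
          show (h * x * h⁻¹) ^ _ = 1
          rw [conj_pow, hxr]
          group
      rw [← mem_powers_iff_mem_zpowers] at h1
      obtain ⟨n, hn⟩ := h1
      exact ⟨n, by simpa using (congrArg Subtype.val hn).symm⟩
    have hA := all_commute hτH hodd hτ2 hτx hr hox rfl hX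
    exact hnil _ hr hrH
      (exists_normal_of_central hab hHa hHb hHmem hfix hρ hτa hτb hr hr2 hxH hx1 hxr hτx hA)
  -- `τ` inverts `H`
  have hinvH : ∀ h ∈ stabilizer G a ⊓ stabilizer G b, τ * h * τ⁻¹ = h⁻¹ := by
    intro h hh
    obtain ⟨c, w, hcH, hwH, hτc, hτw, hcw, -⟩ := tau_decomp hτH hodd hτ2 hh
    have hc1 := hkey c hcH hτc
    rw [hcw, hc1, one_mul, ← conj_inv, hτw]
  have hcomm : ∀ h ∈ stabilizer G a ⊓ stabilizer G b, ∀ k ∈ stabilizer G a ⊓ stabilizer G b,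
      h * k = k * h := by
    intro h hh k hk
    have h1 := hinvH (h * k) (Subgroup.mul_mem _ hh hk)
    have h2' : τ * (h * k) * τ⁻¹ = (τ * h * τ⁻¹) * (τ * k * τ⁻¹) := by group
    rw [h2', hinvH h hh, hinvH k hk] at h1
    have h3' : (h⁻¹ * k⁻¹)⁻¹ = ((h * k)⁻¹)⁻¹ := by rw [h1]
    simpa using h3'.symm
  have hswap : ∀ s : G, s • a = b → s • b = a → ∀ h ∈ stabilizer G a ⊓ stabilizer G b,
      s * h * s⁻¹ = h⁻¹ := by
    intro s hsa hsb h hh
    have h1 : τ * s ∈ stabilizer G a ⊓ stabilizer G b :=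
      hHmem _ (by rw [mul_smul, hsa, hτb]) (by rw [mul_smul, hsb, hτa])
    have h2' : (τ * s) * h * (τ * s)⁻¹ = h := by
      rw [hcomm _ h1 h hh]; group
    have h3' : s * h * s⁻¹ = τ⁻¹ * ((τ * s) * h * (τ * s)⁻¹) * τ := by group
    rw [h3', h2']
    have h4 := hinvH h hh
    rw [hinv] at h4 ⊢
    exact h4
  refine ⟨?_, ?_, hswap⟩
  · have hZG : IsZGroup ↥(stabilizer G a ⊓ stabilizer G b) := fpfOdd_isZGroup hρ hodd
    let _ : CommGroup ↥(stabilizer G a ⊓ stabilizer G b) :=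
      { (inferInstance : Group ↥(stabilizer G a ⊓ stabilizer G b)) with
        mul_comm := fun x y => Subtype.ext (hcomm x x.2 y y.2) }
    infer_instance
  · apply le_antisymm
    · intro g hg
      rw [Subgroup.mem_centralizer_iff] at hg
      have hx0H : x0 ∈ stabilizer G a ⊓ stabilizer G b := hHmem x0 hx0a hx0b
      rcases perm_of_commute hab hHa hHb hfix hx0H hx01 (g := g) (hg x0 hx0H).symm with
        ⟨h1, h2'⟩ | ⟨h1, h2'⟩
      · exact hHmem g h1 h2'
      · exfalso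
        have h5 := hswap g h1 h2' x0 hx0H
        have h6 : g * x0 * g⁻¹ = x0 := by
          rw [← hg x0 hx0H]; group
        have h7 : x0 * x0 = 1 := mul_eq_one_iff_eq_inv.mpr (h6.symm.trans h5)
        have h8 : orderOf x0 ∣ 2 := orderOf_dvd_of_pow_eq_one (by rw [pow_two, h7])
        have h9 : Odd (orderOf x0) :=
          Odd.of_dvd_nat hodd (Subgroup.orderOf_dvd_natCard _ hx0H)
        rcases (Nat.dvd_prime Nat.prime_two).mp h8 with h10 | h10
        · exact hx01 (orderOf_eq_one_iff.mp h10)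
        · rw [h10] at h9
          exact absurd h9 (by decide)
    · intro g hg
      rw [Subgroup.mem_centralizer_iff]
      intro h hh
      exact hcomm h hh g hg

end Cfsg.Agent.S0739
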