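import Mathlib
import Cfsg.Statements.S0878
import Cfsg.Agent.Helper15.ZassenhausCount

set_option autoImplicit false
open Cfsg

namespace Cfsg.Agent.S0878

open MulAction Cfsg.Agent.Helper15

variable {G Ω : Type*} [Group G] [MulAction G Ω]

theorem card_unique_fix_eq (t : G) (x : Ω) :
    Nat.card {g : G // g • (t • x) = t • x ∧ ∀ c : Ω, g • c = c → c = t • x} =
    Nat.card {g : G // g • x = x ∧ ∀ c : Ω, g • c = c → c = x} := by
  apply Nat.card_congr
  exact {
    toFun := fun g => ⟨t⁻¹ * g.1 * t, by
      constructor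
      · rw [mul_smul, mul_smul, g.2.1, inv_smul_smul]
      · intro c hc
        have h1 : g.1 • (t • c) = t • c := by
          rw [mul_smul, mul_smul] at hc
          calc g.1 • (t • c) = t • (t⁻¹ • (g.1 • (t • c))) := by rw [smul_inv_smul]
            _ = t • c := by rw [hc]
        have h2 := g.2.2 _ h1
        exact smul_left_cancel t h2⟩
    invFun := fun g => ⟨t * g.1 * t⁻¹, by
      constructor
      · rw [mul_smul, mul_smul, inv_smul_smul, g.2.1]
      · intro c hc
        have h1 : g.1 • (t⁻¹ • c) = t⁻¹ • c := by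
          rw [mul_smul, mul_smul] at hc
          calc g.1 • (t⁻¹ • c) = t⁻¹ • (t • (g.1 • (t⁻¹ • c))) := by rw [inv_smul_smul]
            _ = t⁻¹ • c := by rw [hc]
        have h2 := g.2.2 _ h1
        rw [← h2, smul_inv_smul]⟩
    left_inv := fun g => Subtype.ext (by simp [mul_assoc])
    right_inv := fun g => Subtype.ext (by simp [mul_assoc]) }

theorem zass_card_unique_fix [Finite G] [Finite Ω] (hZ : Cfsg.IsZassenhausGroup G Ω) (a : Ω) :
    Nat.card {g : G // g • a = a ∧ ∀ c : Ω, g • c = c → c = a} + 2 = Nat.card Ω := by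
  classical
  have := Fintype.ofFinite G
  have := Fintype.ofFinite Ω
  have h1 := (zass_count hZ).2
  have hn := zass_three_le_card hZ
  have hpt := zass_pretrans hZ
  have hsum : Nat.card {g : G // ∃ x : Ω, g • x = x ∧ ∀ c : Ω, g • c = c → c = x} =
      ∑ x : Ω, Nat.card {g : G // g • x = x ∧ ∀ c : Ω, g • c = c → c = x} := by
    rw [Nat.card_eq_fintype_card, Fintype.card_subtype, Finset.card_filter]
    have : ∀ g : G, (if ∃ x : Ω, g • x = x ∧ ∀ c : Ω, g • c = c → c = x then 1 else 0) =
        ∑ x : Ω, (if g • x = x ∧ ∀ c : Ω, g • c = c → c = x then 1 else 0) := by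
      intro g
      by_cases h : ∃ x : Ω, g • x = x ∧ ∀ c : Ω, g • c = c → c = x
      · obtain ⟨x0, hx0⟩ := h
        rw [if_pos ⟨x0, hx0⟩, Finset.sum_eq_single x0]
        · rw [if_pos hx0]
        · intro y _ hy
          rw [if_neg]
          rintro ⟨hy1, hy2⟩
          exact hy (hx0.2 y hy1)
        · intro h; exact absurd (Finset.mem_univ _) h
      · rw [if_neg h]
        symm
        apply Finset.sum_eq_zero
        intro x _
        rw [if_neg]
        intro hx
        exact h ⟨x, hx⟩
    rw [Finset.sum_congr rfl (fun g _ => this g), Finset.sum_comm]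
    apply Finset.sum_congr rfl
    intro x _
    rw [Nat.card_eq_fintype_card, Fintype.card_subtype, Finset.card_filter]
  have hconst : ∀ x : Ω, Nat.card {g : G // g • x = x ∧ ∀ c : Ω, g • c = c → c = x} =
      Nat.card {g : G // g • a = a ∧ ∀ c : Ω, g • c = c → c = a} := by
    intro x
    obtain ⟨t, rfl⟩ := exists_smul_eq G a x
    exact card_unique_fix_eq t a
  rw [hsum, Finset.sum_congr rfl (fun x _ => hconst x), Finset.sum_const, Finset.card_univ,
    smul_eq_mul, ← Nat.card_eq_fintype_card] at h1
  generalize Nat.card Ω = n at h1 hn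
  generalize Nat.card {g : G // g • a = a ∧ ∀ c : Ω, g • c = c → c = a} = s at h1
  have h2 : n * (s + 1) = n * (n - 1) := by linarith
  have h3 := Nat.eq_of_mul_eq_mul_left (by omega) h2
  omega

theorem result {G Ω : Type*} [Group G] [Finite G] [MulAction G Ω] [Fintype Ω] (hZ : Cfsg.IsZassenhausGroup G Ω) (a : Ω) (H : Subgroup G) (hHa : H ≤ MulAction.stabilizer G a) (hHcard : Nat.card H + 1 = Fintype.card Ω) (hHfix : ∀ u ∈ H, u ≠ 1 → ∀ c : Ω, u • c = c → c = a) : (∀ g : G, g ∉ MulAction.stabilizer G a → ∀ u ∈ H, g * u * g⁻¹ ∈ H → u = 1) ∧ Subgroup.normalizer (H : Set G) = MulAction.stabilizer G a := by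
  classical
  have hn := zass_three_le_card hZ
  have hcardΩ : Nat.card Ω = Fintype.card Ω := Nat.card_eq_fintype_card
  have part1 : ∀ g : G, g ∉ stabilizer G a → ∀ u ∈ H, g * u * g⁻¹ ∈ H → u = 1 := by
    intro g hg u hu hgu
    by_contra hu1
    have hne : g * u * g⁻¹ ≠ 1 := by
      intro h; apply hu1
      have : u = g⁻¹ * (g * u * g⁻¹) * g := by group
      rw [this, h]; group
    have hua : u • a = a := hHa hu
    have h1 : (g * u * g⁻¹) • (g • a) = g • a := by
      rw [mul_smul, mul_smul, inv_smul_smul, hua]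
    exact hg (hHfix _ hgu hne _ h1)
  refine ⟨part1, ?_⟩
  -- the elements fixing only `a` all lie in `H`
  have hS : ∀ g : G, (g • a = a ∧ ∀ c : Ω, g • c = c → c = a) → g ∈ H := by
    let φ : {u : H // u ≠ 1} → {g : G // g • a = a ∧ ∀ c : Ω, g • c = c → c = a} :=
      fun u => ⟨u.1.1, hHa u.1.2, hHfix u.1.1 u.1.2 (fun h => u.2 (Subtype.ext h))⟩
    have hφinj : Function.Injective φ := by
      intro u v h
      have h' : (φ u).1 = (φ v).1 := congrArg Subtype.val h
      have h'' : (u.1 : G) = (v.1 : G) := h'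
      exact Subtype.ext (Subtype.ext h'')
    have hcard : Nat.card {u : H // u ≠ 1} =
        Nat.card {g : G // g • a = a ∧ ∀ c : Ω, g • c = c → c = a} := by
      have h1 := zass_card_unique_fix hZ a
      have h2 : Nat.card {u : H // u ≠ 1} + 1 = Nat.card H := by
        have := Fintype.ofFinite H
        have h3 : Fintype.card {u : H // ¬ (u = 1)} = Fintype.card H - Fintype.card {u : H // u = 1} :=
          Fintype.card_subtype_compl _
        rw [Fintype.card_subtype_eq] at h3
        have h4 : 0 < Fintype.card H := Fintype.card_pos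
        rw [Nat.card_eq_fintype_card, Nat.card_eq_fintype_card]
        change Fintype.card {u : H // ¬ (u = 1)} + 1 = _
        omega
      omega
    have hφsurj : Function.Surjective φ :=
      (Function.Injective.bijective_of_nat_card_le hφinj hcard.ge).2
    intro g hg
    obtain ⟨u, hu⟩ := hφsurj ⟨g, hg⟩
    have h1 : (u.1 : G) = g := congrArg Subtype.val hu
    rw [← h1]; exact u.1.2
  have hconj : ∀ g : G, g ∈ stabilizer G a → ∀ u ∈ H, g * u * g⁻¹ ∈ H := by
    intro g hg u hu
    by_cases hu1 : u = 1
    · subst hu1; simp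
    · apply hS
      have hga : g • a = a := hg
      have hga' : g⁻¹ • a = a := by rw [inv_smul_eq_iff, hga]
      have hua : u • a = a := hHa hu
      constructor
      · rw [mul_smul, mul_smul, hga', hua, hga]
      · intro c hc
        have h1 : u • (g⁻¹ • c) = g⁻¹ • c := by
          rw [mul_smul, mul_smul] at hc
          calc u • (g⁻¹ • c) = g⁻¹ • (g • (u • (g⁻¹ • c))) := by rw [inv_smul_smul]
            _ = g⁻¹ • c := by rw [hc]
        have h2 := hHfix u hu hu1 _ h1
        rw [inv_smul_eq_iff, hga] at h2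
        exact h2
  ext g
  constructor
  · intro hg
    by_contra hga
    have hH2 : 1 < Nat.card H := by omega
    have := Finite.one_lt_card_iff_nontrivial.mp hH2
    obtain ⟨u, hu⟩ := exists_ne (1 : H)
    have h1 := (Subgroup.mem_normalizer_iff.mp hg u.1).mp u.2
    exact hu (Subtype.ext (part1 g hga u.1 u.2 h1))
  · intro hg
    rw [Subgroup.mem_normalizer_iff]
    intro u
    constructor
    · exact hconj g hg u
    · intro hgu
      have h1 := hconj g⁻¹ (inv_mem hg) _ hgu
      have h2 : g⁻¹ * (g * u * g⁻¹) * g⁻¹⁻¹ = u := by group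
      rw [h2] at h1
      exact h1

end Cfsg.Agent.S0878
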