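import Cfsg.Statements.S0883
import Cfsg.Agent.Helper59.ZassOdd

set_option autoImplicit false
open Cfsg

namespace Cfsg.Agent.S0883

open MulAction Cfsg.Agent.Helper15 Cfsg.Agent.Helper59

section

variable {G Ω : Type*} [Group G] [MulAction G Ω]

/-- An element of a point stabiliser of a Zassenhaus group that fixes no other point lies in
the Frobenius kernel `K`. -/
theorem mem_kernel_of_fix_one [Finite G] (hZ : Cfsg.IsZassenhausGroup G Ω) {a b : Ω}
    (hab : a ≠ b) (K : Subgroup G) (hK1 : ∀ k ∈ K, k • a = a)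
    (hK2 : ∀ g : G, g • a = a → ∀ k ∈ K, g * k * g⁻¹ ∈ K)
    (hK3 : ∀ k ∈ K, k ≠ 1 → ∀ c : Ω, c ≠ a → k • c ≠ c)
    (hK4 : ∀ c d : Ω, c ≠ a → d ≠ a → ∃ k ∈ K, k • c = d)
    {g : G} (hga : g • a = a) (hg : ∀ c : Ω, g • c = c → c = a) : g ∈ K := by
  have hgb : g • b ≠ a := by
    intro h
    exact hab (smul_left_cancel g (hga.trans h.symm))
  obtain ⟨k, hkK, hkb⟩ := hK4 b (g • b) (Ne.symm hab) hgb
  have hka : k • a = a := hK1 k hkK
  have hja : (k⁻¹ * g) • a = a := by rw [mul_smul, hga, inv_smul_eq_iff, hka]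
  have hjb : (k⁻¹ * g) • b = b := by rw [mul_smul, inv_smul_eq_iff, hkb]
  by_cases hj1 : k⁻¹ * g = 1
  · have : g = k := by
      calc g = k * (k⁻¹ * g) := by group
        _ = k := by rw [hj1, mul_one]
    rw [this]; exact hkK
  · exfalso
    have hmem : ∀ x : K, (x : G) * (k⁻¹ * g) * (x : G)⁻¹ * (k⁻¹ * g)⁻¹ ∈ K := by
      intro x
      have h1 := hK2 (k⁻¹ * g) hja (x : G)⁻¹ (K.inv_mem x.2)
      have h2 : (x : G) * (k⁻¹ * g) * (x : G)⁻¹ * (k⁻¹ * g)⁻¹ =
          (x : G) * ((k⁻¹ * g) * (x : G)⁻¹ * (k⁻¹ * g)⁻¹) := by group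
      rw [h2]
      exact K.mul_mem x.2 h1
    have hinj : Function.Injective
        (fun x : K => (⟨(x : G) * (k⁻¹ * g) * (x : G)⁻¹ * (k⁻¹ * g)⁻¹, hmem x⟩ : K)) := by
      intro x x' hxx
      have h1 : (x : G) * (k⁻¹ * g) * (x : G)⁻¹ * (k⁻¹ * g)⁻¹ =
          (x' : G) * (k⁻¹ * g) * (x' : G)⁻¹ * (k⁻¹ * g)⁻¹ := congrArg Subtype.val hxx
      have h2 : (x : G) * (k⁻¹ * g) * (x : G)⁻¹ = (x' : G) * (k⁻¹ * g) * (x' : G)⁻¹ :=
        mul_right_cancel h1
      have h3 : ((x' : G)⁻¹ * (x : G)) * (k⁻¹ * g) = (k⁻¹ * g) * ((x' : G)⁻¹ * (x : G)) := by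
        calc ((x' : G)⁻¹ * (x : G)) * (k⁻¹ * g)
            = (x' : G)⁻¹ * ((x : G) * (k⁻¹ * g) * (x : G)⁻¹) * (x : G) := by group
          _ = (x' : G)⁻¹ * ((x' : G) * (k⁻¹ * g) * (x' : G)⁻¹) * (x : G) := by rw [h2]
          _ = (k⁻¹ * g) * ((x' : G)⁻¹ * (x : G)) := by group
      have hwK : (x' : G)⁻¹ * (x : G) ∈ K := K.mul_mem (K.inv_mem x'.2) x.2
      have h4 : (k⁻¹ * g) • (((x' : G)⁻¹ * (x : G)) • b) = ((x' : G)⁻¹ * (x : G)) • b := by
        rw [← mul_smul, ← h3, mul_smul, hjb]
      have hwa : ((x' : G)⁻¹ * (x : G)) • a = a := hK1 _ hwK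
      have hwb : ((x' : G)⁻¹ * (x : G)) • b = b := by
        by_contra hne
        have hne' : ((x' : G)⁻¹ * (x : G)) • b ≠ a := by
          intro h
          exact hab (smul_left_cancel _ (hwa.trans h.symm))
        exact hj1 (hZ.2.2.1 _ a b _ hab (Ne.symm hne) (Ne.symm hne') hja hjb h4)
      have hw1 : (x' : G)⁻¹ * (x : G) = 1 := by
        by_contra hne
        exact hK3 _ hwK hne b (Ne.symm hab) hwb
      apply Subtype.ext
      calc (x : G) = (x' : G) * ((x' : G)⁻¹ * (x : G)) := by group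
        _ = x' := by rw [hw1, mul_one]
    have hsurj := Finite.injective_iff_surjective.mp hinj
    obtain ⟨x, hx⟩ := hsurj ⟨k, hkK⟩
    have hx' : (x : G) * (k⁻¹ * g) * (x : G)⁻¹ * (k⁻¹ * g)⁻¹ = k := congrArg Subtype.val hx
    have hgx : g = (x : G) * (k⁻¹ * g) * (x : G)⁻¹ := by
      calc g = k * (k⁻¹ * g) := by group
        _ = (x : G) * (k⁻¹ * g) * (x : G)⁻¹ * (k⁻¹ * g)⁻¹ * (k⁻¹ * g) := by rw [hx']
        _ = (x : G) * (k⁻¹ * g) * (x : G)⁻¹ := by group
    have hfix : g • ((x : G) • b) = (x : G) • b := by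
      nth_rewrite 1 [hgx]
      rw [mul_smul, mul_smul, inv_smul_smul, hjb]
    have := hg _ hfix
    have hxa : (x : G) • a = a := hK1 _ x.2
    exact hab (smul_left_cancel (x : G) (hxa.trans this.symm))

/-- The Frobenius kernel of a point stabiliser has `|Ω| - 1` elements. -/
theorem card_kernel [Finite Ω] {a b : Ω} (hab : a ≠ b) (K : Subgroup G)
    (hK1 : ∀ k ∈ K, k • a = a)
    (hK3 : ∀ k ∈ K, k ≠ 1 → ∀ c : Ω, c ≠ a → k • c ≠ c)
    (hK4 : ∀ c d : Ω, c ≠ a → d ≠ a → ∃ k ∈ K, k • c = d) :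
    Nat.card K = Nat.card Ω - 1 := by
  classical
  have := Fintype.ofFinite Ω
  have hmem : ∀ k : K, (k : G) • b ≠ a := by
    intro k h
    exact hab (smul_left_cancel (k : G) ((hK1 k k.2).trans h.symm))
  have hbij : Function.Bijective (fun k : K => (⟨(k : G) • b, hmem k⟩ : {c : Ω // c ≠ a})) := by
    constructor
    · intro k k' hkk
      have h1 : (k : G) • b = (k' : G) • b := congrArg Subtype.val hkk
      have h2 : ((k' : G)⁻¹ * (k : G)) • b = b := by
        rw [mul_smul, inv_smul_eq_iff, h1]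
      have h3 : (k' : G)⁻¹ * (k : G) = 1 := by
        by_contra hne
        exact hK3 _ (K.mul_mem (K.inv_mem k'.2) k.2) hne b (Ne.symm hab) h2
      apply Subtype.ext
      calc (k : G) = (k' : G) * ((k' : G)⁻¹ * (k : G)) := by group
        _ = k' := by rw [h3, mul_one]
    · rintro ⟨c, hc⟩
      obtain ⟨k, hk, hkc⟩ := hK4 b c (Ne.symm hab) hc
      exact ⟨⟨k, hk⟩, Subtype.ext hkc⟩
  rw [Nat.card_eq_of_bijective _ hbij, Nat.card_eq_fintype_card, Nat.card_eq_fintype_card,
    Fintype.card_subtype_compl, Fintype.card_subtype_eq]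

end


/-- Let G be a finite simple Zassenhaus group on Ω with h + 1 points whose two-point stabilizer E has odd order e with 2e < h - 1, and let H be the subgroup of the stabilizer of a consisting of the identity and the elements fixing no point other than a (given here as a subgroup of the stabilizer of order one less than the number of points whose non-identity elements fix only a; it is the Frobenius kernel of the stabilizer). If a non-identity element u of H is a product of two involutions of G, then u is an involution. -/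
theorem result {G Ω : Type*} [Group G] [Finite G] [MulAction G Ω] [Fintype Ω] (hZ : Cfsg.IsZassenhausGroup G Ω) {a b : Ω} (hab : a ≠ b) [IsSimpleGroup G] (h e : ℕ) (hh : Fintype.card Ω = h + 1) (he : Nat.card ↥(MulAction.stabilizer G a ⊓ MulAction.stabilizer G b : Subgroup G) = e) (hodd : Odd e) (hlt : 2 * e < h - 1) (H : Subgroup G) (hHa : H ≤ MulAction.stabilizer G a) (hHcard : Nat.card H + 1 = Fintype.card Ω) (hHfix : ∀ u ∈ H, u ≠ 1 → ∀ c : Ω, u • c = c → c = a) (u : G) (hu : u ∈ H) (hu1 : u ≠ 1) (x y : G) (hx : orderOf x = 2) (hy : orderOf y = 2) (hxy : x * y = u) : orderOf u = 2 := by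
  classical
  have hodd' : Odd (Nat.card ↥(MulAction.stabilizer G a ⊓ MulAction.stabilizer G b)) := by
    rw [he]; exact hodd
  have hx1 : x ≠ 1 := by
    rintro rfl
    simp at hx
  have hx2 : x * x = 1 := by rw [← pow_two, ← hx, pow_orderOf_eq_one]
  have hy2 : y * y = 1 := by rw [← pow_two, ← hy, pow_orderOf_eq_one]
  have hxinv : x⁻¹ = x := inv_eq_of_mul_eq_one_left hx2
  have hyinv : y⁻¹ = y := inv_eq_of_mul_eq_one_left hy2
  have hua : u • a = a := hHa hu
  -- `x` inverts `u`, so `x` and `y` fix `a`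
  have hxu : x * u * x⁻¹ = u⁻¹ := by
    rw [← hxy, hxinv, mul_inv_rev, hxinv, hyinv]
    calc x * (x * y) * x = (x * x) * y * x := by group
      _ = y * x := by rw [hx2, one_mul]
  have hxa : x • a = a := by
    apply hHfix u⁻¹ (H.inv_mem hu) (inv_ne_one.mpr hu1)
    rw [← hxu, mul_smul, mul_smul, inv_smul_smul, hua]
  have hya : y • a = a := by
    have hyx : y = x * u := by
      rw [← hxy, ← mul_assoc, hx2, one_mul]
    rw [hyx, mul_smul, hua, hxa]
  -- involutions fix at most one point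
  have hfix1 : ∀ t : G, orderOf t = 2 → t • a = a → ∀ c : Ω, t • c = c → c = a := by
    intro t ht hta c htc
    by_contra hne
    have hmem : t ∈ stabilizer G a ⊓ stabilizer G c := Subgroup.mem_inf.mpr ⟨hta, htc⟩
    have := zassOdd_odd_orderOf hZ hab hodd' (Ne.symm hne) hmem
    rw [ht] at this
    exact absurd this (by decide)
  -- the degree is odd
  have hOdd : Odd (Nat.card Ω) := by
    by_contra hO
    have h1 := zassOdd_card_moved hZ hab hodd' hx
    rw [if_neg hO, Nat.card_eq_fintype_card, Nat.card_eq_fintype_card] at h1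
    have h2 : Fintype.card {c : Ω // x • c ≠ c} < Fintype.card Ω :=
      Fintype.card_subtype_lt (x := a) (by simp [hxa])
    omega
  have h3 := zass_three_le_card hZ
  -- the number of involutions
  have hI : Nat.card {t : G // orderOf t = 2} = Nat.card Ω * e := by
    have h1 := zassOdd_card_invol hZ hab hodd'
    rw [if_pos hOdd, he] at h1
    have hpos : 0 < Nat.card Ω - 1 := by omega
    apply Nat.eq_of_mul_eq_mul_right hpos
    rw [h1]; ring
  -- the centraliser of `x` has order `|Ω| - 1`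
  have hC : Nat.card ↥(Subgroup.centralizer {x}) = Nat.card Ω - 1 := by
    have h1 := MulAction.index_stabilizer (ConjAct G) x
    have h2 : (MulAction.orbit (ConjAct G) x) = {t : G | orderOf t = 2} := by
      ext t
      rw [ConjAct.mem_orbit_conjAct, Set.mem_setOf_eq]
      constructor
      · intro hc
        obtain ⟨g, hg⟩ := isConj_iff.mp hc
        rw [← hx, ← hg]
        exact (MulEquiv.orderOf_eq (MulAut.conj g) t).symm
      · intro ht
        exact zassOdd_isConj hZ hab hodd' ht hx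
    rw [h2, ← Nat.card_coe_set_eq] at h1
    have h4 := (MulAction.stabilizer (ConjAct G) x).card_mul_index
    rw [h1, ← Subgroup.nat_card_centralizer_nat_card_stabilizer] at h4
    have h5 : Nat.card (ConjAct G) = Nat.card G := rfl
    have h6 : Nat.card ↥{t : G | orderOf t = 2} = Nat.card {t : G // orderOf t = 2} := rfl
    rw [h5, zass_card_group hZ hab, he, h6, hI] at h4
    have hpos : 0 < Nat.card Ω * e := by
      have : 0 < e := hodd.pos
      positivity
    apply Nat.eq_of_mul_eq_mul_right hpos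
    rw [h4]; ring
  -- the Frobenius kernel
  obtain ⟨K, hK1, hK2, hK3, hK4⟩ := Cfsg.Agent.Helper6.zs_kernel hZ a
  have hKcard := card_kernel hab K hK1 hK3 hK4
  have hxK : x ∈ K := mem_kernel_of_fix_one hZ hab K hK1 hK2 hK3 hK4 hxa (hfix1 x hx hxa)
  have hyK : y ∈ K := mem_kernel_of_fix_one hZ hab K hK1 hK2 hK3 hK4 hya (hfix1 y hy hya)
  have hCK : Subgroup.centralizer {x} ≤ K := by
    intro g hg
    rw [Subgroup.mem_centralizer_singleton_iff] at hg
    have hga : g • a = a := by
      apply hfix1 x hx hxa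
      rw [← mul_smul, ← hg, mul_smul, hxa]
    by_cases hg1 : g = 1
    · rw [hg1]; exact K.one_mem
    · apply mem_kernel_of_fix_one hZ hab K hK1 hK2 hK3 hK4 hga
      intro c hc
      by_contra hne
      have hxc : x • c ≠ c := fun h => hne (hfix1 x hx hxa c h)
      have hxca : x • c ≠ a := by
        intro h
        exact hne (smul_left_cancel x (h.trans hxa.symm))
      have hgxc : g • (x • c) = x • c := by
        rw [← mul_smul, hg, mul_smul, hc]
      exact hg1 (hZ.2.2.1 g a c (x • c) (Ne.symm hne) (Ne.symm hxc) (Ne.symm hxca) hga hc hgxc)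
  have hCK' : Subgroup.centralizer {x} = K :=
    Subgroup.eq_of_le_of_card_ge hCK (by rw [hC, hKcard])
  have hyx : y * x = x * y := by
    have : y ∈ Subgroup.centralizer {x} := by rw [hCK']; exact hyK
    exact Subgroup.mem_centralizer_singleton_iff.mp this
  have hu2 : u ^ 2 = 1 := by
    rw [pow_two, ← hxy]
    calc x * y * (x * y) = x * (y * x) * y := by group
      _ = x * (x * y) * y := by rw [hyx]
      _ = (x * x) * (y * y) := by group
      _ = 1 := by rw [hx2, hy2, one_mul]
  have : Fact (Nat.Prime 2) := ⟨Nat.prime_two⟩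
  exact orderOf_eq_prime hu2 hu1

end Cfsg.Agent.S0883
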