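import Cfsg.Statements.S1532
import Cfsg.Agent.Helper25.Coh8

set_option linter.style.haveILetI false
set_option linter.unusedVariables false
set_option maxHeartbeats 1000000

set_option autoImplicit false
open Cfsg

namespace Cfsg.Agent.S1532

/-- Let G be a finite group, p an odd prime and P a Sylow p-subgroup that is non-abelian, whose underlying set is a TI-subset of G, with P properly contained in its set normaliser N and C_G(x) ≤ P for every non-identity x ∈ P. Let Z be a nontrivial subgroup of the centre of P normalised by N. Then the set of irreducible characters χ of N with χ z ≠ χ 1 for some z ∈ Z is coherent for the map induced by induction from N to G. -/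
theorem result {G : Type*} [Group G] [Fintype G] (p : ℕ) [Fact p.Prime] (hp : p ≠ 2) (P : Sylow p G) (hna : ¬ IsMulCommutative (P : Subgroup G)) (hTI : Cfsg.IsTISubset ((P : Subgroup G) : Set G)) (hlt : (P : Subgroup G) < Subgroup.normalizer ((P : Subgroup G) : Set G)) (hC : ∀ k ∈ (P : Subgroup G), k ≠ 1 → Subgroup.centralizer ({k} : Set G) ≤ (P : Subgroup G)) [Fintype ↥(Subgroup.normalizer ((P : Subgroup G) : Set G))] (Z : Subgroup G) (hZ1 : Z ≠ ⊥) (hZP : ∀ z ∈ Z, z ∈ (P : Subgroup G) ∧ ∀ y ∈ (P : Subgroup G), z * y = y * z) (hZn : ∀ x ∈ Subgroup.normalizer ((P : Subgroup G) : Set G), ∀ z ∈ Z, x * z * x⁻¹ ∈ Z) : Cfsg.IsCoherent {χ : ↥(Subgroup.normalizer ((P : Subgroup G) : Set G)) → ℂ | Cfsg.IsIrrCharacter ↥(Subgroup.normalizer ((P : Subgroup G) : Set G)) χ ∧ ∃ z : ↥(Subgroup.normalizer ((P : Subgroup G) : Set G)), (z : G) ∈ Z ∧ χ z ≠ χ 1} {1}ᶜ (fun α => Cfsg.indFun (Subgroup.normalizer ((P : Subgroup G) : Set G)) α) := by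
  classical
  have hle : (P : Subgroup G) ≤ Subgroup.normalizer ((P : Subgroup G) : Set G) :=
    Subgroup.le_normalizer
  haveI hKn : ((P : Subgroup G).subgroupOf
      (Subgroup.normalizer ((P : Subgroup G) : Set G))).Normal := Subgroup.normal_in_normalizer
  have hCK := Cfsg.Agent.Helper25.centralizer_subgroupOf_normalizer_le (P : Subgroup G) hC
  have hpp : p.Prime := Fact.out
  have hKcard0 : Nat.card ((P : Subgroup G).subgroupOf
      (Subgroup.normalizer ((P : Subgroup G) : Set G))) = Nat.card (P : Subgroup G) :=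
    Nat.card_congr (Subgroup.subgroupOfEquivOfLe hle).toEquiv
  obtain ⟨m, hm⟩ := IsPGroup.iff_card.mp P.isPGroup'
  have hKcard : Nat.card ((P : Subgroup G).subgroupOf
      (Subgroup.normalizer ((P : Subgroup G) : Set G))) = p ^ m := by rw [hKcard0, hm]
  have hpodd : Odd p := hpp.eq_two_or_odd'.resolve_left hp
  have hKodd : Odd (Nat.card ((P : Subgroup G).subgroupOf
      (Subgroup.normalizer ((P : Subgroup G) : Set G)))) := by
    rw [hKcard]; exact hpodd.pow
  have hnaK : ¬ ∀ a b : ((P : Subgroup G).subgroupOf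
      (Subgroup.normalizer ((P : Subgroup G) : Set G))), a * b = b * a := by
    intro h
    apply hna
    refine ⟨⟨fun a b => ?_⟩⟩
    have h1 := h ⟨⟨(a : G), hle a.2⟩, a.2⟩ ⟨⟨(b : G), hle b.2⟩, b.2⟩
    apply Subtype.ext
    have h2 := congrArg (fun x : ((P : Subgroup G).subgroupOf
      (Subgroup.normalizer ((P : Subgroup G) : Set G))) =>
        (((x : (Subgroup.normalizer ((P : Subgroup G) : Set G))) : G))) h1
    exact h2
  have hodd : Odd (Nat.card (Subgroup.normalizer ((P : Subgroup G) : Set G))) :=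
    Cfsg.Agent.Helper25.odd_card_of_frob_of_not_comm _ hCK hKodd hnaK
  obtain ⟨⟨z₀, hz₀⟩, hz₀1'⟩ := (Subgroup.ne_bot_iff_exists_ne_one (H := Z)).mp hZ1
  have hz₀1 : z₀ ≠ 1 := fun h => hz₀1' (Subtype.ext h)
  have hz₀P : z₀ ∈ (P : Subgroup G) := (hZP z₀ hz₀).1
  have hK1 : (P : Subgroup G).subgroupOf
      (Subgroup.normalizer ((P : Subgroup G) : Set G)) ≠ ⊥ := by
    intro h
    have h1 : (⟨z₀, hle hz₀P⟩ : (Subgroup.normalizer ((P : Subgroup G) : Set G))) ∈
        (P : Subgroup G).subgroupOf (Subgroup.normalizer ((P : Subgroup G) : Set G)) := hz₀P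
    rw [h, Subgroup.mem_bot] at h1
    exact hz₀1 (congrArg Subtype.val h1)
  have hKtop : (P : Subgroup G).subgroupOf
      (Subgroup.normalizer ((P : Subgroup G) : Set G)) ≠ ⊤ := by
    intro h
    obtain ⟨x, hxN, hxP⟩ := SetLike.exists_of_lt hlt
    have h1 : (⟨x, hxN⟩ : (Subgroup.normalizer ((P : Subgroup G) : Set G))) ∈
        (P : Subgroup G).subgroupOf (Subgroup.normalizer ((P : Subgroup G) : Set G)) := by
      rw [h]; exact Subgroup.mem_top _
    exact hxP h1
  obtain ⟨hiso, hone⟩ := Cfsg.Agent.Helper25.isLinearIsometryOn_indFun_TI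
    ((P : Subgroup G) : Set G) hTI
    (Cfsg.inducedIrrAbove ((P : Subgroup G).subgroupOf
      (Subgroup.normalizer ((P : Subgroup G) : Set G))) ⊥)
    (fun χ hχ => Cfsg.Agent.Helper25.inducedIrrAbove_isCharacter _ _ hχ)
    (fun χ hχ x hx => Cfsg.Agent.Helper25.inducedIrrAbove_apply_eq_zero _ _ hχ hx)
  obtain ⟨R, hS⟩ := Cfsg.Agent.Helper25.exists_cohSys_inducedIrrAbove_of_frob _ hCK hK1 hKtop hodd
    hiso hone
  haveI hZn' : (Z.subgroupOf (Subgroup.normalizer ((P : Subgroup G) : Set G))).Normal := by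
    refine ⟨fun z hz x => ?_⟩
    rw [Subgroup.mem_subgroupOf] at hz ⊢
    exact hZn x x.2 z hz
  have hZ1' : Z.subgroupOf (Subgroup.normalizer ((P : Subgroup G) : Set G)) ≠ ⊥ := by
    intro h
    have h1 : (⟨z₀, hle hz₀P⟩ : (Subgroup.normalizer ((P : Subgroup G) : Set G))) ∈
        Z.subgroupOf (Subgroup.normalizer ((P : Subgroup G) : Set G)) := hz₀
    rw [h, Subgroup.mem_bot] at h1
    exact hz₀1 (congrArg Subtype.val h1)
  have hZK : Z.subgroupOf (Subgroup.normalizer ((P : Subgroup G) : Set G)) ≤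
      (P : Subgroup G).subgroupOf (Subgroup.normalizer ((P : Subgroup G) : Set G)) :=
    fun z hz => (hZP z hz).1
  have hZc : ∀ z ∈ Z.subgroupOf (Subgroup.normalizer ((P : Subgroup G) : Set G)),
      ∀ k ∈ (P : Subgroup G).subgroupOf (Subgroup.normalizer ((P : Subgroup G) : Set G)),
      z * k = k * z := fun z hz k hk => Subtype.ext ((hZP z hz).2 k hk)
  have hirr : ∀ χ ∈ Cfsg.inducedIrrAbove ((P : Subgroup G).subgroupOf
      (Subgroup.normalizer ((P : Subgroup G) : Set G))) ⊥ \
      Cfsg.inducedIrrAbove ((P : Subgroup G).subgroupOf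
      (Subgroup.normalizer ((P : Subgroup G) : Set G)))
      (Z.subgroupOf (Subgroup.normalizer ((P : Subgroup G) : Set G))),
      Cfsg.IsIrrCharacter (Subgroup.normalizer ((P : Subgroup G) : Set G)) χ := by
    rintro χ ⟨⟨θ, hθ, hne, -, rfl⟩, -⟩
    exact Cfsg.Agent.Helper25.isIrrCharacter_indFun_of_frob _ hCK hθ hne
  have hp3 : 3 ≤ p := by
    have := hpp.two_le
    omega
  have hcop : Nat.Coprime ((P : Subgroup G).subgroupOf
      (Subgroup.normalizer ((P : Subgroup G) : Set G))).index p := by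
    apply Nat.Coprime.symm
    rw [Nat.Prime.coprime_iff_not_dvd hpp]
    intro h
    exact P.not_dvd_index (h.trans (Subgroup.relIndex_dvd_index_of_le hle))
  have hcoh := Cfsg.Agent.Helper25.coherent_sdiff_pgroup _
    (fun α => Cfsg.indFun (Subgroup.normalizer ((P : Subgroup G) : Set G)) α) R hS
    (Z.subgroupOf (Subgroup.normalizer ((P : Subgroup G) : Set G))) hZ1' hZK hZc hirr p m hpp hp3
    hKcard hcop
  rw [Cfsg.Agent.Helper25.sdiff_inducedIrrAbove_eq_irr _ _ hZK hirr] at hcoh
  exact hcoh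

end Cfsg.Agent.S1532
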