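import Cfsg.Statements.S1533
import Cfsg.Agent.Helper25.Sib4
import Cfsg.Agent.Helper25.Sib6
import Cfsg.Agent.S1532

set_option linter.style.haveILetI false
set_option linter.unusedVariables false
set_option maxHeartbeats 1000000

set_option autoImplicit false
open Cfsg

namespace Cfsg.Agent.S1533

/-- Let G be a finite group, p an odd prime, and P a nontrivial Sylow p-subgroup whose underlying set is a TI-subset of G, with P properly contained in its set normaliser N and C_G(x) ≤ P for every non-identity x ∈ P. Let S be the set of irreducible characters χ of N with χ x ≠ χ 1 for some x ∈ P. Then either S has exactly one member, P is elementary abelian and Nat.card P = [N:P] + 1; or (S, N minus 1, induction to G) is coherent. -/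
theorem result {G : Type*} [Group G] [Fintype G] (p : ℕ) [Fact p.Prime] (hp : p ≠ 2) (P : Sylow p G) (hP1 : (P : Subgroup G) ≠ ⊥) (hTI : Cfsg.IsTISubset ((P : Subgroup G) : Set G)) (hlt : (P : Subgroup G) < Subgroup.normalizer ((P : Subgroup G) : Set G)) (hC : ∀ k ∈ (P : Subgroup G), k ≠ 1 → Subgroup.centralizer ({k} : Set G) ≤ (P : Subgroup G)) [Fintype ↥(Subgroup.normalizer ((P : Subgroup G) : Set G))] : (Nat.card {χ : ↥(Subgroup.normalizer ((P : Subgroup G) : Set G)) → ℂ // Cfsg.IsIrrCharacter ↥(Subgroup.normalizer ((P : Subgroup G) : Set G)) χ ∧ ∃ x : ↥(Subgroup.normalizer ((P : Subgroup G) : Set G)), (x : G) ∈ (P : Subgroup G) ∧ χ x ≠ χ 1} = 1 ∧ Cfsg.IsElementaryAbelian p (P : Subgroup G) ∧ Nat.card (P : Subgroup G) = ((P : Subgroup G).subgroupOf (Subgroup.normalizer ((P : Subgroup G) : Set G))).index + 1) ∨ Cfsg.IsCoherent {χ : ↥(Subgroup.normalizer ((P : Subgroup G) : Set G)) → ℂ | Cfsg.IsIrrCharacter ↥(Subgroup.normalizer ((P : Subgroup G) : Set G)) χ ∧ ∃ x : ↥(Subgroup.normalizer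 ((P : Subgroup G) : Set G)), (x : G) ∈ (P : Subgroup G) ∧ χ x ≠ χ 1} {1}ᶜ (fun α => Cfsg.indFun (Subgroup.normalizer ((P : Subgroup G) : Set G)) α) := by
  classical
  have hle : (P : Subgroup G) ≤ Subgroup.normalizer ((P : Subgroup G) : Set G) :=
    Subgroup.le_normalizer
  haveI hKn : ((P : Subgroup G).subgroupOf
      (Subgroup.normalizer ((P : Subgroup G) : Set G))).Normal := Subgroup.normal_in_normalizer
  have hCK := Cfsg.Agent.Helper25.centralizer_subgroupOf_normalizer_le (P : Subgroup G) hC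
  have hpp : p.Prime := Fact.out
  have hKcard0 : Nat.card ((P : Subgroup G).subgroupOf
      (Subgroup.normalizer ((P : Subgroup G) : Set G))) = Nat.card (P : Subgroup G) :=
    Nat.card_congr (Subgroup.subgroupOfEquivOfLe hle).toEquiv
  obtain ⟨m, hm⟩ := IsPGroup.iff_card.mp P.isPGroup'
  have hKcard : Nat.card ((P : Subgroup G).subgroupOf
      (Subgroup.normalizer ((P : Subgroup G) : Set G))) = p ^ m := by rw [hKcard0, hm]
  have hpodd : Odd p := hpp.eq_two_or_odd'.resolve_left hp
  have hp3 : 3 ≤ p := by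
    have := hpp.two_le
    omega
  obtain ⟨x₀, hx₀P, hx₀1⟩ : ∃ x₀ ∈ (P : Subgroup G), x₀ ≠ 1 := by
    by_contra hcon
    push Not at hcon
    exact hP1 ((Subgroup.eq_bot_iff_forall _).mpr hcon)
  have hK1 : (P : Subgroup G).subgroupOf
      (Subgroup.normalizer ((P : Subgroup G) : Set G)) ≠ ⊥ := by
    intro h
    have h1 : (⟨x₀, hle hx₀P⟩ : (Subgroup.normalizer ((P : Subgroup G) : Set G))) ∈
        (P : Subgroup G).subgroupOf (Subgroup.normalizer ((P : Subgroup G) : Set G)) := hx₀P
    rw [h, Subgroup.mem_bot] at h1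
    exact hx₀1 (congrArg Subtype.val h1)
  obtain ⟨hiso, hone⟩ := Cfsg.Agent.Helper25.isLinearIsometryOn_indFun_TI
    ((P : Subgroup G) : Set G) hTI
    {χ : ↥(Subgroup.normalizer ((P : Subgroup G) : Set G)) → ℂ |
      Cfsg.IsIrrCharacter ↥(Subgroup.normalizer ((P : Subgroup G) : Set G)) χ ∧
      ∃ x ∈ (P : Subgroup G).subgroupOf (Subgroup.normalizer ((P : Subgroup G) : Set G)),
        χ x ≠ χ 1}
    (fun χ hχ => Cfsg.Agent.Helper80.isCharacter_of_irr hχ.1)
    (fun χ hχ x hx => Cfsg.Agent.Helper25.frob_irr_apply_eq_zero _ hCK hχ.1 hχ.2 hx)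
  by_cases hab : IsMulCommutative (P : Subgroup G)
  · have hab' : ∀ a b : ((P : Subgroup G).subgroupOf
        (Subgroup.normalizer ((P : Subgroup G) : Set G))), a * b = b * a := by
      intro a b
      have h1 := hab.is_comm.comm ⟨(a : G), a.2⟩ ⟨(b : G), b.2⟩
      apply Subtype.ext
      apply Subtype.ext
      have h2 := congrArg Subtype.val h1
      exact h2
    rcases Cfsg.Agent.Helper25.coh_frob_abelian _ hCK hK1 hab'
      (fun α => Cfsg.indFun (Subgroup.normalizer ((P : Subgroup G) : Set G)) α) hiso hone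
      with ⟨h1, h2⟩ | h
    · left
      refine ⟨h1, ⟨hab, ?_⟩, by rw [← hKcard0]; exact h2⟩
      have hm0 : m ≠ 0 := by
        intro h0
        rw [h0, pow_zero] at hm
        exact hP1 (Subgroup.card_eq_one.mp hm)
      have hexp := Cfsg.Agent.Helper25.frob_abelian_exponent _ hCK h2 p hpp
        (by rw [hKcard]; exact dvd_pow_self p hm0)
      intro a ha
      have h3 := hexp (⟨a, hle ha⟩ : (Subgroup.normalizer ((P : Subgroup G) : Set G))) ha
      exact congrArg Subtype.val h3
    · right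
      exact h
  · right
    have hKodd : Odd (Nat.card ((P : Subgroup G).subgroupOf
        (Subgroup.normalizer ((P : Subgroup G) : Set G)))) := by
      rw [hKcard]; exact hpodd.pow
    have hnaK : ¬ ∀ a b : ((P : Subgroup G).subgroupOf
        (Subgroup.normalizer ((P : Subgroup G) : Set G))), a * b = b * a := by
      intro h
      apply hab
      refine ⟨⟨fun a b => ?_⟩⟩
      have h1 := h ⟨⟨(a : G), hle a.2⟩, a.2⟩ ⟨⟨(b : G), hle b.2⟩, b.2⟩
      apply Subtype.ext
      have h2 := congrArg (fun x : ((P : Subgroup G).subgroupOf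
        (Subgroup.normalizer ((P : Subgroup G) : Set G))) =>
          (((x : (Subgroup.normalizer ((P : Subgroup G) : Set G))) : G))) h1
      exact h2
    have hodd : Odd (Nat.card (Subgroup.normalizer ((P : Subgroup G) : Set G))) :=
      Cfsg.Agent.Helper25.odd_card_of_frob_of_not_comm _ hCK hKodd hnaK
    -- the centre of `P`
    obtain ⟨Z, hZdef⟩ : ∃ Z : Subgroup G,
        Z = Subgroup.centralizer ((P : Subgroup G) : Set G) ⊓ (P : Subgroup G) := ⟨_, rfl⟩
    have hZmem : ∀ z, z ∈ Z ↔ (∀ y ∈ (P : Subgroup G), y * z = z * y) ∧ z ∈ (P : Subgroup G) := by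
      intro z
      rw [hZdef, Subgroup.mem_inf, Subgroup.mem_centralizer_iff]
      rfl
    have hZP : ∀ z ∈ Z, z ∈ (P : Subgroup G) ∧ ∀ y ∈ (P : Subgroup G), z * y = y * z :=
      fun z hz => ⟨((hZmem z).mp hz).2, fun y hy => (((hZmem z).mp hz).1 y hy).symm⟩
    have hZ1 : Z ≠ ⊥ := by
      haveI : Nontrivial (P : Subgroup G) := by
        rw [Subgroup.nontrivial_iff_ne_bot]
        exact hP1
      haveI := IsPGroup.center_nontrivial P.isPGroup'
      obtain ⟨c, hc1⟩ := exists_ne (1 : Subgroup.center (P : Subgroup G))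
      intro h
      have hmem : ((c : (P : Subgroup G)) : G) ∈ Z := by
        rw [hZmem]
        refine ⟨fun y hy => ?_, (c : (P : Subgroup G)).2⟩
        have h1 := Subgroup.mem_center_iff.mp c.2 ⟨y, hy⟩
        exact congrArg Subtype.val h1
      rw [h, Subgroup.mem_bot] at hmem
      apply hc1
      apply Subtype.ext
      apply Subtype.ext
      exact hmem
    have hZn : ∀ x ∈ Subgroup.normalizer ((P : Subgroup G) : Set G), ∀ z ∈ Z,
        x * z * x⁻¹ ∈ Z := by
      intro x hx z hz
      obtain ⟨hz1, hz2⟩ := (hZmem z).mp hz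
      rw [hZmem]
      refine ⟨fun y hy => ?_, (Subgroup.mem_normalizer_iff.mp hx z).mp hz2⟩
      have hy' : x⁻¹ * y * x ∈ (P : Subgroup G) := by
        have h1 := (Subgroup.mem_normalizer_iff.mp (Subgroup.inv_mem _ hx) y).mp hy
        rwa [inv_inv] at h1
      have h2 := hz1 _ hy'
      calc y * (x * z * x⁻¹) = x * ((x⁻¹ * y * x) * z) * x⁻¹ := by group
        _ = x * (z * (x⁻¹ * y * x)) * x⁻¹ := by rw [h2]
        _ = x * z * x⁻¹ * y := by group
    have hcoh := Cfsg.Agent.S1532.result p hp P hab hTI hlt hC Z hZ1 hZP hZn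
    haveI hZn' : (Z.subgroupOf (Subgroup.normalizer ((P : Subgroup G) : Set G))).Normal := by
      refine ⟨fun z hz x => ?_⟩
      rw [Subgroup.mem_subgroupOf] at hz ⊢
      exact hZn x x.2 z hz
    have hZK : Z.subgroupOf (Subgroup.normalizer ((P : Subgroup G) : Set G)) ≤
        (P : Subgroup G).subgroupOf (Subgroup.normalizer ((P : Subgroup G) : Set G)) :=
      fun z hz => (hZP z hz).1
    have hZ3 : 3 ≤ Nat.card (Z.subgroupOf (Subgroup.normalizer ((P : Subgroup G) : Set G))) := by
      have h1 := Subgroup.card_dvd_of_le hZK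
      rw [hKcard] at h1
      obtain ⟨j, -, hj⟩ := (Nat.dvd_prime_pow hpp).mp h1
      rw [hj]
      have hj0 : j ≠ 0 := by
        intro h0
        rw [h0, pow_zero] at hj
        have h2 := Subgroup.card_eq_one.mp hj
        obtain ⟨⟨z₀, hz₀⟩, hz₀1'⟩ := (Subgroup.ne_bot_iff_exists_ne_one (H := Z)).mp hZ1
        have hz₀1 : z₀ ≠ 1 := fun h => hz₀1' (Subtype.ext h)
        have h3 : (⟨z₀, hle (hZP z₀ hz₀).1⟩ : (Subgroup.normalizer ((P : Subgroup G) : Set G))) ∈
            Z.subgroupOf (Subgroup.normalizer ((P : Subgroup G) : Set G)) := hz₀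
        rw [h2, Subgroup.mem_bot] at h3
        exact hz₀1 (congrArg Subtype.val h3)
      calc 3 ≤ p := hp3
        _ = p ^ 1 := (pow_one p).symm
        _ ≤ p ^ j := Nat.pow_le_pow_right hpp.pos (by omega)
    exact Cfsg.Agent.Helper25.coh_frob_pgroup _ hCK hodd p m hpp hKcard
      (Z.subgroupOf (Subgroup.normalizer ((P : Subgroup G) : Set G))) hZK hZ3
      (fun α => Cfsg.indFun (Subgroup.normalizer ((P : Subgroup G) : Set G)) α) hiso hone hcoh
      (fun ψ hψ θ hθ hθZ horth χ hχ dθ dχ q hθ1 hχ1 he hq =>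
        Cfsg.Agent.Helper25.ti_sylow_mult_dvd p P hTI
          (Subgroup.normalizer ((P : Subgroup G) : Set G)) rfl hodd Z
          (fun z hz => (hZP z hz).1) hZn (fun z hz => (hZP z hz).2) ψ hψ θ hθ hθZ horth χ hχ
          dθ dχ q hθ1 hχ1 he hq)

end Cfsg.Agent.S1533
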