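import Cfsg.Statements.S1534
import Cfsg.Agent.Helper25.Sib10
import Cfsg.Agent.Helper25.Sib12
import Cfsg.Agent.S1533

set_option linter.style.haveILetI false
set_option linter.unusedVariables false
set_option maxHeartbeats 1000000

set_option autoImplicit false
open Cfsg

namespace Cfsg.Agent.S1534

/-- Let G be a finite group and K a nontrivial nilpotent subgroup whose underlying set is a TI-subset of G, properly contained in its set normaliser N, with C_G(k) ≤ K for every non-identity k ∈ K; let e be the index of K in N and S the set of irreducible characters χ of N with χ k ≠ χ 1 for some k ∈ K. Then one of: S has exactly one member, Nat.card K = e + 1 and K is an elementary abelian p-group for some prime p; or K is a Sylow 2-subgroup of G (Nat.card K is the largest power of 2 dividing Nat.card G) and [K : [K,K]] < 4e²; or (S, N minus 1, induction to G) is coherent. -/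
theorem result {G : Type*} [Group G] [Fintype G] (K : Subgroup G) (hK1 : K ≠ ⊥) (hnil : Group.IsNilpotent K) (hTI : Cfsg.IsTISubset (K : Set G)) (hlt : K < Subgroup.normalizer (K : Set G)) (hC : ∀ k ∈ K, k ≠ 1 → Subgroup.centralizer ({k} : Set G) ≤ K) [Fintype ↥(Subgroup.normalizer (K : Set G))] : (Nat.card {χ : ↥(Subgroup.normalizer (K : Set G)) → ℂ // Cfsg.IsIrrCharacter ↥(Subgroup.normalizer (K : Set G)) χ ∧ ∃ k : ↥(Subgroup.normalizer (K : Set G)), (k : G) ∈ K ∧ χ k ≠ χ 1} = 1 ∧ Nat.card K = (K.subgroupOf (Subgroup.normalizer (K : Set G))).index + 1 ∧ ∃ p : ℕ, p.Prime ∧ Cfsg.IsElementaryAbelian p K) ∨ (Nat.card K = 2 ^ (Nat.card G).factorization 2 ∧ (⁅K, K⁆.subgroupOf K).index < 4 * (K.subgroupOf (Subgroup.normalizer (K : Set G))).index ^ 2) ∨ Cfsg.IsCoherent {χ : ↥(Subgroup.normalizer (K : Set G)) → ℂ | Cfsg.IsIrrCharacter ↥(Subgroup.normalizer (K : Set G)) χ ∧ ∃ k : ↥(Subgroup.normalizer (K : Set G)), (k : G) ∈ K ∧ χ k ≠ χ 1} {1}ᶜ (fun α => Cfsg.indFun (Subgroup.normalizer (K : Set G)) α) := by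
  classical
  have hle : K ≤ Subgroup.normalizer (K : Set G) := Subgroup.le_normalizer
  haveI hKn : (K.subgroupOf (Subgroup.normalizer (K : Set G))).Normal :=
    Subgroup.normal_in_normalizer
  have hCK := Cfsg.Agent.Helper25.centralizer_subgroupOf_normalizer_le K hC
  have hKcard0 : Nat.card (K.subgroupOf (Subgroup.normalizer (K : Set G))) = Nat.card K :=
    Nat.card_congr (Subgroup.subgroupOfEquivOfLe hle).toEquiv
  obtain ⟨x₀, hx₀K, hx₀1⟩ : ∃ x₀ ∈ K, x₀ ≠ 1 := by
    by_contra hcon
    push Not at hcon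
    exact hK1 ((Subgroup.eq_bot_iff_forall _).mpr hcon)
  have hK1' : K.subgroupOf (Subgroup.normalizer (K : Set G)) ≠ ⊥ := by
    intro h
    have h1 : (⟨x₀, hle hx₀K⟩ : (Subgroup.normalizer (K : Set G))) ∈
        K.subgroupOf (Subgroup.normalizer (K : Set G)) := hx₀K
    rw [h, Subgroup.mem_bot] at h1
    exact hx₀1 (congrArg Subtype.val h1)
  have hnil' : Group.IsNilpotent (K.subgroupOf (Subgroup.normalizer (K : Set G))) :=
    Group.nilpotent_of_mulEquiv (Subgroup.subgroupOfEquivOfLe hle).symm
  obtain ⟨hiso, hone⟩ := Cfsg.Agent.Helper25.isLinearIsometryOn_indFun_TI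
    (K : Set G) hTI
    {χ : ↥(Subgroup.normalizer (K : Set G)) → ℂ |
      Cfsg.IsIrrCharacter ↥(Subgroup.normalizer (K : Set G)) χ ∧
      ∃ x ∈ K.subgroupOf (Subgroup.normalizer (K : Set G)), χ x ≠ χ 1}
    (fun χ hχ => Cfsg.Agent.Helper80.isCharacter_of_irr hχ.1)
    (fun χ hχ x hx => Cfsg.Agent.Helper25.frob_irr_apply_eq_zero _ hCK hχ.1 hχ.2 hx)
  have hset := Cfsg.Agent.Helper25.frob_inducedIrrAbove_bot_eq
    (K.subgroupOf (Subgroup.normalizer (K : Set G))) hCK
  rw [← hset] at hiso hone
  rcases Cfsg.Agent.Helper25.coh_frob_nilpotent _ hCK hK1' hnil'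
    (fun α => Cfsg.indFun (Subgroup.normalizer (K : Set G)) α) hiso hone with h | h | h
  · right
    right
    rw [hset] at h
    exact h
  · left
    obtain ⟨h1, h2, h3⟩ := h
    have hcard1 : Nat.card K ≠ 1 := fun h => hK1 (Subgroup.card_eq_one.mp h)
    obtain ⟨p, hp, hpdvd⟩ := Nat.exists_prime_and_dvd hcard1
    refine ⟨h1, by rw [← hKcard0]; exact h2, p, hp, ⟨⟨⟨fun a b => ?_⟩⟩, ?_⟩⟩
    · have h4 := h3 ⟨⟨(a : G), hle a.2⟩, a.2⟩ ⟨⟨(b : G), hle b.2⟩, b.2⟩
      apply Subtype.ext
      have h5 := congrArg (fun x : (K.subgroupOf (Subgroup.normalizer (K : Set G))) =>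
        (((x : (Subgroup.normalizer (K : Set G))) : G))) h4
      exact h5
    · have hexp := Cfsg.Agent.Helper25.frob_abelian_exponent _ hCK h2 p hp
        (by rw [hKcard0]; exact hpdvd)
      intro a ha
      have h6 := hexp (⟨a, hle ha⟩ : (Subgroup.normalizer (K : Set G))) ha
      exact congrArg Subtype.val h6
  · obtain ⟨p, m, hp, hm, hnab, hidx⟩ := h
    haveI : Fact p.Prime := ⟨hp⟩
    have hKcard : Nat.card K = p ^ m := by rw [← hKcard0, hm]
    have hKp : IsPGroup p K := IsPGroup.of_card hKcard
    obtain ⟨P, hKP⟩ := hKp.exists_le_sylow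
    have hPK : (P : Subgroup G) = K :=
      Cfsg.Agent.Helper25.ti_frob_sylow_max K hK1 hC p P.isPGroup' hKP
    have hnabK : ¬ IsMulCommutative K := by
      intro hcomm
      apply hnab
      intro a b
      have h1 := hcomm.is_comm.comm ⟨(a : G), a.2⟩ ⟨(b : G), b.2⟩
      apply Subtype.ext
      apply Subtype.ext
      have h2 := congrArg Subtype.val h1
      exact h2
    by_cases hp2 : p = 2
    · right
      left
      subst hp2
      refine ⟨?_, ?_⟩
      · rw [← hPK]
        exact P.card_eq_multiplicity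
      · rw [← Cfsg.Agent.Helper25.relIndex_commutator_subgroupOf K _ hle]
        have hdvd : (⁅K.subgroupOf (Subgroup.normalizer (K : Set G)),
            K.subgroupOf (Subgroup.normalizer (K : Set G))⁆ :
              Subgroup (Subgroup.normalizer (K : Set G))).relIndex
            (K.subgroupOf (Subgroup.normalizer (K : Set G))) ∣
            Nat.card (K.subgroupOf (Subgroup.normalizer (K : Set G))) :=
          Subgroup.index_dvd_card _
        rw [hm] at hdvd
        obtain ⟨j, -, hj⟩ := (Nat.dvd_prime_pow hp).mp hdvd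
        have he_dvd := Cfsg.Agent.Helper25.frob_relIndex_dvd
          (K.subgroupOf (Subgroup.normalizer (K : Set G))) hCK ⊥
          (K.subgroupOf (Subgroup.normalizer (K : Set G))) bot_le le_rfl
        rw [Subgroup.relIndex_bot_left, hm] at he_dvd
        have hm0 : m ≠ 0 := by
          intro h0
          rw [h0, pow_zero] at hKcard
          exact hK1 (Subgroup.card_eq_one.mp hKcard)
        have hodd : Odd (K.subgroupOf (Subgroup.normalizer (K : Set G))).index := by
          have h1 : Odd (2 ^ m - 1) :=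
            Nat.Even.sub_odd Nat.one_le_two_pow ((Nat.even_pow' hm0).mpr even_two) odd_one
          exact Odd.of_dvd_nat h1 he_dvd
        have he1 : (K.subgroupOf (Subgroup.normalizer (K : Set G))).index ≠ 1 := by
          intro h
          have h1 := Subgroup.index_eq_one.mp h
          apply hlt.not_ge
          intro x hx
          have h2 : (⟨x, hx⟩ : (Subgroup.normalizer (K : Set G))) ∈
              K.subgroupOf (Subgroup.normalizer (K : Set G)) := by
            rw [h1]
            exact Subgroup.mem_top _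
          exact h2
        exact Cfsg.Agent.Helper25.two_pow_lt_of_le _ _ j hj hodd he1 hidx
    · right
      right
      subst hPK
      rcases Cfsg.Agent.S1533.result p hp2 P hK1 hTI hlt hC with h | h
      · exact absurd h.2.1.1 hnabK
      · exact h

end Cfsg.Agent.S1534
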