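import Mathlib
import Cfsg.Statements.S1019

set_option autoImplicit false
open Cfsg

namespace Cfsg.Agent.S1019

theorem result {G : Type*} [Group G] [Finite G] (H : Subgroup G) (x : G) (hx : x ∈ H) : Nat.card (MulAction.fixedBy (G ⧸ H) x) * Nat.card {g : G // IsConj x g} = H.index * Nat.card {g : G // IsConj x g ∧ g ∈ H} := by
  classical
  have e : (Σ y : {g : G // IsConj x g}, MulAction.fixedBy (G ⧸ H) y.1) ≃
      (Σ c : G ⧸ H, {y : G // IsConj x y ∧ y • c = c}) :=
    { toFun := fun p => ⟨p.2.1, ⟨p.1.1, p.1.2, p.2.2⟩⟩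
      invFun := fun q => ⟨⟨q.2.1, q.2.2.1⟩, ⟨q.1, q.2.2.2⟩⟩
      left_inv := fun p => rfl
      right_inv := fun q => rfl }
  have h1 := Nat.card_congr e
  have : Fintype {g : G // IsConj x g} := Fintype.ofFinite _
  have : Fintype (G ⧸ H) := Fintype.ofFinite _
  rw [Nat.card_sigma, Nat.card_sigma] at h1
  have ha : ∀ y : {g : G // IsConj x g}, Nat.card (MulAction.fixedBy (G ⧸ H) y.1) =
      Nat.card (MulAction.fixedBy (G ⧸ H) x) := by
    rintro ⟨y, hy⟩
    obtain ⟨a, rfl⟩ := isConj_iff.mp hy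
    symm
    apply Nat.card_congr
    refine Equiv.subtypeEquiv (MulAction.toPerm a) (fun c => ?_)
    rw [MulAction.mem_fixedBy, MulAction.mem_fixedBy, MulAction.toPerm_apply, ← mul_smul]
    have : a * x * a⁻¹ * a = a * x := by group
    rw [this, mul_smul, smul_left_cancel_iff]
  have hb : ∀ c : G ⧸ H, Nat.card {y : G // IsConj x y ∧ y • c = c} =
      Nat.card {g : G // IsConj x g ∧ g ∈ H} := by
    intro c
    induction c using QuotientGroup.induction_on with
    | H g =>
      apply Nat.card_congr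
      refine Equiv.subtypeEquiv (MulAut.conj g⁻¹).toEquiv (fun y => ?_)
      have h2 : (MulAut.conj g⁻¹).toEquiv y = g⁻¹ * y * g := by simp
      rw [h2]
      have h3 : (y • (QuotientGroup.mk g : G ⧸ H) = QuotientGroup.mk g) ↔ g⁻¹ * y * g ∈ H := by
        have : y • (QuotientGroup.mk g : G ⧸ H) = QuotientGroup.mk (y * g) := rfl
        rw [this, QuotientGroup.eq, ← H.inv_mem_iff]
        have : ((y * g)⁻¹ * g)⁻¹ = g⁻¹ * y * g := by group
        rw [this]
      rw [h3]
      have h4 : IsConj x y ↔ IsConj x (g⁻¹ * y * g) := by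
        constructor
        · intro h
          refine h.trans (isConj_iff.mpr ⟨g⁻¹, by group⟩)
        · intro h
          refine h.trans (isConj_iff.mpr ⟨g, by group⟩)
      rw [h4]
  simp only [ha, hb] at h1
  rw [Finset.sum_const, Finset.sum_const, Finset.card_univ, Finset.card_univ, smul_eq_mul, smul_eq_mul,
    ← Nat.card_eq_fintype_card, ← Nat.card_eq_fintype_card] at h1
  rw [mul_comm, h1]
  rfl

end Cfsg.Agent.S1019
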