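import Cfsg.Statements.S5256
import Cfsg.Agent.Helper87.Factor

set_option autoImplicit false
open Cfsg

namespace Cfsg.Agent.S5256

open Cfsg.FusionSystem Cfsg.Agent.Helper87

/-- Let F be a saturated fusion system over a finite p-group S, T a subgroup of S strongly closed in F, and E a factor system F/T realised along a homomorphism θ of S with kernel T. Then the hyperfocal subgroup of E is the image under θ of the hyperfocal subgroup of F (hyp(F/T) = T·hyp(F)/T). -/
theorem result {Ω : Type*} [Group Ω] {S : Subgroup Ω} [Finite S] (p : ℕ) [Fact p.Prime] (hS : IsPGroup p S) (F : Cfsg.FusionSystem S) (hF : F.IsSaturated p) (T : Subgroup Ω) (hT : F.StronglyClosed T) {Ω' : Type*} [Group Ω'] {S' : Subgroup Ω'} (θ : ↥S →* Ω') (E : Cfsg.FusionSystem S') (hE : F.IsFactorSystem T θ E) : E.hyperfocalSubgroup p = ((F.hyperfocalSubgroup p).subgroupOf S).map θ := by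
  obtain ⟨hTS, hker, hrange, hHom⟩ := hE
  have hTnorm : ∀ s ∈ S, ∀ q ∈ T, s * q * s⁻¹ ∈ T := fun s hs q hq => stronglyClosed_conj_mem F hT hs hq
  have hθeq : ∀ s₁ s₂ : S, (s₁ : Ω)⁻¹ * s₂ ∈ T → θ s₁ = θ s₂ := by
    intro s₁ s₂ h
    have h1 : θ (s₁⁻¹ * s₂) = 1 := (hker _).mpr h
    rw [map_mul, map_inv] at h1
    exact inv_mul_eq_one.mp h1
  have hθS' : ∀ s : S, θ s ∈ S' := fun s => by rw [← hrange]; exact ⟨s, rfl⟩
  apply le_antisymm
  · -- hyp(E) ≤ θ(hyp(F))
    unfold hyperfocalSubgroup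
    rw [Subgroup.closure_le]
    rintro y ⟨P', α', x', hP'S', hα', rfl⟩
    have hPS : preimageAlong θ P' ≤ S := preimageAlong_le θ P'
    have hfinP : Finite (preimageAlong θ P') := finite_of_le hPS
    have hmap : ∀ x : preimageAlong θ P', θ ⟨x, hPS x.2⟩ ∈ P' := fun x => (mem_preimageAlong.mp x.2).2
    have hπ : Function.Surjective ((θ.comp (Subgroup.inclusion hPS)).codRestrict P' hmap) := by
      intro y
      have hy : (y : Ω') ∈ θ.range := by rw [hrange]; exact hP'S' y.2
      obtain ⟨s, hs⟩ := hy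
      refine ⟨⟨s, mem_preimageAlong.mpr ⟨s.2, by rw [Subtype.coe_eta, hs]; exact y.2⟩⟩, Subtype.ext ?_⟩
      exact hs
    have hlift : ∀ β' ∈ E.autGroup P', ∃ β ∈ F.autGroup (preimageAlong θ P'),
        IndAut ((θ.comp (Subgroup.inclusion hPS)).codRestrict P' hmap) β β' := by
      intro β' hβ'
      have h1 := (mem_autGroup_iff E hP'S' β').mp hβ'
      obtain ⟨-, φ, hφ, hPS₂, hφS, hP'', hind⟩ := (hHom P' _).mp h1
      have hmem : ∀ x : preimageAlong θ P', φ x ∈ preimageAlong θ P' := by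
        intro x
        refine mem_preimageAlong.mpr ⟨hφS x, ?_⟩
        rw [← hind x]
        exact (β' _).2
      have hinj : Function.Injective (φ.codRestrict (preimageAlong θ P') hmem) := by
        intro a b hab
        exact F.injective_of_mem hφ (congrArg Subtype.val hab)
      refine ⟨MulEquiv.ofBijective _ ⟨hinj, Finite.surjective_of_injective hinj⟩, ?_, ?_⟩
      · rw [mem_autGroup_iff F hPS]
        exact hom_of_eq F hφ (fun x => rfl)
      · intro x
        apply Subtype.ext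
        exact hind x
    obtain ⟨α, hα, hind⟩ := pResidual_pull ((θ.comp (Subgroup.inclusion hPS)).codRestrict P' hmap) hlift α' hα'
    obtain ⟨x, rfl⟩ := hπ x'
    have hxS : ((x⁻¹ * (α : MulAut (preimageAlong θ P')) x : preimageAlong θ P') : Ω) ∈ S := hPS (x⁻¹ * _).2
    refine ⟨⟨_, hxS⟩, Subgroup.mem_subgroupOf.mpr (Subgroup.subset_closure
      ⟨preimageAlong θ P', α, x, hPS, hα, rfl⟩), ?_⟩
    rw [hind x]
    show θ ⟨((x⁻¹ * (α : MulAut (preimageAlong θ P')) x : preimageAlong θ P') : Ω), hxS⟩ =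
      (θ ⟨x, hPS x.2⟩)⁻¹ * θ ⟨(((α : MulAut (preimageAlong θ P')) x : preimageAlong θ P') : Ω), hPS (_ : preimageAlong θ P').2⟩
    rw [← map_inv, ← map_mul]
    rfl
  · -- θ(hyp(F)) ≤ hyp(E)
    have key : F.hyperfocalSubgroup p ≤ ((E.hyperfocalSubgroup p).comap θ).map S.subtype := by
      unfold hyperfocalSubgroup
      rw [Subgroup.closure_le]
      rintro y ⟨P, α, x, hPS, hα, rfl⟩
      have hmap : ∀ x : P, θ ⟨x, hPS x.2⟩ ∈ imageAlong θ P := fun x => mem_imageAlong _ x.2 _
      have hπ : Function.Surjective ((θ.comp (Subgroup.inclusion hPS)).codRestrict (imageAlong θ P) hmap) := by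
        rintro ⟨_, s, hs, rfl⟩
        exact ⟨⟨s, Subgroup.mem_subgroupOf.mp hs⟩, Subtype.ext rfl⟩
      have hP'S' : imageAlong θ P ≤ S' := by
        rintro _ ⟨s, -, rfl⟩
        exact hθS' s
      have hsup : ∀ {y : Ω}, y ∈ P ⊔ T ↔ ∃ a ∈ P, ∃ k ∈ T, y = a * k :=
        fun {y} => mem_sup_of_normalizes (H := P) (K := T) (fun a ha k hk => hTnorm a (hPS ha) k hk)
      have hPTS : P ⊔ T ≤ S := sup_le hPS hTS
      have hpre : preimageAlong θ (imageAlong θ P) = P ⊔ T := by
        ext y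
        rw [mem_preimageAlong]
        constructor
        · rintro ⟨hy, s, hs, hsy⟩
          have h1 : (s : Ω)⁻¹ * y ∈ T := by
            have h2 : θ (s⁻¹ * ⟨y, hy⟩) = 1 := by rw [map_mul, map_inv, hsy, inv_mul_cancel]
            exact (hker _).mp h2
          have e : y = (s : Ω) * ((s : Ω)⁻¹ * y) := by group
          rw [e]
          exact Subgroup.mul_mem _ (Subgroup.mem_sup_left (Subgroup.mem_subgroupOf.mp hs))
            (Subgroup.mem_sup_right h1)
        · intro hy
          obtain ⟨a, ha, k, hk, rfl⟩ := hsup.mp hy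
          refine ⟨hPTS hy, ?_⟩
          have e : θ ⟨a * k, hPTS hy⟩ = θ ⟨a, hPS ha⟩ := by
            apply hθeq
            show (a * k)⁻¹ * a ∈ T
            have e2 : (a * k)⁻¹ * a = k⁻¹ := by group
            rw [e2]
            exact T.inv_mem hk
          rw [e]
          exact mem_imageAlong _ ha _
      have hkerπ : ∀ x : P, ((θ.comp (Subgroup.inclusion hPS)).codRestrict (imageAlong θ P) hmap) x = 1 ↔
          (x : Ω) ∈ T := by
        intro x
        rw [← hker ⟨x, hPS x.2⟩]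
        constructor
        · intro h
          exact congrArg Subtype.val h
        · intro h
          exact Subtype.ext h
      have hpush : ∀ β ∈ F.autGroup P, ∃ β' ∈ E.autGroup (imageAlong θ P),
          IndAut ((θ.comp (Subgroup.inclusion hPS)).codRestrict (imageAlong θ P) hmap) β β' := by
        intro β hβ
        obtain ⟨β', hβ'⟩ := exists_induced_mulAut _ hπ β
          (fun x hx => (hkerπ _).mpr (aut_mem_of_stronglyClosed F hT hPS hβ x ((hkerπ x).mp hx)))
          (fun x hx => (hkerπ _).mpr (aut_mem_of_stronglyClosed F hT hPS (Subgroup.inv_mem _ hβ) x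
            ((hkerπ x).mp hx)))
        refine ⟨β', ?_, hβ'⟩
        rw [mem_autGroup_iff E hP'S', hHom]
        refine ⟨hP'S', ?_⟩
        rw [hpre]
        obtain ⟨ψ, hψ, hψ'⟩ := exists_lift_mod hS F hF hT P _ ((mem_autGroup_iff F hPS β).mp hβ)
        have hP'' : ∀ y : ↥(P ⊔ T), θ ⟨y, hPTS y.2⟩ ∈ imageAlong θ P := by
          intro y
          obtain ⟨a, ha, k, hk, hy⟩ := hsup.mp y.2
          have e : θ ⟨y, hPTS y.2⟩ = θ ⟨a, hPS ha⟩ := by
            apply hθeq
            show (y : Ω)⁻¹ * a ∈ T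
            rw [hy]
            have e2 : (a * k)⁻¹ * a = k⁻¹ := by group
            rw [e2]
            exact T.inv_mem hk
          rw [e]
          exact mem_imageAlong _ ha _
        refine ⟨ψ, hψ, hPTS, fun y => hom_mem F hψ y, hP'', fun y => ?_⟩
        obtain ⟨a, ha, k, hk, hy⟩ := hsup.mp y.2
        have e1 : (⟨θ ⟨y, hPTS y.2⟩, hP'' y⟩ : imageAlong θ P) =
            ((θ.comp (Subgroup.inclusion hPS)).codRestrict (imageAlong θ P) hmap) ⟨a, ha⟩ := by
          apply Subtype.ext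
          show θ ⟨y, hPTS y.2⟩ = θ ⟨a, hPS ha⟩
          apply hθeq
          show (y : Ω)⁻¹ * a ∈ T
          rw [hy]
          have e2 : (a * k)⁻¹ * a = k⁻¹ := by group
          rw [e2]
          exact T.inv_mem hk
        show ((β' ⟨θ ⟨y, hPTS y.2⟩, hP'' y⟩ : imageAlong θ P) : Ω') = θ ⟨ψ y, hom_mem F hψ y⟩
        rw [e1, hβ' ⟨a, ha⟩]
        show θ ⟨((β ⟨a, ha⟩ : P) : Ω), hPS (β ⟨a, ha⟩).2⟩ = θ ⟨ψ y, hom_mem F hψ y⟩
        apply hθeq
        show ((β ⟨a, ha⟩ : P) : Ω)⁻¹ * ψ y ∈ T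
        have hy' : y = (⟨a, (le_sup_left : P ≤ P ⊔ T) ha⟩ : ↥(P ⊔ T)) *
            ⟨k, (le_sup_right : T ≤ P ⊔ T) hk⟩ := Subtype.ext hy
        rw [hy', map_mul, ← mul_assoc]
        exact T.mul_mem (hψ' ⟨a, ha⟩) (map_sup_mem F hT hψ k hk)
      obtain ⟨α', hα', hind⟩ := pResidual_push _ hπ hpush α hα
      have hxS : ((x : Ω)⁻¹ * (((α : MulAut P) x : P) : Ω)) ∈ S :=
        S.mul_mem (S.inv_mem (hPS x.2)) (hPS ((α : MulAut P) x).2)
      refine ⟨⟨_, hxS⟩, ?_, rfl⟩
      show θ ⟨_, hxS⟩ ∈ Subgroup.closure _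
      have e : θ ⟨_, hxS⟩ = ((((θ.comp (Subgroup.inclusion hPS)).codRestrict (imageAlong θ P) hmap) x :
          imageAlong θ P) : Ω')⁻¹ * (((α' : MulAut (imageAlong θ P))
            (((θ.comp (Subgroup.inclusion hPS)).codRestrict (imageAlong θ P) hmap) x) : imageAlong θ P) : Ω') := by
        rw [hind x]
        show θ ⟨_, hxS⟩ = (θ ⟨x, hPS x.2⟩)⁻¹ * θ ⟨(((α : MulAut P) x : P) : Ω), hPS ((α : MulAut P) x).2⟩
        rw [← map_inv, ← map_mul]
        rfl
      rw [e]
      exact Subgroup.subset_closure ⟨imageAlong θ P, α', _, hP'S', hα', rfl⟩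
    rintro _ ⟨s, hs, rfl⟩
    obtain ⟨s', hs', hss⟩ := key (Subgroup.mem_subgroupOf.mp hs)
    have e : s' = s := Subtype.ext hss
    rw [← e]
    exact hs'

end Cfsg.Agent.S5256
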