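import Cfsg.Statements.S5124
import Cfsg.Agent.Helper85.Residual

set_option autoImplicit false
open Cfsg

namespace Cfsg.Agent.S5124

open Cfsg.FusionSystem Cfsg.Agent.Helper85

/-- In a saturated fusion system over a finite p-group S the hyperfocal subgroup is strongly closed in the system. -/
theorem result {Ω : Type*} [Group Ω] {S : Subgroup Ω} [Finite S] (p : ℕ) [Fact p.Prime] (hS : IsPGroup p S) (F : Cfsg.FusionSystem S) (hF : F.IsSaturated p) : F.StronglyClosed (F.hyperfocalSubgroup p) := by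
  -- generators
  have hgen : ∀ (R : Subgroup Ω) (β : F.autGroup R) (x : R), R ≤ S → β ∈ pResidual p (F.autGroup R) →
      (x : Ω)⁻¹ * (((β : MulAut R) x : R) : Ω) ∈ F.hyperfocalSubgroup p :=
    fun R β x hR hβ => Subgroup.subset_closure ⟨R, β, x, hR, hβ, rfl⟩
  have hHS : F.hyperfocalSubgroup p ≤ S := by
    refine (Subgroup.closure_le _).2 ?_
    rintro _ ⟨P, α, x, hP, -, rfl⟩
    exact S.mul_mem (S.inv_mem (hP x.2)) (hP (Subtype.coe_prop _))
  -- normalized by `S`
  have hconj : ∀ s ∈ S, ∀ h ∈ F.hyperfocalSubgroup p, s * h * s⁻¹ ∈ F.hyperfocalSubgroup p := by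
    intro s hs h hh
    refine Subgroup.closure_induction (p := fun h _ => s * h * s⁻¹ ∈ F.hyperfocalSubgroup p) ?_ ?_ ?_ ?_ hh
    · rintro _ ⟨P, α, x, hP, hα, rfl⟩
      have hP' : P.map (MulAut.conj s).toMonoidHom ≤ S := by
        rintro _ ⟨y, hy, rfl⟩
        exact S.mul_mem (S.mul_mem hs (hP hy)) (S.inv_mem hs)
      obtain ⟨e, he, hev⟩ : ∃ e : P ≃* ↥(P.map (MulAut.conj s).toMonoidHom), IsIso F e ∧
          ∀ y : P, ((e y : ↥(P.map (MulAut.conj s).toMonoidHom)) : Ω) = s * (y : Ω) * s⁻¹ := by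
        refine ⟨P.equivMapOfInjective (MulAut.conj s).toMonoidHom (MulAut.conj s).injective, ?_,
          fun y => rfl⟩
        have e' : (P.map (MulAut.conj s).toMonoidHom).subtype.comp
            (P.equivMapOfInjective (MulAut.conj s).toMonoidHom (MulAut.conj s).injective).toMonoidHom
            = conjHom P s := by
          ext y
          rfl
        show (P.map (MulAut.conj s).toMonoidHom).subtype.comp _ ∈ F.Hom P
        rw [e']
        exact F.conj_mem hP hs
      have hmem : ∀ a : F.autGroup P,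
          (MulAut.congr e) (a : MulAut P) ∈ F.autGroup (P.map (MulAut.conj s).toMonoidHom) := fun a =>
        (mem_autGroup_iff F hP').2 (he.symm.trans (((mem_autGroup_iff F hP).1 a.2).trans he))
      have hα' := map_pResidual_le p
        (((MulAut.congr e).toMonoidHom.comp (F.autGroup P).subtype).codRestrict _ hmem) hα
      have h1 := hgen _ _ (e x) hP' hα'
      have h2 : s * ((x : Ω)⁻¹ * (((α : MulAut P) x : P) : Ω)) * s⁻¹
          = (s * (x : Ω) * s⁻¹)⁻¹ * (s * (((α : MulAut P) x : P) : Ω) * s⁻¹) := by group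
      have h4 : ((((((MulAut.congr e).toMonoidHom.comp (F.autGroup P).subtype).codRestrict _ hmem) α :
          F.autGroup (P.map (MulAut.conj s).toMonoidHom)) : MulAut ↥(P.map (MulAut.conj s).toMonoidHom))
          (e x) : ↥(P.map (MulAut.conj s).toMonoidHom)) = e ((α : MulAut P) x) := by
        show e ((α : MulAut P) (e.symm (e x))) = _
        rw [MulEquiv.symm_apply_apply]
      rw [h4, hev, hev] at h1
      rw [h2]
      exact h1
    · simp
    · intro x y _ _ hx hy
      have h1 : s * (x * y) * s⁻¹ = (s * x * s⁻¹) * (s * y * s⁻¹) := by group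
      rw [h1]
      exact Subgroup.mul_mem _ hx hy
    · intro x _ hx
      have h1 : s * x⁻¹ * s⁻¹ = (s * x * s⁻¹)⁻¹ := by group
      rw [h1]
      exact Subgroup.inv_mem _ hx
  have key : ∀ (P : Subgroup Ω) (φ : P →* Ω), φ ∈ F.Hom P →
      ∀ x : P, (x : Ω) ∈ F.hyperfocalSubgroup p ↔ φ x ∈ F.hyperfocalSubgroup p := by
    refine Helper87.alperin_induction hS F hF
      (fun P φ => ∀ x : P, (x : Ω) ∈ F.hyperfocalSubgroup p ↔ φ x ∈ F.hyperfocalSubgroup p) ?_ ?_ ?_ ?_
    · intro P Q h φ θ _ hθ hC x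
      rw [hθ x]
      exact hC ⟨x, h x.2⟩
    · intro P Q φ ψ θ _ _ hPQ hθ hCφ hCψ x
      rw [hθ x, hCφ x]
      exact hCψ ⟨φ x, hPQ x⟩
    · intro P Q φ ψ _ _ hr hPQ hinv hCφ y
      have hy : (y : Ω) ∈ φ.range := by rw [hr]; exact y.2
      obtain ⟨x, hx⟩ := hy
      have hy' : y = ⟨φ x, hPQ x⟩ := Subtype.ext hx.symm
      rw [hy', hinv x]
      exact (hCφ x).symm
    · intro R hfa _ _ α hα
      obtain ⟨hR, P₀, hP₀⟩ := hfa
      have hRfin : Finite R := finite_of_le hR
      have one : ∀ β' ∈ F.autGroup R, ∀ x : R, (x : Ω) ∈ F.hyperfocalSubgroup p →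
          ((β' x : R) : Ω) ∈ F.hyperfocalSubgroup p := by
        intro β' hβ' x hx
        obtain ⟨σ, hσ, β, hβ, hαβ⟩ := exists_sylow_mul_pResidual P₀ ⟨β', hβ'⟩
        rw [hP₀, Subgroup.mem_subgroupOf] at hσ
        obtain ⟨s, hs, hσs⟩ := mem_autInducedBy_iff.1 hσ
        have e1 : β' = (σ : MulAut R) * (β : MulAut R) := congrArg Subtype.val hαβ
        rw [e1, MulAut.mul_apply, hσs]
        apply hconj s hs
        have h1 := hgen R β x hR hβ
        have h2 : ((((β : MulAut R) x : R)) : Ω) = (x : Ω) * ((x : Ω)⁻¹ * (((β : MulAut R) x : R) : Ω)) := by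
          group
        rw [h2]
        exact Subgroup.mul_mem _ hx h1
      intro x
      refine ⟨one α hα x, fun h => ?_⟩
      have h5 := one α⁻¹ (Subgroup.inv_mem _ hα) (α x) h
      have h6 : α⁻¹ (α x) = x := MulEquiv.symm_apply_apply α x
      rwa [h6] at h5
  exact ⟨hHS, fun R hR φ hφ x => (key R φ hφ x).1 (hR x.2)⟩

end Cfsg.Agent.S5124
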