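import Cfsg.Statements.S5283
import Cfsg.Agent.Helper88.ChainStab
import Cfsg.Agent.Helper88.EigenChain
import Cfsg.Agent.Helper88.FusionNormalCrit
import Cfsg.Agent.Helper87.AutSys

set_option autoImplicit false
open Cfsg

namespace Cfsg.Agent.S5283

open Cfsg.FusionSystem Cfsg.Agent.Helper88

section aux

variable {Ω : Type*} [Group Ω] {S : Subgroup Ω}

/-- `Aut_F(R)` preserves the chain induced on `R` by a chain of strongly closed subgroups. -/
theorem autGroup_le_chainInv (F : FusionSystem S) {R : Subgroup Ω} (hRS : R ≤ S) {m : ℕ}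
    (c : Fin (m + 1) → Subgroup Ω) (hsc : ∀ i, F.StronglyClosed (c i)) :
    F.autGroup R ≤ chainInv (fun j => (c ⟨min j m, by omega⟩).subgroupOf R) m := by
  intro α hα j hj y hy
  have key : ∀ β ∈ F.autGroup R, β y ∈ (c ⟨min j m, by omega⟩).subgroupOf R := by
    intro β hβ
    have hm : IsMap F R (autFun β) := IsMap.of_mem_autGroup hRS hβ
    have := stronglyClosed_mapsTo (hsc ⟨min j m, by omega⟩) (hm.restrict inf_le_left) inf_le_right (y : Ω)
      ⟨y.2, Subgroup.mem_subgroupOf.mp hy⟩
    rw [autFun_apply] at this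
    exact Subgroup.mem_subgroupOf.mpr this
  exact ⟨key α hα, key α⁻¹ (Subgroup.inv_mem _ hα)⟩

/-- A saturated fusion system with a chain of strongly closed subgroups with cyclic steps has `S` normal. -/
theorem isNormal_self_of_chain [Finite S] {p : ℕ} [Fact p.Prime] (hS : IsPGroup p S) {F : FusionSystem S}
    (hF : F.IsSaturated p) {m : ℕ} (c : Fin (m + 1) → Subgroup Ω) (h0 : c 0 = ⊥)
    (hm : c (Fin.last m) = S) (hsc : ∀ i, F.StronglyClosed (c i))
    (hstep : ∀ i : Fin m, c i.castSucc ≤ c i.succ ∧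
      ∃ x ∈ S, c i.succ = c i.castSucc ⊔ Subgroup.zpowers x) : F.IsNormal S := by
  have hSsc : F.StronglyClosed S := ⟨le_rfl, fun R hR φ hφ x => (F.le_of_mem hφ).2 x⟩
  apply isNormal_of_le_radicals hS hF hSsc
  intro R hRa hRr hRc hRrad
  have hRS : R ≤ S := hRa.1
  have : Finite R := finite_of_le hRS
  have hD := cycChain_of_fin hRS c h0 hm (fun i => stronglyClosed_le_normalizer (hsc i))
    (fun i => (hsc i).1) hstep
  have hinv := autGroup_le_chainInv F hRS c hsc
  have hRp : IsPGroup p R := hS.to_le hRS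
  have hK := chainStab_isPGroup hRp hD.bot hD.top hD.mono
  have hcomm : commutator (F.autGroup R) ≤
      (chainStab (fun j => (c ⟨min j m, by omega⟩).subgroupOf R) m hD.mono).subgroupOf (F.autGroup R) := by
    rw [commutator_def, Subgroup.commutator_le]
    intro a _ b _
    rw [Subgroup.mem_subgroupOf, commutatorElement_def]
    exact chain_comm_mem hD (hinv a.2) (hinv b.2)
  have hcp : IsPGroup p (commutator (F.autGroup R)) := (hK.comap_subtype).to_le hcomm
  obtain ⟨P₀, hP₀⟩ := hcp.exists_le_sylow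
  have hnormal : (P₀ : Subgroup (F.autGroup R)).Normal := by
    constructor
    intro a ha g
    have h1 := Subgroup.commutator_mem_commutator (Subgroup.mem_top g) (Subgroup.mem_top a)
    rw [← commutator_def] at h1
    have h2 := hP₀ h1
    rw [commutatorElement_def] at h2
    have e : g * a * g⁻¹ = (g * a * g⁻¹ * a⁻¹) * a := by group
    rw [e]
    exact Subgroup.mul_mem _ h2 ha
  have hN := normalizerIn_le_of_radical_pclosed hRa hRc hRrad ⟨P₀, hnormal⟩
  by_contra hne
  have hne' : R ≠ S := fun h => hne (h ▸ le_rfl)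
  have h1 := card_lt_normalizerIn hS hRS hne'
  have h2 : Nat.card (normalizerIn S R) ≤ Nat.card R := Subgroup.card_le_of_le hN
  omega

/-- The fusion system of `S ⋊ H` on `S`, for a group `H` of automorphisms of `S` of order prime to `p`, is
saturated. -/
theorem autSystem_saturated_of_coprime {p : ℕ} [Fact p.Prime] (R : Subgroup Ω) [Finite R] (hR : IsPGroup p R)
    (H : Subgroup (MulAut R)) (hH : (Nat.card H).Coprime p) :
    (Helper87.autSystem R ((MulAut.conj : R →* MulAut R).range ⊔ H)
      (fun r => Subgroup.mem_sup_left ⟨r, rfl⟩)).IsSaturated p := by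
  have hreal := Helper87.autSystem_realized R H
  have hcard : Nat.card (R ⋊[H.subtype] H) = Nat.card R * Nat.card H := SemidirectProduct.card
  have hfin : Finite (R ⋊[H.subtype] H) := by
    apply Nat.finite_of_card_ne_zero
    rw [hcard]
    exact Nat.mul_ne_zero Nat.card_pos.ne' Nat.card_pos.ne'
  have hinj : Function.Injective (SemidirectProduct.inl : R →* R ⋊[H.subtype] H) :=
    SemidirectProduct.inl_injective
  have hpg : IsPGroup p (SemidirectProduct.inl : R →* R ⋊[H.subtype] H).range :=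
    hR.of_equiv (MonoidHom.ofInjective hinj)
  have hc : Nat.card (SemidirectProduct.inl : R →* R ⋊[H.subtype] H).range = Nat.card R :=
    (Nat.card_congr (MonoidHom.ofInjective hinj).toEquiv).symm
  have hidx : (SemidirectProduct.inl : R →* R ⋊[H.subtype] H).range.index = Nat.card H := by
    have h1 := Subgroup.index_mul_card (SemidirectProduct.inl : R →* R ⋊[H.subtype] H).range
    rw [hc, hcard, mul_comm] at h1
    exact Nat.eq_of_mul_eq_mul_left Nat.card_pos h1
  have hnd : ¬ p ∣ (SemidirectProduct.inl : R →* R ⋊[H.subtype] H).range.index := by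
    rw [hidx]
    exact (Nat.Prime.coprime_iff_not_dvd Fact.out).mp hH.symm
  exact Helper85.saturated_of_realized _ (SemidirectProduct.inl : R →* R ⋊[H.subtype] H) hreal
    (hpg.toSylow hnd) rfl

/-- If every saturated fusion system over `S` has a strongly closed chain with cyclic steps, then every
`p'`-group of automorphisms of `S` is abelian of exponent dividing `p - 1`. -/
theorem autos_of_chain [Finite S] {p : ℕ} [Fact p.Prime] (hS : IsPGroup p S)
    (hchain : ∀ F : FusionSystem S, F.IsSaturated p → ∃ (m : ℕ) (c : Fin (m + 1) → Subgroup Ω),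
      c 0 = ⊥ ∧ c (Fin.last m) = S ∧ (∀ i : Fin (m + 1), F.StronglyClosed (c i)) ∧
      ∀ i : Fin m, c i.castSucc ≤ c i.succ ∧ ∃ x ∈ S, c i.succ = c i.castSucc ⊔ Subgroup.zpowers x)
    (H : Subgroup (MulAut S)) (hH : (Nat.card H).Coprime p) :
    IsMulCommutative H ∧ ∀ h ∈ H, h ^ (p - 1) = 1 := by
  have hsat := autSystem_saturated_of_coprime S hS H hH
  obtain ⟨m, c, h0, hm, hsc, hstep⟩ := hchain _ hsat
  have hD := cycChain_of_fin (le_refl S) c h0 hm (fun i => stronglyClosed_le_normalizer (hsc i))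
    (fun i => (hsc i).1) hstep
  have hinv := autGroup_le_chainInv _ (le_refl S) c hsc
  rw [Helper87.autSystem_autGroup] at hinv
  have hHinv : H ≤ chainInv (fun j => (c ⟨min j m, by omega⟩).subgroupOf S) m := le_sup_right.trans hinv
  have hK := chainStab_isPGroup hS hD.bot hD.top hD.mono
  have hpowH : ∀ γ ∈ H, γ ^ Nat.card H = 1 := by
    intro γ hγ
    have := pow_card_eq_one' (G := H) (x := ⟨γ, hγ⟩)
    exact congrArg Subtype.val this
  have htriv : ∀ γ ∈ H, γ ∈ chainStab (fun j => (c ⟨min j m, by omega⟩).subgroupOf S) m hD.mono → γ = 1 := by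
    intro γ hγH hγK
    obtain ⟨k, hk⟩ := hK ⟨γ, hγK⟩
    have h1 : γ ^ (p ^ k) = 1 := congrArg Subtype.val hk
    have h2 := hpowH γ hγH
    have hcop : Nat.gcd (p ^ k) (Nat.card H) = 1 := Nat.Coprime.pow_left k hH.symm
    have := Nat.dvd_gcd (orderOf_dvd_of_pow_eq_one h1) (orderOf_dvd_of_pow_eq_one h2)
    rw [hcop] at this
    exact orderOf_eq_one_iff.mp (Nat.dvd_one.mp this)
  refine ⟨⟨⟨fun a b => ?_⟩⟩, fun h hh => ?_⟩
  · have h1 := chain_comm_mem hD (hHinv a.2) (hHinv b.2)
    have h2 := htriv _ (H.mul_mem (H.mul_mem (H.mul_mem a.2 b.2) (H.inv_mem a.2)) (H.inv_mem b.2)) h1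
    apply Subtype.ext
    show (a : MulAut S) * b = b * a
    have h3 : (a : MulAut S) * b * (a : MulAut S)⁻¹ = b := by
      rw [mul_inv_eq_one] at h2
      exact h2
    calc (a : MulAut S) * b = ((a : MulAut S) * b * (a : MulAut S)⁻¹) * a := by group
      _ = b * a := by rw [h3]
  · have h1 := chain_pow_mem hS hD (hHinv hh) hH (hpowH h hh)
    exact htriv _ (H.pow_mem hh _) h1

/-- If `S` is normal in a saturated `F` and the `p'`-groups of automorphisms of `S` are abelian of exponent
dividing `p - 1`, then `F` has a strongly closed chain with cyclic steps. -/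
theorem chain_of_resistant [Finite S] {p : ℕ} [Fact p.Prime] (hS : IsPGroup p S) {F : FusionSystem S}
    (hF : F.IsSaturated p) (hN : F.IsNormal S)
    (hH : ∀ H : Subgroup (MulAut S), (Nat.card H).Coprime p → IsMulCommutative H ∧ ∀ h ∈ H, h ^ (p - 1) = 1) :
    ∃ (m : ℕ) (c : Fin (m + 1) → Subgroup Ω), c 0 = ⊥ ∧ c (Fin.last m) = S ∧
      (∀ i : Fin (m + 1), F.StronglyClosed (c i)) ∧
      ∀ i : Fin m, c i.castSucc ≤ c i.succ ∧ ∃ x ∈ S, c i.succ = c i.castSucc ⊔ Subgroup.zpowers x := by
  have hp : p.Prime := Fact.out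
  have hinn : autInducedBy S S = Inn S := by
    ext β
    rw [mem_autInducedBy_iff' S β, mem_inn_iff]
  obtain ⟨R, hR⟩ := (fullyAutomized_self hF).1.2
  rw [hinn] at hR
  have hcop : Nat.Coprime (Nat.card ((Inn S).subgroupOf (F.autGroup S)))
      ((Inn S).subgroupOf (F.autGroup S)).index := by
    rw [← hR]
    obtain ⟨k, hk⟩ := IsPGroup.iff_card.mp R.isPGroup'
    rw [hk]
    exact Nat.Coprime.pow_left k ((Nat.Prime.coprime_iff_not_dvd hp).mpr R.not_dvd_index)
  obtain ⟨H₀, hcompl⟩ := Subgroup.exists_right_complement'_of_coprime hcop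
  have hcardH : Nat.card (H₀.map (F.autGroup S).subtype) = ((Inn S).subgroupOf (F.autGroup S)).index := by
    rw [hcompl.symm.index_eq_card]
    exact (Nat.card_congr (H₀.equivMapOfInjective _ (F.autGroup S).subtype_injective).toEquiv).symm
  have hcopH : (Nat.card (H₀.map (F.autGroup S).subtype)).Coprime p := by
    rw [hcardH, ← hR]
    exact ((Nat.Prime.coprime_iff_not_dvd hp).mpr R.not_dvd_index).symm
  obtain ⟨hcomm, hexp⟩ := hH _ hcopH
  obtain ⟨m, d, hd0, hdtop, hdinv, hdstep⟩ := exists_cyclic_chain (p := p) (Nat.card S) S rfl hS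
    (H₀.map (F.autGroup S).subtype)
    (fun a ha b hb => congrArg Subtype.val (hcomm.is_comm.comm ⟨a, ha⟩ ⟨b, hb⟩)) hexp
  refine ⟨m, fun i => (d i).map S.subtype, ?_, ?_, ?_, ?_⟩
  · show (d 0).map S.subtype = ⊥
    rw [hd0, Subgroup.map_bot]
  · show (d (Fin.last m)).map S.subtype = S
    rw [hdtop, ← MonoidHom.range_eq_map, Subgroup.range_subtype]
  · intro i
    refine ⟨Subgroup.map_subtype_le _, fun R' hR' φ hφ x => ?_⟩
    obtain ⟨f', α, hf', hf'P, hα, hαf⟩ := isNormal_extend_aut hN (isMap_extHom hφ)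
    obtain ⟨x', hx', hx'x⟩ := hR' x.2
    have hxS : (x : Ω) ∈ S := by
      rw [← hx'x]
      exact x'.2
    have e1 : φ x = ((α x' : S) : Ω) := by
      rw [← extHom_apply φ x, ← hf'P x x.2, ← hαf x hxS, ← hx'x]
      exact autFun_apply α x'
    rw [e1]
    refine ⟨α x', ?_, rfl⟩
    -- decompose α
    obtain ⟨⟨t, h₀⟩, hth, -⟩ := (Subgroup.isComplement_iff_existsUnique.mp hcompl) ⟨α, hα⟩
    have hα2 : α = (t : F.autGroup S).1 * (h₀ : F.autGroup S).1 := by
      have := congrArg Subtype.val hth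
      exact this.symm
    rw [hα2, MulAut.mul_apply]
    have h1 : ((h₀ : F.autGroup S).1) x' ∈ d i :=
      (hdinv i).2 _ ⟨(h₀ : F.autGroup S), h₀.2, rfl⟩ x' hx'
    have ht : ((t : F.autGroup S).1) ∈ Inn S := Subgroup.mem_subgroupOf.mp t.2
    obtain ⟨s, hs⟩ := ht
    rw [← hs, MulAut.conj_apply]
    exact (hdinv i).1.conj_mem _ h1 s
  · intro i
    obtain ⟨hle, x, hx⟩ := hdstep i
    refine ⟨Subgroup.map_mono hle, (x : Ω), x.2, ?_⟩
    show (d i.succ).map S.subtype = (d i.castSucc).map S.subtype ⊔ Subgroup.zpowers (x : Ω)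
    rw [hx, Subgroup.map_sup, MonoidHom.map_zpowers]
    rfl

end aux

/-- Call a saturated fusion system F over a finite p-group S supersoluble when S has a chain of subgroups 1 = S_0 ≤ S_1 ≤ … ≤ S_m = S, each strongly closed in F, with each S_{i+1} generated by S_i together with one further element (cyclic steps). Then every saturated fusion system over S is supersoluble if and only if S is normal in every saturated fusion system over S (S is resistant) and every subgroup of Aut(S) of order prime to p is abelian of exponent dividing p − 1. -/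
theorem result {Ω : Type*} [Group Ω] {S : Subgroup Ω} [Finite S] (p : ℕ) [Fact p.Prime] (hS : IsPGroup p ↥S) : (∀ F : Cfsg.FusionSystem S, F.IsSaturated p → (∃ (m : ℕ) (c : Fin (m + 1) → Subgroup Ω), c 0 = ⊥ ∧ c (Fin.last m) = S ∧ (∀ i : Fin (m + 1), F.StronglyClosed (c i)) ∧ ∀ i : Fin m, c i.castSucc ≤ c i.succ ∧ ∃ x ∈ S, c i.succ = c i.castSucc ⊔ Subgroup.zpowers x)) ↔ (∀ F : Cfsg.FusionSystem S, F.IsSaturated p → F.IsNormal S) ∧ ∀ H : Subgroup (MulAut ↥S), (Nat.card ↥H).Coprime p → IsMulCommutative ↥H ∧ ∀ h ∈ H, h ^ (p - 1) = 1 := by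
  constructor
  · intro h
    refine ⟨fun F hF => ?_, fun H hH => autos_of_chain hS h H hH⟩
    obtain ⟨m, c, h0, hm, hsc, hstep⟩ := h F hF
    exact isNormal_self_of_chain hS hF c h0 hm hsc hstep
  · rintro ⟨h1, h2⟩ F hF
    exact chain_of_resistant hS hF (h1 F hF) h2

end Cfsg.Agent.S5283
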