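import Cfsg.Statements.S1946
import Cfsg.Agent.Helper32.OmegaDetect

set_option autoImplicit false
open Cfsg

namespace Cfsg.Agent.S1946

/-- Let P be a Sylow p-subgroup of the finite group G. Then G has a normal p-complement if and only if P controls the fusion of its elements of order dividing p (dividing 4 when p = 2): whenever such an element a of P has a G-conjugate g a g⁻¹ in P, that conjugate is already x a x⁻¹ for some x in P. -/
theorem result {G : Type*} [Group G] [Finite G] {p : ℕ} [Fact p.Prime] (P : Sylow p G) :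
    Cfsg.HasNormalPComplement p G ↔
      ∀ a ∈ (P : Subgroup G), (a ^ p = 1 ∨ (p = 2 ∧ a ^ 4 = 1)) → ∀ g : G, g * a * g⁻¹ ∈ (P : Subgroup G) →
        ∃ x ∈ (P : Subgroup G), g * a * g⁻¹ = x * a * x⁻¹ := by
  classical
  constructor
  · intro hN a haP hsm g hgP
    obtain ⟨K, hKn, hKc, hKm⟩ := Cfsg.Agent.Helper33.hasNormalPComplement_iff_p'.1 hN
    have hcomp := Cfsg.Agent.Helper33.isComplement'_of_normal_p' K hKc hKm P
    obtain ⟨⟨k, y⟩, hky, -⟩ := Subgroup.IsComplement.existsUnique hcomp g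
    have hkK : (k : G) ∈ K := k.2
    have hyP : (y : G) ∈ (P : Subgroup G) := y.2
    refine ⟨y, hyP, ?_⟩
    have hdisj : ∀ x : G, x ∈ K → x ∈ (P : Subgroup G) → x = 1 := fun x h1 h2 =>
      Subgroup.disjoint_def.1 hcomp.disjoint h1 h2
    have ha'P : (y : G) * a * (y : G)⁻¹ ∈ (P : Subgroup G) :=
      mul_mem (mul_mem hyP haP) (inv_mem hyP)
    have hgk : g * a * g⁻¹ = (k : G) * ((y : G) * a * (y : G)⁻¹) * (k : G)⁻¹ := by
      have hky' : (k : G) * (y : G) = g := hky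
      rw [← hky']; group
    have h1 : (k : G) * ((y : G) * a * (y : G)⁻¹) * (k : G)⁻¹ * ((y : G) * a * (y : G)⁻¹)⁻¹ ∈ K := by
      have h0 : ((y : G) * a * (y : G)⁻¹) * (k : G)⁻¹ * ((y : G) * a * (y : G)⁻¹)⁻¹ ∈ K :=
        hKn.conj_mem _ (inv_mem hkK) _
      have e : (k : G) * ((y : G) * a * (y : G)⁻¹) * (k : G)⁻¹ * ((y : G) * a * (y : G)⁻¹)⁻¹ =
          (k : G) * (((y : G) * a * (y : G)⁻¹) * (k : G)⁻¹ * ((y : G) * a * (y : G)⁻¹)⁻¹) := by
        group
      rw [e]; exact mul_mem hkK h0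
    have h2 : (k : G) * ((y : G) * a * (y : G)⁻¹) * (k : G)⁻¹ * ((y : G) * a * (y : G)⁻¹)⁻¹ ∈
        (P : Subgroup G) := by
      rw [← hgk]; exact mul_mem hgP (inv_mem ha'P)
    have h3 := hdisj _ h1 h2
    rw [hgk]
    exact mul_inv_eq_one.1 h3
  · intro hfus
    rw [Cfsg.Agent.Helper33.hasNormalPComplement_iff_p']
    refine Cfsg.Agent.Helper33.frobenius_p' (Nat.card G) G rfl P ?_
    intro Q hQP g hgQ hcop
    have hQ : IsPGroup p Q := P.isPGroup'.to_le hQP
    rw [Subgroup.mem_centralizer_iff]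
    intro x hx
    refine (Cfsg.Agent.Helper32.centralizes_of_small g hcop (Nat.card Q) Q le_rfl hQ hgQ ?_ x hx).symm
    intro Q₁ hQ₁ hg₁ hsm
    have hQ₁p : IsPGroup p Q₁ := hQ.to_le hQ₁
    have hQ₁P : Q₁ ≤ (P : Subgroup G) := hQ₁.trans hQP
    have key : ∀ i : ℕ, ∀ a (ha : a ∈ Q₁), (⟨a, hQ₁P ha⟩ : (P : Subgroup G)) ∈
        Subgroup.upperCentralSeries (P : Subgroup G) i → g * a = a * g := by
      intro i
      induction i with
      | zero =>
        intro a ha haZ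
        rw [Subgroup.upperCentralSeries_zero, Subgroup.mem_bot] at haZ
        have h1 : a = 1 := congrArg Subtype.val haZ
        rw [h1, mul_one, one_mul]
      | succ i ih =>
        intro a ha haZ
        apply Cfsg.Agent.Helper32.commute_of_commutator_commute hQ₁p hg₁ hcop ha
        have hcQ₁ : g * a * g⁻¹ * a⁻¹ ∈ Q₁ :=
          Q₁.mul_mem ((Subgroup.mem_normalizer_iff.1 hg₁ a).1 ha) (Q₁.inv_mem ha)
        apply ih _ hcQ₁
        obtain ⟨x', hx'P, hx'⟩ := hfus a (hQ₁P ha) (hsm a ha) g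
          (hQ₁P ((Subgroup.mem_normalizer_iff.1 hg₁ a).1 ha))
        have h1 : (⟨a, hQ₁P ha⟩ : (P : Subgroup G)) * ⟨x', hx'P⟩ * (⟨a, hQ₁P ha⟩ : (P : Subgroup G))⁻¹ *
            (⟨x', hx'P⟩ : (P : Subgroup G))⁻¹ ∈ Subgroup.upperCentralSeries (P : Subgroup G) i :=
          Subgroup.mem_upperCentralSeries_succ_iff.1 haZ ⟨x', hx'P⟩
        have e : (⟨g * a * g⁻¹ * a⁻¹, hQ₁P hcQ₁⟩ : (P : Subgroup G)) =
            ((⟨a, hQ₁P ha⟩ : (P : Subgroup G)) * ⟨x', hx'P⟩ * (⟨a, hQ₁P ha⟩ : (P : Subgroup G))⁻¹ *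
            (⟨x', hx'P⟩ : (P : Subgroup G))⁻¹)⁻¹ := by
          apply Subtype.ext
          show g * a * g⁻¹ * a⁻¹ = (a * x' * a⁻¹ * x'⁻¹)⁻¹
          rw [hx']; group
        rw [e]; exact inv_mem h1
    have hnil : Group.IsNilpotent (P : Subgroup G) := P.isPGroup'.isNilpotent
    obtain ⟨m, hm⟩ := Group.IsNilpotent.nilpotent (P : Subgroup G)
    intro a ha
    exact key m a ha (by rw [hm]; exact Subgroup.mem_top _)

end Cfsg.Agent.S1946
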