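import Cfsg.Statements.S0652
import Cfsg.Agent.S0651

set_option autoImplicit false
open Cfsg

namespace Cfsg.Agent.S0652

/-- Membership in the image of the elementary abelian subgroups of largest order of `D`. -/
theorem mem_image_maxElementaryAbelian_iff {S : Type*} [Group S] [Finite S] (p : ℕ)
    (D X : Subgroup S) :
    X ∈ (Set.image (fun A : Subgroup ↥D => A.map D.subtype)
        (Cfsg.maxElementaryAbelianSubgroups p ↥D)) ↔
      X ≤ D ∧ IsElementaryAbelian p X ∧
        ∀ Y : Subgroup S, Y ≤ D → IsElementaryAbelian p Y → Nat.card Y ≤ Nat.card X := by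
  constructor
  · rintro ⟨A, ⟨⟨hAc, hAp⟩, hAmax⟩, rfl⟩
    refine ⟨Subgroup.map_subtype_le A, ⟨inferInstance, ?_⟩, ?_⟩
    · rintro _ ⟨x, hx, rfl⟩
      have := hAp x hx
      have h2 := congrArg Subtype.val this
      simpa using h2
    · intro Y hYD hY
      have hYc : IsMulCommutative Y := hY.1
      have h1 := hAmax (Y.subgroupOf D) ⟨inferInstance, by
        intro a ha
        apply Subtype.ext
        rw [Subgroup.coe_pow, Subgroup.coe_one]
        exact hY.2 a (Subgroup.mem_subgroupOf.mp ha)⟩
      rw [Nat.card_congr (Subgroup.subgroupOfEquivOfLe hYD).toEquiv] at h1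
      change Nat.card Y ≤ Nat.card (A.map D.subtype)
      rw [Subgroup.card_subtype]
      exact h1
  · rintro ⟨hXD, hX, hXmax⟩
    have hXc : IsMulCommutative X := hX.1
    refine ⟨X.subgroupOf D, ⟨⟨inferInstance, ?_⟩, ?_⟩, Subgroup.map_subgroupOf_eq_of_le hXD⟩
    · intro a ha
      apply Subtype.ext
      rw [Subgroup.coe_pow, Subgroup.coe_one]
      exact hX.2 a (Subgroup.mem_subgroupOf.mp ha)
    · intro B' hB'
      have hB'c : IsMulCommutative B' := hB'.1
      have h1 := hXmax (B'.map D.subtype) (Subgroup.map_subtype_le B') ⟨inferInstance, by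
        rintro _ ⟨x, hx, rfl⟩
        have := hB'.2 x hx
        have h2 := congrArg Subtype.val this
        simpa using h2⟩
      rw [Subgroup.card_subtype] at h1
      rw [Nat.card_congr (Subgroup.subgroupOfEquivOfLe hXD).toEquiv]
      exact h1

/-- For odd p and D normal in the p-group S, the elementary abelian subgroups of D of largest order satisfy the replacement property for class-2 normal subgroups of S. -/
theorem result {S : Type*} [Group S] [Finite S] {p : ℕ} [Fact p.Prime] (hS : IsPGroup p S) (hp : p ≠ 2) (D : Subgroup S) [D.Normal] : ∀ (B : Subgroup S) [B.Normal], ⁅⁅B, B⁆, B⁆ = ⊥ → (∃ U ∈ (Set.image (fun A : Subgroup ↥D => A.map D.subtype) (Cfsg.maxElementaryAbelianSubgroups p ↥D)), ⁅B, B⁆ ≤ U ∧ ¬ B ≤ U) → ∃ A ∈ (Set.image (fun A : Subgroup ↥D => A.map D.subtype) (Cfsg.maxElementaryAbelianSubgroups p ↥D)), ⁅B, B⁆ ≤ A ∧ ¬ B ≤ A ∧ B ≤ Subgroup.normalizer (A : Set S) := by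
  intro B _ _ hex
  obtain ⟨U, hU, hUB', hUB⟩ := hex
  have h := Cfsg.Agent.S0651.replacement_generic hS hp D
    (fun X => X ∈ (Set.image (fun A : Subgroup ↥D => A.map D.subtype)
      (Cfsg.maxElementaryAbelianSubgroups p ↥D)))
    (fun U hU => ((mem_image_maxElementaryAbelian_iff p D U).mp hU).2.1.1)
    (fun U hU => ((mem_image_maxElementaryAbelian_iff p D U).mp hU).1)
    (fun U U' hU hU'D hU'c hcard hexp => by
      rw [mem_image_maxElementaryAbelian_iff] at hU ⊢
      refine ⟨hU'D, ⟨hU'c, ?_⟩, ?_⟩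
      · intro a ha
        have hUp : Monoid.exponent U ∣ p := by
          apply Monoid.exponent_dvd_of_forall_pow_eq_one
          intro g
          apply Subtype.ext
          rw [Subgroup.coe_pow, Subgroup.coe_one]
          exact hU.2.1.2 g g.2
        have h1 : (⟨a, ha⟩ : U') ^ p = 1 := by
          obtain ⟨k, hk⟩ := hexp.trans hUp
          rw [hk, pow_mul, Monoid.pow_exponent_eq_one, one_pow]
        have h2 := congrArg Subtype.val h1
        simpa using h2
      · intro Y hY hYe
        rw [hcard]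
        exact hU.2.2 Y hY hYe)
    B ⟨U, hU, hUB', hUB⟩
  obtain ⟨A, hA, h1, h2, h3⟩ := h
  exact ⟨A, hA, h1, h2, h3⟩

end Cfsg.Agent.S0652
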