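import Cfsg.Statements.S0655
import Cfsg.Agent.Helper11.Basic

set_option autoImplicit false
open Cfsg

namespace Cfsg.Agent.S0655

open Cfsg.Agent.Helper11

/-- In a finite p-group the intersection of the elementary abelian subgroups of largest order is Ω₁(Z(J(S))) = Ω₁(C_S(J(S))) for the elementary Thompson subgroup J(S). -/
theorem result {S : Type*} [Group S] [Finite S] {p : ℕ} [Fact p.Prime] (hS : IsPGroup p S) : sInf (Cfsg.maxElementaryAbelianSubgroups p S) = Cfsg.omegaCenterThompson p S ∧ Cfsg.omegaCenterThompson p S = Cfsg.omegaOne p (Subgroup.centralizer (Cfsg.thompsonSubgroup p S : Set S)) := by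
  have h1 : sInf (maxElementaryAbelianSubgroups p S) ≤ omegaCenterThompson p S := by
    intro x hx
    rw [Subgroup.mem_sInf] at hx
    apply Subgroup.subset_closure
    obtain ⟨A, hA⟩ := maxElementaryAbelianSubgroups_nonempty (G := S) p
    refine ⟨⟨?_, ?_⟩, ?_⟩
    · exact le_sSup hA (hx A hA)
    · exact mem_centralizer_thompsonSubgroup_of_forall_mem p x hx
    · exact hA.1.2 x (hx A hA)
  have h2 : omegaCenterThompson p S ≤
      omegaOne p (Subgroup.centralizer (thompsonSubgroup p S : Set S)) :=
    omegaOne_mono p inf_le_right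
  have h3 : omegaOne p (Subgroup.centralizer (thompsonSubgroup p S : Set S)) ≤
      sInf (maxElementaryAbelianSubgroups p S) := by
    rw [omegaOne, Subgroup.closure_le]
    intro x hx
    rw [SetLike.mem_coe, Subgroup.mem_sInf]
    intro A hA
    apply mem_of_mem_maxElementaryAbelianSubgroups p A hA x hx.2
    intro a ha
    have := hx.1
    rw [Subgroup.mem_centralizer_iff] at this
    exact this a (le_sSup hA ha)
  exact ⟨le_antisymm h1 (h2.trans h3), le_antisymm h2 (h3.trans h1)⟩

end Cfsg.Agent.S0655
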