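import Cfsg.Statements.S4623
import Mathlib
-- import your own Cfsg.Agent.* helpers here

set_option autoImplicit false
open Cfsg

namespace Cfsg.Agent.S4623

open Subgroup Equiv



/-- exponent-p abelianization property -/
def EP (p : ℕ) (G : Type*) [Group G] : Prop := ∀ x : G, x ^ p ∈ commutator G

theorem EP_of_gen {p : ℕ} {G : Type*} [Group G] (S : Set G) (hS : closure S = ⊤)
    (h : ∀ s ∈ S, s ^ p ∈ commutator G) : EP p G := by
  intro x
  let φ : G →* Abelianization G := (powMonoidHom p).comp Abelianization.of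
  have hker : closure S ≤ φ.ker := by
    rw [closure_le]
    intro s hs
    have := h s hs
    rw [← Abelianization.ker_of] at this
    simp only [SetLike.mem_coe, MonoidHom.mem_ker, φ, MonoidHom.comp_apply, powMonoidHom_apply]
    rw [← map_pow]
    exact this
  have hx : x ∈ φ.ker := hker (hS ▸ mem_top x)
  rw [← Abelianization.ker_of]
  simp only [MonoidHom.mem_ker, φ, MonoidHom.comp_apply, powMonoidHom_apply] at hx ⊢
  rw [map_pow]; exact hx

theorem EP_of_mulEquiv {p : ℕ} {G H : Type*} [Group G] [Group H] (e : G ≃* H) (h : EP p G) : EP p H := by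
  intro x
  obtain ⟨y, rfl⟩ := e.surjective x
  have h1 := h y
  have h2 : e (y ^ p) ∈ (commutator G).map e.toMonoidHom := mem_map_of_mem _ h1
  rw [commutator_def, map_commutator] at h2
  rw [← map_pow]
  exact commutator_mono le_top le_top h2

theorem map_comm_le {G H : Type*} [Group G] [Group H] (f : G →* H) : (commutator G).map f ≤ commutator H := by
  rw [commutator_def, map_commutator]
  exact commutator_mono le_top le_top

theorem EP_prod {p : ℕ} {G H : Type*} [Group G] [Group H] (hG : EP p G) (hH : EP p H) : EP p (G × H) := by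
  apply EP_of_gen (Set.range (MonoidHom.inl G H) ∪ Set.range (MonoidHom.inr G H))
  · rw [eq_top_iff]
    rintro ⟨g, h⟩ -
    have : ((g, h) : G × H) = MonoidHom.inl G H g * MonoidHom.inr G H h := by simp
    rw [this]
    exact mul_mem (subset_closure (Or.inl ⟨g, rfl⟩)) (subset_closure (Or.inr ⟨h, rfl⟩))
  · rintro s (⟨g, rfl⟩ | ⟨g, rfl⟩)
    · rw [← map_pow]; exact map_comm_le _ (mem_map_of_mem _ (hG g))
    · rw [← map_pow]; exact map_comm_le _ (mem_map_of_mem _ (hH g))

theorem EP_pi {p : ℕ} {ι : Type*} [Finite ι] {D : Type*} [Group D] (hD : EP p D) : EP p (ι → D) := by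
  intro f
  have h1 : commutator (ι → D) = Subgroup.pi Set.univ (fun _ : ι => commutator D) := by
    rw [commutator_def, ← Subgroup.pi_top (Set.univ : Set ι)]
    rw [commutator_pi_pi_of_finite]
    rfl
  rw [h1, Subgroup.mem_pi]
  intro i _
  exact hD (f i)

open RegularWreathProduct in
/-- the base embedding -/
def baseHom (D Q : Type*) [Group D] [Group Q] : (Q → D) →* D ≀ᵣ Q where
  toFun f := ⟨f, 1⟩
  map_one' := rfl
  map_mul' f g := by
    ext <;> simp [RegularWreathProduct.mul_def]

open RegularWreathProduct in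
theorem EP_wreath {p : ℕ} {D Q : Type*} [Group D] [Group Q] [Finite Q] (hD : EP p D)
    (hQ : ∀ q : Q, q ^ p = 1) : EP p (D ≀ᵣ Q) := by
  apply EP_of_gen (Set.range (baseHom D Q) ∪ Set.range (RegularWreathProduct.inl : Q →* D ≀ᵣ Q))
  · rw [eq_top_iff]
    rintro w -
    have : w = baseHom D Q w.left * (RegularWreathProduct.inl w.right) := by
      ext <;> simp [RegularWreathProduct.mul_def, baseHom]
    rw [this]
    exact mul_mem (subset_closure (Or.inl ⟨_, rfl⟩)) (subset_closure (Or.inr ⟨_, rfl⟩))
  · rintro s (⟨f, rfl⟩ | ⟨q, rfl⟩)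
    · rw [← map_pow]; exact map_comm_le _ (mem_map_of_mem _ (EP_pi hD f))
    · rw [← map_pow, hQ, map_one]; exact one_mem _

theorem EP_iter {p : ℕ} (G : Type) [Group G] [Finite G] (hG : ∀ g : G, g ^ p = 1) (n : ℕ) :
    EP p (IteratedWreathProduct G n) := by
  induction n with
  | zero =>
    intro x
    haveI : Subsingleton (IteratedWreathProduct G 0) := by
      rw [IteratedWreathProduct_zero]; infer_instance
    have : x ^ p = 1 := Subsingleton.elim _ _
    rw [this]; exact one_mem _
  | succ n ih =>
    exact EP_wreath ih hG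

theorem EP_sylow_pow (p : ℕ) [Fact p.Prime] (k : ℕ) (α : Type) [Finite α] (hα : Nat.card α = p ^ k)
    (P : Sylow p (Perm α)) : EP p P := by
  have hG : Nat.card (Multiplicative (ZMod p)) = p := by
    rw [Nat.card_eq_fintype_card]; simp [ZMod.card]
  have hpow : ∀ g : Multiplicative (ZMod p), g ^ p = 1 := by
    intro g
    have : g ^ p = Multiplicative.ofAdd (p • Multiplicative.toAdd g) := rfl
    rw [this]
    simp
  exact EP_of_mulEquiv (Sylow.mulEquivIteratedWreathProduct p k α hα (Multiplicative (ZMod p)) hG P).symm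
    (EP_iter _ hpow k)

theorem legendre_add (p : ℕ) [hp : Fact p.Prime] (k m : ℕ) (h : m + p ^ k < p ^ (k + 1)) :
    (Nat.factorial (m + p ^ k)).factorization p =
      (Nat.factorial m).factorization p + (Nat.factorial (p ^ k)).factorization p := by
  have hp1 : 1 < p := hp.out.one_lt
  have hpk : 0 < p ^ k := pos_of_ne_zero (pow_ne_zero _ hp.out.ne_zero)
  rw [Nat.factorization_def _ hp.out, Nat.factorization_def _ hp.out, Nat.factorization_def _ hp.out]
  have h1 : Nat.log p (m + p ^ k) < k + 1 := Nat.log_lt_of_lt_pow (by omega) h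
  have h2 : Nat.log p m < k + 1 := by
    rcases Nat.eq_zero_or_pos m with rfl | hm
    · simp
    · exact Nat.log_lt_of_lt_pow (by omega) (by omega)
  have h3 : Nat.log p (p ^ k) < k + 1 := Nat.log_lt_of_lt_pow (by omega) (by omega)
  rw [padicValNat_factorial h1, padicValNat_factorial h2, padicValNat_factorial h3,
    ← Finset.sum_add_distrib]
  apply Finset.sum_congr rfl
  intro i hi
  rw [Finset.mem_Ico] at hi
  exact Nat.add_div_of_dvd_left (pow_dvd_pow p (by omega))

theorem EP_sylow_perm (p : ℕ) [Fact p.Prime] : ∀ (n : ℕ) (α : Type) [Finite α] (_ : Nat.card α = n)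
    (P : Sylow p (Perm α)), EP p P := by
  intro n
  induction n using Nat.strong_induction_on with
  | _ n ih =>
    intro α _ hα P
    have hp1 : 1 < p := (Fact.out : p.Prime).one_lt
    rcases Nat.eq_zero_or_pos n with hn | hn
    · -- α empty
      subst hn
      have : IsEmpty α := by
        rcases Nat.card_eq_zero.mp hα with h | h
        · exact h
        · exact absurd ‹Finite α› (not_finite_iff_infinite.mpr h)
      intro x
      have : x ^ p = 1 := Subsingleton.elim _ _
      rw [this]; exact one_mem _
    · set k := Nat.log p n with hk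
      have hle : p ^ k ≤ n := Nat.pow_log_le_self p (by omega)
      have hlt : n < p ^ (k + 1) := Nat.lt_pow_succ_log_self hp1 n
      have hpk : 0 < p ^ k := pos_of_ne_zero (pow_ne_zero _ (by omega))
      set m := n - p ^ k with hm
      have hmn : m < n := by omega
      have hcard : Nat.card α = Nat.card (Fin m ⊕ Fin (p ^ k)) := by
        rw [Nat.card_sum, Nat.card_fin, Nat.card_fin]; omega
      obtain ⟨e⟩ := Finite.card_eq.mp hcard
      let P₁ : Sylow p (Perm (Fin m)) := Classical.arbitrary _
      let P₂ : Sylow p (Perm (Fin (p ^ k))) := Classical.arbitrary _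
      have h1 : EP p P₁ := ih m hmn (Fin m) (by simp) P₁
      have h2 : EP p P₂ := EP_sylow_pow p k (Fin (p ^ k)) (by simp) P₂
      let F : Perm (Fin m) × Perm (Fin (p ^ k)) →* Perm α :=
        (e.symm.permCongrHom).toMonoidHom.comp (Perm.sumCongrHom (Fin m) (Fin (p ^ k)))
      have hF : Function.Injective F :=
        (e.symm.permCongrHom.injective).comp Perm.sumCongrHom_injective
      let Q : Subgroup (Perm α) := ((P₁ : Subgroup _).prod (P₂ : Subgroup _)).map F
      have eQ : (↥(P₁ : Subgroup (Perm (Fin m))) × ↥(P₂ : Subgroup (Perm (Fin (p ^ k))))) ≃* Q :=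
        (Subgroup.prodEquiv _ _).symm.trans (Subgroup.equivMapOfInjective _ F hF)
      have hQ : EP p Q := EP_of_mulEquiv eQ (EP_prod h1 h2)
      have hcardQ : Nat.card Q = p ^ (Nat.card (Perm α)).factorization p := by
        rw [← Nat.card_congr eQ.toEquiv, Nat.card_prod, Sylow.card_eq_multiplicity,
          Sylow.card_eq_multiplicity, Nat.card_perm, Nat.card_perm, Nat.card_perm, hα,
          Nat.card_fin, Nat.card_fin, ← pow_add]
        have : n = m + p ^ k := by omega
        rw [this, legendre_add p k m (by omega)]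
      let Q' : Sylow p (Perm α) := Sylow.ofCard Q hcardQ
      have hQ' : EP p Q' := hQ
      exact EP_of_mulEquiv (Sylow.equiv Q' P) hQ'



section two
variable {α β : Type} [Fintype α] [DecidableEq α] [Fintype β] [DecidableEq β]

/-- a set of involutions whose odd members commute pairwise -/
def Good (T : Set (Perm α)) : Prop :=
  (∀ t ∈ T, t * t = 1) ∧
    (∀ s ∈ T, ∀ t ∈ T, Perm.sign s = -1 → Perm.sign t = -1 → s * t = t * s)

/-- sum of generating sets -/
def sumSet (Ta : Set (Perm α)) (Tb : Set (Perm β)) : Set (Perm (α ⊕ β)) :=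
  (fun a => Perm.sumCongrHom α β (a, 1)) '' Ta ∪ (fun b => Perm.sumCongrHom α β (1, b)) '' Tb

theorem prod_eq_sup' {G H : Type*} [Group G] [Group H] (A : Subgroup G) (B : Subgroup H) :
    A.prod B = A.map (MonoidHom.inl G H) ⊔ B.map (MonoidHom.inr G H) := by
  apply le_antisymm
  · rintro ⟨g, h⟩ ⟨hg, hh⟩
    have : ((g, h) : G × H) = MonoidHom.inl G H g * MonoidHom.inr G H h := by simp
    rw [this]
    exact mul_mem (mem_sup_left (mem_map_of_mem _ hg)) (mem_sup_right (mem_map_of_mem _ hh))
  · rw [sup_le_iff]
    constructor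
    · rintro _ ⟨g, hg, rfl⟩
      exact ⟨hg, one_mem _⟩
    · rintro _ ⟨g, hg, rfl⟩
      exact ⟨one_mem _, hg⟩

theorem closure_sumSet (Ta : Set (Perm α)) (Tb : Set (Perm β)) :
    closure (sumSet Ta Tb) = ((closure Ta).prod (closure Tb)).map (Perm.sumCongrHom α β) := by
  unfold sumSet
  rw [Subgroup.closure_union, prod_eq_sup', Subgroup.map_sup, Subgroup.map_map, Subgroup.map_map,
    MonoidHom.map_closure, MonoidHom.map_closure]
  rfl

theorem Good_sumSet {Ta : Set (Perm α)} {Tb : Set (Perm β)} (ha : Good Ta) (hb : Good Tb) :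
    Good (sumSet Ta Tb) := by
  refine ⟨?_, ?_⟩
  · rintro t (⟨a, ha', rfl⟩ | ⟨b, hb', rfl⟩)
    · show Perm.sumCongrHom α β (a, 1) * Perm.sumCongrHom α β (a, 1) = 1
      rw [← map_mul, Prod.mk_mul_mk, ha.1 a ha', one_mul]; exact map_one _
    · show Perm.sumCongrHom α β (1, b) * Perm.sumCongrHom α β (1, b) = 1
      rw [← map_mul, Prod.mk_mul_mk, hb.1 b hb', one_mul]; exact map_one _
  · rintro s (⟨a, ha', rfl⟩ | ⟨b, hb', rfl⟩) t (⟨a2, ha2, rfl⟩ | ⟨b2, hb2, rfl⟩) hs ht
    · show Perm.sumCongrHom α β (a, 1) * Perm.sumCongrHom α β (a2, 1) =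
        Perm.sumCongrHom α β (a2, 1) * Perm.sumCongrHom α β (a, 1)
      have hs' : Perm.sign a = -1 := by
        have : Perm.sign (Perm.sumCongrHom α β (a, 1)) = Perm.sign a * Perm.sign (1 : Perm β) :=
          Perm.sign_sumCongr a 1
        rw [← hs, this]; simp
      have ht' : Perm.sign a2 = -1 := by
        have : Perm.sign (Perm.sumCongrHom α β (a2, 1)) = Perm.sign a2 * Perm.sign (1 : Perm β) :=
          Perm.sign_sumCongr a2 1
        rw [← ht, this]; simp
      rw [← map_mul, ← map_mul, Prod.mk_mul_mk, Prod.mk_mul_mk, ha.2 a ha' a2 ha2 hs' ht']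
    · show Perm.sumCongrHom α β (a, 1) * Perm.sumCongrHom α β (1, b2) =
        Perm.sumCongrHom α β (1, b2) * Perm.sumCongrHom α β (a, 1)
      rw [← map_mul, ← map_mul, Prod.mk_mul_mk, Prod.mk_mul_mk]; simp
    · show Perm.sumCongrHom α β (1, b) * Perm.sumCongrHom α β (a2, 1) =
        Perm.sumCongrHom α β (a2, 1) * Perm.sumCongrHom α β (1, b)
      rw [← map_mul, ← map_mul, Prod.mk_mul_mk, Prod.mk_mul_mk]; simp
    · show Perm.sumCongrHom α β (1, b) * Perm.sumCongrHom α β (1, b2) =
        Perm.sumCongrHom α β (1, b2) * Perm.sumCongrHom α β (1, b)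
      have hs' : Perm.sign b = -1 := by
        have : Perm.sign (Perm.sumCongrHom α β (1, b)) = Perm.sign (1 : Perm α) * Perm.sign b :=
          Perm.sign_sumCongr 1 b
        rw [← hs, this]; simp
      have ht' : Perm.sign b2 = -1 := by
        have : Perm.sign (Perm.sumCongrHom α β (1, b2)) = Perm.sign (1 : Perm α) * Perm.sign b2 :=
          Perm.sign_sumCongr 1 b2
        rw [← ht, this]; simp
      rw [← map_mul, ← map_mul, Prod.mk_mul_mk, Prod.mk_mul_mk, hb.2 b hb' b2 hb2 hs' ht']

theorem card_closure_sumSet (Ta : Set (Perm α)) (Tb : Set (Perm β)) :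
    Nat.card (closure (sumSet Ta Tb)) = Nat.card (closure Ta) * Nat.card (closure Tb) := by
  rw [closure_sumSet, Subgroup.card_map_of_injective Perm.sumCongrHom_injective,
    Nat.card_congr (Subgroup.prodEquiv _ _).toEquiv, Nat.card_prod]

theorem card_eq_ncard {G : Type*} [Group G] (H : Subgroup G) :
    Nat.card H = (H : Set G).ncard := Nat.card_coe_set_eq (H : Set G)

/-- the swap of the two halves -/
def sw (β : Type) : Perm (β ⊕ β) := Equiv.sumComm β β

theorem sw_mul_sw : sw β * sw β = 1 := by
  ext x; cases x <;> simp [sw]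

theorem sw_conj (a b : Perm β) :
    sw β * Perm.sumCongrHom β β (a, b) * sw β = Perm.sumCongrHom β β (b, a) := by
  ext x; cases x <;> simp [sw, Perm.sumCongrHom]

theorem sign_sw : Perm.sign (sw β) = (-1) ^ Fintype.card β := by
  have h := Perm.sign_prodCongrLeft (fun _ : β => (Equiv.swap false true : Perm Bool))
  have h2 : Perm.sign (prodCongrLeft (fun _ : β => (Equiv.swap false true : Perm Bool))) =
      Perm.sign (sw β) := by
    apply Perm.sign_eq_sign_of_equiv _ _ (Equiv.boolProdEquivSum β)
    rintro ⟨b, x⟩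
    cases b <;> simp [sw, Equiv.boolProdEquivSum, prodCongrLeft]
  rw [← h2, h]
  simp

/-- doubled generating set -/
def dblSet (Tb : Set (Perm β)) : Set (Perm (β ⊕ β)) := sumSet Tb Tb ∪ {sw β}

theorem Good_dblSet {Tb : Set (Perm β)} (hb : Good Tb) (hs : Perm.sign (sw β) = 1 ∨ Tb = ∅) :
    Good (dblSet Tb) := by
  have hg := Good_sumSet hb hb
  refine ⟨?_, ?_⟩
  · rintro t (ht | ht)
    · exact hg.1 t ht
    · rw [Set.mem_singleton_iff] at ht; rw [ht]; exact sw_mul_sw
  · rintro s (hs' | hs') t (ht | ht) h1 h2
    · exact hg.2 s hs' t ht h1 h2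
    · rw [Set.mem_singleton_iff] at ht
      rcases hs with hs | hs
      · rw [ht, hs] at h2; exact absurd h2 (by decide)
      · rw [hs] at hs'; simp [sumSet] at hs'
    · rw [Set.mem_singleton_iff] at hs'
      rcases hs with hs | hs
      · rw [hs', hs] at h1; exact absurd h1 (by decide)
      · rw [hs] at ht; simp [sumSet] at ht
    · rw [Set.mem_singleton_iff] at hs' ht; rw [hs', ht]

theorem card_closure_dblSet [Nonempty β] (Tb : Set (Perm β)) :
    Nat.card (closure (dblSet Tb)) = 2 * (Nat.card (closure Tb) * Nat.card (closure Tb)) := by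
  set P := closure Tb with hP
  set B : Subgroup (Perm (β ⊕ β)) := (P.prod P).map (Perm.sumCongrHom β β) with hB
  have hBcard : Nat.card B = Nat.card P * Nat.card P := by
    rw [hB, ← closure_sumSet, card_closure_sumSet]
  set N := closure (dblSet Tb) with hN
  have hBN : B ≤ N := by
    rw [hB, ← closure_sumSet]
    exact closure_mono Set.subset_union_left
  have hsN : sw β ∈ N := subset_closure (Or.inr rfl)
  have hsB : sw β ∉ B := by
    rintro ⟨⟨a, b⟩, -, h⟩
    obtain ⟨x⟩ := ‹Nonempty β›
    have := congrArg (fun f : Perm (β ⊕ β) => f (Sum.inl x)) h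
    simp [sw, Perm.sumCongrHom] at this
  have hconj : ∀ y ∈ B, sw β * y * sw β ∈ B := by
    rintro _ ⟨⟨a, b⟩, ⟨ha, hb⟩, rfl⟩
    rw [sw_conj]
    exact ⟨(b, a), ⟨hb, ha⟩, rfl⟩
  -- the subgroup M = B ∪ B s
  let M : Subgroup (Perm (β ⊕ β)) :=
    { carrier := {x | x ∈ B ∨ x * sw β ∈ B}
      one_mem' := Or.inl (one_mem _)
      mul_mem' := by
        rintro x y (hx | hx) (hy | hy)
        · exact Or.inl (mul_mem hx hy)
        · right
          have : x * y * sw β = x * (y * sw β) := by group
          rw [this]; exact mul_mem hx hy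
        · right
          have : x * y * sw β = (x * sw β) * (sw β * y * sw β) := by
            have h := sw_mul_sw (β := β)
            calc x * y * sw β = x * (sw β * sw β) * y * sw β := by rw [h, mul_one]
              _ = (x * sw β) * (sw β * y * sw β) := by group
          rw [this]; exact mul_mem hx (hconj y hy)
        · left
          have : x * y = (x * sw β) * (sw β * (y * sw β) * sw β) := by
            have h := sw_mul_sw (β := β)
            calc x * y = x * (sw β * sw β) * y * (sw β * sw β) := by rw [h, mul_one, mul_one]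
              _ = (x * sw β) * (sw β * (y * sw β) * sw β) := by group
          rw [this]; exact mul_mem hx (hconj _ hy)
      inv_mem' := by
        rintro x (hx | hx)
        · exact Or.inl (inv_mem hx)
        · right
          have h := sw_mul_sw (β := β)
          have hinv : (sw β)⁻¹ = sw β := inv_eq_of_mul_eq_one_left h
          have : x⁻¹ * sw β = sw β * (x * sw β)⁻¹ * sw β := by
            rw [mul_inv_rev, hinv]
            calc x⁻¹ * sw β = (sw β * sw β) * x⁻¹ * sw β := by rw [h, one_mul]
              _ = sw β * (sw β * x⁻¹) * sw β := by group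
          rw [this]; exact hconj _ (inv_mem hx) }
  have hNM : N ≤ M := by
    rw [hN, closure_le]
    rintro t (ht | ht)
    · left
      have : t ∈ closure (sumSet Tb Tb) := subset_closure ht
      rw [closure_sumSet] at this
      exact this
    · right
      rw [Set.mem_singleton_iff] at ht
      rw [ht, sw_mul_sw]; exact one_mem _
  have hMcard : Nat.card M ≤ 2 * Nat.card B := by
    have h1 : (M : Set (Perm (β ⊕ β))) ⊆ (B : Set _) ∪ (fun x => x * sw β) '' (B : Set _) := by
      rintro x (hx | hx)
      · exact Or.inl hx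
      · right
        refine ⟨x * sw β, hx, ?_⟩
        show x * sw β * sw β = x
        rw [mul_assoc, sw_mul_sw, mul_one]
    calc Nat.card M = (M : Set (Perm (β ⊕ β))).ncard := card_eq_ncard M
      _ ≤ ((B : Set _) ∪ (fun x => x * sw β) '' (B : Set _)).ncard :=
          Set.ncard_le_ncard h1 (Set.toFinite _)
      _ ≤ (B : Set (Perm (β ⊕ β))).ncard + ((fun x => x * sw β) '' (B : Set _)).ncard :=
          Set.ncard_union_le _ _
      _ ≤ (B : Set (Perm (β ⊕ β))).ncard + (B : Set (Perm (β ⊕ β))).ncard :=
          Nat.add_le_add_left (Set.ncard_image_le (Set.toFinite _)) _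
      _ = 2 * Nat.card B := by rw [card_eq_ncard B]; ring
  have hNle : Nat.card N ≤ 2 * Nat.card B :=
    le_trans (Nat.le_of_dvd Nat.card_pos (Subgroup.card_dvd_of_le hNM)) hMcard
  obtain ⟨c, hc⟩ := Subgroup.card_dvd_of_le hBN
  have hBpos : 0 < Nat.card B := Nat.card_pos
  have hc1 : c ≠ 1 := by
    rintro rfl
    rw [mul_one] at hc
    have : B = N := by
      apply SetLike.coe_injective
      exact Set.eq_of_subset_of_ncard_le hBN
        (by rw [← card_eq_ncard, ← card_eq_ncard]; omega) (Set.toFinite _)
    exact hsB (this ▸ hsN)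
  have hc0 : c ≠ 0 := by
    rintro rfl
    rw [mul_zero] at hc
    have : 0 < Nat.card N := Nat.card_pos
    omega
  have hc2 : c = 2 := by
    have : Nat.card B * c ≤ Nat.card B * 2 := by rw [← hc]; omega
    have := Nat.le_of_mul_le_mul_left this hBpos
    omega
  rw [hc, hc2, hBcard]; ring

/-- transport along an equivalence -/
theorem Good_transport (e : α ≃ β) {T : Set (Perm β)} (h : Good T) :
    Good (e.symm.permCongrHom '' T) := by
  have hsign : ∀ t : Perm β, Perm.sign (e.symm.permCongrHom t) = Perm.sign t := by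
    intro t
    exact Perm.sign_permCongr e.symm t
  refine ⟨?_, ?_⟩
  · rintro _ ⟨t, ht, rfl⟩
    rw [← map_mul, h.1 t ht, map_one]
  · rintro _ ⟨s, hs, rfl⟩ _ ⟨t, ht, rfl⟩ h1 h2
    rw [hsign] at h1 h2
    rw [← map_mul, ← map_mul, h.2 s hs t ht h1 h2]

omit [Fintype α] [DecidableEq α] [Fintype β] [DecidableEq β] in
theorem card_transport (e : α ≃ β) (T : Set (Perm β)) :
    Nat.card (closure (e.symm.permCongrHom '' T)) = Nat.card (closure T) := by
  have : closure (e.symm.permCongrHom '' T) = (closure T).map e.symm.permCongrHom.toMonoidHom := by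
    rw [MonoidHom.map_closure]; rfl
  rw [this, Subgroup.card_map_of_injective e.symm.permCongrHom.injective]

/-- key: for a good generating set, the even part is generated by involutions, hence has
abelianization of exponent two -/
theorem Good_even {T : Set (Perm α)} (h : Good T) :
    ∀ x : ↥(closure T ⊓ alternatingGroup α), x ^ 2 ∈ commutator ↥(closure T ⊓ alternatingGroup α) := by
  set P := closure T with hP
  set Q₀ := P ⊓ alternatingGroup α with hQ
  set I : Set (Perm α) := {x | x ∈ Q₀ ∧ x * x = 1} with hI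
  set K := closure I with hK
  have hKQ : K ≤ Q₀ := by
    rw [hK, closure_le]; exact fun x hx => hx.1
  have hmemI : ∀ x, x ∈ P → Perm.sign x = 1 → x * x = 1 → x ∈ K := by
    intro x hx hs hxx
    exact subset_closure ⟨⟨hx, Perm.mem_alternatingGroup.mpr hs⟩, hxx⟩
  have hsgn : ∀ x : Perm α, Perm.sign x = 1 ∨ Perm.sign x = -1 := fun x => Int.units_eq_one_or _
  -- Claim 1
  have hQK : Q₀ ≤ K := by
    by_cases hodd : ∃ t₀ ∈ T, Perm.sign t₀ = -1
    · obtain ⟨t₀, ht₀, hs₀⟩ := hodd
      have ht₀P : t₀ ∈ P := subset_closure ht₀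
      have ht₀2 : t₀ * t₀ = 1 := h.1 t₀ ht₀
      have key : ∀ x ∈ P, x ∈ K ∨ x * t₀ ∈ K := by
        intro x hx
        have step : ∀ (x : Perm α), (x ∈ K ∨ x * t₀ ∈ K) → ∀ y ∈ T, (x * y ∈ K ∨ x * y * t₀ ∈ K) := by
          intro x hx y hy
          have hyP : y ∈ P := subset_closure hy
          have hy2 : y * y = 1 := h.1 y hy
          rcases hsgn y with hys | hys
          · -- y even
            have hyK : y ∈ K := hmemI y hyP hys hy2
            rcases hx with hx | hx
            · exact Or.inl (mul_mem hx hyK)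
            · right
              have hc : t₀ * y * t₀ ∈ K := by
                apply hmemI _ (mul_mem (mul_mem ht₀P hyP) ht₀P)
                · rw [map_mul, map_mul, hs₀, hys]; decide
                · calc t₀ * y * t₀ * (t₀ * y * t₀) = t₀ * y * (t₀ * t₀) * y * t₀ := by group
                    _ = t₀ * (y * y) * t₀ := by rw [ht₀2]; group
                    _ = 1 := by rw [hy2, mul_one, ht₀2]
              have : x * y * t₀ = (x * t₀) * (t₀ * y * t₀) := by
                calc x * y * t₀ = x * (t₀ * t₀) * y * t₀ := by rw [ht₀2, mul_one]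
                  _ = (x * t₀) * (t₀ * y * t₀) := by group
              rw [this]; exact mul_mem hx hc
          · -- y odd
            have hcomm : y * t₀ = t₀ * y := h.2 y hy t₀ ht₀ hys hs₀
            have hyt : y * t₀ ∈ K := by
              apply hmemI _ (mul_mem hyP ht₀P)
              · rw [map_mul, hs₀, hys]; decide
              · calc y * t₀ * (y * t₀) = y * (t₀ * y) * t₀ := by group
                  _ = y * (y * t₀) * t₀ := by rw [hcomm]
                  _ = (y * y) * (t₀ * t₀) := by group
                  _ = 1 := by rw [hy2, ht₀2, mul_one]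
            rcases hx with hx | hx
            · right
              have : x * y * t₀ = x * (y * t₀) := by group
              rw [this]; exact mul_mem hx hyt
            · left
              have : x * y = (x * t₀) * (y * t₀) := by
                calc x * y = x * (t₀ * t₀) * y := by rw [ht₀2, mul_one]
                  _ = x * t₀ * (t₀ * y) := by group
                  _ = (x * t₀) * (y * t₀) := by rw [hcomm]
              rw [this]; exact mul_mem hx hyt
        induction hx using Subgroup.closure_induction_right with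
        | one => exact Or.inl (one_mem _)
        | mul_right x hx y hy ih => exact step x ih y hy
        | mul_inv_cancel x hx y hy ih =>
          have : y⁻¹ = y := inv_eq_of_mul_eq_one_left (h.1 y hy)
          rw [this]; exact step x ih y hy
      intro x hx
      rcases key x hx.1 with hk | hk
      · exact hk
      · exfalso
        have h1 : Perm.sign (x * t₀) = 1 := Perm.mem_alternatingGroup.mp (hKQ hk).2
        have h2 : Perm.sign x = 1 := Perm.mem_alternatingGroup.mp hx.2
        rw [map_mul, h2, hs₀] at h1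
        exact absurd h1 (by decide)
    · push Not at hodd
      have hTK : P ≤ K := by
        rw [hP, closure_le]
        intro t ht
        have hs : Perm.sign t = 1 := by
          rcases hsgn t with h1 | h1
          · exact h1
          · exact absurd h1 (hodd t ht)
        exact hmemI t (subset_closure ht) hs (h.1 t ht)
      exact fun x hx => hTK hx.1
  -- Claim 2
  have key2 : ∀ x, x ∈ K → ∀ hx : x ∈ Q₀, (Abelianization.of (⟨x, hx⟩ : ↥Q₀)) ^ 2 = 1 := by
    intro x hxK
    induction hxK using Subgroup.closure_induction with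
    | mem x hx =>
      intro hx'
      rw [← map_pow]
      have : (⟨x, hx'⟩ : ↥Q₀) ^ 2 = 1 := by
        apply Subtype.ext
        show x ^ 2 = 1
        rw [pow_two]; exact hx.2
      rw [this, map_one]
    | one =>
      intro hx
      have : (⟨1, hx⟩ : ↥Q₀) = 1 := rfl
      rw [this, map_one, one_pow]
    | mul x y hx hy ihx ihy =>
      intro hxy
      have hx' : x ∈ Q₀ := hKQ hx
      have hy' : y ∈ Q₀ := hKQ hy
      have : (⟨x * y, hxy⟩ : ↥Q₀) = ⟨x, hx'⟩ * ⟨y, hy'⟩ := rfl
      rw [this, map_mul, mul_pow, ihx hx', ihy hy', one_mul]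
    | inv x hx ih =>
      intro hx'
      have hx'' : x ∈ Q₀ := hKQ hx
      have : (⟨x⁻¹, hx'⟩ : ↥Q₀) = (⟨x, hx''⟩ : ↥Q₀)⁻¹ := rfl
      rw [this, map_inv, inv_pow, ih hx'', inv_one]
  intro x
  rw [← Abelianization.ker_of, MonoidHom.mem_ker, map_pow]
  exact key2 x.1 (hQK x.2) x.2

end two

theorem nu_two_pow (k : ℕ) : (Nat.factorial (2 ^ k)).factorization 2 + 1 = 2 ^ k := by
  have : Fact (Nat.Prime 2) := ⟨Nat.prime_two⟩
  induction k with
  | zero => simp
  | succ k ih =>
    rw [Nat.factorization_def _ Nat.prime_two] at ih ⊢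
    rw [pow_succ', padicValNat_factorial_mul]
    omega

theorem exists_good_pow (k : ℕ) : ∃ T : Set (Perm (Fin (2 ^ k))), Good T ∧
    Nat.card (closure T) = 2 ^ (Nat.factorial (2 ^ k)).factorization 2 ∧ (k = 0 → T = ∅) := by
  induction k with
  | zero =>
    refine ⟨∅, ⟨by simp, by simp⟩, ?_, fun _ => rfl⟩
    simp
  | succ k ih =>
    obtain ⟨T, hT, hcard, h0⟩ := ih
    have hc : Nat.card (Fin (2 ^ (k + 1))) = Nat.card (Fin (2 ^ k) ⊕ Fin (2 ^ k)) := by
      rw [Nat.card_sum, Nat.card_fin, Nat.card_fin]; ring
    obtain ⟨e⟩ := Finite.card_eq.mp hc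
    haveI : Nonempty (Fin (2 ^ k)) := ⟨⟨0, pos_of_ne_zero (pow_ne_zero _ (by norm_num))⟩⟩
    refine ⟨e.symm.permCongrHom '' (dblSet T), Good_transport e (Good_dblSet hT ?_), ?_, ?_⟩
    · rcases Nat.eq_zero_or_pos k with hk | hk
      · right; exact h0 hk
      · left
        rw [sign_sw, Fintype.card_fin]
        apply Even.neg_one_pow
        exact (Nat.even_pow' (by omega)).mpr even_two
    · rw [card_transport, card_closure_dblSet, hcard]
      have h1 := nu_two_pow k
      have h2 : (Nat.factorial (2 ^ (k + 1))).factorization 2 + 1 = 2 * 2 ^ k := by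
        rw [nu_two_pow]; ring
      have h3 : (Nat.factorial (2 ^ (k + 1))).factorization 2 =
          2 * (Nat.factorial (2 ^ k)).factorization 2 + 1 := by
        omega
      rw [h3]; ring
    · intro h; omega

theorem exists_good : ∀ n : ℕ, ∃ T : Set (Perm (Fin n)), Good T ∧
    Nat.card (closure T) = 2 ^ (Nat.factorial n).factorization 2 := by
  intro n
  induction n using Nat.strong_induction_on with
  | _ n ih =>
    rcases Nat.eq_zero_or_pos n with hn | hn
    · subst hn
      exact ⟨∅, ⟨by simp, by simp⟩, by simp⟩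
    · set k := Nat.log 2 n with hk
      have hle : 2 ^ k ≤ n := Nat.pow_log_le_self 2 (by omega)
      have hlt : n < 2 ^ (k + 1) := Nat.lt_pow_succ_log_self (by norm_num) n
      have hpk : 0 < 2 ^ k := pos_of_ne_zero (pow_ne_zero _ (by norm_num))
      set m := n - 2 ^ k with hm
      have hmn : m < n := by omega
      obtain ⟨Ta, hTa, hca⟩ := ih m hmn
      obtain ⟨Tb, hTb, hcb, -⟩ := exists_good_pow k
      have hcard : Nat.card (Fin n) = Nat.card (Fin m ⊕ Fin (2 ^ k)) := by
        rw [Nat.card_sum, Nat.card_fin, Nat.card_fin, Nat.card_fin]; omega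
      obtain ⟨e⟩ := Finite.card_eq.mp hcard
      refine ⟨e.symm.permCongrHom '' (sumSet Ta Tb), Good_transport e (Good_sumSet hTa hTb), ?_⟩
      rw [card_transport, card_closure_sumSet, hca, hcb, ← pow_add]
      have hnm : n = m + 2 ^ k := by omega
      have : Fact (Nat.Prime 2) := ⟨Nat.prime_two⟩
      rw [hnm, legendre_add 2 k m (by omega)]

theorem EP_alt_odd (p : ℕ) [Fact p.Prime] (hp : p ≠ 2) (n : ℕ)
    (Q : Sylow p (alternatingGroup (Fin n))) : EP p Q := by
  rcases Nat.lt_or_ge n 2 with hn | hn
  · haveI : Subsingleton (Fin n) := Fin.subsingleton_iff_le_one.mpr (by omega)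
    intro x
    have : x ^ p = 1 := Subsingleton.elim _ _
    rw [this]; exact one_mem _
  · haveI : Nontrivial (Fin n) := Fin.nontrivial_iff_two_le.mpr hn
    have h2 : 2 * Nat.card (alternatingGroup (Fin n)) = Nat.card (Perm (Fin n)) :=
      two_mul_nat_card_alternatingGroup
    have hfac : (Nat.card (alternatingGroup (Fin n))).factorization p =
        (Nat.card (Perm (Fin n))).factorization p := by
      rw [← h2, Nat.factorization_mul (by norm_num) (Nat.card_pos.ne'), Finsupp.add_apply]
      have : (2 : ℕ).factorization p = 0 := by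
        apply Nat.factorization_eq_zero_of_not_dvd
        intro hdvd
        exact hp ((Nat.prime_dvd_prime_iff_eq (Fact.out : p.Prime) Nat.prime_two).mp hdvd)
      rw [this, zero_add]
    let Q' : Subgroup (Perm (Fin n)) := (Q : Subgroup _).map (alternatingGroup (Fin n)).subtype
    have eQ : (Q : Subgroup (alternatingGroup (Fin n))) ≃* Q' :=
      Subgroup.equivMapOfInjective _ _ (Subgroup.subtype_injective _)
    have hcardQ : Nat.card Q' = p ^ (Nat.card (Perm (Fin n))).factorization p := by
      rw [← Nat.card_congr eQ.toEquiv, Sylow.card_eq_multiplicity, hfac]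
    let Q'' : Sylow p (Perm (Fin n)) := Sylow.ofCard Q' hcardQ
    have hQ'' : EP p Q'' := EP_sylow_perm p n (Fin n) (by simp) Q''
    have hQ' : EP p Q' := hQ''
    exact EP_of_mulEquiv eQ.symm hQ'

theorem EP_alt_two (n : ℕ) (Q : Sylow 2 (alternatingGroup (Fin n))) : EP 2 Q := by
  have : Fact (Nat.Prime 2) := ⟨Nat.prime_two⟩
  rcases Nat.lt_or_ge n 2 with hn | hn
  · haveI : Subsingleton (Fin n) := Fin.subsingleton_iff_le_one.mpr (by omega)
    intro x
    have : x ^ 2 = 1 := Subsingleton.elim _ _
    rw [this]; exact one_mem _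
  · haveI : Nontrivial (Fin n) := Fin.nontrivial_iff_two_le.mpr hn
    obtain ⟨T, hT, hcard⟩ := exists_good n
    have hgood := Good_even hT
    set P := closure T with hP
    set Q₀ := P ⊓ (alternatingGroup (Fin n)) with hQ₀
    let Q₁ : Subgroup (alternatingGroup (Fin n)) := Q₀.subgroupOf (alternatingGroup (Fin n))
    let e1 : Q₁ ≃* Q₀ := Subgroup.subgroupOfEquivOfLe inf_le_right
    have h2 : 2 * Nat.card (alternatingGroup (Fin n)) = Nat.card (Perm (Fin n)) := two_mul_nat_card_alternatingGroup
    set ν := (Nat.factorial n).factorization 2 with hν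
    have hνA : (Nat.card (alternatingGroup (Fin n))).factorization 2 + 1 = ν := by
      have h3 : (Nat.card (Perm (Fin n))).factorization 2 = ν := by
        rw [Nat.card_perm, Nat.card_fin]
      rw [← h3, ← h2, Nat.factorization_mul (by norm_num) (Nat.card_pos.ne'), Finsupp.add_apply,
        Nat.Prime.factorization_self Nat.prime_two]
      ring
    -- card Q₀ is a power of two
    have hdvdP : Nat.card Q₀ ∣ 2 ^ ν := by
      rw [← hcard]; exact Subgroup.card_dvd_of_le inf_le_left
    obtain ⟨j, hj, hQ₀card⟩ := (Nat.dvd_prime_pow Nat.prime_two).mp hdvdP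
    -- upper bound
    have hdvdA : Nat.card Q₀ ∣ Nat.card (alternatingGroup (Fin n)) := by
      rw [← Nat.card_congr e1.toEquiv]
      exact Subgroup.card_subgroup_dvd_card Q₁
    have hj1 : j ≤ (Nat.card (alternatingGroup (Fin n))).factorization 2 := by
      rw [hQ₀card] at hdvdA
      exact (Nat.Prime.pow_dvd_iff_le_factorization Nat.prime_two (Nat.card_pos.ne')).mp hdvdA
    -- lower bound
    have hrel : (alternatingGroup (Fin n)).relIndex P ∣ 2 := by
      have := Subgroup.relIndex_dvd_index_of_normal (alternatingGroup (Fin n)) P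
      rwa [alternatingGroup.index_eq_two] at this
    have hmul : Nat.card Q₀ * (alternatingGroup (Fin n)).relIndex P = Nat.card P := by
      have h4 : Nat.card ((alternatingGroup (Fin n)).subgroupOf P) * ((alternatingGroup (Fin n)).subgroupOf P).index = Nat.card P :=
        Subgroup.card_mul_index _
      have h5 : Nat.card ((alternatingGroup (Fin n)).subgroupOf P) = Nat.card Q₀ := by
        rw [← Subgroup.inf_subgroupOf_right, inf_comm]
        exact Nat.card_congr (Subgroup.subgroupOfEquivOfLe inf_le_left).toEquiv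
      rw [← h5]; exact h4
    have hj2 : ν ≤ j + 1 := by
      have h6 : (alternatingGroup (Fin n)).relIndex P ≤ 2 := Nat.le_of_dvd (by norm_num) hrel
      have h7 : 2 ^ ν ≤ 2 ^ (j + 1) := by
        rw [← hcard, ← hmul, hQ₀card, pow_succ]
        exact Nat.mul_le_mul_left _ h6
      exact (Nat.pow_le_pow_iff_right (by norm_num)).mp h7
    have hjeq : j = (Nat.card (alternatingGroup (Fin n))).factorization 2 := by omega
    have hQ₁card : Nat.card Q₁ = 2 ^ (Nat.card (alternatingGroup (Fin n))).factorization 2 := by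
      rw [Nat.card_congr e1.toEquiv, hQ₀card, hjeq]
    let Q₂ : Sylow 2 (alternatingGroup (Fin n)) := Sylow.ofCard Q₁ hQ₁card
    have hEP0 : EP 2 Q₀ := hgood
    have hEP1 : EP 2 Q₁ := EP_of_mulEquiv e1.symm hEP0
    have hEP2 : EP 2 Q₂ := hEP1
    exact EP_of_mulEquiv (Sylow.equiv Q₂ Q) hEP2

/-- For every prime p and every n, a Sylow p-subgroup P of the symmetric group on n letters has P/P' elementary abelian (the p-th power of every element of P lies in the derived subgroup of P), and the same holds for a Sylow p-subgroup of the alternating group on n letters. -/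
theorem result (p : ℕ) [Fact p.Prime] (n : ℕ) (P : Sylow p (Equiv.Perm (Fin n))) (Q : Sylow p (alternatingGroup (Fin n))) :
    (∀ x : (P : Subgroup (Equiv.Perm (Fin n))), x ^ p ∈ commutator (P : Subgroup (Equiv.Perm (Fin n)))) ∧
    (∀ x : (Q : Subgroup (alternatingGroup (Fin n))), x ^ p ∈ commutator (Q : Subgroup (alternatingGroup (Fin n)))) := by
  refine ⟨EP_sylow_perm p n (Fin n) (by simp) P, ?_⟩
  by_cases hp : p = 2
  · subst hp
    exact EP_alt_two n Q
  · exact EP_alt_odd p hp n Q

end Cfsg.Agent.S4623
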