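import Cfsg.Statements.S0805
import Mathlib
import Cfsg.Agent.Helper44.FieldExt
import Cfsg.Agent.Helper5.SLCard

set_option autoImplicit false
open Cfsg

namespace Cfsg.Agent.S0805

open scoped MatrixGroups

/-- transfer of an embedding through an injective map -/
theorem exists_subgroup_equiv {X G P : Type*} [Group X] [Group G] [Group P] (j : G →* P)
    (hj : Function.Injective j) (ι : X →* P) (hι : Function.Injective ι)
    (h : ι.range ≤ j.range) : ∃ H : Subgroup G, Nonempty (H ≃* X) := by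
  refine ⟨ι.range.comap j, ⟨?_⟩⟩
  have e1 : (ι.range.comap j) ≃* (ι.range.comap j).map j := Subgroup.equivMapOfInjective _ j hj
  have e2 : (ι.range.comap j).map j = ι.range := by
    rw [Subgroup.map_comap_eq, inf_eq_right.mpr h]
  have e3 : X ≃* ι.range := MonoidHom.ofInjective hι
  exact (e1.trans (MulEquiv.subgroupCongr e2)).trans e3.symm

section maps

variable {K F : Type*} [Field K] [Field F] (φ : K →+* F)

/-- `PGL₂(K) → PGL₂(F)` induced by a field embedding. -/
noncomputable def pglMap : Matrix.ProjGenLinGroup (Fin 2) K →* Matrix.ProjGenLinGroup (Fin 2) F :=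
  QuotientGroup.lift (Subgroup.center (GL (Fin 2) K))
    ((Matrix.ProjGenLinGroup.mk).comp (Matrix.GeneralLinearGroup.map φ)) (by
      intro g hg
      rw [MonoidHom.mem_ker, MonoidHom.comp_apply, Matrix.ProjGenLinGroup.mk_eq_one]
      exact Matrix.GeneralLinearGroup.map_center_le φ hg)

theorem pglMap_mk (g : GL (Fin 2) K) :
    pglMap φ (Matrix.ProjGenLinGroup.mk g) =
      Matrix.ProjGenLinGroup.mk (Matrix.GeneralLinearGroup.map φ g) := rfl

theorem pglMap_injective : Function.Injective (pglMap φ) := by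
  rw [injective_iff_map_eq_one]
  intro x hx
  induction x using Matrix.ProjGenLinGroup.induction_on with | mk g =>
  rw [pglMap_mk, Matrix.ProjGenLinGroup.mk_eq_one,
    Matrix.GeneralLinearGroup.mem_center_iff_val_mem_range_scalar] at hx
  rw [Matrix.ProjGenLinGroup.mk_eq_one,
    Matrix.GeneralLinearGroup.mem_center_iff_val_mem_range_scalar]
  obtain ⟨r, hr⟩ := hx
  have hij : ∀ i j : Fin 2, (Matrix.scalar (Fin 2) r) i j = φ (g.val i j) := by
    intro i j
    rw [hr]
    exact Matrix.GeneralLinearGroup.map_apply φ i j g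
  refine ⟨g.val 0 0, ?_⟩
  ext i j
  have h00 := hij 0 0
  have h11 := hij 1 1
  have h01 := hij 0 1
  have h10 := hij 1 0
  simp only [Matrix.scalar_apply, Matrix.diagonal_apply] at h00 h11 h01 h10 ⊢
  simp only [if_true, Fin.isValue, Fin.zero_eq_one_iff, Fin.one_eq_zero_iff, OfNat.ofNat_ne_one,
    if_false] at h00 h11 h01 h10
  fin_cases i <;> fin_cases j
  · simp
  · simp only [Fin.zero_eta, Fin.mk_one, Fin.isValue, zero_ne_one, ↓reduceIte]
    exact (φ.injective (by rw [← h01, map_zero])).symm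
  · simp only [Fin.zero_eta, Fin.mk_one, Fin.isValue, one_ne_zero, ↓reduceIte]
    exact (φ.injective (by rw [← h10, map_zero])).symm
  · simp only [Fin.mk_one, Fin.isValue, ↓reduceIte]
    exact φ.injective (by rw [← h00, ← h11])

theorem range_psl_le :
    ((pglMap φ).comp (Matrix.ProjectiveSpecialLinearGroup.toPGL (n := Fin 2) (R := K))).range ≤
      (Matrix.ProjectiveSpecialLinearGroup.toPGL (n := Fin 2) (R := F)).range := by
  rintro _ ⟨x, rfl⟩
  induction x using QuotientGroup.induction_on with | H g =>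
  refine ⟨QuotientGroup.mk (Matrix.SpecialLinearGroup.map φ g), ?_⟩
  show Matrix.ProjGenLinGroup.mk (Matrix.SpecialLinearGroup.toGL (Matrix.SpecialLinearGroup.map φ g))
    = Matrix.ProjGenLinGroup.mk (Matrix.GeneralLinearGroup.map φ (Matrix.SpecialLinearGroup.toGL g))
  congr 1
  apply Units.ext
  ext i j
  rw [Matrix.SpecialLinearGroup.coe_GL_coe_matrix,
    show (Matrix.GeneralLinearGroup.map φ (Matrix.SpecialLinearGroup.toGL g)).val i j =
      φ ((Matrix.SpecialLinearGroup.toGL g).val i j) from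
      Matrix.GeneralLinearGroup.map_apply φ i j _, Matrix.SpecialLinearGroup.coe_GL_coe_matrix]
  rfl

theorem range_pgl_le (hsq : ∀ a : K, IsSquare (φ a)) :
    (pglMap φ).range ≤
      (Matrix.ProjectiveSpecialLinearGroup.toPGL (n := Fin 2) (R := F)).range := by
  rintro _ ⟨x, rfl⟩
  induction x using Matrix.ProjGenLinGroup.induction_on with | mk g =>
  obtain ⟨s, hs⟩ := hsq g.val.det
  have hdet : g.val.det ≠ 0 := by
    have := (Matrix.isUnit_iff_isUnit_det g.val).mp g.isUnit
    exact this.ne_zero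
  have hs0 : s ≠ 0 := by
    rintro rfl
    rw [mul_zero] at hs
    exact hdet (φ.injective (by rw [hs, map_zero]))
  obtain ⟨h', hh'⟩ : ∃ h' : Matrix.SpecialLinearGroup (Fin 2) F,
      (h' : Matrix (Fin 2) (Fin 2) F) = s⁻¹ • (φ.mapMatrix g.val) := by
    refine ⟨⟨s⁻¹ • (φ.mapMatrix g.val), ?_⟩, rfl⟩
    rw [Matrix.det_smul, ← RingHom.map_det, hs, Fintype.card_fin]
    field_simp
  refine ⟨QuotientGroup.mk h', ?_⟩
  show Matrix.ProjGenLinGroup.mk (Matrix.SpecialLinearGroup.toGL h')
    = Matrix.ProjGenLinGroup.mk (Matrix.GeneralLinearGroup.map φ g)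
  rw [Matrix.ProjGenLinGroup.mk_eq_mk_iff]
  refine ⟨Units.mk0 s hs0, ?_⟩
  apply Units.ext
  ext i j
  rw [Units.val_mul, Matrix.GeneralLinearGroup.coe_scalar, Matrix.SpecialLinearGroup.coe_GL_coe_matrix, hh']
  simp only [Units.val_mk0, Matrix.mul_apply, Matrix.scalar_apply, Matrix.diagonal_apply,
    Matrix.smul_apply, RingHom.mapMatrix_apply, Matrix.map_apply, smul_eq_mul, mul_ite, mul_zero,
    Finset.sum_ite_eq', Finset.mem_univ, if_true]
  rw [show (Matrix.GeneralLinearGroup.map φ g).val i j = φ (g.val i j) from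
    Matrix.GeneralLinearGroup.map_apply φ i j g]
  field_simp

end maps

section arith

theorem geom_aux (x m : ℕ) (hx : 1 ≤ x) :
    (x - 1) * (∑ i ∈ Finset.range m, x ^ i) + 1 = x ^ m := by
  induction m with
  | zero => simp
  | succ m ih =>
    rw [Finset.sum_range_succ, mul_add, pow_succ]
    obtain ⟨y, rfl⟩ : ∃ y, x = y + 1 := ⟨x - 1, by omega⟩
    simp only [Nat.add_sub_cancel] at ih ⊢
    nlinarith [ih]

theorem odd_geom (x m : ℕ) (hx : Odd x) (hm : Odd m) : Odd (∑ i ∈ Finset.range m, x ^ i) := by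
  rw [Finset.odd_sum_iff_odd_card_odd]
  have : (Finset.range m).filter (fun i => Odd (x ^ i)) = Finset.range m := by
    apply Finset.filter_true_of_mem
    intro i _
    exact hx.pow
  rw [this, Finset.card_range]
  exact hm

/-- the arithmetic contradiction for `m` odd -/
theorem arith_false (k m P N : ℕ) (hk : Odd k) (hk2 : 1 < k) (hm : Odd m)
    (hP : P * (k - 1) = (k ^ 2 - 1) * (k ^ 2 - k))
    (hN : N * 2 = k ^ m * ((k ^ m) ^ 2 - 1)) (hPN : P ∣ N) : False := by
  have hS := geom_aux (k ^ 2) m (Nat.one_le_pow _ _ (by omega))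
  have hSodd := odd_geom (k ^ 2) m hk.pow hm
  have hkm : Odd (k ^ m) := hk.pow
  have e1 : (k ^ m) ^ 2 - 1 = (k ^ 2 - 1) * ∑ i ∈ Finset.range m, (k ^ 2) ^ i := by
    rw [← pow_mul, mul_comm m 2, pow_mul, ← hS]
    omega
  rw [e1] at hN
  generalize (∑ i ∈ Finset.range m, (k ^ 2) ^ i) = S at hN hSodd
  generalize k ^ m = K at hN hkm
  obtain ⟨t, rfl⟩ := hk
  have ht : 1 ≤ t := by omega
  have hk1 : 2 * t + 1 - 1 = 2 * t := by omega
  have hk3 : (2 * t + 1) ^ 2 - 1 = 4 * t * (t + 1) := by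
    have : (2 * t + 1) ^ 2 = 4 * t * (t + 1) + 1 := by ring
    omega
  have hk4 : (2 * t + 1) ^ 2 - (2 * t + 1) = 2 * t * (2 * t + 1) := by
    have : (2 * t + 1) ^ 2 = 2 * t * (2 * t + 1) + (2 * t + 1) := by ring
    omega
  rw [hk1, hk3, hk4] at hP
  rw [hk3] at hN
  have hP' : P = 4 * t * (t + 1) * (2 * t + 1) := by
    have : P * (2 * t) = (4 * t * (t + 1) * (2 * t + 1)) * (2 * t) := by rw [hP]; ring
    exact Nat.eq_of_mul_eq_mul_right (by omega) this
  obtain ⟨c, rfl⟩ := hPN
  rw [hP'] at hN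
  have h4 : 0 < 4 * t * (t + 1) := by positivity
  have e2 : (4 * t * (t + 1)) * (2 * ((2 * t + 1) * c)) = (4 * t * (t + 1)) * (K * S) := by
    rw [← mul_assoc (4 * t * (t + 1)) K S, mul_comm (4 * t * (t + 1)) K, mul_assoc K, ← hN]; ring
  have e3 := Nat.eq_of_mul_eq_mul_left h4 e2
  have hodd : Odd (K * S) := hkm.mul hSodd
  rw [← e3] at hodd
  exact (Nat.not_even_iff_odd.mpr hodd) (even_two_mul _)

theorem dvd_half (k m : ℕ) (hk : Odd k) (hm : Even m) : (k - 1) ∣ k ^ m / 2 := by
  obtain ⟨m', rfl⟩ := hm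
  obtain ⟨t, rfl⟩ := hk
  have h1 : (2 * t + 1) ^ (m' + m') = ((2 * t + 1) ^ 2) ^ m' := by rw [← two_mul, pow_mul]
  obtain ⟨j, hj⟩ : (2 * t + 1) ^ 2 - 1 ∣ ((2 * t + 1) ^ 2) ^ m' - 1 := by
    simpa using Nat.sub_dvd_pow_sub_pow ((2 * t + 1) ^ 2) 1 m'
  have hk3 : (2 * t + 1) ^ 2 - 1 = 4 * t * (t + 1) := by
    have : (2 * t + 1) ^ 2 = 4 * t * (t + 1) + 1 := by ring
    omega
  have hpos : 1 ≤ ((2 * t + 1) ^ 2) ^ m' := Nat.one_le_pow _ _ (by positivity)
  rw [h1]
  rw [hk3] at hj
  have hY : 4 * t * (t + 1) * j = 2 * ((2 * t + 1 - 1) * ((t + 1) * j)) := by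
    rw [Nat.add_sub_cancel]; ring
  rw [hY] at hj
  refine ⟨(t + 1) * j, ?_⟩
  generalize (2 * t + 1 - 1) * ((t + 1) * j) = Z at hj ⊢
  generalize ((2 * t + 1) ^ 2) ^ m' = X at hj hpos ⊢
  omega

end arith

section card
variable {K : Type*} [Field K] [Fintype K]

theorem card_PGL2 : Nat.card (Matrix.ProjGenLinGroup (Fin 2) K) * (Fintype.card K - 1) =
    (Fintype.card K ^ 2 - 1) * (Fintype.card K ^ 2 - Fintype.card K) := by
  have h1 := Subgroup.card_eq_card_quotient_mul_card_subgroup (Subgroup.center (GL (Fin 2) K))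
  rw [Matrix.card_GL_field] at h1
  simp only [Fin.prod_univ_two, Fin.val_zero, Fin.val_one, pow_zero, pow_one] at h1
  have h2 : Nat.card (Subgroup.center (GL (Fin 2) K)) = Fintype.card K - 1 := by
    rw [Matrix.GeneralLinearGroup.center_eq_range_scalar]
    have hinj : Function.Injective
        (Matrix.GeneralLinearGroup.scalar (Fin 2) : Kˣ →* GL (Fin 2) K) := by
      intro u v huv
      have := congrArg (fun g : GL (Fin 2) K => g.val 0 0) huv
      simpa [Matrix.GeneralLinearGroup.coe_scalar, Units.ext_iff] using this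
    rw [← Nat.card_congr (MonoidHom.ofInjective hinj).toEquiv, Nat.card_units,
      Nat.card_eq_fintype_card]
  rw [h2] at h1
  exact h1.symm

end card

/-- Subfield subgroups: let F be a finite field of odd order q and K a finite field with |K|^m = q, m ≥ 1. Then PSL_2(F) has a subgroup isomorphic to PSL_2(K), and has a subgroup isomorphic to PGL_2(K) if and only if m is even. -/
theorem result {F K : Type*} [Field F] [Fintype F] [Field K] [Fintype K] {q : ℕ} (hF : Fintype.card F = q) (hodd : Odd q) (m : ℕ) (hm : 1 ≤ m) (hK : Fintype.card K ^ m = q) : (∃ H : Subgroup (Matrix.ProjectiveSpecialLinearGroup (Fin 2) F), Nonempty (H ≃* Matrix.ProjectiveSpecialLinearGroup (Fin 2) K)) ∧ ((∃ H : Subgroup (Matrix.ProjectiveSpecialLinearGroup (Fin 2) F), Nonempty (H ≃* Matrix.ProjGenLinGroup (Fin 2) K)) ↔ Even m) := by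
  classical
  subst hK
  obtain ⟨φ⟩ := Cfsg.Agent.Helper44.exists_ringHom_of_card_pow (F := K) (K := F) rfl hF
  have hinjF := Matrix.ProjectiveSpecialLinearGroup.toPGL_injective (n := Fin 2) (R := F)
  have hinjK := Matrix.ProjectiveSpecialLinearGroup.toPGL_injective (n := Fin 2) (R := K)
  have hkodd : Odd (Fintype.card K) := (Nat.odd_pow_iff (by omega)).mp hodd
  have hchar : ringChar F ≠ 2 := by
    intro h
    have := FiniteField.even_card_of_char_two h
    rw [hF] at this
    rcases hodd with ⟨r, hr⟩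
    omega
  have h2F : (2 : F) ≠ 0 := Ring.two_ne_zero hchar
  refine ⟨exists_subgroup_equiv _ hinjF
    ((pglMap φ).comp Matrix.ProjectiveSpecialLinearGroup.toPGL)
    ((pglMap_injective φ).comp hinjK) (range_psl_le φ), ?_, ?_⟩
  · rintro ⟨H, ⟨e⟩⟩
    by_contra hme
    rw [Nat.not_even_iff_odd] at hme
    have hP := card_PGL2 (K := K)
    have hN : Nat.card (Matrix.ProjectiveSpecialLinearGroup (Fin 2) F) * 2 =
        Fintype.card F * (Fintype.card F ^ 2 - 1) := by
      have h1 := Cfsg.Agent.Helper5.card_PSL2_mul (F := F)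
      rw [Cfsg.Agent.Helper5.card_center_SL2 h2F] at h1
      exact h1
    rw [hF] at hN
    have hPN : Nat.card (Matrix.ProjGenLinGroup (Fin 2) K) ∣
        Nat.card (Matrix.ProjectiveSpecialLinearGroup (Fin 2) F) := by
      rw [← Nat.card_congr e.toEquiv]
      exact Subgroup.card_subgroup_dvd_card H
    exact arith_false _ m _ _ hkodd Fintype.one_lt_card hme hP hN hPN
  · intro hev
    have hsq : ∀ a : K, IsSquare (φ a) := by
      intro a
      by_cases ha : a = 0
      · subst ha
        rw [map_zero]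
        exact ⟨0, by simp⟩
      have hφa : φ a ≠ 0 := by
        rw [Ne, map_eq_zero]
        exact ha
      rw [FiniteField.isSquare_iff hchar hφa, ← map_pow, hF]
      obtain ⟨j, hj⟩ := dvd_half (Fintype.card K) m hkodd hev
      rw [hj, pow_mul, FiniteField.pow_card_sub_one_eq_one a ha, one_pow, map_one]
    exact exists_subgroup_equiv _ hinjF (pglMap φ) (pglMap_injective φ) (range_pgl_le φ hsq)

end Cfsg.Agent.S0805
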