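import Cfsg.Statements.S0251
import Cfsg.Agent.Helper5.SLCard
import Cfsg.Agent.Helper5.AltEmbed

set_option autoImplicit false
open Cfsg

namespace Cfsg.Agent.S0251

/-- PSL_2(3) is isomorphic to A_4. -/
theorem result {F : Type*} [Field F] [Fintype F] (hF : Fintype.card F = 3) : Nonempty (Matrix.ProjectiveSpecialLinearGroup (Fin 2) F ≃* alternatingGroup (Fin 4)) := by
  classical
  have h2 : (2 : F) ≠ 0 := by
    intro h2
    have h3 : (3 : F) = 0 := by
      have := Nat.cast_card_eq_zero F
      rw [hF] at this
      exact_mod_cast this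
    have : (1 : F) = 0 := by linear_combination h3 - h2
    exact one_ne_zero this
  have hP : Nat.card (Projectivization F (Fin 2 → F)) = 4 := by
    rw [Helper5.card_projLine, hF]
  have : Finite (Projectivization F (Fin 2 → F)) := Nat.finite_of_card_ne_zero (by omega)
  have hcard : 2 * Nat.card (Matrix.ProjectiveSpecialLinearGroup (Fin 2) F) = Nat.factorial 4 := by
    have h := Helper5.card_PSL2_mul (F := F)
    rw [Helper5.card_center_SL2 h2, hF] at h
    rw [mul_comm, h]
    decide
  exact Helper5.equiv_alternatingGroup_of_injective _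
    Matrix.ProjectiveSpecialLinearGroup.toPermHom_injective 4 hP hcard

end Cfsg.Agent.S0251
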