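import Cfsg.Statements.S5093
import Cfsg.Agent.Helper86.Hyperfocal
import Cfsg.Agent.Helper84.FusionGroup2
import Cfsg.Agent.Helper86.Residual
import Cfsg.Agent.Helper47.Basic
import Cfsg.Agent.S5124

set_option autoImplicit false
open Cfsg

namespace Cfsg.Agent.S5093

open scoped commutatorElement

/-- `O^p(O^p(G)) = O^p(G)`. -/
theorem pResidual_pResidual_eq_top {G : Type*} [Group G] (p : ℕ) :
    Cfsg.pResidual p ↥(Cfsg.pResidual p G) = ⊤ := by
  rw [eq_top_iff]
  rintro ⟨n, hn⟩ -
  refine Subgroup.closure_induction (p := fun (g : G) (hg : g ∈ Subgroup.closure {g : G | Nat.Coprime (orderOf g) p}) =>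
    (⟨g, hg⟩ : ↥(Cfsg.pResidual p G)) ∈ Cfsg.pResidual p ↥(Cfsg.pResidual p G)) ?_ ?_ ?_ ?_ hn
  · intro g hg
    apply Subgroup.subset_closure
    have h : orderOf (⟨g, Subgroup.subset_closure hg⟩ : ↥(Cfsg.pResidual p G)) = orderOf g :=
      Subgroup.orderOf_mk g _
    exact (congrArg (fun k => Nat.Coprime k p) h).mpr hg
  · exact Subgroup.one_mem _
  · intro x y hx hy ihx ihy
    exact Subgroup.mul_mem _ ihx ihy
  · intro x hx ihx
    exact Subgroup.inv_mem _ ihx

/-- In a group generated by its elements of order prime to `p`, every `p`-element lies in the commutator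
subgroup. -/
theorem mem_commutator_of_pResidual_eq_top {K : Type*} [Group K] {p : ℕ} [Fact p.Prime]
    (h : Cfsg.pResidual p K = ⊤) (r : K) (k : ℕ) (hr : r ^ p ^ k = 1) : r ∈ commutator K := by
  have key : ∀ n ∈ Cfsg.pResidual p K, ∃ m : ℕ, Nat.Coprime m p ∧ (Abelianization.of n) ^ m = 1 := by
    intro n hn
    refine Subgroup.closure_induction (p := fun n _ => ∃ m : ℕ, Nat.Coprime m p ∧ (Abelianization.of n) ^ m = 1)
      ?_ ?_ ?_ ?_ hn
    · intro g hg
      exact ⟨orderOf g, hg, by rw [← map_pow, pow_orderOf_eq_one, map_one]⟩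
    · exact ⟨1, Nat.coprime_one_left p, by simp⟩
    · rintro x y _ _ ⟨m, hm, hxm⟩ ⟨m', hm', hym⟩
      refine ⟨m * m', Nat.Coprime.mul_left hm hm', ?_⟩
      rw [map_mul, mul_pow, pow_mul, hxm, one_pow, mul_comm m m', pow_mul, hym, one_pow, one_mul]
    · rintro x _ ⟨m, hm, hxm⟩
      exact ⟨m, hm, by rw [map_inv, inv_pow, hxm, inv_one]⟩
  obtain ⟨m, hm, hrm⟩ := key r (h ▸ Subgroup.mem_top r)
  have h1 : (Abelianization.of r) ^ p ^ k = 1 := by rw [← map_pow, hr, map_one]
  have h2 : orderOf (Abelianization.of r) ∣ Nat.gcd m (p ^ k) :=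
    Nat.dvd_gcd (orderOf_dvd_of_pow_eq_one hrm) (orderOf_dvd_of_pow_eq_one h1)
  rw [(Nat.Coprime.pow_right k hm).gcd_eq_one, Nat.dvd_one, orderOf_eq_one_iff] at h2
  rw [← Abelianization.ker_of]
  exact MonoidHom.mem_ker.mpr h2

/-- Hyperfocal subgroup Theorem: for a finite group G with Sylow p-subgroup S, the hyperfocal subgroup of the fusion system of G on S equals S ∩ O^p(G), where O^p(G) is the subgroup generated by the elements of order prime to p. -/
theorem result {G : Type*} [Group G] [Finite G] (p : ℕ) [Fact p.Prime] (S : Sylow p G) : (Cfsg.groupFusionSystem (S : Subgroup G)).hyperfocalSubgroup p = (S : Subgroup G) ⊓ Cfsg.pResidual p G := by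
  classical
  have hSp : IsPGroup p (S : Subgroup G) := S.isPGroup'
  have hF : (Cfsg.groupFusionSystem (S : Subgroup G)).IsSaturated p := Helper84.groupFS_saturated S
  have hNn : (Cfsg.pResidual p G).Normal := Helper84.pResidual_normal p
  apply le_antisymm
  · refine le_inf (Helper86.hyperfocalSubgroup_le _ p) ?_
    apply Helper86.hyperfocal_le_of_forall_coprime
    intro P hPS a hcop x
    have hmem : P.subtype.comp (a : MulAut P).toMonoidHom ∈ (Cfsg.groupFusionSystem (S : Subgroup G)).Hom P :=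
      (Helper84.mem_autGroup_iff _ hPS _).mp a.2
    obtain ⟨-, -, g, hg⟩ := hmem
    have hg' : ∀ y : P, (((a : MulAut P) y : P) : G) = g * y * g⁻¹ := hg
    have hpow : ∀ (n : ℕ) (y : P), ((((a : MulAut P) ^ n) y : P) : G) = g ^ n * y * (g ^ n)⁻¹ := by
      intro n
      induction n with
      | zero => intro y; simp
      | succ n ih =>
        intro y
        rw [pow_succ, MulAut.mul_apply, ih, hg', pow_succ]
        group
    obtain ⟨e, he⟩ := Helper84.exists_pow_mem_pResidual (p := p) g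
    have hcop' : Nat.Coprime (p ^ e) (orderOf (a : MulAut P)) := by
      rw [Subgroup.orderOf_coe]
      exact Nat.Coprime.pow_left e hcop.symm
    obtain ⟨j, hj⟩ := exists_pow_eq_self_of_coprime hcop'
    have h1 : (((a : MulAut P) x : P) : G) = g ^ (p ^ e * j) * x * (g ^ (p ^ e * j))⁻¹ := by
      rw [← hpow, pow_mul, hj]
    have h2 : g ^ (p ^ e * j) ∈ Cfsg.pResidual p G := by
      rw [pow_mul]
      exact Subgroup.pow_mem _ he j
    rw [h1]
    have e3 : (x : G)⁻¹ * (g ^ (p ^ e * j) * x * (g ^ (p ^ e * j))⁻¹) =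
        ((x : G)⁻¹ * g ^ (p ^ e * j) * (x : G)⁻¹⁻¹) * (g ^ (p ^ e * j))⁻¹ := by group
    rw [e3]
    exact Subgroup.mul_mem _ (hNn.conj_mem _ h2 _) (Subgroup.inv_mem _ h2)
  · -- the reverse inclusion
    have hRsc : (Cfsg.groupFusionSystem (S : Subgroup G)).StronglyClosed ((S : Subgroup G) ⊓ Cfsg.pResidual p G) := by
      refine ⟨inf_le_left, fun Q hQ φ hφ x => ?_⟩
      obtain ⟨-, hφS, g, hg⟩ := hφ
      refine ⟨hφS x, ?_⟩
      rw [hg]
      exact hNn.conj_mem _ (hQ x.2).2 g
    have hHsc := Cfsg.Agent.S5124.result p hSp _ hF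
    have hnil : Group.IsNilpotent ↥(S : Subgroup G) := hSp.isNilpotent
    apply Helper86.le_of_le_sup_commutator (S : Subgroup G) _ _ (Helper86.hyperfocalSubgroup_le _ p) inf_le_left
      (fun s hs h hh => Helper85.stronglyClosed_conj_mem hHsc hs hh)
    -- `R ≤ hyp(F) [R, S]` by the focal subgroup theorem in `O^p(G)`
    let R' : Sylow p ↥(Cfsg.pResidual p G) := Helper47.sylowInfNormal S (Cfsg.pResidual p G)
    have hR'coe : (R' : Subgroup ↥(Cfsg.pResidual p G)) = (S : Subgroup G).subgroupOf (Cfsg.pResidual p G) := rfl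
    have hRcomm : (R' : Subgroup ↥(Cfsg.pResidual p G)) ≤ commutator ↥(Cfsg.pResidual p G) := by
      intro r hr
      obtain ⟨k, hk⟩ := R'.isPGroup' ⟨r, hr⟩
      have hk' : r ^ p ^ k = 1 := by
        have := congrArg Subtype.val hk
        simpa using this
      exact mem_commutator_of_pResidual_eq_top (pResidual_pResidual_eq_top p) r k hk'
    have hfoc : (R' : Subgroup ↥(Cfsg.pResidual p G)).focalSubgroup = (R' : Subgroup ↥(Cfsg.pResidual p G)) := by
      rw [← Subgroup.commutator_inf_eq_focalSubgroup R']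
      exact inf_eq_right.mpr hRcomm
    have hgen : ∀ r' ∈ (R' : Subgroup ↥(Cfsg.pResidual p G)).focalSubgroup,
        (r' : G) ∈ (Cfsg.groupFusionSystem (S : Subgroup G)).hyperfocalSubgroup p ⊔
          ⁅(S : Subgroup G) ⊓ Cfsg.pResidual p G, (S : Subgroup G)⁆ := by
      intro r' hr'
      rw [Subgroup.focalSubgroup_def] at hr'
      refine Subgroup.closure_induction (p := fun (r' : ↥(Cfsg.pResidual p G)) _ =>
        (r' : G) ∈ (Cfsg.groupFusionSystem (S : Subgroup G)).hyperfocalSubgroup p ⊔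
          ⁅(S : Subgroup G) ⊓ Cfsg.pResidual p G, (S : Subgroup G)⁆) ?_ ?_ ?_ ?_ hr'
      · rintro g' ⟨hg'R, x, hx, u, rfl⟩
        have hxS : (x : G) ∈ (S : Subgroup G) := Subgroup.mem_subgroupOf.mp hx
        have hgS : ((⁅x, u⁆ : ↥(Cfsg.pResidual p G)) : G) ∈ (S : Subgroup G) := Subgroup.mem_subgroupOf.mp hg'R
        have hyR : (x : G)⁻¹ ∈ (S : Subgroup G) ⊓ Cfsg.pResidual p G :=
          ⟨Subgroup.inv_mem _ hxS, Subgroup.inv_mem _ x.2⟩
        have hconjS : (u : G) * (x : G)⁻¹ * (u : G)⁻¹ ∈ (S : Subgroup G) := by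
          have e1 : (u : G) * (x : G)⁻¹ * (u : G)⁻¹ = (x : G)⁻¹ * ((⁅x, u⁆ : ↥(Cfsg.pResidual p G)) : G) := by
            rw [commutatorElement_def]
            simp only [Subgroup.coe_mul, Subgroup.coe_inv]
            group
          rw [e1]
          exact Subgroup.mul_mem _ (Subgroup.inv_mem _ hxS) hgS
        have hφ : Cfsg.conjHom (Subgroup.zpowers (x : G)⁻¹) (u : G) ∈
            (Cfsg.groupFusionSystem (S : Subgroup G)).Hom (Subgroup.zpowers (x : G)⁻¹) := by
          refine ⟨Subgroup.zpowers_le.mpr (Subgroup.inv_mem _ hxS), fun z => ?_, (u : G), fun z => rfl⟩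
          obtain ⟨k, hk⟩ := Subgroup.mem_zpowers_iff.mp z.2
          have e2 : Cfsg.conjHom (Subgroup.zpowers (x : G)⁻¹) (u : G) z =
              ((u : G) * (x : G)⁻¹ * (u : G)⁻¹) ^ k := by
            show (u : G) * (z : G) * (u : G)⁻¹ = _
            rw [← hk, ← MulAut.conj_apply, ← MulAut.conj_apply, map_zpow]
          rw [e2]
          exact Subgroup.zpow_mem _ hconjS k
        have h3 := Helper86.inv_mul_map_mem_of_stronglyClosed p hSp _ hF _ hRsc hφ
          ⟨(x : G)⁻¹, Subgroup.mem_zpowers _⟩ hyR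
        have e3 : ((⁅x, u⁆ : ↥(Cfsg.pResidual p G)) : G) =
            ((x : G)⁻¹)⁻¹ * Cfsg.conjHom (Subgroup.zpowers (x : G)⁻¹) (u : G) ⟨(x : G)⁻¹, Subgroup.mem_zpowers _⟩ := by
          rw [commutatorElement_def]
          show _ = ((x : G)⁻¹)⁻¹ * ((u : G) * (x : G)⁻¹ * (u : G)⁻¹)
          simp only [Subgroup.coe_mul, Subgroup.coe_inv]
          group
        rw [e3]
        exact h3
      · exact Subgroup.one_mem _
      · intro a b _ _ iha ihb
        rw [Subgroup.coe_mul]
        exact Subgroup.mul_mem _ iha ihb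
      · intro a _ iha
        rw [Subgroup.coe_inv]
        exact Subgroup.inv_mem _ iha
    intro r hr
    have hr' : (⟨r, hr.2⟩ : ↥(Cfsg.pResidual p G)) ∈ (R' : Subgroup ↥(Cfsg.pResidual p G)) := by
      rw [hR'coe, Subgroup.mem_subgroupOf]
      exact hr.1
    rw [← hfoc] at hr'
    exact hgen _ hr'

end Cfsg.Agent.S5093
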