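import Mathlib
import Cfsg.Statements.S0985

set_option autoImplicit false
open Cfsg

namespace Cfsg.Agent.S0985

/-- If the number of Sylow p-subgroups of a finite group is not congruent to 1 modulo p^k, then there are two distinct Sylow p-subgroups P and R such that the index of P ∩ R in P is at most p^(k-1). -/
theorem result {G : Type*} [Group G] [Finite G] (p k : ℕ) [Fact p.Prime] (h : ¬ Nat.card (Sylow p G) ≡ 1 [MOD p ^ k]) : ∃ P R : Sylow p G, P ≠ R ∧ ((R : Subgroup G).subgroupOf (P : Subgroup G)).index ≤ p ^ (k - 1) := by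
  classical
  have hp : p.Prime := Fact.out
  by_contra hcon
  apply h
  obtain ⟨P⟩ := (inferInstance : Nonempty (Sylow p G))
  have hk : k ≠ 0 := by
    rintro rfl
    apply h
    simp [Nat.modEq_one]
  have hall : ∀ R : Sylow p G, R ≠ P → p ^ k ∣ ((R : Subgroup G).subgroupOf (P : Subgroup G)).index := by
    intro R hR
    have h1 : ¬ ((R : Subgroup G).subgroupOf (P : Subgroup G)).index ≤ p ^ (k - 1) := by
      intro h2
      exact hcon ⟨P, R, fun h3 => hR h3.symm, h2⟩
    have h2 : ((R : Subgroup G).subgroupOf (P : Subgroup G)).index ∣ Nat.card (P : Subgroup G) :=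
      Subgroup.index_dvd_card _
    obtain ⟨n, hn⟩ := IsPGroup.iff_card.mp P.isPGroup'
    rw [hn] at h2
    obtain ⟨j, hj, hj'⟩ := (Nat.dvd_prime_pow hp).mp h2
    rw [hj'] at h1 ⊢
    have h3 : k - 1 < j := by
      by_contra h4
      exact h1 (Nat.pow_le_pow_right hp.pos (not_lt.mp h4))
    exact pow_dvd_pow p (by omega)
  have key : ∀ R : Sylow p G, Nat.card (MulAction.orbit (↥(P : Subgroup G)) R) = ((R : Subgroup G).subgroupOf (P : Subgroup G)).index := by
    intro R
    rw [Nat.card_coe_set_eq, ← MulAction.index_stabilizer]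
    congr 1
    rw [← Subgroup.inf_subgroupOf_right, inf_comm, ← IsPGroup.inf_normalizer_sylow P.isPGroup' R,
      inf_comm, Subgroup.inf_subgroupOf_right]
    ext g
    rw [MulAction.mem_stabilizer_iff, Subgroup.mem_subgroupOf, ← Sylow.smul_eq_iff_mem_normalizer]
    rfl
  rw [Nat.card_congr (MulAction.selfEquivSigmaOrbits' (↥(P : Subgroup G)) (Sylow p G))]
  have : Fintype (MulAction.orbitRel.Quotient (↥(P : Subgroup G)) (Sylow p G)) := Fintype.ofFinite _
  rw [Nat.card_sigma]
  rw [← Finset.add_sum_erase Finset.univ _ (Finset.mem_univ (Quotient.mk'' P : MulAction.orbitRel.Quotient (↥(P : Subgroup G)) (Sylow p G)))]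
  have h1 : Nat.card (MulAction.orbitRel.Quotient.orbit (Quotient.mk'' P : MulAction.orbitRel.Quotient (↥(P : Subgroup G)) (Sylow p G))) = 1 := by
    rw [MulAction.orbitRel.Quotient.orbit_mk, key P]
    have : (P : Subgroup G).subgroupOf (P : Subgroup G) = ⊤ := Subgroup.subgroupOf_self _
    rw [this, Subgroup.index_top]
  rw [h1]
  have h2 : p ^ k ∣ ∑ x ∈ Finset.univ.erase (Quotient.mk'' P : MulAction.orbitRel.Quotient (↥(P : Subgroup G)) (Sylow p G)), Nat.card (MulAction.orbitRel.Quotient.orbit x) := by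
    apply Finset.dvd_sum
    intro ω hω
    induction ω using Quotient.inductionOn' with
    | h R =>
      rw [MulAction.orbitRel.Quotient.orbit_mk, key R]
      apply hall
      rintro rfl
      simp at hω
  obtain ⟨c, hc⟩ := h2
  rw [hc]
  unfold Nat.ModEq
  simp

end Cfsg.Agent.S0985
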