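import Cfsg.Statements.S0265
import Cfsg.Agent.Helper5.SLCard

set_option autoImplicit false
open Cfsg

namespace Cfsg.Agent.S0265

open Matrix in
theorem card_center_GL {F : Type*} [Field F] [Fintype F] (n : Type*) [Fintype n] [DecidableEq n]
    [Nonempty n] : Nat.card (Subgroup.center (GL n F)) = Fintype.card F - 1 := by
  rw [Matrix.GeneralLinearGroup.center_eq_range_scalar]
  have hinj : Function.Injective (Matrix.GeneralLinearGroup.scalar n : Fˣ →* GL n F) := by
    intro a b hab
    obtain ⟨i⟩ := ‹Nonempty n›
    have := congrArg (fun g : GL n F => (g : Matrix n n F) i i) hab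
    simp [Matrix.GeneralLinearGroup.coe_scalar] at this
    exact Units.ext this
  rw [← Nat.card_congr (MonoidHom.ofInjective hinj).toEquiv, Nat.card_units,
    Nat.card_eq_fintype_card]

/-- |PGL_n(q)| = |SL_n(q)|: GL_n modulo its centre (the q-1 non-zero scalars) has the same order as the kernel of det. -/
theorem result {F : Type*} [Field F] [Fintype F] (n : ℕ) : Nat.card (Matrix.ProjGenLinGroup (Fin n) F) = Nat.card (Matrix.SpecialLinearGroup (Fin n) F) := by
  rcases Nat.eq_zero_or_pos n with rfl | hn
  · have h1 : Subsingleton (Matrix.GeneralLinearGroup (Fin 0) F) := inferInstance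
    have h2 : Subsingleton (Matrix.ProjGenLinGroup (Fin 0) F) := by
      unfold Matrix.ProjGenLinGroup
      infer_instance
    rw [Nat.card_of_subsingleton (1 : Matrix.ProjGenLinGroup (Fin 0) F),
      Nat.card_of_subsingleton (1 : Matrix.SpecialLinearGroup (Fin 0) F)]
  · have : Nonempty (Fin n) := ⟨⟨0, hn⟩⟩
    have h1 : Nat.card (Matrix.ProjGenLinGroup (Fin n) F) *
        Nat.card (Subgroup.center (Matrix.GeneralLinearGroup (Fin n) F)) =
        Nat.card (Matrix.GeneralLinearGroup (Fin n) F) := by
      unfold Matrix.ProjGenLinGroup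
      exact (Subgroup.card_eq_card_quotient_mul_card_subgroup _).symm
    rw [card_center_GL, ← Helper5.card_SL_mul] at h1
    have hq : 1 < Fintype.card F := Fintype.one_lt_card
    exact Nat.eq_of_mul_eq_mul_right (by omega) h1

end Cfsg.Agent.S0265
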