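import Cfsg.Statements.S0300
import Cfsg.Agent.Helper5.O4Minus
import Cfsg.Agent.Helper5.OrthMinus
import Cfsg.Agent.Helper5.NormOne
import Cfsg.Agent.Helper5.SLCard
import Cfsg.Agent.Helper42.SLn

set_option autoImplicit false
open Cfsg

namespace Cfsg.Agent.S0300

open Cfsg.Agent.Helper5 Matrix

theorem exists_sq_ne_one {L : Type*} [Field L] [Fintype L] (h : 4 ≤ Fintype.card L) :
    ∃ x : L, x ≠ 0 ∧ x ^ 2 ≠ 1 := by
  classical
  by_contra hcon
  push Not at hcon
  have : Fintype.card L ≤ 3 := by
    calc Fintype.card L = (Finset.univ : Finset L).card := rfl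
      _ ≤ ({0, 1, -1} : Finset L).card := Finset.card_le_card (fun x _ => by
          by_cases hx : x = 0
          · simp [hx]
          · have h1 := hcon x hx
            have h2 : (x - 1) * (x + 1) = 0 := by linear_combination h1
            rcases mul_eq_zero.1 h2 with h' | h'
            · simp [sub_eq_zero.1 h']
            · simp [eq_neg_of_add_eq_zero_left h'])
      _ ≤ 3 := Finset.card_le_three
  omega

/-- A ring isomorphism induces a bijection of special linear groups. -/
theorem slMap_bijective {L K : Type*} [Field L] [Field K] (e : L ≃+* K) :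
    Function.Bijective (Matrix.SpecialLinearGroup.map (n := Fin 2) e.toRingHom) := by
  constructor
  · intro g k hgk
    apply Subtype.ext
    have h1 := congrArg (fun x : Matrix.SpecialLinearGroup (Fin 2) K =>
      (x : Matrix (Fin 2) (Fin 2) K)) hgk
    simp only [Matrix.SpecialLinearGroup.map_apply_coe] at h1
    ext i j
    have h2 := congrFun (congrFun h1 i) j
    simp only [RingHom.mapMatrix_apply, Matrix.map_apply] at h2
    exact e.injective h2
  · intro k
    refine ⟨Matrix.SpecialLinearGroup.map (n := Fin 2) e.symm.toRingHom k, ?_⟩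
    apply Subtype.ext
    simp only [Matrix.SpecialLinearGroup.map_apply_coe]
    ext i j
    simp [RingHom.mapMatrix_apply, Matrix.map_apply]

/-- PΩ^-_4(q) is isomorphic to PSL_2(q^2). -/
theorem result {F K : Type*} [Field F] [Fintype F] [Field K] [Fintype K] {q : ℕ} (hF : Fintype.card F = q) (hK : Fintype.card K = q ^ 2) (a b : F) (hab : ∀ z₁ z₂ : F, z₁ ^ 2 + a * z₁ * z₂ + b * z₂ ^ 2 = 0 → z₁ = 0 ∧ z₂ = 0) : Nonempty (Cfsg.POmega F (Cfsg.quadFormMinus 1 F a b) ≃* Matrix.ProjectiveSpecialLinearGroup (Fin 2) K) := by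
  classical
  haveI := fact_of_aniso a b hab
  have hnb := aniso_not_both a b hab
  letI : Fintype (QuadraticAlgebra F (-b) a) :=
    Fintype.ofEquiv _ (QuadraticAlgebra.equivProd (-b) a).symm
  have hL : Fintype.card (QuadraticAlgebra F (-b) a) = q ^ 2 := by
    rw [Fintype.card_congr (QuadraticAlgebra.equivProd (-b) a), Fintype.card_prod, hF, pow_two]
  have hq2 : 2 ≤ q := by
    rw [← hF]
    exact Fintype.one_lt_card
  have hq4 : 4 ≤ q ^ 2 := by nlinarith
  obtain ⟨x, hx0, hx⟩ := exists_sq_ne_one (L := QuadraticAlgebra F (-b) a) (by rw [hL]; exact hq4)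
  have hperf : commutator (Matrix.SpecialLinearGroup (Fin 2) (QuadraticAlgebra F (-b) a)) = ⊤ :=
    SL2.commutator_eq_top hx0 hx
  have hnorm : ∀ N : Subgroup (Matrix.SpecialLinearGroup (Fin 2) (QuadraticAlgebra F (-b) a)),
      N.Normal → N ≤ Subgroup.center _ ∨ N = ⊤ := fun N hN =>
    Cfsg.Agent.Helper42.SLn.normal_le_center_or_eq_top hperf N
  set φ : Matrix.SpecialLinearGroup (Fin 2) (QuadraticAlgebra F (-b) a) →*
      Cfsg.isometryGroup F (Cfsg.quadFormMinus 1 F a b) :=
    (toIso F (Cfsg.quadFormMinus 1 F a b)).comp (o4mIso a b hnb) with hφ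
  have hkerφ : φ.ker = (o4mIso a b hnb).ker := by
    ext g
    rw [MonoidHom.mem_ker, MonoidHom.mem_ker]
    change toIso F (Cfsg.quadFormMinus 1 F a b) (o4mIso a b hnb g) = 1 ↔ _
    constructor
    · intro h
      exact toIso_injective _ (by rw [h, map_one])
    · intro h
      rw [h, map_one]
  have hkerle : φ.ker ≤ Subgroup.center _ := by
    rw [hkerφ]
    exact (hnorm _ inferInstance).resolve_right (o4mIso_ker_ne_top a b hnb)
  have hcen : Nat.card (Subgroup.center
      (Matrix.SpecialLinearGroup (Fin 2) (QuadraticAlgebra F (-b) a))) ≤ 2 := by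
    rw [Nat.card_congr (Matrix.SpecialLinearGroup.center_equiv_rootsOfUnity' (0 : Fin 2)).toEquiv]
    rw [Fintype.card_fin]
    exact card_rootsOfUnity (QuadraticAlgebra F (-b) a) 2
  have hker : Nat.card φ.ker ≤ 2 := (Subgroup.card_le_of_le hkerle).trans hcen
  have hge : φ.range ≤ commutator (Cfsg.isometryGroup F (Cfsg.quadFormMinus 1 F a b)) := by
    rintro _ ⟨g, rfl⟩
    have : g ∈ commutator (Matrix.SpecialLinearGroup (Fin 2) (QuadraticAlgebra F (-b) a)) := by
      rw [hperf]
      exact Subgroup.mem_top g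
    exact map_mem_commutator φ this
  have hO : Nat.card (Cfsg.isometryGroup F (Cfsg.quadFormMinus 1 F a b)) =
      2 * q ^ 2 * (q ^ 2 + 1) * (q ^ 2 - 1) := by
    have h := card_GO_minus a b hab 2 (by norm_num)
    change Nat.card (Cfsg.isometryGroup F (Cfsg.quadFormMinus 1 F a b)) = _ at h
    rw [h, hF]
    simp
  have hSL : Nat.card (Matrix.SpecialLinearGroup (Fin 2) (QuadraticAlgebra F (-b) a)) =
      q ^ 2 * ((q ^ 2) ^ 2 - 1) := by
    rw [card_SL2, hL]
  have hcard : Nat.card (Cfsg.isometryGroup F (Cfsg.quadFormMinus 1 F a b)) =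
      2 * Nat.card (Matrix.SpecialLinearGroup (Fin 2) (QuadraticAlgebra F (-b) a)) := by
    rw [hO, hSL]
    have e1 : 1 ≤ q ^ 2 := by omega
    have e2 : 1 ≤ (q ^ 2) ^ 2 := Nat.one_le_pow _ _ (by omega)
    zify [e1, e2]
    ring
  have hidx := index_range_eq_mul φ 2 hcard
  have hidx4 : φ.range.index ≤ 4 := by
    rw [hidx]
    omega
  have hlarge : 24 * Nat.card (Subgroup.center
      (Matrix.SpecialLinearGroup (Fin 2) (QuadraticAlgebra F (-b) a))) <
      Nat.card (Cfsg.isometryGroup F (Cfsg.quadFormMinus 1 F a b)) := by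
    rw [hO]
    have e1 : 3 ≤ q ^ 2 - 1 := by omega
    have e2 : 5 ≤ q ^ 2 + 1 := by omega
    calc 24 * Nat.card (Subgroup.center
          (Matrix.SpecialLinearGroup (Fin 2) (QuadraticAlgebra F (-b) a))) ≤ 24 * 2 :=
          Nat.mul_le_mul_left _ hcen
      _ < 2 * 4 * 5 * 3 := by norm_num
      _ ≤ 2 * q ^ 2 * (q ^ 2 + 1) * (q ^ 2 - 1) := by gcongr
  have hnormal : φ.range.Normal := range_normal_of_index_le_four φ hnorm hidx4 hlarge
  have hle := commutator_le_of_normal_index_le_four φ.range hidx4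
  have hrange := le_antisymm hge hle
  -- transport to `K`
  have e : QuadraticAlgebra F (-b) a ≃+* K := FiniteField.ringEquivOfCardEq (by rw [hL, hK])
  obtain ⟨hinj, hsurj⟩ := slMap_bijective e
  refine nonempty_commutator_quot_center φ hrange
    ((QuotientGroup.mk' (Subgroup.center (Matrix.SpecialLinearGroup (Fin 2) K))).comp
      (Matrix.SpecialLinearGroup.map (n := Fin 2) e.toRingHom)) ?_ ?_
  · exact (QuotientGroup.mk'_surjective _).comp hsurj
  · intro s
    rw [MonoidHom.comp_apply, QuotientGroup.mk'_apply, QuotientGroup.eq_one_iff]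
    constructor
    · intro hs t
      have h1 := Subgroup.mem_center_iff.1 hs (Matrix.SpecialLinearGroup.map e.toRingHom t)
      rw [← map_mul, ← map_mul] at h1
      rw [hinj h1]
    · intro hs
      have hsc := mem_center_of_perfect hperf φ hkerle s hs
      rw [Subgroup.mem_center_iff]
      intro y
      obtain ⟨t, rfl⟩ := hsurj y
      rw [← map_mul, ← map_mul, Subgroup.mem_center_iff.1 hsc t]

end Cfsg.Agent.S0300
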