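import Mathlib
import Cfsg.Statements.S5185
import Cfsg.Agent.Helper52.AutChain
import Cfsg.Agent.Helper84.FusionAut

set_option autoImplicit false
universe u
open Cfsg

namespace Cfsg.Agent.S5185

open Matrix

variable {p : ℕ} [Fact p.Prime]

/-- Upper elementary matrix. -/
def eU (s : ZMod p) : SpecialLinearGroup (Fin 2) (ZMod p) :=
  ⟨!![1, s; 0, 1], by simp [Matrix.det_fin_two]⟩

/-- Lower elementary matrix. -/
def eL (t : ZMod p) : SpecialLinearGroup (Fin 2) (ZMod p) :=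
  ⟨!![1, 0; t, 1], by simp [Matrix.det_fin_two]⟩

theorem eU_mul (s t : ZMod p) : eU s * eU t = eU (s + t) := by
  apply Subtype.ext
  show !![1, s; 0, 1] * !![1, t; 0, 1] = !![1, s + t; 0, 1]
  ext i j
  fin_cases i <;> fin_cases j <;> simp [Matrix.mul_apply, Fin.sum_univ_two, add_comm]

theorem eL_mul (s t : ZMod p) : eL s * eL t = eL (s + t) := by
  apply Subtype.ext
  show !![1, 0; s, 1] * !![1, 0; t, 1] = !![1, 0; s + t, 1]
  ext i j
  fin_cases i <;> fin_cases j <;> simp [Matrix.mul_apply, Fin.sum_univ_two, add_comm]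

theorem eU_zero : eU (0 : ZMod p) = 1 := by
  apply Subtype.ext
  show !![1, (0 : ZMod p); 0, 1] = 1
  ext i j
  fin_cases i <;> fin_cases j <;> simp

theorem eL_zero : eL (0 : ZMod p) = 1 := by
  apply Subtype.ext
  show !![1, (0 : ZMod p); 0, 1] = 1
  ext i j
  fin_cases i <;> fin_cases j <;> simp

theorem eU_pow (s : ZMod p) (k : ℕ) : eU s ^ k = eU ((k : ZMod p) * s) := by
  induction k with
  | zero => simp [eU_zero]
  | succ k ih => rw [pow_succ, ih, eU_mul]; congr 1; push_cast; ring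

theorem eL_pow (s : ZMod p) (k : ℕ) : eL s ^ k = eL ((k : ZMod p) * s) := by
  induction k with
  | zero => simp [eL_zero]
  | succ k ih => rw [pow_succ, ih, eL_mul]; congr 1; push_cast; ring

theorem sl2_gen (a b : ZMod p) (ha : a ≠ 0) (hb : b ≠ 0) :
    Subgroup.closure {eU a, eL b} = (⊤ : Subgroup (SpecialLinearGroup (Fin 2) (ZMod p))) := by
  have hU : ∀ s : ZMod p, eU s ∈ Subgroup.closure {eU a, eL b} := by
    intro s
    have h1 : eU s = eU a ^ (s / a).val := by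
      rw [eU_pow, ZMod.natCast_zmod_val, div_mul_cancel₀ _ ha]
    rw [h1]
    exact Subgroup.pow_mem _ (Subgroup.subset_closure (by simp)) _
  have hL : ∀ s : ZMod p, eL s ∈ Subgroup.closure {eU a, eL b} := by
    intro s
    have h1 : eL s = eL b ^ (s / b).val := by
      rw [eL_pow, ZMod.natCast_zmod_val, div_mul_cancel₀ _ hb]
    rw [h1]
    exact Subgroup.pow_mem _ (Subgroup.subset_closure (by simp)) _
  have key : ∀ M : SpecialLinearGroup (Fin 2) (ZMod p), M.1 1 0 ≠ 0 →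
      M ∈ Subgroup.closure {eU a, eL b} := by
    intro M hz
    have hdet : M.1 0 0 * M.1 1 1 - M.1 0 1 * M.1 1 0 = 1 := by
      rw [← Matrix.det_fin_two]; exact M.2
    have h1 : M = eU ((M.1 0 0 - 1) / M.1 1 0) * eL (M.1 1 0) * eU ((M.1 1 1 - 1) / M.1 1 0) := by
      apply Subtype.ext
      show M.1 = !![1, (M.1 0 0 - 1) / M.1 1 0; 0, 1] * !![1, 0; M.1 1 0, 1] *
        !![1, (M.1 1 1 - 1) / M.1 1 0; 0, 1]
      ext i j
      fin_cases i <;> fin_cases j
      · simp [Matrix.mul_apply, Fin.sum_univ_two]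
        field_simp
        ring
      · simp [Matrix.mul_apply, Fin.sum_univ_two]
        field_simp
        linear_combination (-1 : ZMod p) * hdet
      · simp [Matrix.mul_apply, Fin.sum_univ_two]
      · simp [Matrix.mul_apply, Fin.sum_univ_two]
        field_simp
        ring
    rw [h1]
    exact Subgroup.mul_mem _ (Subgroup.mul_mem _ (hU _) (hL _)) (hU _)
  rw [eq_top_iff]
  intro M _
  by_cases hz : M.1 1 0 = 0
  · have hdet : M.1 0 0 * M.1 1 1 - M.1 0 1 * M.1 1 0 = 1 := by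
      rw [← Matrix.det_fin_two]; exact M.2
    have hx : M.1 0 0 ≠ 0 := by
      intro hx
      rw [hx, hz] at hdet
      simp at hdet
    have h1 : (eL 1 * M).1 1 0 ≠ 0 := by
      show (!![1, 0; (1 : ZMod p), 1] * M.1) 1 0 ≠ 0
      simp [Matrix.mul_apply, Fin.sum_univ_two, hz, hx]
    have h2 := key _ h1
    have h3 : M = (eL 1)⁻¹ * (eL 1 * M) := by group
    rw [h3]
    exact Subgroup.mul_mem _ (Subgroup.inv_mem _ (hL 1)) h2
  · exact key M hz

section coord

variable {V : Type*} [CommGroup V]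

/-- `z ↦ e ^ z` for `e ^ p = 1`. -/
noncomputable def zp (e : V) (he : e ^ p = 1) : ZMod p →+ Additive V :=
  ZMod.lift p ⟨zmultiplesHom (Additive V) (Additive.ofMul e), by
    show ((p : ℕ) : ℤ) • Additive.ofMul e = 0
    rw [natCast_zsmul, ← ofMul_pow, he]; rfl⟩

theorem zp_intCast (e : V) (he : e ^ p = 1) (k : ℤ) : (zp e he (k : ZMod p)).toMul = e ^ k := by
  unfold zp
  rw [ZMod.lift_coe]
  rfl

/-- The coordinate map attached to two elements of order dividing `p`. -/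
noncomputable def theta (e₁ e₂ : V) (h₁ : e₁ ^ p = 1) (h₂ : e₂ ^ p = 1) :
    (Fin 2 → ZMod p) →+ Additive V where
  toFun v := zp e₁ h₁ (v 0) + zp e₂ h₂ (v 1)
  map_zero' := by simp
  map_add' v w := by simp [add_add_add_comm]

theorem theta_apply (e₁ e₂ : V) (h₁ : e₁ ^ p = 1) (h₂ : e₂ ^ p = 1) (v : Fin 2 → ZMod p)
    (m n : ℤ) (hm : v 0 = (m : ZMod p)) (hn : v 1 = (n : ZMod p)) :
    (theta e₁ e₂ h₁ h₂ v).toMul = e₁ ^ m * e₂ ^ n := by
  show (zp e₁ h₁ (v 0) + zp e₂ h₂ (v 1)).toMul = _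
  rw [toMul_add, hm, hn, zp_intCast, zp_intCast]

theorem theta_bijective [Finite V] (hcard : Nat.card V = p ^ 2) (e₁ e₂ : V) (h₁ : e₁ ^ p = 1)
    (h₂ : e₂ ^ p = 1) (hne : e₁ ≠ 1) (h12 : e₂ ∉ Subgroup.zpowers e₁) :
    Function.Bijective (theta e₁ e₂ h₁ h₂) := by
  have hp : p.Prime := Fact.out
  have hsurj : Function.Surjective (theta e₁ e₂ h₁ h₂) := by
    let f : Multiplicative (Fin 2 → ZMod p) →* V :=
      AddMonoidHom.toMultiplicativeLeft (theta e₁ e₂ h₁ h₂)
    have hf : ∀ v : Fin 2 → ZMod p, f (Multiplicative.ofAdd v) = (theta e₁ e₂ h₁ h₂ v).toMul :=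
      fun v => rfl
    have he₁ : e₁ ∈ f.range := by
      refine ⟨Multiplicative.ofAdd ![1, 0], ?_⟩
      rw [hf, theta_apply e₁ e₂ h₁ h₂ _ 1 0 (by simp) (by simp)]
      simp
    have he₂ : e₂ ∈ f.range := by
      refine ⟨Multiplicative.ofAdd ![0, 1], ?_⟩
      rw [hf, theta_apply e₁ e₂ h₁ h₂ _ 0 1 (by simp) (by simp)]
      simp
    have hle : Subgroup.zpowers e₁ ≤ f.range := by
      rw [Subgroup.zpowers_le]; exact he₁
    have hord : orderOf e₁ = p := orderOf_eq_prime h₁ hne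
    have hcz : Nat.card (Subgroup.zpowers e₁) = p := by rw [Nat.card_zpowers, hord]
    have hd1 : Nat.card f.range ∣ p ^ 2 := by
      rw [← hcard]; exact Subgroup.card_subgroup_dvd_card _
    have hd2 : p ∣ Nat.card f.range := by
      have h := Subgroup.card_dvd_of_le hle
      rwa [hcz] at h
    obtain ⟨j, hj, hjc⟩ := (Nat.dvd_prime_pow hp).mp hd1
    have hne' : Nat.card f.range ≠ p := by
      intro h
      have := Subgroup.eq_of_le_of_card_ge hle (by rw [h, hcz])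
      exact h12 (this ▸ he₂)
    have hj2 : j = 2 := by
      interval_cases j
      · rw [hjc, pow_zero] at hd2
        exact absurd (Nat.le_of_dvd one_pos hd2) (by have := hp.one_lt; omega)
      · rw [pow_one] at hjc; exact absurd hjc hne'
      · rfl
    rw [hj2] at hjc
    have htop : f.range = ⊤ := (Subgroup.card_eq_iff_eq_top _).mp (by rw [hjc, hcard])
    intro x
    have hx : x.toMul ∈ f.range := htop ▸ Subgroup.mem_top _
    obtain ⟨v, hv⟩ := hx
    exact ⟨v.toAdd, congrArg Additive.ofMul hv⟩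
  have hc : Nat.card (Fin 2 → ZMod p) ≤ Nat.card (Additive V) := by
    have h1 : Nat.card (Additive V) = p ^ 2 := hcard
    have h2 : Nat.card (Fin 2 → ZMod p) = p ^ 2 := by
      rw [Nat.card_pi]
      simp [pow_two]
    rw [h1, h2]
  exact hsurj.bijective_of_nat_card_le hc

theorem sl_inv_mulVec (M : SpecialLinearGroup (Fin 2) (ZMod p)) (v : Fin 2 → ZMod p) :
    (M⁻¹).1 *ᵥ (M.1 *ᵥ v) = v := by
  have h : (M⁻¹).1 * M.1 = 1 := by
    have := congrArg Subtype.val (inv_mul_cancel M)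
    exact this
  rw [Matrix.mulVec_mulVec, h, Matrix.one_mulVec]

theorem sl_mulVec_inv (M : SpecialLinearGroup (Fin 2) (ZMod p)) (v : Fin 2 → ZMod p) :
    M.1 *ᵥ ((M⁻¹).1 *ᵥ v) = v := by
  have h : M.1 * (M⁻¹).1 = 1 := by
    have := congrArg Subtype.val (mul_inv_cancel M)
    exact this
  rw [Matrix.mulVec_mulVec, h, Matrix.one_mulVec]

/-- The action of `SL₂(p)` on `V` through a coordinate isomorphism. -/
noncomputable def rho (θ : (Fin 2 → ZMod p) ≃+ Additive V) :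
    SpecialLinearGroup (Fin 2) (ZMod p) →* MulAut V :=
  MonoidHom.mk' (fun M =>
    { toFun := fun x => (θ (M.1 *ᵥ θ.symm (Additive.ofMul x))).toMul
      invFun := fun x => (θ ((M⁻¹).1 *ᵥ θ.symm (Additive.ofMul x))).toMul
      left_inv := by
        intro x
        show (θ ((M⁻¹).1 *ᵥ θ.symm (Additive.ofMul (θ (M.1 *ᵥ θ.symm (Additive.ofMul x))).toMul))).toMul = x
        rw [ofMul_toMul, AddEquiv.symm_apply_apply, sl_inv_mulVec, AddEquiv.apply_symm_apply,
          toMul_ofMul]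
      right_inv := by
        intro x
        show (θ (M.1 *ᵥ θ.symm (Additive.ofMul (θ ((M⁻¹).1 *ᵥ θ.symm (Additive.ofMul x))).toMul))).toMul = x
        rw [ofMul_toMul, AddEquiv.symm_apply_apply, sl_mulVec_inv, AddEquiv.apply_symm_apply,
          toMul_ofMul]
      map_mul' := by
        intro x y
        show (θ (M.1 *ᵥ θ.symm (Additive.ofMul (x * y)))).toMul =
          (θ (M.1 *ᵥ θ.symm (Additive.ofMul x))).toMul * (θ (M.1 *ᵥ θ.symm (Additive.ofMul y))).toMul
        rw [ofMul_mul, map_add, Matrix.mulVec_add, map_add, toMul_add] })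
    (by
      intro M N
      apply MulEquiv.ext
      intro x
      show (θ ((M * N).1 *ᵥ θ.symm (Additive.ofMul x))).toMul =
        (θ (M.1 *ᵥ θ.symm (Additive.ofMul (θ (N.1 *ᵥ θ.symm (Additive.ofMul x))).toMul))).toMul
      rw [ofMul_toMul, AddEquiv.symm_apply_apply, Matrix.mulVec_mulVec]
      rfl)

theorem rho_apply (θ : (Fin 2 → ZMod p) ≃+ Additive V) (M : SpecialLinearGroup (Fin 2) (ZMod p))
    (v : Fin 2 → ZMod p) : rho θ M (θ v).toMul = (θ (M.1 *ᵥ v)).toMul := by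
  show (θ (M.1 *ᵥ θ.symm (Additive.ofMul (θ v).toMul))).toMul = _
  simp

theorem rho_injective (θ : (Fin 2 → ZMod p) ≃+ Additive V) : Function.Injective (rho θ) := by
  rw [injective_iff_map_eq_one]
  intro M hM
  apply Subtype.ext
  apply Matrix.mulVec_injective
  funext v
  have h1 := rho_apply θ M v
  rw [hM] at h1
  have h2 : θ v = θ (M.1 *ᵥ v) := by
    have := congrArg Additive.ofMul h1
    simpa using this
  have h3 := θ.injective h2
  rw [← h3]
  simp

end coord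

section main

variable {V : Type*} [CommGroup V]

/-- The coordinate isomorphism as an additive equivalence. -/
noncomputable def thetaE [Finite V] (hcard : Nat.card V = p ^ 2) (e₁ e₂ : V) (h₁ : e₁ ^ p = 1)
    (h₂ : e₂ ^ p = 1) (hne : e₁ ≠ 1) (h12 : e₂ ∉ Subgroup.zpowers e₁) :
    (Fin 2 → ZMod p) ≃+ Additive V :=
  AddEquiv.ofBijective (theta e₁ e₂ h₁ h₂) (theta_bijective hcard e₁ e₂ h₁ h₂ hne h12)

theorem thetaE_apply [Finite V] (hcard : Nat.card V = p ^ 2) (e₁ e₂ : V) (h₁ : e₁ ^ p = 1)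
    (h₂ : e₂ ^ p = 1) (hne : e₁ ≠ 1) (h12 : e₂ ∉ Subgroup.zpowers e₁) (v : Fin 2 → ZMod p)
    (m n : ℤ) (hm : v 0 = (m : ZMod p)) (hn : v 1 = (n : ZMod p)) :
    (thetaE hcard e₁ e₂ h₁ h₂ hne h12 v).toMul = e₁ ^ m * e₂ ^ n :=
  theta_apply e₁ e₂ h₁ h₂ v m n hm hn

/-- An automorphism fixing `e₁` and sending `e₂` to `e₂ e₁ ^ a` is `rho (eU a)`. -/
theorem rho_eU [Finite V] (hcard : Nat.card V = p ^ 2) (e₁ e₂ : V) (h₁ : e₁ ^ p = 1)
    (h₂ : e₂ ^ p = 1) (hne : e₁ ≠ 1) (h12 : e₂ ∉ Subgroup.zpowers e₁) (u : MulAut V)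
    (hu₁ : u e₁ = e₁) (a : ℤ) (hu₂ : u e₂ = e₂ * e₁ ^ a) :
    rho (thetaE hcard e₁ e₂ h₁ h₂ hne h12) (eU (a : ZMod p)) = u := by
  apply MulEquiv.ext
  intro x
  obtain ⟨v, rfl⟩ : ∃ v, (thetaE hcard e₁ e₂ h₁ h₂ hne h12 v).toMul = x :=
    ⟨(thetaE hcard e₁ e₂ h₁ h₂ hne h12).symm (Additive.ofMul x), by simp⟩
  rw [rho_apply]
  have hm : v 0 = (((v 0).cast : ℤ) : ZMod p) := (ZMod.intCast_zmod_cast (v 0)).symm
  have hn : v 1 = (((v 1).cast : ℤ) : ZMod p) := (ZMod.intCast_zmod_cast (v 1)).symm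
  rw [thetaE_apply hcard e₁ e₂ h₁ h₂ hne h12 v _ _ hm hn]
  have h0 : ((eU (a : ZMod p)).1 *ᵥ v) 0 = ((((v 0).cast : ℤ) + a * ((v 1).cast : ℤ) : ℤ) : ZMod p) := by
    show (!![1, (a : ZMod p); 0, 1] *ᵥ v) 0 = _
    simp [Matrix.mulVec, dotProduct, Fin.sum_univ_two]
  have h1 : ((eU (a : ZMod p)).1 *ᵥ v) 1 = (((v 1).cast : ℤ) : ZMod p) := by
    show (!![1, (a : ZMod p); 0, 1] *ᵥ v) 1 = _
    simp [Matrix.mulVec, dotProduct, Fin.sum_univ_two]
  rw [thetaE_apply hcard e₁ e₂ h₁ h₂ hne h12 _ _ _ h0 h1]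
  rw [map_mul, map_zpow, map_zpow, hu₁, hu₂, mul_zpow]
  generalize ((v 0).cast : ℤ) = m
  generalize ((v 1).cast : ℤ) = n
  rw [_root_.zpow_add, ← _root_.zpow_mul, mul_assoc, mul_comm (e₁ ^ (a * n))]

/-- An automorphism fixing `e₂` and sending `e₁` to `e₁ e₂ ^ b` is `rho (eL b)`. -/
theorem rho_eL [Finite V] (hcard : Nat.card V = p ^ 2) (e₁ e₂ : V) (h₁ : e₁ ^ p = 1)
    (h₂ : e₂ ^ p = 1) (hne : e₁ ≠ 1) (h12 : e₂ ∉ Subgroup.zpowers e₁) (u : MulAut V)
    (hu₂ : u e₂ = e₂) (b : ℤ) (hu₁ : u e₁ = e₁ * e₂ ^ b) :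
    rho (thetaE hcard e₁ e₂ h₁ h₂ hne h12) (eL (b : ZMod p)) = u := by
  apply MulEquiv.ext
  intro x
  obtain ⟨v, rfl⟩ : ∃ v, (thetaE hcard e₁ e₂ h₁ h₂ hne h12 v).toMul = x :=
    ⟨(thetaE hcard e₁ e₂ h₁ h₂ hne h12).symm (Additive.ofMul x), by simp⟩
  rw [rho_apply]
  have hm : v 0 = (((v 0).cast : ℤ) : ZMod p) := (ZMod.intCast_zmod_cast (v 0)).symm
  have hn : v 1 = (((v 1).cast : ℤ) : ZMod p) := (ZMod.intCast_zmod_cast (v 1)).symm
  rw [thetaE_apply hcard e₁ e₂ h₁ h₂ hne h12 v _ _ hm hn]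
  have h0 : ((eL (b : ZMod p)).1 *ᵥ v) 0 = (((v 0).cast : ℤ) : ZMod p) := by
    show (!![1, 0; (b : ZMod p), 1] *ᵥ v) 0 = _
    simp [Matrix.mulVec, dotProduct, Fin.sum_univ_two]
  have h1 : ((eL (b : ZMod p)).1 *ᵥ v) 1 = ((b * ((v 0).cast : ℤ) + ((v 1).cast : ℤ) : ℤ) : ZMod p) := by
    show (!![1, 0; (b : ZMod p), 1] *ᵥ v) 1 = _
    simp [Matrix.mulVec, dotProduct, Fin.sum_univ_two]
  rw [thetaE_apply hcard e₁ e₂ h₁ h₂ hne h12 _ _ _ h0 h1]
  rw [map_mul, map_zpow, map_zpow, hu₂, hu₁, mul_zpow]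
  generalize ((v 0).cast : ℤ) = m
  generalize ((v 1).cast : ℤ) = n
  rw [_root_.zpow_add, ← _root_.zpow_mul, mul_assoc]

/-- A nontrivial fixed point of an automorphism of order dividing `p`. -/
theorem exists_fix [Finite V] (hcard : Nat.card V = p ^ 2) (u : MulAut V) (hu : u ^ p = 1) :
    ∃ e : V, e ≠ 1 ∧ u e = e := by
  have hp : p.Prime := Fact.out
  have hZ : IsPGroup p (Subgroup.zpowers u) := by
    rintro ⟨g, hg⟩
    obtain ⟨k, rfl⟩ := Subgroup.mem_zpowers_iff.mp hg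
    refine ⟨1, ?_⟩
    apply Subtype.ext
    show (u ^ k) ^ (p ^ 1) = 1
    rw [pow_one, ← zpow_natCast, ← _root_.zpow_mul, mul_comm, _root_.zpow_mul, zpow_natCast, hu, _root_.one_zpow]
  have h1 := hZ.card_modEq_card_fixedPoints V
  have h2 : p ∣ Nat.card (MulAction.fixedPoints (Subgroup.zpowers u) V) := by
    have h3 : Nat.card V ≡ 0 [MOD p] := by
      rw [hcard]; exact (Nat.modEq_zero_iff_dvd.mpr (dvd_pow_self p (by norm_num)))
    exact Nat.modEq_zero_iff_dvd.mp (h1.symm.trans h3)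
  have h1mem : (1 : V) ∈ MulAction.fixedPoints (Subgroup.zpowers u) V := by
    intro g
    show (g : MulAut V) 1 = 1
    exact map_one _
  have hne : Nonempty (MulAction.fixedPoints (Subgroup.zpowers u) V) := ⟨⟨1, h1mem⟩⟩
  have hpos : 0 < Nat.card (MulAction.fixedPoints (Subgroup.zpowers u) V) := Nat.card_pos
  have h2le : 1 < Nat.card (MulAction.fixedPoints (Subgroup.zpowers u) V) :=
    lt_of_lt_of_le hp.one_lt (Nat.le_of_dvd hpos h2)
  have hnt : Nontrivial (MulAction.fixedPoints (Subgroup.zpowers u) V) :=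
    Finite.one_lt_card_iff_nontrivial.mp h2le
  obtain ⟨y, hy⟩ := exists_ne (⟨1, h1mem⟩ : MulAction.fixedPoints (Subgroup.zpowers u) V)
  refine ⟨y.1, fun h => hy (Subtype.ext h), ?_⟩
  exact y.2 ⟨u, Subgroup.mem_zpowers u⟩

/-- The fixed points of a nontrivial automorphism of order `p` of an elementary abelian group of
order `p²` form a line, and the automorphism acts trivially modulo that line. -/
theorem fix_line [Finite V] (hcard : Nat.card V = p ^ 2) (hexp : ∀ x : V, x ^ p = 1)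
    (u : MulAut V) (hu : u ^ p = 1) (hu1 : u ≠ 1) (e : V) (he : e ≠ 1) (hfix : u e = e) :
    (∀ x, u x = x → x ∈ Subgroup.zpowers e) ∧ ∀ x, ∃ k : ℤ, u x = x * e ^ k := by
  have hp : p.Prime := Fact.out
  let L : Subgroup V :=
    { carrier := {x | u x = x}
      one_mem' := map_one u
      mul_mem' := fun {a b} ha hb => by
        show u (a * b) = a * b
        rw [map_mul, show u a = a from ha, show u b = b from hb]
      inv_mem' := fun {a} ha => by
        show u a⁻¹ = a⁻¹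
        rw [map_inv, show u a = a from ha] }
  have hLmem : ∀ x, x ∈ L ↔ u x = x := fun x => Iff.rfl
  have heL : e ∈ L := hfix
  have hLtop : L ≠ ⊤ := by
    intro h
    apply hu1
    apply MulEquiv.ext
    intro x
    exact (hLmem x).mp (h ▸ Subgroup.mem_top x)
  have hLbot : L ≠ ⊥ := by
    intro h
    rw [h, Subgroup.mem_bot] at heL
    exact he heL
  have hd : Nat.card L ∣ p ^ 2 := by rw [← hcard]; exact Subgroup.card_subgroup_dvd_card _
  obtain ⟨j, hj, hjc⟩ := (Nat.dvd_prime_pow hp).mp hd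
  have hLcard : Nat.card L = p := by
    interval_cases j
    · rw [pow_zero] at hjc; exact absurd (Subgroup.card_eq_one.mp hjc) hLbot
    · rw [pow_one] at hjc; exact hjc
    · rw [← hcard] at hjc; exact absurd ((Subgroup.card_eq_iff_eq_top _).mp hjc) hLtop
  have hord : orderOf e = p := orderOf_eq_prime (hexp e) he
  have hzL : Subgroup.zpowers e = L := by
    apply Subgroup.eq_of_le_of_card_ge
    · rw [Subgroup.zpowers_le]; exact heL
    · rw [Nat.card_zpowers, hord, hLcard]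
  have hidx : L.relIndex ⊤ = p := by
    rw [Subgroup.relIndex_top_right]
    have h3 := Subgroup.card_mul_index L
    rw [hLcard, hcard, pow_two] at h3
    exact Nat.eq_of_mul_eq_mul_left hp.pos h3
  refine ⟨fun x hx => hzL ▸ (hLmem x).mpr hx, ?_⟩
  intro x
  have h1 := Cfsg.Agent.Helper52.autchain_step L ⊤ hidx u (fun x => by simp)
    (fun x => by rw [hLmem, hLmem]; exact u.injective.eq_iff) 1 (by rw [pow_one]; exact hu) x
    (Subgroup.mem_top x)
  rw [← hzL] at h1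
  obtain ⟨k, hk⟩ := Subgroup.mem_zpowers_iff.mp h1
  exact ⟨k, by rw [hk]; group⟩

/-- The group-theoretic core: automorphism groups of a group of order `p²` with `O_p(A/I) = 1` and
`p ∣ |A/I|`. -/
theorem core {V : Type*} [CommGroup V] [Finite V] (hcard : Nat.card V = p ^ 2)
    (A : Subgroup (MulAut V)) (I : Subgroup A) [I.Normal] (hcore : Cfsg.pCore p (A ⧸ I) = ⊥)
    (hdvd : p ∣ Nat.card (A ⧸ I)) :
    (∀ x : V, x ^ p = 1) ∧
      ∃ K : Subgroup A, Nonempty (K ≃* SpecialLinearGroup (Fin 2) (ZMod p)) := by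
  have hp : p.Prime := Fact.out
  have hpG : IsPGroup p V := IsPGroup.of_card hcard
  -- two-step chains
  have hchain : ∀ L : Subgroup V, Nat.card L = p → (∀ α ∈ A, ∀ x, α x ∈ L ↔ x ∈ L) → False := by
    intro L hL hinv
    let c : ℕ → Subgroup V := fun i => if i = 0 then ⊥ else if i = 1 then L else ⊤
    have hc0 : c 0 = ⊥ := rfl
    have hc1 : c 1 = L := rfl
    have hc2 : c 2 = ⊤ := rfl
    refine Cfsg.Agent.Helper52.autchain_not_dvd hpG A 2 c hc0 hc2 ?_ (fun i => inferInstance) ?_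
      I hcore hdvd
    · intro i hi
      interval_cases i
      · rw [hc0, hc1, Subgroup.relIndex_bot_left, hL]
      · rw [hc1, hc2, Subgroup.relIndex_top_right]
        have h3 := Subgroup.card_mul_index L
        rw [hL, hcard, pow_two] at h3
        exact Nat.eq_of_mul_eq_mul_left hp.pos h3
    · intro i α hα x
      show α x ∈ (if i = 0 then (⊥ : Subgroup V) else if i = 1 then L else ⊤) ↔
        x ∈ (if i = 0 then (⊥ : Subgroup V) else if i = 1 then L else ⊤)
      split_ifs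
      · simp
      · exact hinv α hα x
      · simp
  -- exponent p
  have hexp : ∀ x : V, x ^ p = 1 := by
    by_contra hcon
    push Not at hcon
    obtain ⟨x₀, hx₀⟩ := hcon
    let f : V →* V := powMonoidHom p
    have hf : ∀ x : V, f x = x ^ p := fun x => rfl
    have hktop : f.ker ≠ ⊤ := by
      intro h
      have : x₀ ∈ f.ker := h ▸ Subgroup.mem_top x₀
      exact hx₀ this
    have hkbot : f.ker ≠ ⊥ := by
      intro h
      have hdvd' : p ∣ Nat.card V := by rw [hcard]; exact dvd_pow_self p (by norm_num)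
      obtain ⟨z, hz⟩ := exists_prime_orderOf_dvd_card' p hdvd'
      have hz1 : z ∈ f.ker := by rw [MonoidHom.mem_ker, hf, ← hz, pow_orderOf_eq_one]
      rw [h, Subgroup.mem_bot] at hz1
      rw [hz1, orderOf_one] at hz
      exact hp.one_lt.ne hz
    have hd : Nat.card f.ker ∣ p ^ 2 := by rw [← hcard]; exact Subgroup.card_subgroup_dvd_card _
    obtain ⟨j, hj, hjc⟩ := (Nat.dvd_prime_pow hp).mp hd
    have hkcard : Nat.card f.ker = p := by
      interval_cases j
      · rw [pow_zero] at hjc; exact absurd (Subgroup.card_eq_one.mp hjc) hkbot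
      · rw [pow_one] at hjc; exact hjc
      · rw [← hcard] at hjc; exact absurd ((Subgroup.card_eq_iff_eq_top _).mp hjc) hktop
    refine hchain f.ker hkcard ?_
    intro α _ x
    rw [MonoidHom.mem_ker, MonoidHom.mem_ker, hf, hf, ← map_pow]
    exact map_eq_one_iff α α.injective
  refine ⟨hexp, ?_⟩
  -- an automorphism of order p in A
  have hdvdA : p ∣ Nat.card A := by
    rw [Subgroup.card_eq_card_quotient_mul_card_subgroup I]
    exact Dvd.dvd.mul_right hdvd _
  obtain ⟨α, hα⟩ := exists_prime_orderOf_dvd_card' p hdvdA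
  have hu₁p : (α : MulAut V) ^ p = 1 := by
    have h := pow_orderOf_eq_one α
    rw [hα] at h
    exact congrArg Subtype.val h
  have hu₁1 : (α : MulAut V) ≠ 1 := by
    intro h
    have : α = 1 := Subtype.ext h
    rw [this, orderOf_one] at hα
    exact hp.one_lt.ne hα
  obtain ⟨e₁, he₁, hfix₁⟩ := exists_fix hcard (α : MulAut V) hu₁p
  obtain ⟨hF₁, hT₁⟩ := fix_line hcard hexp (α : MulAut V) hu₁p hu₁1 e₁ he₁ hfix₁
  have hord₁ : orderOf e₁ = p := orderOf_eq_prime (hexp e₁) he₁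
  have hfixz : ∀ x ∈ Subgroup.zpowers e₁, (α : MulAut V) x = x := by
    intro x hx
    obtain ⟨k, rfl⟩ := Subgroup.mem_zpowers_iff.mp hx
    rw [map_zpow, hfix₁]
  -- some element of A moves the line
  have hmove : ∃ γ ∈ A, (α : MulAut V) (γ e₁) ≠ γ e₁ := by
    by_contra hcon
    push Not at hcon
    have hinv1 : ∀ γ ∈ A, ∀ x ∈ Subgroup.zpowers e₁, γ x ∈ Subgroup.zpowers e₁ := by
      intro γ hγ x hx
      obtain ⟨k, rfl⟩ := Subgroup.mem_zpowers_iff.mp hx
      rw [map_zpow]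
      exact Subgroup.zpow_mem _ (hF₁ _ (hcon γ hγ)) k
    refine hchain (Subgroup.zpowers e₁) (by rw [Nat.card_zpowers, hord₁]) ?_
    intro γ hγ x
    constructor
    · intro hx
      have := hinv1 γ⁻¹ (A.inv_mem hγ) _ hx
      simpa using this
    · exact hinv1 γ hγ x
  obtain ⟨γ, hγ, hγe⟩ := hmove
  have h12 : γ e₁ ∉ Subgroup.zpowers e₁ := fun h => hγe (hfixz _ h)
  have he₂ : γ e₁ ≠ 1 := fun h => h12 (h ▸ Subgroup.one_mem _)
  -- the conjugate automorphism
  have hu₂A : γ * (α : MulAut V) * γ⁻¹ ∈ A := A.mul_mem (A.mul_mem hγ α.2) (A.inv_mem hγ)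
  have hu₂p : (γ * (α : MulAut V) * γ⁻¹) ^ p = 1 := by
    rw [conj_pow, hu₁p]; group
  have hu₂1 : γ * (α : MulAut V) * γ⁻¹ ≠ 1 := by
    intro h
    apply hu₁1
    have h' : (α : MulAut V) = γ⁻¹ * (γ * (α : MulAut V) * γ⁻¹) * γ := by group
    rw [h', h]; group
  have hfix₂ : (γ * (α : MulAut V) * γ⁻¹) (γ e₁) = γ e₁ := by
    rw [MulAut.mul_apply, MulAut.mul_apply, MulAut.inv_apply_self, hfix₁]
  obtain ⟨hF₂, hT₂⟩ := fix_line hcard hexp _ hu₂p hu₂1 (γ e₁) he₂ hfix₂
  obtain ⟨a, ha⟩ := hT₁ (γ e₁)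
  obtain ⟨b, hb⟩ := hT₂ e₁
  have ha0 : (a : ZMod p) ≠ 0 := by
    intro h
    have h1 : (p : ℤ) ∣ a := (ZMod.intCast_zmod_eq_zero_iff_dvd a p).mp h
    have h2 : e₁ ^ a = 1 := by
      rw [← orderOf_dvd_iff_zpow_eq_one, hord₁]; exact h1
    rw [h2, mul_one] at ha
    exact hγe ha
  have hord₂ : orderOf (γ e₁) = p := orderOf_eq_prime (hexp _) he₂
  have hb0 : (b : ZMod p) ≠ 0 := by
    intro h
    have h1 : (p : ℤ) ∣ b := (ZMod.intCast_zmod_eq_zero_iff_dvd b p).mp h
    have h2 : (γ e₁) ^ b = 1 := by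
      rw [← orderOf_dvd_iff_zpow_eq_one, hord₂]; exact h1
    rw [h2, mul_one] at hb
    have h3 : e₁ ∈ Subgroup.zpowers (γ e₁) := hF₂ e₁ hb
    have h4 : Subgroup.zpowers e₁ = Subgroup.zpowers (γ e₁) := by
      apply Subgroup.eq_of_le_of_card_ge
      · rw [Subgroup.zpowers_le]; exact h3
      · rw [Nat.card_zpowers, Nat.card_zpowers, hord₁, hord₂]
    exact h12 (h4 ▸ Subgroup.mem_zpowers (γ e₁))
  -- the representation
  have hrU := rho_eU hcard e₁ (γ e₁) (hexp e₁) (hexp _) he₁ h12 _ hfix₁ a ha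
  have hrL := rho_eL hcard e₁ (γ e₁) (hexp e₁) (hexp _) he₁ h12 _ hfix₂ b hb
  have hrange : (rho (thetaE hcard e₁ (γ e₁) (hexp e₁) (hexp _) he₁ h12)).range ≤ A := by
    rintro _ ⟨M, rfl⟩
    have hM : M ∈ Subgroup.closure {eU (a : ZMod p), eL (b : ZMod p)} := by
      rw [sl2_gen _ _ ha0 hb0]; exact Subgroup.mem_top M
    induction hM using Subgroup.closure_induction with
    | mem x hx =>
      rcases hx with rfl | rfl
      · rw [hrU]; exact α.2
      · rw [hrL]; exact hu₂A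
    | one => rw [map_one]; exact A.one_mem
    | mul x y _ _ hx hy => rw [map_mul]; exact A.mul_mem hx hy
    | inv x _ hx => rw [map_inv]; exact A.inv_mem hx
  refine ⟨(rho (thetaE hcard e₁ (γ e₁) (hexp e₁) (hexp _) he₁ h12)).range.subgroupOf A, ⟨?_⟩⟩
  exact (Subgroup.subgroupOfEquivOfLe hrange).trans
    (MonoidHom.ofInjective (rho_injective _)).symm

end main

/-- Let F be a saturated fusion system over a finite p-group S and H an essential subgroup of order p². Then H is elementary abelian (isomorphic to C_p × C_p) and its F-automorphism group contains a subgroup isomorphic to SL(2,p). -/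
theorem result {Ω : Type u} [Group Ω] {S : Subgroup Ω} [Finite S] (p : ℕ) [Fact p.Prime] (hS : IsPGroup p S)
    (F : Cfsg.FusionSystem S) (hF : F.IsSaturated p) (H : Subgroup Ω) (hH : F.IsEssential p H) (hcard : Nat.card H = p ^ 2) :
    Cfsg.IsElementaryAbelian p H ∧
      ∃ K : Subgroup ↥(F.autGroup H), Nonempty (↥K ≃* Matrix.SpecialLinearGroup (Fin 2) (ZMod p)) := by
  have _hS := hS
  have _hF := hF
  have hp : p.Prime := Fact.out
  obtain ⟨hc, -, hn, E, hE⟩ := hH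
  have hfin : Finite H := Nat.finite_of_card_ne_zero (by rw [hcard]; exact pow_ne_zero 2 hp.ne_zero)
  have hcore := Cfsg.Agent.Helper84.pCore_eq_bot_of_stronglyPEmbedded hE
  have hdvd : p ∣ Nat.card (↥(F.autGroup H) ⧸ (Inn ↥H).subgroupOf (F.autGroup H)) := hE.1
  have hcomm : IsMulCommutative ↥H := IsPGroup.isMulCommutative_of_card_eq_prime_sq hcard
  obtain ⟨h1, K, hK⟩ := @core p _ ↥H
    { (inferInstance : Group ↥H) with mul_comm := fun a b => mul_comm' a b } hfin hcard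
    (F.autGroup H) ((Inn ↥H).subgroupOf (F.autGroup H)) hn hcore hdvd
  exact ⟨⟨hcomm, fun a ha => congrArg Subtype.val (h1 ⟨a, ha⟩)⟩, K, hK⟩

end Cfsg.Agent.S5185
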