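import Cfsg.Statements.S0384
import Cfsg.Agent.Helper7.M12Trans

set_option autoImplicit false
open scoped Pointwise
open Cfsg

namespace Cfsg.Agent.S0384

open Cfsg.Agent.Helper7 in
/-- A dodecad stabiliser is sharply 5-transitive on the dodecad. -/
theorem result (d : Finset Cfsg.GolayPt) (hd : d ∈ Cfsg.dodecads) (x y : Fin 5 ↪ Cfsg.GolayPt) (hx : ∀ i, x i ∈ d) (hy : ∀ i, y i ∈ d) : ∃! g : MulAction.stabilizer Cfsg.M24 d, ∀ i, ((g : Cfsg.M24) : Equiv.Perm Cfsg.GolayPt) (x i) = y i := by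
  obtain ⟨h, hh, rfl⟩ := dodecad_eq_smul_D1 hd
  have hx' : ∀ i, (x.trans (h⁻¹ : Equiv.Perm GolayPt).toEmbedding) i ∈ setOf D1 := fun i =>
    Finset.inv_smul_mem_iff.mpr (hx i)
  have hy' : ∀ i, (y.trans (h⁻¹ : Equiv.Perm GolayPt).toEmbedding) i ∈ setOf D1 := fun i =>
    Finset.inv_smul_mem_iff.mpr (hy i)
  obtain ⟨kx, hkx, hkx'⟩ := m12_tuple5 _ hx'
  obtain ⟨ky, hky, hky'⟩ := m12_tuple5 _ hy'
  have hkx'' : ∀ i : Fin 5, h (kx (pt i.val)) = x i := by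
    intro i
    rw [hkx' i]
    show h (h⁻¹ (x i)) = x i
    simp
  have hky'' : ∀ i : Fin 5, h (ky (pt i.val)) = y i := by
    intro i
    rw [hky' i]
    show h (h⁻¹ (y i)) = y i
    simp
  have hkM : ky * kx⁻¹ ∈ M12grp := M12grp.mul_mem hky (M12grp.inv_mem hkx)
  refine ⟨⟨⟨h * (ky * kx⁻¹) * h⁻¹, M24.mul_mem (M24.mul_mem hh hkM.1) (M24.inv_mem hh)⟩,
    conj_M12grp_smul hkM⟩, ?_, ?_⟩
  · intro i
    show (h * (ky * kx⁻¹) * h⁻¹) (x i) = y i
    rw [← hkx'' i, ← hky'' i]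
    simp
  · intro g' hg'
    have hg'M : (g' : ↥M24).1 ∈ M24 := (g' : ↥M24).2
    have hg'd : (g' : ↥M24).1 • (h • setOf D1) = h • setOf D1 := g'.2
    have hc := conj_mem_M12grp hh hg'M hg'd
    -- the element kx⁻¹ * (h⁻¹ * g' * h) * ky⁻¹ ... fixes the five base points
    have hu : ky⁻¹ * (h⁻¹ * (g' : ↥M24).1 * h) * kx ∈ M12grp ⊓ fixL [0, 1, 2, 3, 4] := by
      refine Subgroup.mem_inf.mpr ⟨M12grp.mul_mem (M12grp.mul_mem (M12grp.inv_mem hky) hc) hkx, ?_⟩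
      intro j hj
      have hj5 : j < 5 := by
        simp only [List.mem_cons, List.not_mem_nil, or_false] at hj
        omega
      have e1 := hkx'' ⟨j, hj5⟩
      have e2 := hky'' ⟨j, hj5⟩
      have e3 := hg' ⟨j, hj5⟩
      simp only at e1 e2
      simp only [Equiv.Perm.mul_apply]
      rw [e1, e3, ← e2]
      simp
    rw [M12grp_fix5, Subgroup.mem_bot] at hu
    apply Subtype.ext
    apply Subtype.ext
    show (g' : ↥M24).1 = h * (ky * kx⁻¹) * h⁻¹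
    have : (g' : ↥M24).1 = h * (ky * (ky⁻¹ * (h⁻¹ * (g' : ↥M24).1 * h) * kx) * kx⁻¹) * h⁻¹ := by group
    rw [this, hu]
    group

end Cfsg.Agent.S0384
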