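import Mathlib
import Cfsg.Statements.S3559

set_option autoImplicit false
set_option linter.style.haveILetI false
set_option linter.unusedSectionVars false
open Cfsg

namespace Cfsg.Agent.S3559

open Equiv

open scoped Pointwise

section abstract

variable {H : Type*} [CommGroup H] [Finite H] {A : Type*} [Group A] (ρ : A →* Equiv.Perm H)

theorem conv_inv {R : Type*} [AddCommMonoid R]
    (h2 : ∀ a x, ∃ a', ∀ h, ρ a (x * h) = ρ a x * ρ a' h)
    (T : Finset H) (hT : ∀ a, ∀ t ∈ T, ρ a t ∈ T) (f : H → R) (hf : ∀ a h, f (ρ a h) = f h)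
    (a : A) (h : H) : ∑ t ∈ T, f (t⁻¹ * ρ a h) = ∑ t ∈ T, f (t⁻¹ * h) := by
  symm
  apply Finset.sum_equiv (ρ a)
  · intro s
    constructor
    · exact hT a s
    · intro hs
      have := hT a⁻¹ _ hs
      simpa using this
  · intro s _
    obtain ⟨a', ha'⟩ := h2 a s
    have h3 := ha' (s⁻¹ * h)
    rw [mul_inv_cancel_left] at h3
    rw [h3, inv_mul_cancel_left, hf]

theorem pow_count_inv (h1 : ∀ a, ρ a 1 = 1)
    (h2 : ∀ a x, ∃ a', ∀ h, ρ a (x * h) = ρ a x * ρ a' h)
    (p : ℕ) [Fact p.Prime] [DecidableEq H] (T : Finset H) (hT : ∀ a, ∀ t ∈ T, ρ a t ∈ T)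
    (a : A) (h : H) :
    (((T.filter (fun t => t ^ p = ρ a h)).card : ℕ) : ZMod p) =
      ((T.filter (fun t => t ^ p = h)).card : ZMod p) := by
  classical
  let τ : MonoidAlgebra (ZMod p) H := ∑ t ∈ T, MonoidAlgebra.single t 1
  have hk : ∀ k : ℕ, ∀ a h, (τ ^ k).coeff (ρ a h) = (τ ^ k).coeff h := by
    intro k
    induction k with
    | zero =>
      intro a h
      rw [pow_zero, MonoidAlgebra.one_def, MonoidAlgebra.coeff_single, Finsupp.single_apply,
        Finsupp.single_apply]
      have : (1 = ρ a h) ↔ (1 = h) := by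
        constructor
        · intro h3
          have : ρ a 1 = ρ a h := by rw [h1]; exact h3
          exact (ρ a).injective this
        · intro h3
          rw [← h3, h1]
      simp only [this]
    | succ k ih =>
      intro a h
      have key : ∀ h, (τ ^ (k + 1)).coeff h = ∑ t ∈ T, (τ ^ k).coeff (t⁻¹ * h) := by
        intro h
        rw [pow_succ', Finset.sum_mul, MonoidAlgebra.coeff_sum, Finsupp.finsetSum_apply]
        apply Finset.sum_congr rfl
        intro t _
        rw [MonoidAlgebra.coeff_single_mul_eq_mul_coeff (t⁻¹ * h), one_mul]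
        intro m' _
        exact eq_inv_mul_iff_mul_eq.symm
      rw [key, key]
      exact conv_inv ρ h2 T hT _ ih a h
  haveI hp : CharP (MonoidAlgebra (ZMod p) H) p :=
    charP_of_injective_algebraMap (algebraMap (ZMod p) _).injective p
  have hτp : τ ^ p = ∑ t ∈ T, MonoidAlgebra.single (t ^ p) 1 := by
    rw [sum_pow_char]
    apply Finset.sum_congr rfl
    intro t _
    rw [MonoidAlgebra.single_pow, one_pow]
  have hcount : ∀ h, (τ ^ p).coeff h = ((T.filter (fun t => t ^ p = h)).card : ZMod p) := by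
    intro h
    rw [hτp, MonoidAlgebra.coeff_sum, Finsupp.finsetSum_apply]
    simp only [MonoidAlgebra.coeff_single, Finsupp.single_apply]
    rw [Finset.sum_boole]
  rw [← hcount, ← hcount]
  exact hk p a h

theorem star (h1 : ∀ a, ρ a 1 = 1)
    (h2 : ∀ a x, ∃ a', ∀ h, ρ a (x * h) = ρ a x * ρ a' h)
    (hprim : ∀ K : Subgroup H, (∀ a, ∀ k ∈ K, ρ a k ∈ K) → K = ⊥ ∨ K = ⊤)
    (r : ℕ) (hr : r.Prime) (hHr : Nat.card {x : H // x ^ r = 1} = r)
    (T : Finset H) (hT : ∀ a, ∀ t ∈ T, ρ a t ∈ T) (t : H) (ht : t ∈ T) (htr : t ^ r ≠ 1)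
    (z : H) (hz : z ^ r = 1) : t * z ∈ T := by
  classical
  haveI := Fintype.ofFinite H
  haveI : Fact r.Prime := ⟨hr⟩
  let S : Set H := {h | ((T.filter (fun t => t ^ r = h)).card : ZMod r) ≠ 0}
  have hS : ∀ a, ∀ s ∈ S, ρ a s ∈ S := by
    intro a s hs
    show ((T.filter (fun t => t ^ r = ρ a s)).card : ZMod r) ≠ 0
    rw [pow_count_inv ρ h1 h2 r T hT a s]
    exact hs
  have hcl : ∀ a, ∀ k ∈ Subgroup.closure S, ρ a k ∈ Subgroup.closure S := by
    intro a k hk
    induction hk using Subgroup.closure_induction generalizing a with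
    | mem x hx => exact Subgroup.subset_closure (hS a x hx)
    | one => rw [h1]; exact Subgroup.one_mem _
    | mul x y _ _ ihx ihy =>
      obtain ⟨a', ha'⟩ := h2 a x
      rw [ha']
      exact Subgroup.mul_mem _ (ihx a) (ihy a')
    | inv x _ ihx =>
      obtain ⟨a', ha'⟩ := h2 a x⁻¹
      have h3 := ha' x
      rw [inv_mul_cancel, h1] at h3
      have h4 : ρ a x⁻¹ = (ρ a' x)⁻¹ := eq_inv_of_mul_eq_one_left h3.symm
      rw [h4]
      exact Subgroup.inv_mem _ (ihx a')
  have hSpow : S ⊆ Set.range (fun x : H => x ^ r) := by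
    intro h hh
    by_contra hno
    apply hh
    have : T.filter (fun t => t ^ r = h) = ∅ := by
      apply Finset.filter_eq_empty_iff.mpr
      intro t _ hth
      exact hno ⟨t, hth⟩
    rw [this]
    simp
  have hcl_ne_top : Subgroup.closure S ≠ ⊤ := by
    intro htop
    have hle : Subgroup.closure S ≤ (powMonoidHom r : H →* H).range := by
      rw [Subgroup.closure_le]
      intro h hh
      obtain ⟨x, hx⟩ := hSpow hh
      exact ⟨x, hx⟩
    rw [htop, top_le_iff] at hle
    have hsurj : Function.Surjective (powMonoidHom r : H →* H) := MonoidHom.range_eq_top.mp hle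
    have hinj : Function.Injective (powMonoidHom r : H →* H) :=
      Finite.injective_iff_surjective.mpr hsurj
    have : Nat.card {x : H // x ^ r = 1} = 1 := by
      rw [Nat.card_eq_one_iff_unique]
      refine ⟨⟨?_⟩, ⟨⟨1, one_pow r⟩⟩⟩
      rintro ⟨x, hx⟩ ⟨y, hy⟩
      apply Subtype.ext
      apply hinj
      show x ^ r = y ^ r
      rw [hx, hy]
    rw [hHr] at this
    exact hr.one_lt.ne' this
  have hclbot : Subgroup.closure S = ⊥ := (hprim _ hcl).resolve_right hcl_ne_top
  have htS : t ^ r ∉ S := by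
    intro hmem
    have : t ^ r ∈ Subgroup.closure S := Subgroup.subset_closure hmem
    rw [hclbot, Subgroup.mem_bot] at this
    exact htr this
  have hzero : ((T.filter (fun s => s ^ r = t ^ r)).card : ZMod r) = 0 := by
    by_contra h
    exact htS h
  have hdvd : r ∣ (T.filter (fun s => s ^ r = t ^ r)).card :=
    (ZMod.natCast_eq_zero_iff _ _).mp hzero
  let Kf : Finset H := Finset.univ.filter (fun x : H => x ^ r = 1)
  have hKf : Kf.card = r := by
    rw [← hHr, Nat.card_eq_fintype_card, Fintype.card_subtype]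
  have hsub : T.filter (fun s => s ^ r = t ^ r) ⊆ Kf.image (fun x => t * x) := by
    intro s hs
    rw [Finset.mem_filter] at hs
    rw [Finset.mem_image]
    refine ⟨t⁻¹ * s, ?_, by group⟩
    rw [Finset.mem_filter]
    refine ⟨Finset.mem_univ _, ?_⟩
    rw [mul_pow, inv_pow, hs.2, inv_mul_cancel]
  have hcard_le : (T.filter (fun s => s ^ r = t ^ r)).card ≤ r := by
    calc (T.filter (fun s => s ^ r = t ^ r)).card
        ≤ (Kf.image (fun x => t * x)).card := Finset.card_le_card hsub
      _ ≤ Kf.card := Finset.card_image_le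
      _ = r := hKf
  have hpos : 0 < (T.filter (fun s => s ^ r = t ^ r)).card :=
    Finset.card_pos.mpr ⟨t, by rw [Finset.mem_filter]; exact ⟨ht, rfl⟩⟩
  have hcard : (T.filter (fun s => s ^ r = t ^ r)).card = r :=
    le_antisymm hcard_le (Nat.le_of_dvd hpos hdvd)
  have himg : (Kf.image (fun x => t * x)).card ≤ r := by
    rw [← hKf]
    exact Finset.card_image_le
  have heq : T.filter (fun s => s ^ r = t ^ r) = Kf.image (fun x => t * x) :=
    Finset.eq_of_subset_of_card_le hsub (by rw [hcard]; exact himg)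
  have hmem : t * z ∈ Kf.image (fun x => t * x) :=
    Finset.mem_image.mpr ⟨z, by rw [Finset.mem_filter]; exact ⟨Finset.mem_univ _, hz⟩, rfl⟩
  rw [← heq, Finset.mem_filter] at hmem
  exact hmem.1

theorem schur_abstract (h1 : ∀ a, ρ a 1 = 1)
    (h2 : ∀ a x, ∃ a', ∀ h, ρ a (x * h) = ρ a x * ρ a' h)
    (hprim : ∀ K : Subgroup H, (∀ a, ∀ k ∈ K, ρ a k ∈ K) → K = ⊥ ∨ K = ⊤)
    (p q : ℕ) (hp : p.Prime) (hq : q.Prime) (hpq : p ≠ q)
    (hHp : Nat.card {x : H // x ^ p = 1} = p) (hHq : Nat.card {x : H // x ^ q = 1} = q) :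
    ∀ x y : H, x ≠ 1 → y ≠ 1 → ∃ a, ρ a x = y := by
  classical
  haveI := Fintype.ofFinite H
  -- orbits
  let orb : H → Finset H := fun x => Finset.univ.filter (fun y => ∃ a, ρ a x = y)
  have horb_mem : ∀ x y, y ∈ orb x ↔ ∃ a, ρ a x = y := by
    intro x y
    simp [orb]
  have horb_inv : ∀ x a y, ρ a y ∈ orb x ↔ y ∈ orb x := by
    intro x a y
    rw [horb_mem, horb_mem]
    constructor
    · rintro ⟨b, hb⟩
      refine ⟨a⁻¹ * b, ?_⟩
      rw [map_mul, Perm.mul_apply, hb, map_inv, Perm.inv_def, Equiv.symm_apply_apply]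
    · rintro ⟨b, hb⟩
      exact ⟨a * b, by rw [map_mul, Perm.mul_apply, hb]⟩
  have horb_self : ∀ x, x ∈ orb x := fun x => (horb_mem x x).mpr ⟨1, by simp⟩
  have horb_one : ∀ x, x ≠ 1 → (1 : H) ∉ orb x := by
    intro x hx h
    obtain ⟨a, ha⟩ := (horb_mem x 1).mp h
    apply hx
    apply (ρ a).injective
    rw [ha, h1]
  -- a nontrivial element of order r exists when the r-torsion has r elements
  have hexz : ∀ r : ℕ, r.Prime → Nat.card {x : H // x ^ r = 1} = r →
      ∃ z : H, z ≠ 1 ∧ z ^ r = 1 := by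
    intro r hr hHr
    have h1lt : 1 < Nat.card {x : H // x ^ r = 1} := by
      rw [hHr]
      exact hr.one_lt
    haveI := Finite.one_lt_card_iff_nontrivial.mp h1lt
    obtain ⟨⟨z, hz⟩, hne⟩ := exists_ne (⟨1, one_pow r⟩ : {x : H // x ^ r = 1})
    exact ⟨z, fun h => hne (Subtype.ext h), hz⟩
  -- step 3: every nontrivial orbit meets the r-torsion
  have step3 : ∀ r : ℕ, r.Prime → Nat.card {x : H // x ^ r = 1} = r → ∀ x : H, x ≠ 1 →
      ∃ w ∈ orb x, w ^ r = 1 := by
    intro r hr hHr x hx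
    by_contra hno
    push Not at hno
    have hst : ∀ t ∈ orb x, ∀ z : H, z ^ r = 1 → t * z ∈ orb x := fun t ht z hz =>
      star ρ h1 h2 hprim r hr hHr (orb x) (fun a t ht => (horb_inv x a t).mpr ht) t ht
        (hno t ht) z hz
    let K : Subgroup H :=
      { carrier := {h | ∀ t, t ∈ orb x ↔ h * t ∈ orb x}
        one_mem' := fun t => by rw [one_mul]
        mul_mem' := by
          intro h h' hh hh' t
          rw [mul_assoc]
          exact (hh' t).trans (hh (h' * t))
        inv_mem' := by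
          intro h hh t
          have := hh (h⁻¹ * t)
          rw [mul_inv_cancel_left] at this
          exact this.symm }
    have hKinv : ∀ a, ∀ k ∈ K, ρ a k ∈ K := by
      intro a k hk t
      obtain ⟨a', ha'⟩ := h2 a k
      have h3 := ha' ((ρ a').symm t)
      rw [Equiv.apply_symm_apply] at h3
      rw [← h3, horb_inv]
      have h4 : t ∈ orb x ↔ (ρ a').symm t ∈ orb x := by
        rw [← horb_inv x a' ((ρ a').symm t), Equiv.apply_symm_apply]
      rw [h4]
      exact hk _
    obtain ⟨z, hz1, hzr⟩ := hexz r hr hHr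
    have hzK : z ∈ K := by
      intro t
      constructor
      · intro ht
        rw [mul_comm]
        exact hst t ht z hzr
      · intro ht
        have := hst (z * t) ht z⁻¹ (by rw [inv_pow, hzr, inv_one])
        rwa [mul_comm z t, mul_inv_cancel_right] at this
    rcases hprim K hKinv with hK | hK
    · rw [hK, Subgroup.mem_bot] at hzK
      exact hz1 hzK
    · have hxK : x⁻¹ ∈ K := by rw [hK]; trivial
      have := (hxK x).mp (horb_self x)
      rw [inv_mul_cancel] at this
      exact horb_one x hx this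
  -- step 4: every nontrivial orbit contains the nontrivial q-torsion
  have step4 : ∀ x : H, x ≠ 1 → ∀ y : H, y ≠ 1 → y ^ q = 1 → y ∈ orb x := by
    intro x hx y hy hyq
    obtain ⟨w, hw, hwp⟩ := step3 p hp hHp x hx
    have hw1 : w ≠ 1 := fun h => horb_one x hx (h ▸ hw)
    have hcop : Nat.Coprime p q := (Nat.coprime_primes hp hq).mpr hpq
    have hwq : w ^ q ≠ 1 := by
      intro h
      have h3 := orderOf_dvd_of_pow_eq_one hwp
      have h4 := orderOf_dvd_of_pow_eq_one h
      have h5 := Nat.eq_one_of_dvd_coprimes hcop h3 h4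
      exact hw1 (orderOf_eq_one_iff.mp h5)
    have hyp : y ^ p ≠ 1 := by
      intro h
      have h3 := orderOf_dvd_of_pow_eq_one h
      have h4 := orderOf_dvd_of_pow_eq_one hyq
      have h5 := Nat.eq_one_of_dvd_coprimes hcop h3 h4
      exact hy (orderOf_eq_one_iff.mp h5)
    have hTinv : ∀ a, ∀ t ∈ orb x, ρ a t ∈ orb x := fun a t ht => (horb_inv x a t).mpr ht
    have h6 : w * y ∈ orb x := star ρ h1 h2 hprim q hq hHq (orb x) hTinv w hw hwq y hyq
    have h7 : (w * y) ^ p ≠ 1 := by
      rw [mul_pow, hwp, one_mul]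
      exact hyp
    have h8 := star ρ h1 h2 hprim p hp hHp (orb x) hTinv (w * y) h6 h7 w⁻¹
      (by rw [inv_pow, hwp, inv_one])
    rwa [mul_comm w y, mul_inv_cancel_right] at h8
  intro x y hx hy
  obtain ⟨z, hz1, hzq⟩ := hexz q hq hHq
  obtain ⟨a, ha⟩ := (horb_mem x z).mp (step4 x hx z hz1 hzq)
  obtain ⟨b, hb⟩ := (horb_mem y z).mp (step4 y hy z hz1 hzq)
  refine ⟨b⁻¹ * a, ?_⟩
  rw [map_mul, Perm.mul_apply, ha, ← hb, map_inv, Perm.inv_def, Equiv.symm_apply_apply]

end abstract

theorem card_torsion_of_cyclic {C : Type*} [Group C] [Finite C] [IsCyclic C] (p : ℕ)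
    (hp : p.Prime) (hdvd : p ∣ Nat.card C) : Nat.card {x : C // x ^ p = 1} = p := by
  classical
  haveI := Fintype.ofFinite C
  haveI : Fact p.Prime := ⟨hp⟩
  apply le_antisymm
  · rw [Nat.card_eq_fintype_card, Fintype.card_subtype]
    exact IsCyclic.card_pow_eq_one_le hp.pos
  · obtain ⟨x, hx⟩ := exists_prime_orderOf_dvd_card' (G := C) p hdvd
    have hcard : Nat.card (Subgroup.zpowers x) = p := by rw [Nat.card_zpowers, hx]
    have hpow : ∀ y ∈ Subgroup.zpowers x, y ^ p = 1 := by
      rintro y ⟨k, rfl⟩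
      show (x ^ k) ^ p = 1
      rw [← zpow_natCast, ← zpow_mul, mul_comm, zpow_mul, zpow_natCast, ← hx,
        pow_orderOf_eq_one, one_zpow]
    have hinj : Function.Injective
        (fun y : Subgroup.zpowers x => (⟨y.1, hpow y.1 y.2⟩ : {x : C // x ^ p = 1})) := by
      intro a b hab
      have h3 : (a : C) = (b : C) := congrArg (fun z : {x : C // x ^ p = 1} => z.1) hab
      exact Subtype.ext h3
    calc p = Nat.card (Subgroup.zpowers x) := hcard.symm
      _ ≤ Nat.card {x : C // x ^ p = 1} := Nat.card_le_card_of_injective _ hinj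

/-- Let G act faithfully and transitively on a finite set whose number of points n ≥ 2 is not a prime power, and suppose G has a cyclic subgroup acting regularly (transitively with trivial point stabilizers). Then G is imprimitive or doubly transitive. -/
theorem result {G Ω : Type*} [Group G] [Finite G] [MulAction G Ω] [FaithfulSMul G Ω] [Finite Ω]
    (htrans : MulAction.IsPretransitive G Ω) (hn : 2 ≤ Nat.card Ω) (hnp : ¬ IsPrimePow (Nat.card Ω))
    (C : Subgroup G) (hcyc : IsCyclic ↥C) (hC : MulAction.IsPretransitive ↥C Ω ∧ ∀ a : Ω, MulAction.stabilizer ↥C a = ⊥) :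
    ¬ MulAction.IsPreprimitive G Ω ∨ MulAction.IsMultiplyPretransitive G Ω 2 := by
  classical
  by_cases hprim : MulAction.IsPreprimitive G Ω
  swap
  · exact Or.inl hprim
  right
  obtain ⟨hCt, hCreg⟩ := hC
  have hΩpos : 0 < Nat.card Ω := by omega
  haveI : Nonempty Ω := (Nat.card_pos_iff.mp hΩpos).1
  let ω₀ : Ω := Classical.arbitrary Ω
  have hbij : Function.Bijective (fun c : C => (c : G) • ω₀) := by
    constructor
    · intro c d hcd
      have hcd' : (c : G) • ω₀ = (d : G) • ω₀ := hcd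
      have hmem : d⁻¹ * c ∈ MulAction.stabilizer C ω₀ := by
        rw [MulAction.mem_stabilizer_iff]
        show ((d⁻¹ * c : C) : G) • ω₀ = ω₀
        rw [Subgroup.coe_mul, Subgroup.coe_inv, mul_smul, hcd', inv_smul_smul]
      rw [hCreg ω₀, Subgroup.mem_bot] at hmem
      exact (inv_mul_eq_one.mp hmem).symm
    · intro ω
      obtain ⟨c, hc⟩ := hCt.exists_smul_eq ω₀ ω
      exact ⟨c, hc⟩
  let e : C ≃ Ω := Equiv.ofBijective _ hbij
  have he : ∀ c : C, e c = (c : G) • ω₀ := fun c => rfl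
  let Φ : G →* Equiv.Perm C :=
    (e.symm.permCongrHom.toMonoidHom).comp (MulAction.toPermHom G Ω)
  have hΦ : ∀ (g : G) (c : C), e (Φ g c) = g • e c := by
    intro g c
    simp [Φ, Equiv.permCongrHom]
  let ρ : MulAction.stabilizer G ω₀ →* Equiv.Perm C :=
    Φ.comp (MulAction.stabilizer G ω₀).subtype
  have hρ : ∀ (a : MulAction.stabilizer G ω₀) (c : C), e (ρ a c) = (a : G) • e c :=
    fun a c => hΦ a c
  have h1 : ∀ a, ρ a 1 = 1 := by
    intro a
    apply e.injective
    rw [hρ, he, OneMemClass.coe_one, one_smul]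
    exact a.2
  have h2 : ∀ a x, ∃ a', ∀ h, ρ a (x * h) = ρ a x * ρ a' h := by
    intro a x
    have hmem : ((ρ a x : C) : G)⁻¹ * (a : G) * (x : G) ∈ MulAction.stabilizer G ω₀ := by
      rw [MulAction.mem_stabilizer_iff, mul_smul, mul_smul, ← he x, ← hρ a x, he, inv_smul_smul]
    refine ⟨⟨_, hmem⟩, fun h => ?_⟩
    apply e.injective
    rw [hρ, he (x * h), he (ρ a x * _), Subgroup.coe_mul, Subgroup.coe_mul, mul_smul, mul_smul,
      ← he (ρ _ h), hρ, he h]
    simp only [mul_smul, smul_inv_smul]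
  have hprim' : ∀ K : Subgroup C, (∀ a, ∀ k ∈ K, ρ a k ∈ K) → K = ⊥ ∨ K = ⊤ := by
    intro K hK
    let B : Set Ω := e '' (K : Set C)
    have hsub : ∀ g : G, ∀ k ∈ K, ∀ k' ∈ K, g • e k = e k' → ∀ k'' ∈ K, g • e k'' ∈ B := by
      intro g k hk k' hk' hg k'' hk''
      have hmem : (k' : G)⁻¹ * g * (k : G) ∈ MulAction.stabilizer G ω₀ := by
        rw [MulAction.mem_stabilizer_iff, mul_smul, mul_smul, ← he k, hg, he, inv_smul_smul]
      refine ⟨k' * ρ ⟨_, hmem⟩ (k⁻¹ * k''),
        K.mul_mem hk' (hK _ _ (K.mul_mem (K.inv_mem hk) hk'')), ?_⟩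
      rw [he, Subgroup.coe_mul, mul_smul, ← he (ρ _ _), hρ, he]
      simp only [Subgroup.coe_mul, Subgroup.coe_inv, mul_smul, smul_inv_smul]
      rw [← he]
    have hblock : MulAction.IsBlock G B := by
      rw [MulAction.isBlock_iff_smul_eq_or_disjoint]
      intro g
      by_cases hdisj : Disjoint (g • B) B
      · exact Or.inr hdisj
      · left
        rw [Set.not_disjoint_iff] at hdisj
        obtain ⟨β, hβ1, hβ2⟩ := hdisj
        obtain ⟨γ, ⟨k, hk, rfl⟩, rfl⟩ := hβ1
        obtain ⟨k', hk', hk'e⟩ := hβ2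
        apply Set.Subset.antisymm
        · rintro _ ⟨_, ⟨k'', hk'', rfl⟩, rfl⟩
          exact hsub g k hk k' hk' hk'e.symm k'' hk''
        · intro β hβ
          obtain ⟨k'', hk'', rfl⟩ := hβ
          have := hsub g⁻¹ k' hk' k hk (by rw [hk'e, inv_smul_smul]) k'' hk''
          exact ⟨g⁻¹ • e k'', this, smul_inv_smul g _⟩
    rcases hprim.isTrivialBlock_of_isBlock hblock with hB | hB
    · left
      rw [Subgroup.eq_bot_iff_forall]
      intro k hk
      apply e.injective
      exact hB ⟨k, hk, rfl⟩ ⟨1, K.one_mem, rfl⟩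
    · right
      rw [eq_top_iff]
      intro c _
      have hc : e c ∈ B := by rw [hB]; trivial
      obtain ⟨k, hk, hkc⟩ := hc
      rwa [← e.injective hkc]
  have hcardC : Nat.card C = Nat.card Ω := Nat.card_congr e
  obtain ⟨p, q, hp, hq, hpq, hpn, hqn⟩ : ∃ p q : ℕ, p.Prime ∧ q.Prime ∧ p ≠ q ∧
      p ∣ Nat.card Ω ∧ q ∣ Nat.card Ω := by
    have hn1 : Nat.card Ω ≠ 1 := by omega
    obtain ⟨p, hp, hpn⟩ := Nat.exists_prime_and_dvd hn1
    by_contra hno
    push Not at hno
    apply hnp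
    have h := Nat.eq_prime_pow_of_unique_prime_dvd (n := Nat.card Ω) (p := p) (by omega)
      (fun {d} hd hdn => by
        by_contra hdp
        exact hno p d hp hd (Ne.symm hdp) hpn hdn)
    rw [h]
    refine hp.isPrimePow.pow ?_
    intro hk
    rw [hk, pow_zero] at h
    omega
  letI : CommGroup C := IsCyclic.commGroup
  have key := schur_abstract ρ h1 h2 hprim' p q hp hq hpq
    (card_torsion_of_cyclic p hp (hcardC ▸ hpn)) (card_torsion_of_cyclic q hq (hcardC ▸ hqn))
  rw [MulAction.is_two_pretransitive_iff]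
  intro a b c d hab hcd
  obtain ⟨g₁, hg₁⟩ := MulAction.exists_smul_eq G a ω₀
  obtain ⟨g₂, hg₂⟩ := MulAction.exists_smul_eq G c ω₀
  have hb : e.symm (g₁ • b) ≠ 1 := by
    intro h
    have h3 : g₁ • b = e 1 := by rw [← h, Equiv.apply_symm_apply]
    rw [he, OneMemClass.coe_one, one_smul, ← hg₁] at h3
    exact hab (smul_left_cancel g₁ h3).symm
  have hd : e.symm (g₂ • d) ≠ 1 := by
    intro h
    have h3 : g₂ • d = e 1 := by rw [← h, Equiv.apply_symm_apply]
    rw [he, OneMemClass.coe_one, one_smul, ← hg₂] at h3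
    exact hcd (smul_left_cancel g₂ h3).symm
  obtain ⟨a₀, ha₀⟩ := key _ _ hb hd
  have ha₀' : (a₀ : G) • ω₀ = ω₀ := a₀.2
  refine ⟨g₂⁻¹ * (a₀ : G) * g₁, ?_, ?_⟩
  · rw [mul_smul, mul_smul, hg₁, ha₀', ← hg₂, inv_smul_smul]
  · rw [mul_smul, mul_smul]
    have h4 : (a₀ : G) • g₁ • b = g₂ • d := by
      have h3 := hρ a₀ (e.symm (g₁ • b))
      rw [ha₀, Equiv.apply_symm_apply, Equiv.apply_symm_apply] at h3
      exact h3.symm
    rw [h4, inv_smul_smul]

end Cfsg.Agent.S3559
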