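import Cfsg.Statements.S3972
import Cfsg.Agent.Helper59.SchurRing

set_option autoImplicit false
open Cfsg

namespace Cfsg.Agent.S3972

open scoped Pointwise

/-- In a cyclic group `zpowers g` of order `p ^ m`, every nontrivial element `c` has
`g ^ (p ^ (m - 1))` among its powers. -/
theorem mem_zpowers_of_ne_one {G : Type*} [Group G] [Finite G] (p m : ℕ) (hp : p.Prime)
    (hm : 1 ≤ m) (g : G) (hg : orderOf g = p ^ m) (c : G) (hc : c ∈ Subgroup.zpowers g)
    (hc1 : c ≠ 1) : g ^ (p ^ (m - 1)) ∈ Subgroup.zpowers c := by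
  classical
  have hcardC : Nat.card (Subgroup.zpowers g) = p ^ m := by rw [Nat.card_zpowers, hg]
  have hP0 : Nat.card {x : Subgroup.zpowers g // x ^ p = 1} = p :=
    Cfsg.Agent.S3559.card_torsion_of_cyclic p hp (by rw [hcardC]; exact dvd_pow_self p (by omega))
  have hq : orderOf c ∣ p ^ m := by
    have h1 : orderOf (⟨c, hc⟩ : Subgroup.zpowers g) ∣ Nat.card (Subgroup.zpowers g) :=
      orderOf_dvd_natCard _
    rw [hcardC] at h1
    have h2 : orderOf (⟨c, hc⟩ : Subgroup.zpowers g) = orderOf c := by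
      rw [← Subgroup.orderOf_coe]
    rwa [h2] at h1
  obtain ⟨e, hem, he⟩ := (Nat.dvd_prime_pow hp).mp hq
  have he0 : e ≠ 0 := by
    intro h0
    rw [h0, pow_zero, orderOf_eq_one_iff] at he
    exact hc1 he
  set y := c ^ (p ^ (e - 1)) with hy
  have hyord : orderOf y = p := by
    rw [hy, orderOf_pow_of_dvd (pow_pos hp.pos _).ne' (by rw [he]; exact pow_dvd_pow p (by omega)),
      he, Nat.pow_div (by omega) hp.pos]
    have : e - (e - 1) = 1 := by omega
    rw [this, pow_one]
  have hyc : y ∈ Subgroup.zpowers c := Subgroup.pow_mem _ (Subgroup.mem_zpowers c) _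
  have hyle : Subgroup.zpowers y ≤ Subgroup.zpowers c := Subgroup.zpowers_le.mpr hyc
  have hcle : Subgroup.zpowers c ≤ Subgroup.zpowers g := Subgroup.zpowers_le.mpr hc
  have hyp : ∀ w ∈ Subgroup.zpowers y, w ^ p = 1 := by
    intro w hw
    obtain ⟨k, rfl⟩ := Subgroup.mem_zpowers_iff.mp hw
    rw [← zpow_natCast, ← zpow_mul, mul_comm, zpow_mul, zpow_natCast, ← hyord,
      pow_orderOf_eq_one, one_zpow]
  let φ : Subgroup.zpowers y → {x : Subgroup.zpowers g // x ^ p = 1} := fun w =>
    ⟨⟨w.1, hcle (hyle w.2)⟩, Subtype.ext (hyp w.1 w.2)⟩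
  have hφinj : Function.Injective φ := by
    intro a b hab
    have h3 : (a : G) = (b : G) :=
      congrArg (fun z : {x : Subgroup.zpowers g // x ^ p = 1} => (z.1 : G)) hab
    exact Subtype.ext h3
  have hφbij : Function.Bijective φ := by
    apply hφinj.bijective_of_nat_card_le
    rw [hP0, Nat.card_zpowers, hyord]
  have hzp : (g ^ (p ^ (m - 1))) ^ p = 1 := by
    rw [← pow_mul, ← pow_succ]
    have : m - 1 + 1 = m := by omega
    rw [this, ← hg, pow_orderOf_eq_one]
  obtain ⟨w, hw⟩ := hφbij.2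
    ⟨⟨g ^ (p ^ (m - 1)), Subgroup.pow_mem _ (Subgroup.mem_zpowers g) _⟩, Subtype.ext hzp⟩
  have h4 : (w : G) = g ^ (p ^ (m - 1)) :=
    congrArg (fun z : {x : Subgroup.zpowers g // x ^ p = 1} => (z.1 : G)) hw
  rw [← h4]
  exact hyle w.2

/-- A faithful element of order `p ^ m` has a point of period `p ^ m`. -/
theorem exists_period {G Ω : Type*} [Group G] [MulAction G Ω] [FaithfulSMul G Ω] (p m : ℕ)
    (hp : p.Prime) (hm : 1 ≤ m) (g : G) (hg : orderOf g = p ^ m) :
    ∃ ω : Ω, MulAction.period g ω = p ^ m := by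
  by_contra hno
  push Not at hno
  have h1 : g ^ (p ^ (m - 1)) = 1 := by
    apply FaithfulSMul.eq_of_smul_eq_smul (α := Ω)
    intro ω
    rw [one_smul, MulAction.pow_smul_eq_iff_period_dvd]
    have hdvd : MulAction.period g ω ∣ p ^ m := hg ▸ MulAction.period_dvd_orderOf g ω
    obtain ⟨e, hem, he⟩ := (Nat.dvd_prime_pow hp).mp hdvd
    rw [he]
    apply pow_dvd_pow
    have hne : e ≠ m := by
      intro h
      rw [h] at he
      exact hno ω he
    omega
  have h2 : orderOf g ∣ p ^ (m - 1) := orderOf_dvd_of_pow_eq_one h1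
  rw [hg, Nat.pow_dvd_pow_iff_le_right hp.one_lt] at h2
  omega

/-- An element whose order and period at some point both equal the number of points generates a
regular subgroup. -/
theorem regular_of_period {G Ω : Type*} [Group G] [MulAction G Ω] [Finite Ω] (g : G) (ω₀ : Ω)
    (hper : MulAction.period g ω₀ = Nat.card Ω) (hord : orderOf g = Nat.card Ω) :
    MulAction.IsPretransitive ↥(Subgroup.zpowers g) Ω ∧
      ∀ a : Ω, MulAction.stabilizer ↥(Subgroup.zpowers g) a = ⊥ := by
  classical
  have hinj : Function.Injective (fun i : Fin (Nat.card Ω) => g ^ (i : ℕ) • ω₀) := by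
    have key : ∀ i j : Fin (Nat.card Ω), (i : ℕ) ≤ (j : ℕ) →
        g ^ (i : ℕ) • ω₀ = g ^ (j : ℕ) • ω₀ → i = j := by
      intro i j hij h
      have h1 : g ^ ((j : ℕ) - (i : ℕ)) • ω₀ = ω₀ := by
        have h2 : g ^ (j : ℕ) = g ^ (i : ℕ) * g ^ ((j : ℕ) - (i : ℕ)) := by
          rw [← pow_add]
          congr 1
          omega
        rw [h2, mul_smul] at h
        exact (smul_left_cancel _ h).symm
      rw [MulAction.pow_smul_eq_iff_period_dvd, hper] at h1
      have h3 : (j : ℕ) - (i : ℕ) = 0 := Nat.eq_zero_of_dvd_of_lt h1 (by omega)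
      apply Fin.ext
      omega
    intro i j h
    rcases le_total (i : ℕ) (j : ℕ) with hij | hij
    · exact key i j hij h
    · exact (key j i hij h.symm).symm
  have hbij : Function.Bijective (fun i : Fin (Nat.card Ω) => g ^ (i : ℕ) • ω₀) := by
    apply hinj.bijective_of_nat_card_le
    rw [Nat.card_fin]
  have hsurj : ∀ ω : Ω, ∃ i : ℕ, g ^ i • ω₀ = ω := by
    intro ω
    obtain ⟨i, hi⟩ := hbij.2 ω
    exact ⟨i, hi⟩
  constructor
  · constructor
    intro a b
    obtain ⟨i, hi⟩ := hsurj a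
    obtain ⟨j, hj⟩ := hsurj b
    refine ⟨⟨g ^ j * (g ^ i)⁻¹, Subgroup.mul_mem _ (Subgroup.pow_mem _ (Subgroup.mem_zpowers g) _)
      (Subgroup.inv_mem _ (Subgroup.pow_mem _ (Subgroup.mem_zpowers g) _))⟩, ?_⟩
    show (g ^ j * (g ^ i)⁻¹) • a = b
    rw [← hi, mul_smul, inv_smul_smul, hj]
  · intro a
    rw [Subgroup.eq_bot_iff_forall]
    intro x hx
    rw [MulAction.mem_stabilizer_iff] at hx
    have hx' : (x : G) • a = a := hx
    obtain ⟨k, hk⟩ := Subgroup.mem_zpowers_iff.mp x.2
    obtain ⟨i, hi⟩ := hsurj a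
    have h1 : g ^ k • ω₀ = ω₀ := by
      rw [← hk, ← hi, ← mul_smul] at hx'
      have h2 : g ^ k * g ^ i = g ^ i * g ^ k := by
        rw [← zpow_natCast, ← zpow_add, ← zpow_add, add_comm]
      rw [h2, mul_smul] at hx'
      exact smul_left_cancel _ hx'
    rw [MulAction.zpow_smul_eq_iff_period_dvd, hper, ← hord, orderOf_dvd_iff_zpow_eq_one] at h1
    apply Subtype.ext
    rw [← hk, h1]
    rfl

/-- Let `p` be a prime, `m ≥ 2`, and `G` a transitive but not doubly transitive permutation group on `p ^ m` points containing a permutation of order `p ^ m` (necessarily a full cycle). Then `G` is imprimitive, and the normal closure in `G` of the `p ^ (m - 1)`-th power of that permutation is an intransitive normal subgroup. -/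
theorem result {Ω : Type*} [Fintype Ω] [DecidableEq Ω] (p m : ℕ) (hp : p.Prime) (hm : 2 ≤ m) (hΩ : Fintype.card Ω = p ^ m) (G : Subgroup (Equiv.Perm Ω)) (htr : MulAction.IsPretransitive G Ω) (h2 : ¬ MulAction.IsMultiplyPretransitive G Ω 2) (g : G) (hg : orderOf g = p ^ m) : ¬ MulAction.IsPreprimitive G Ω ∧ ¬ MulAction.IsPretransitive (Subgroup.normalClosure ({g ^ (p ^ (m - 1))} : Set G)) Ω := by
  classical
  have hm1 : 1 ≤ m := by omega
  have hcardΩ : Nat.card Ω = p ^ m := by rw [Nat.card_eq_fintype_card, hΩ]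
  obtain ⟨ω₀, hω₀⟩ := exists_period (Ω := Ω) p m hp hm1 g hg
  obtain ⟨hCt, hCreg⟩ := regular_of_period g ω₀ (by rw [hω₀, hcardΩ]) (by rw [hg, hcardΩ])
  have hnotprim : ¬ MulAction.IsPreprimitive G Ω := by
    intro hprim
    apply h2
    have hcardC : Nat.card (Subgroup.zpowers g) = p ^ m := by rw [Nat.card_zpowers, hg]
    refine Cfsg.Agent.Helper59.two_transitive_of_regular_abelian hprim (Subgroup.zpowers g)
      ?_ hCt hCreg p hp
      (Cfsg.Agent.S3559.card_torsion_of_cyclic p hp
        (by rw [hcardC]; exact dvd_pow_self p (by omega))) ?_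
    · intro x hx y hy
      obtain ⟨i, hi⟩ := Subgroup.mem_zpowers_iff.mp hx
      obtain ⟨j, hj⟩ := Subgroup.mem_zpowers_iff.mp hy
      rw [← hi, ← hj, ← zpow_add, ← zpow_add, add_comm]
    · rw [hcardΩ]
      intro h
      have : m = 1 := Nat.pow_right_injective hp.two_le (h.trans (pow_one p).symm)
      omega
  refine ⟨hnotprim, ?_⟩
  obtain ⟨B, hB, hBnt⟩ : ∃ B : Set Ω, MulAction.IsBlock G B ∧ ¬ MulAction.IsTrivialBlock B := by
    by_contra hno
    push Not at hno
    exact hnotprim (MulAction.IsPreprimitive.mk (fun {B} hB => hno B hB))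
  rw [MulAction.IsTrivialBlock, not_or, Set.not_subsingleton_iff] at hBnt
  obtain ⟨⟨b, hb, b', hb', hbb'⟩, hne⟩ := hBnt
  obtain ⟨ω, hω⟩ := (Set.ne_univ_iff_exists_notMem B).mp hne
  set z : G := g ^ (p ^ (m - 1)) with hz
  have hzfix : ∀ x : G, z • (x • B) = x • B := by
    intro x
    have hxB : MulAction.IsBlock G (x • B) := hB.translate x
    obtain ⟨c, hc⟩ := hCt.exists_smul_eq (x • b) (x • b')
    have hc' : (c : G) • x • b = x • b' := hc
    have hc1 : (c : G) ≠ 1 := by
      intro h
      rw [h, one_smul] at hc'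
      exact hbb' (smul_left_cancel x hc')
    have hcB : (c : G) • (x • B) = x • B := by
      rcases (MulAction.isBlock_iff_smul_eq_or_disjoint.mp hxB) (c : G) with h | h
      · exact h
      · exfalso
        rw [Set.disjoint_left] at h
        apply h (a := x • b')
        · rw [← hc']
          exact Set.smul_mem_smul_set (Set.smul_mem_smul_set hb)
        · exact Set.smul_mem_smul_set hb'
    have hzc : z ∈ Subgroup.zpowers (c : G) :=
      mem_zpowers_of_ne_one p m hp hm1 g hg (c : G) c.2 hc1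
    have hcstab : (c : G) ∈ MulAction.stabilizer G (x • B) := by
      rw [MulAction.mem_stabilizer_iff]
      exact hcB
    have hzstab : z ∈ MulAction.stabilizer G (x • B) :=
      (Subgroup.zpowers_le.mpr hcstab) hzc
    rw [MulAction.mem_stabilizer_iff] at hzstab
    exact hzstab
  have hzcore : z ∈ (MulAction.stabilizer G B).normalCore := by
    intro h
    show h * z * h⁻¹ ∈ MulAction.stabilizer G B
    rw [MulAction.mem_stabilizer_iff, mul_smul, mul_smul, hzfix h⁻¹, smul_inv_smul]
  have hle : Subgroup.normalClosure ({z} : Set G) ≤ MulAction.stabilizer G B :=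
    (Subgroup.normalClosure_le_normal (Set.singleton_subset_iff.mpr hzcore)).trans
      (Subgroup.normalCore_le _)
  intro hNt
  obtain ⟨n, hn⟩ := hNt.exists_smul_eq b ω
  have hn' : (n : G) • b = ω := hn
  have hnB : (n : G) • B = B := by
    have := hle n.2
    rw [MulAction.mem_stabilizer_iff] at this
    exact this
  apply hω
  rw [← hn', ← hnB]
  exact Set.smul_mem_smul_set hb

end Cfsg.Agent.S3972
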