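import Cfsg.Statements.S5224
import Cfsg.Agent.Helper86.TateCore
import Cfsg.Agent.Helper86.Residual

set_option autoImplicit false
open Cfsg

namespace Cfsg.Agent.S5224

/-- Tate's Theorem for fusion systems. Let F be a saturated fusion system over a finite p-group S and H a saturated fusion system over S contained in F. Then the following are equivalent: the elementary focal subgroups Φ(S)·foc agree for F and H; the focal subgroups of F and H agree; the hyperfocal subgroups of F and H agree. -/
theorem result {Ω : Type*} [Group Ω] {S : Subgroup Ω} [Finite S] (p : ℕ) [Fact p.Prime] (hS : IsPGroup p S) (F : Cfsg.FusionSystem S) (hF : F.IsSaturated p) (H : Cfsg.FusionSystem S) (hH : H.IsSaturated p) (hHF : H.IsSubsystemOf F) : (((frattini ↥S).map S.subtype ⊔ F.focalSubgroup) = ((frattini ↥S).map S.subtype ⊔ H.focalSubgroup) ↔ F.focalSubgroup = H.focalSubgroup) ∧ (F.focalSubgroup = H.focalSubgroup ↔ F.hyperfocalSubgroup p = H.hyperfocalSubgroup p) := by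
  have hfF := Helper84.focal_eq p hS F hF
  have hfH := Helper84.focal_eq p hS H hH
  have hle : H.hyperfocalSubgroup p ≤ F.hyperfocalSubgroup p :=
    Helper86.hyperfocal_le_of_subsystem F H hHF p
  have hTH : H.StronglyClosed (H.hyperfocalSubgroup p) := Cfsg.Agent.S5124.result p hS H hH
  have hUn : ∀ s ∈ S, ∀ u ∈ H.hyperfocalSubgroup p, s * u * s⁻¹ ∈ H.hyperfocalSubgroup p :=
    fun s hs u hu => hTH.2 _ le_rfl (conjHom _ s) (H.conj_mem hTH.1 hs) ⟨u, hu⟩
  have key : ((frattini ↥S).map S.subtype ⊔ F.focalSubgroup) =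
      ((frattini ↥S).map S.subtype ⊔ H.focalSubgroup) →
      F.hyperfocalSubgroup p = H.hyperfocalSubgroup p := by
    intro h
    apply le_antisymm _ hle
    apply Helper86.hyperfocal_le_of_le_frattini_sup hS F hF (H.hyperfocalSubgroup p) hUn hle
    calc F.hyperfocalSubgroup p ≤ F.focalSubgroup := by rw [hfF]; exact le_sup_left
      _ ≤ (frattini ↥S).map S.subtype ⊔ F.focalSubgroup := le_sup_right
      _ = (frattini ↥S).map S.subtype ⊔ H.focalSubgroup := h
      _ = (frattini ↥S).map S.subtype ⊔ (H.hyperfocalSubgroup p ⊔ ⁅S, S⁆) := by rw [hfH]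
      _ ≤ (frattini ↥S).map S.subtype ⊔ ⁅S, S⁆ ⊔ H.hyperfocalSubgroup p :=
        sup_le (le_sup_of_le_left le_sup_left)
          (sup_le le_sup_right (le_sup_of_le_left le_sup_right))
  have key2 : F.hyperfocalSubgroup p = H.hyperfocalSubgroup p → F.focalSubgroup = H.focalSubgroup := by
    intro h
    rw [hfF, hfH, h]
  exact ⟨⟨fun h => key2 (key h), fun h => by rw [h]⟩, ⟨fun h => key (by rw [h]), key2⟩⟩

end Cfsg.Agent.S5224
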