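import Cfsg.Statements.S5225
import Cfsg.Agent.Helper31.YoshidaFus
import Cfsg.Agent.Helper86.NormSys
import Cfsg.Agent.Helper86.Residual
import Cfsg.Agent.Helper84.FusionFocal
import Cfsg.Agent.Helper2.PGroup
import Cfsg.Agent.S5224
import Cfsg.Agent.S5098

set_option autoImplicit false
open Cfsg

namespace Cfsg.Agent.S5225

open Cfsg.FusionSystem

/-- Yoshida's Theorem for fusion systems. Let F be a saturated fusion system over a finite p-group S and N the normalizer fusion system of S in F. If the focal subgroups of F and N differ (N does not control transfer in F), then S has a quotient isomorphic to the wreath product C_p ≀ C_p (realised as a Sylow p-subgroup of the symmetric group of degree p²). -/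
theorem result {Ω : Type*} [Group Ω] {S : Subgroup Ω} [Finite S] (p : ℕ) [Fact p.Prime] (hS : IsPGroup p S) (F : Cfsg.FusionSystem S) (hF : F.IsSaturated p) (N : Cfsg.FusionSystem (Cfsg.FusionSystem.normalizerIn S S)) (hN : F.IsNormalizerSystem S N) (hne : N.focalSubgroup ≠ F.focalSubgroup) : ∃ (W : Sylow p (Equiv.Perm (Fin (p ^ 2)))) (f : ↥S →* ↥(W : Subgroup (Equiv.Perm (Fin (p ^ 2))))), Function.Surjective f := by
  classical
  by_contra hW
  apply hne
  have hp : p.Prime := Fact.out
  -- `S` is fully normalized, so `N` is saturated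
  have hSfn : F.IsFullyNormalized S := by
    refine ⟨le_rfl, ?_⟩
    rintro Q ⟨φ, hφ, rfl⟩
    rw [Helper86.hom_top_range F hφ]
  have hNsat : N.IsSaturated p := Cfsg.Agent.S5098.result p hS F hF S hSfn N hN
  -- `N` as a system over `S`
  have hSle : S ≤ normalizerIn S S := le_inf le_rfl Subgroup.le_normalizer
  let H : FusionSystem S := Helper86.restrictSub N S hSle
  have hsame : Helper86.SameHoms N H := by
    intro P
    ext φ
    constructor
    · intro h
      exact ⟨h, (N.le_of_mem h).1.trans inf_le_left, fun x => ((N.le_of_mem h).2 x).1⟩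
    · intro h
      exact h.1
  have hHsat : H.IsSaturated p := hsame.elim (motive := fun {V} D => D.IsSaturated p) hNsat
  have hHfoc : H.focalSubgroup = N.focalSubgroup :=
    hsame.elim (motive := fun {V} D => D.focalSubgroup = N.focalSubgroup) rfl
  have hHF : H.IsSubsystemOf F := by
    intro P φ h
    have h1 : φ ∈ N.Hom P := h.1
    rw [hN P] at h1
    exact h1.1
  have hHtop : ∀ (P : Subgroup Ω) (φ : P →* Ω), φ ∈ F.Hom P → S ≤ P → φ ∈ H.Hom P := by
    intro P φ hφ hSP
    have hPS : P ≤ S := (F.le_of_mem hφ).1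
    obtain rfl : P = S := le_antisymm hPS hSP
    refine ⟨?_, le_rfl, (F.le_of_mem hφ).2⟩
    rw [hN P, Helper86.mem_normalizerHom_self_iff]
    exact ⟨le_rfl, φ, hφ, fun x hx => rfl⟩
  rw [← hHfoc]
  have hTate := (Cfsg.Agent.S5224.result p hS F hF H hHsat hHF).1
  refine (hTate.1 ?_).symm
  have hfocle : H.focalSubgroup ≤ F.focalSubgroup := by
    apply Subgroup.closure_mono
    rintro _ ⟨P, φ, x, hφ, rfl⟩
    exact ⟨P, φ, x, hHF P hφ, rfl⟩
  apply le_antisymm
  · refine sup_le le_sup_left ?_
    -- the main point: `foc(F) ≤ Φ(S) foc(N_F(S))`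
    set T : Subgroup Ω := (frattini ↥S).map S.subtype ⊔ H.focalSubgroup with hT
    have hcomm : ∀ a b : ↥S, ((a * b * a⁻¹ * b⁻¹ : ↥S) : Ω) ∈ T := by
      intro a b
      apply (le_sup_right : H.focalSubgroup ≤ T)
      apply Helper84.commutator_le_focal H
      have h1 := Subgroup.commutator_mem_commutator a.2 b.2
      rw [commutatorElement_def] at h1
      exact h1
    have hTn : (T.subgroupOf S).Normal := by
      constructor
      intro t ht g
      rw [Subgroup.mem_subgroupOf] at ht ⊢
      have h1 := hcomm g t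
      have h2 : ((g * t * g⁻¹ : ↥S) : Ω) = ((g * t * g⁻¹ * t⁻¹ : ↥S) : Ω) * (t : Ω) := by
        simp [mul_assoc]
      rw [h2]
      exact T.mul_mem h1 ht
    letI cg : CommGroup (↥S ⧸ T.subgroupOf S) :=
      { (inferInstance : Group (↥S ⧸ T.subgroupOf S)) with
        mul_comm := by
          intro a b
          induction a using QuotientGroup.induction_on with
          | H a =>
            induction b using QuotientGroup.induction_on with
            | H b =>
              rw [← QuotientGroup.mk_mul, ← QuotientGroup.mk_mul, QuotientGroup.eq,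
                Subgroup.mem_subgroupOf]
              have h1 := hcomm b⁻¹ a⁻¹
              have h2 : (a * b)⁻¹ * (b * a) = b⁻¹ * a⁻¹ * b⁻¹⁻¹ * a⁻¹⁻¹ := by group
              rw [h2]
              exact h1 }
    let lam : ↥S →* (↥S ⧸ T.subgroupOf S) := QuotientGroup.mk' (T.subgroupOf S)
    have hlam : ∀ a b : ↥S, ((a : Ω))⁻¹ * (b : Ω) ∈ T → lam a = lam b := by
      intro a b h
      exact QuotientGroup.eq.2 (Subgroup.mem_subgroupOf.2 h)
    have hlam' : ∀ a b : ↥S, lam a = lam b → ((a : Ω))⁻¹ * (b : Ω) ∈ T := by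
      intro a b h
      exact Subgroup.mem_subgroupOf.1 (QuotientGroup.eq.1 h)
    have hA : ∀ a : ↥S ⧸ T.subgroupOf S, a ^ p = 1 := by
      intro a
      induction a using QuotientGroup.induction_on with
      | H s =>
        rw [← QuotientGroup.mk_pow, QuotientGroup.eq_one_iff, Subgroup.mem_subgroupOf]
        exact (le_sup_left : (frattini ↥S).map S.subtype ≤ T)
          ⟨s ^ p, Helper2.pow_mem_frattini_of_isPGroup hS s, rfl⟩
    have hinv : ∀ (P : Subgroup Ω) (φ : P →* Ω) (hφ : φ ∈ F.Hom P), S ≤ P → ∀ y : P,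
        lam ⟨φ y, Helper87.hom_mem F hφ y⟩ = lam ⟨y, Helper87.hom_le F hφ y.2⟩ := by
      intro P φ hφ hSP y
      apply hlam
      have h1 : (y : Ω)⁻¹ * φ y ∈ H.focalSubgroup :=
        Subgroup.subset_closure ⟨P, φ, y, hHtop P φ hφ hSP, rfl⟩
      have h2 : (φ y)⁻¹ * (y : Ω) = ((y : Ω)⁻¹ * φ y)⁻¹ := by group
      show (φ y)⁻¹ * (y : Ω) ∈ T
      rw [h2]
      exact T.inv_mem ((le_sup_right : H.focalSubgroup ≤ T) h1)
    have hst := Helper31.yoshida_stable hS F hF hW hA lam hinv
    refine (Subgroup.closure_le _).2 ?_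
    rintro _ ⟨P, φ, x, hφ, rfl⟩
    have h1 := hlam' _ _ (hst P φ hφ x)
    have h2 : (x : Ω)⁻¹ * φ x = ((φ x)⁻¹ * (x : Ω))⁻¹ := by group
    show (x : Ω)⁻¹ * φ x ∈ T
    rw [h2]
    exact T.inv_mem h1
  · exact sup_le le_sup_left (hfocle.trans le_sup_right)

end Cfsg.Agent.S5225
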