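import Cfsg.Statements.S2807
import Cfsg.Agent.S5225
import Cfsg.Agent.S5076
import Cfsg.Agent.Helper31.WVTransfer
import Cfsg.Agent.Helper85.Sat

set_option autoImplicit false
open Cfsg

namespace Cfsg.Agent.S2807

open Cfsg.FusionSystem

/-- Let S be a Sylow p-subgroup of the finite group G. If S ∩ G' ≠ S ∩ (N_G(S))' (derived subgroups), then the wreath product Z_p ≀ Z_p — realised as a Sylow p-subgroup of the symmetric group of degree p² — is a homomorphic image of S. -/
theorem result {G : Type*} [Group G] [Finite G] {p : ℕ} [Fact p.Prime] (S : Sylow p G) (h : (S : Subgroup G) ⊓ commutator G ≠ (S : Subgroup G) ⊓ ⁅Subgroup.normalizer ((S : Subgroup G) : Set G), Subgroup.normalizer ((S : Subgroup G) : Set G)⁆) : ∃ (P : Sylow p (Equiv.Perm (Fin (p ^ 2)))) (f : ↥(S : Subgroup G) →* ↥(P : Subgroup (Equiv.Perm (Fin (p ^ 2))))), Function.Surjective f := by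
  classical
  have hS : IsPGroup p ↥(S : Subgroup G) := S.isPGroup'
  let F : FusionSystem (S : Subgroup G) := groupFusionSystem (S : Subgroup G)
  have hF : F.IsSaturated p := Cfsg.Agent.S5076.result p S
  let N : FusionSystem (normalizerIn (S : Subgroup G) (S : Subgroup G)) := Helper86.normalizerSelf F
  have hN : F.IsNormalizerSystem (S : Subgroup G) N := Helper86.normalizerSelf_isNormalizerSystem F
  refine Cfsg.Agent.S5225.result p hS F hF N hN ?_
  intro hfoc
  apply h
  -- conjugation maps on cyclic subgroups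
  have hconjmem : ∀ (s m : G), s ∈ (S : Subgroup G) → m⁻¹ * s * m ∈ (S : Subgroup G) →
      conjHom (Subgroup.zpowers s) m⁻¹ ∈ F.Hom (Subgroup.zpowers s) := by
    intro s m hs hsm
    refine ⟨(Subgroup.zpowers_le).2 hs, ?_, m⁻¹, fun x => rfl⟩
    rintro ⟨x, k, rfl⟩
    show m⁻¹ * s ^ k * m⁻¹⁻¹ ∈ (S : Subgroup G)
    have h1 : m⁻¹ * s ^ k * m⁻¹⁻¹ = (m⁻¹ * s * m) ^ k := by
      have h0 := (conj_zpow (a := m⁻¹) (b := s) (i := k)).symm
      rw [inv_inv] at h0 ⊢
      exact h0
    rw [h1]
    exact (S : Subgroup G).zpow_mem hsm k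
  have hgen : ∀ (s m : G), (conjHom (Subgroup.zpowers s) m⁻¹ ⟨s, Subgroup.mem_zpowers s⟩) =
      m⁻¹ * s * m := by
    intro s m
    show m⁻¹ * s * m⁻¹⁻¹ = m⁻¹ * s * m
    rw [inv_inv]
  -- the focal subgroup of `F`
  have hF1 : F.focalSubgroup = (S : Subgroup G) ⊓ commutator G := by
    apply le_antisymm
    · refine (Subgroup.closure_le _).2 ?_
      rintro _ ⟨P, φ, x, ⟨hP, hφS, g, hg⟩, rfl⟩
      refine Subgroup.mem_inf.2 ⟨(S : Subgroup G).mul_mem ((S : Subgroup G).inv_mem (hP x.2)) (hφS x), ?_⟩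
      rw [commutator_def, hg x]
      have h1 := Helper31.inv_mul_conj_mem_commutator (N := (⊤ : Subgroup G)) (s := (x : G)) (m := g⁻¹)
        (Subgroup.mem_top _) (Subgroup.mem_top _)
      rw [inv_inv] at h1
      exact h1
    · have h1 := Helper31.focal_in (p := p) (M := (⊤ : Subgroup G)) (S := (S : Subgroup G)) le_top hS
        (by rw [Subgroup.relIndex_top_right]; exact S.not_dvd_index)
      rw [commutator_def]
      refine h1.trans ((Subgroup.closure_le _).2 ?_)
      rintro _ ⟨s, hs, m, -, hsm, rfl⟩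
      refine Subgroup.subset_closure ⟨Subgroup.zpowers s, conjHom (Subgroup.zpowers s) m⁻¹,
        ⟨s, Subgroup.mem_zpowers s⟩, hconjmem s m hs hsm, ?_⟩
      rw [hgen]
  have hN1 : N.focalSubgroup = (S : Subgroup G) ⊓
      ⁅Subgroup.normalizer ((S : Subgroup G) : Set G), Subgroup.normalizer ((S : Subgroup G) : Set G)⁆ := by
    apply le_antisymm
    · refine (Subgroup.closure_le _).2 ?_
      rintro _ ⟨P, φ, x, hφ, rfl⟩
      have hφ' : φ ∈ F.normalizerHom (S : Subgroup G) P := hφ
      rw [Helper86.mem_normalizerHom_self_iff] at hφ'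
      obtain ⟨hPS, χ, ⟨-, hχS, g, hg⟩, hχ⟩ := hφ'
      have hgN : g ∈ Subgroup.normalizer ((S : Subgroup G) : Set G) := by
        apply Helper85.mem_normalizer_of_conj_mem
        intro y hy
        have h1 := hχS ⟨y, hy⟩
        rw [hg] at h1
        exact h1
      have hx : φ x = g * (x : G) * g⁻¹ := by
        rw [hχ x (hPS x.2), hg]
      refine Subgroup.mem_inf.2 ⟨?_, ?_⟩
      · rw [hx]
        have h1 := hχS ⟨x, hPS x.2⟩
        rw [hg] at h1
        exact (S : Subgroup G).mul_mem ((S : Subgroup G).inv_mem (hPS x.2)) h1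
      · rw [hx]
        have h1 := Helper31.inv_mul_conj_mem_commutator
          (N := Subgroup.normalizer ((S : Subgroup G) : Set G)) (s := (x : G)) (m := g⁻¹)
          (Subgroup.le_normalizer (hPS x.2)) (Subgroup.inv_mem _ hgN)
        rw [inv_inv] at h1
        exact h1
    · have hrel : ¬ p ∣ (S : Subgroup G).relIndex (Subgroup.normalizer ((S : Subgroup G) : Set G)) := by
        intro hdvd
        apply S.not_dvd_index
        rw [← Subgroup.relIndex_mul_index (Subgroup.le_normalizer (H := (S : Subgroup G)))]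
        exact Dvd.dvd.mul_right hdvd _
      have h1 := Helper31.focal_in (p := p) (M := Subgroup.normalizer ((S : Subgroup G) : Set G))
        (S := (S : Subgroup G)) Subgroup.le_normalizer hS hrel
      refine h1.trans ((Subgroup.closure_le _).2 ?_)
      rintro _ ⟨s, hs, m, hm, hsm, rfl⟩
      refine Subgroup.subset_closure ⟨Subgroup.zpowers s, conjHom (Subgroup.zpowers s) m⁻¹,
        ⟨s, Subgroup.mem_zpowers s⟩, ?_, ?_⟩
      · show conjHom (Subgroup.zpowers s) m⁻¹ ∈ F.normalizerHom (S : Subgroup G) (Subgroup.zpowers s)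
        rw [Helper86.mem_normalizerHom_self_iff]
        refine ⟨(Subgroup.zpowers_le).2 hs, conjHom (S : Subgroup G) m⁻¹,
          ⟨le_rfl, fun y => ?_, m⁻¹, fun y => rfl⟩, fun y hy => rfl⟩
        show m⁻¹ * (y : G) * m⁻¹⁻¹ ∈ (S : Subgroup G)
        exact (Subgroup.mem_normalizer_iff.1 (Subgroup.inv_mem _ hm) (y : G)).1 y.2
      · rw [hgen]
  rw [← hF1, ← hN1, hfoc]

end Cfsg.Agent.S2807
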