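import Cfsg.Statements.S0100
import Cfsg.Agent.S0126
import Cfsg.Agent.Helper2.SylowLe
import Cfsg.Agent.Helper2.Frobenius
import Cfsg.Agent.Helper51.Replace
import Mathlib.Tactic.Group

set_option autoImplicit false
open Cfsg

namespace Cfsg.Agent.S0100

open Subgroup
open scoped commutatorElement

/-- A `p`-element normalising a subgroup of order `p` centralises it. -/
theorem mem_centralizer_of_mem_normalizer_of_card_prime {X : Type*} [Group X] {p : ℕ}
    [hp : Fact p.Prime] (Y : Subgroup X) (hY : Nat.card Y = p) (n : X)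
    (hn : n ∈ Subgroup.normalizer (Y : Set X)) (k : ℕ) (hnp : n ^ (p ^ k) = 1) :
    n ∈ Subgroup.centralizer (Y : Set X) := by
  haveI hfin : Finite Y := Nat.finite_of_card_ne_zero (by rw [hY]; exact hp.out.ne_zero)
  haveI : IsCyclic Y := isCyclic_of_prime_card hY
  have ha : (Y.normalizerMonoidHom ⟨n, hn⟩) ^ (p ^ k) = 1 := by
    rw [← map_pow]
    have h0 : (⟨n, hn⟩ : Subgroup.normalizer (Y : Set X)) ^ (p ^ k) = 1 := Subtype.ext hnp
    rw [h0, map_one]
  have h1 : orderOf (Y.normalizerMonoidHom ⟨n, hn⟩) ∣ p ^ k := orderOf_dvd_of_pow_eq_one ha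
  have h2 : orderOf (Y.normalizerMonoidHom ⟨n, hn⟩) ∣ Nat.card (MulAut Y) := orderOf_dvd_natCard _
  rw [IsCyclic.card_mulAut, hY, Nat.totient_prime hp.out] at h2
  have hcop : Nat.Coprime (p ^ k) (p - 1) := by
    apply Nat.Coprime.pow_left
    rcases Nat.eq_zero_or_pos (p - 1) with h0 | h0
    · rw [h0]
      have := hp.out.two_le
      omega
    · exact Nat.coprime_of_lt_prime h0.ne' (Nat.sub_lt hp.out.pos Nat.one_pos) hp.out
  have h3 : orderOf (Y.normalizerMonoidHom ⟨n, hn⟩) = 1 := Nat.eq_one_of_dvd_coprimes hcop h1 h2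
  have h4 : Y.normalizerMonoidHom ⟨n, hn⟩ = 1 := orderOf_eq_one_iff.mp h3
  have h5 : (⟨n, hn⟩ : Subgroup.normalizer (Y : Set X)) ∈ Y.normalizerMonoidHom.ker := h4
  rw [Subgroup.normalizerMonoidHom_ker] at h5
  exact h5

section

variable {P : Type*} [Group P] [Finite P] {p : ℕ} [hp : Fact p.Prime]

/-- If `V ≤ T` are normalised by the `p`-group element `n`, `V` is normal and `|T : V| = p`, then
`n` centralises `T` modulo `V`. -/
theorem comm_mem_of_index_prime (hP : IsPGroup p P) (V T : Subgroup P) [V.Normal] (hVT : V ≤ T)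
    (hcard : Nat.card T = Nat.card V * p) (n : P) (hn : n ∈ Subgroup.normalizer (T : Set P))
    (y : P) (hy : y ∈ T) : n * y * n⁻¹ * y⁻¹ ∈ V := by
  have hY : Nat.card (T.map (QuotientGroup.mk' V)) = p := by
    have h1 := Subgroup.relIndex_map_map (QuotientGroup.mk' V) V T
    rw [QuotientGroup.ker_mk', sup_idem, sup_eq_left.mpr hVT] at h1
    have h2 : V.map (QuotientGroup.mk' V) = ⊥ := by
      rw [Subgroup.map_eq_bot_iff, QuotientGroup.ker_mk']
    rw [h2, Subgroup.relIndex_bot_left] at h1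
    have h3 := Subgroup.relIndex_mul_relIndex ⊥ V T bot_le hVT
    rw [Subgroup.relIndex_bot_left, Subgroup.relIndex_bot_left, hcard] at h3
    rw [h1]
    exact Nat.eq_of_mul_eq_mul_left Nat.card_pos h3
  obtain ⟨k, hk⟩ := hP n
  have hn' : (QuotientGroup.mk' V n) ∈ Subgroup.normalizer ((T.map (QuotientGroup.mk' V) :
      Subgroup (P ⧸ V)) : Set (P ⧸ V)) :=
    Subgroup.le_normalizer_map (QuotientGroup.mk' V) ⟨n, hn, rfl⟩
  have hc := mem_centralizer_of_mem_normalizer_of_card_prime (T.map (QuotientGroup.mk' V)) hY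
    (QuotientGroup.mk' V n) hn' k (by rw [← map_pow, hk, map_one])
  rw [Subgroup.mem_centralizer_iff] at hc
  have h4 := hc (QuotientGroup.mk' V y) ⟨y, hy, rfl⟩
  have h5 : QuotientGroup.mk' V (n * y * n⁻¹ * y⁻¹) = 1 := by
    rw [map_mul, map_mul, map_mul, map_inv, map_inv, ← h4]
    group
  exact (QuotientGroup.eq_one_iff _).mp h5

/-- Adjoining to an elementary abelian normal subgroup of order `p ^ 2` an element of order
`p` centralising it gives an elementary abelian subgroup of order `p ^ 3`. -/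
theorem elemAb_sup_zpowers (V : Subgroup P) [V.Normal] (hV : Cfsg.IsElementaryAbelian p V)
    (hVc : Nat.card V = p ^ 2) (t : P) (htV : t ∉ V) (htp : t ^ p = 1)
    (htc : ∀ v ∈ V, t * v = v * t) :
    Cfsg.IsElementaryAbelian p (V ⊔ Subgroup.zpowers t) ∧
      Nat.card (V ⊔ Subgroup.zpowers t : Subgroup P) = p ^ 3 := by
  have hpp := hp.out
  have hcl : V ⊔ Subgroup.zpowers t = Subgroup.closure ((V : Set P) ∪ {t}) := by
    rw [Subgroup.closure_union, Subgroup.closure_eq, Subgroup.zpowers_eq_closure]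
  have hVcomm : ∀ a ∈ V, ∀ b ∈ V, a * b = b * a := by
    intro a ha b hb
    haveI := hV.1
    exact congrArg Subtype.val (mul_comm' (⟨a, ha⟩ : V) ⟨b, hb⟩)
  have hcomm : ∀ x ∈ ((V : Set P) ∪ {t}), ∀ y ∈ ((V : Set P) ∪ {t}), x * y = y * x := by
    rintro x (hx | hx) y (hy | hy)
    · exact hVcomm x hx y hy
    · rw [Set.mem_singleton_iff] at hy
      rw [hy]; exact (htc x hx).symm
    · rw [Set.mem_singleton_iff] at hx
      rw [hx]; exact htc y hy
    · rw [Set.mem_singleton_iff] at hx hy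
      rw [hx, hy]
  haveI hC : IsMulCommutative (Subgroup.closure ((V : Set P) ∪ {t})) :=
    Subgroup.isMulCommutative_closure hcomm
  refine ⟨⟨by rw [hcl]; exact hC, ?_⟩, ?_⟩
  · intro a ha
    rw [hcl] at ha
    induction ha using Subgroup.closure_induction with
    | mem x hx =>
      rcases hx with hx | hx
      · exact hV.2 x hx
      · rw [Set.mem_singleton_iff] at hx
        rw [hx]; exact htp
    | one => exact one_pow p
    | mul x y hx hy ihx ihy =>
      have hxy : Commute x y :=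
        congrArg Subtype.val (mul_comm' (⟨x, hx⟩ : Subgroup.closure ((V : Set P) ∪ {t})) ⟨y, hy⟩)
      rw [hxy.mul_pow, ihx, ihy, one_mul]
    | inv x hx ihx => rw [inv_pow, ihx, inv_one]
  · have ht1 : t ≠ 1 := fun h => htV (h ▸ V.one_mem)
    have hto : orderOf t = p := orderOf_eq_prime htp ht1
    have hle : Subgroup.zpowers t ≤ Subgroup.normalizer (V : Set P) := by
      rw [Subgroup.normalizer_eq_top]; exact le_top
    have h1 := Cfsg.Agent.Helper51.card_sup_mul_card_inf_of_le_normalizer (Subgroup.zpowers t) V hle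
    have hinf : Subgroup.zpowers t ⊓ V = ⊥ := by
      have h2 : Nat.card (Subgroup.zpowers t ⊓ V : Subgroup P) ∣ p := by
        have := Subgroup.card_dvd_of_le (inf_le_left : Subgroup.zpowers t ⊓ V ≤ Subgroup.zpowers t)
        rwa [Nat.card_zpowers, hto] at this
      rcases (Nat.dvd_prime hpp).mp h2 with h3 | h3
      · exact Subgroup.card_eq_one.mp h3
      · exfalso
        apply htV
        have h4 : Subgroup.zpowers t ⊓ V = Subgroup.zpowers t :=
          Subgroup.eq_of_le_of_card_ge inf_le_left (by rw [h3, Nat.card_zpowers, hto])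
        have h5 : t ∈ Subgroup.zpowers t ⊓ V := by
          rw [h4]; exact Subgroup.mem_zpowers t
        exact h5.2
    rw [hinf, Subgroup.card_bot, mul_one, Nat.card_zpowers, hto, hVc] at h1
    rw [sup_comm, h1]
    ring

/-- Step 0: an elementary abelian subgroup of order more than `p ^ 2` gives one of order
`p ^ 3` containing a given normal elementary abelian subgroup of order `p ^ 2`. -/
theorem exists_elemAb_cube_ge (hP : IsPGroup p P) (V : Subgroup P) [V.Normal]
    (hV : Cfsg.IsElementaryAbelian p V) (hVc : Nat.card V = p ^ 2) (E : Subgroup P)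
    (hE : IsMulCommutative E) (hEe : ∀ e ∈ E, e ^ p = 1) (hEc : p ^ 2 < Nat.card E) :
    ∃ T₀ : Subgroup P, Cfsg.IsElementaryAbelian p T₀ ∧ Nat.card T₀ = p ^ 3 ∧ V ≤ T₀ := by
  have hpp := hp.out
  suffices hx : ∃ x : P, x ∉ V ∧ x ^ p = 1 ∧ ∀ v ∈ V, x * v = v * x by
    obtain ⟨x, hxV, hxp, hxc⟩ := hx
    obtain ⟨h1, h2⟩ := elemAb_sup_zpowers V hV hVc x hxV hxp hxc
    exact ⟨_, h1, h2, le_sup_left⟩
  by_cases hVE : V ≤ E
  · have hex : ∃ x ∈ E, x ∉ V := by
      by_contra hcon
      push Not at hcon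
      have h1 : Nat.card E ≤ Nat.card V := Subgroup.card_le_of_le hcon
      omega
    obtain ⟨x, hxE, hxV⟩ := hex
    refine ⟨x, hxV, hEe x hxE, fun v hv => ?_⟩
    exact congrArg Subtype.val (mul_comm' (⟨x, hxE⟩ : E) ⟨v, hVE hv⟩)
  · have hVbot : V ≠ ⊥ := by
      intro h
      rw [h, Subgroup.card_bot] at hVc
      have := hpp.two_le
      nlinarith
    obtain ⟨z, hzV, hzc, hzo⟩ := Cfsg.Agent.S0126.exists_central_order_p hP V hVbot
    have hzcomm : ∀ g : P, g * z = z * g := fun g => Subgroup.mem_center_iff.mp hzc g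
    haveI hZn : (Subgroup.zpowers z).Normal := by
      refine ⟨fun a ha g => ?_⟩
      have h1 : g * a * g⁻¹ = a := by
        have h2 : g * a = a * g := by
          obtain ⟨i, rfl⟩ := Subgroup.mem_zpowers_iff.mp ha
          exact ((Commute.zpow_right (show Commute g z from hzcomm g) i)).eq
        rw [h2, mul_inv_cancel_right]
      rw [h1]; exact ha
    have hZc : Nat.card (Subgroup.zpowers z) = p := by rw [Nat.card_zpowers, hzo]
    have hZV : Subgroup.zpowers z ≤ V := (Subgroup.zpowers_le).mpr hzV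
    have hexv : ∃ v ∈ V, v ∉ Subgroup.zpowers z := by
      by_contra hcon
      push Not at hcon
      have h1 : Nat.card V ≤ Nat.card (Subgroup.zpowers z) := Subgroup.card_le_of_le hcon
      rw [hVc, hZc] at h1
      have := hpp.two_le
      nlinarith
    obtain ⟨v, hvV, hvZ⟩ := hexv
    have hB : ∀ e : P, e * v * e⁻¹ * v⁻¹ ∈ Subgroup.zpowers z := by
      intro e
      apply comm_mem_of_index_prime hP (Subgroup.zpowers z) V hZV (by rw [hVc, hZc]; ring) e
        (by rw [Subgroup.normalizer_eq_top]; exact Subgroup.mem_top e) v hvV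
    have hBc : ∀ e g : P, g * (e * v * e⁻¹ * v⁻¹) = (e * v * e⁻¹ * v⁻¹) * g := by
      intro e g
      obtain ⟨i, hi⟩ := Subgroup.mem_zpowers_iff.mp (hB e)
      rw [← hi]
      exact ((Commute.zpow_right (show Commute g z from hzcomm g) i)).eq
    let ψ : E →* P := MonoidHom.mk' (fun e => (e : P) * v * (e : P)⁻¹ * v⁻¹) (by
      intro a b
      show ((a : P) * (b : P)) * v * ((a : P) * (b : P))⁻¹ * v⁻¹ =
        ((a : P) * v * (a : P)⁻¹ * v⁻¹) * ((b : P) * v * (b : P)⁻¹ * v⁻¹)
      have h1 := hBc (b : P) ((a : P) * v * (a : P)⁻¹ * v⁻¹)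
      rw [h1]
      have h2 := hBc (b : P) (a : P)
      calc (a : P) * (b : P) * v * ((a : P) * (b : P))⁻¹ * v⁻¹
          = ((a : P) * ((b : P) * v * (b : P)⁻¹ * v⁻¹)) * v * (a : P)⁻¹ * v⁻¹ := by group
        _ = (((b : P) * v * (b : P)⁻¹ * v⁻¹) * (a : P)) * v * (a : P)⁻¹ * v⁻¹ := by rw [h2]
        _ = (b : P) * v * (b : P)⁻¹ * v⁻¹ * ((a : P) * v * (a : P)⁻¹ * v⁻¹) := by group)
    have hψ : ∀ e : E, ψ e = (e : P) * v * (e : P)⁻¹ * v⁻¹ := fun e => rfl
    have hrange : ψ.range ≤ Subgroup.zpowers z := by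
      rintro _ ⟨e, rfl⟩
      exact hB e
    have h1 : Nat.card ψ.range ≤ p := by
      have := Subgroup.card_le_of_le hrange
      rwa [hZc] at this
    have h2 : Nat.card ψ.ker * Nat.card ψ.range = Nat.card E := by
      rw [← Subgroup.index_ker, Subgroup.card_mul_index]
    have h3 : p < Nat.card ψ.ker := by
      by_contra hcon
      push Not at hcon
      have : Nat.card ψ.ker * Nat.card ψ.range ≤ p * p := Nat.mul_le_mul hcon h1
      rw [h2] at this
      nlinarith
    have hkerp : IsPGroup p ψ.ker := (hP.to_subgroup E).to_subgroup ψ.ker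
    obtain ⟨j, hj⟩ := IsPGroup.iff_card.mp hkerp
    have hj2 : 2 ≤ j := by
      by_contra hcon
      push Not at hcon
      have : p ^ j ≤ p ^ 1 := Nat.pow_le_pow_right hpp.pos (by omega)
      rw [pow_one] at this
      omega
    have h4 : p ^ 2 ≤ Nat.card ψ.ker := by
      rw [hj]; exact Nat.pow_le_pow_right hpp.pos hj2
    have hK : Nat.card (ψ.ker.map E.subtype) = Nat.card ψ.ker :=
      Subgroup.card_map_of_injective E.subtype_injective
    have hex : ∃ x ∈ ψ.ker.map E.subtype, x ∉ V := by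
      by_contra hcon
      push Not at hcon
      have h5 : ψ.ker.map E.subtype = V :=
        Subgroup.eq_of_le_of_card_ge hcon (by rw [hK, hVc]; exact h4)
      apply hVE
      rw [← h5]
      exact Subgroup.map_subtype_le _
    obtain ⟨x, ⟨e, he, rfl⟩, hxV⟩ := hex
    refine ⟨(e : P), hxV, hEe _ e.2, ?_⟩
    have hev : (e : P) * v = v * (e : P) := by
      have h5 : ψ e = 1 := he
      rw [hψ] at h5
      calc (e : P) * v = ((e : P) * v * (e : P)⁻¹ * v⁻¹) * v * (e : P) := by group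
        _ = v * (e : P) := by rw [h5, one_mul]
    have hsup : Subgroup.zpowers z ⊔ Subgroup.zpowers v = V := by
      have hle : Subgroup.zpowers z ⊔ Subgroup.zpowers v ≤ V :=
        sup_le hZV ((Subgroup.zpowers_le).mpr hvV)
      apply Subgroup.eq_of_le_of_card_ge hle
      have hpg : IsPGroup p (Subgroup.zpowers z ⊔ Subgroup.zpowers v : Subgroup P) :=
        hP.to_subgroup _
      obtain ⟨i, hi⟩ := IsPGroup.iff_card.mp hpg
      have hlt : Nat.card (Subgroup.zpowers z) <
          Nat.card (Subgroup.zpowers z ⊔ Subgroup.zpowers v : Subgroup P) :=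
        Cfsg.Agent.Helper2.card_lt_card_of_le_of_mem_of_notMem le_sup_left v
          (Subgroup.mem_sup_right (Subgroup.mem_zpowers v)) hvZ
      rw [hZc, hi] at hlt
      have hi2 : 2 ≤ i := by
        by_contra hcon
        push Not at hcon
        have : p ^ i ≤ p ^ 1 := Nat.pow_le_pow_right hpp.pos (by omega)
        rw [pow_one] at this
        omega
      rw [hVc, hi]
      exact Nat.pow_le_pow_right hpp.pos hi2
    intro w hw
    rw [← hsup] at hw
    have hcen : Subgroup.zpowers z ⊔ Subgroup.zpowers v ≤ Subgroup.centralizer {(e : P)} := by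
      apply sup_le
      · rw [Subgroup.zpowers_le, Subgroup.mem_centralizer_singleton_iff]
        exact (hzcomm _).symm
      · rw [Subgroup.zpowers_le, Subgroup.mem_centralizer_singleton_iff]
        exact hev.symm
    exact (Subgroup.mem_centralizer_singleton_iff.mp (hcen hw)).symm

end


section

variable {P : Type*} [Group P] [Finite P] {p : ℕ} [hp : Fact p.Prime]

/-- The conditions propagated along the commutator sequence. -/
def Good (p : ℕ) (V N : Subgroup P) (x : P) : Prop :=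
  x ∈ N ∧ (∀ v ∈ V, x * v = v * x) ∧ (∀ n ∈ N, n * x * n⁻¹ * x⁻¹ ∈ V) ∧ x ^ p = 1

omit [Finite P] hp in
theorem Good.conj {V N : Subgroup P} [hVn : V.Normal] {x g : P} (hx : Good p V N x)
    (hg : g ∈ Subgroup.normalizer (N : Set P)) : Good p V N (g * x * g⁻¹) := by
  obtain ⟨h1, h2, h3, h4⟩ := hx
  refine ⟨(Subgroup.mem_set_normalizer_iff.mp hg x).mp h1, ?_, ?_, ?_⟩
  · intro v hv
    have hv' : g⁻¹ * v * g ∈ V := by
      have := hVn.conj_mem v hv g⁻¹
      rwa [inv_inv] at this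
    have := h2 _ hv'
    calc g * x * g⁻¹ * v = g * (x * (g⁻¹ * v * g)) * g⁻¹ := by group
      _ = g * ((g⁻¹ * v * g) * x) * g⁻¹ := by rw [this]
      _ = v * (g * x * g⁻¹) := by group
  · intro n hn
    have hn' : g⁻¹ * n * g ∈ N := by
      have hg' : g⁻¹ ∈ Subgroup.normalizer (N : Set P) := inv_mem hg
      have := (Subgroup.mem_set_normalizer_iff.mp hg' n).mp hn
      rwa [inv_inv] at this
    have := h3 _ hn'
    have h5 := hVn.conj_mem _ this g
    have e : g * ((g⁻¹ * n * g) * x * (g⁻¹ * n * g)⁻¹ * x⁻¹) * g⁻¹ =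
        n * (g * x * g⁻¹) * n⁻¹ * (g * x * g⁻¹)⁻¹ := by group
    rw [e] at h5
    exact h5
  · rw [conj_pow, h4, mul_one, mul_inv_cancel]

omit [Finite P] hp in
theorem Good.inv {V N : Subgroup P} [hVn : V.Normal] {x : P} (hx : Good p V N x) :
    Good p V N x⁻¹ := by
  obtain ⟨h1, h2, h3, h4⟩ := hx
  refine ⟨N.inv_mem h1, ?_, ?_, by rw [inv_pow, h4, inv_one]⟩
  · intro v hv
    have := h2 v hv
    calc x⁻¹ * v = x⁻¹ * (v * x) * x⁻¹ := by group
      _ = x⁻¹ * (x * v) * x⁻¹ := by rw [this]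
      _ = v * x⁻¹ := by group
  · intro n hn
    have := h3 n hn
    have h5 := hVn.conj_mem _ (V.inv_mem this) x⁻¹
    have e : x⁻¹ * (n * x * n⁻¹ * x⁻¹)⁻¹ * x⁻¹⁻¹ = n * x⁻¹ * n⁻¹ * x⁻¹⁻¹ := by group
    rw [e] at h5
    exact h5

omit [Finite P] in
theorem Good.mul (hp2 : p ≠ 2) {V N : Subgroup P} [hVn : V.Normal] (hVe : ∀ v ∈ V, v ^ p = 1)
    {a b : P} (ha : Good p V N a) (hb : Good p V N b) : Good p V N (a * b) := by
  obtain ⟨a1, a2, a3, a4⟩ := ha
  obtain ⟨b1, b2, b3, b4⟩ := hb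
  refine ⟨N.mul_mem a1 b1, ?_, ?_, ?_⟩
  · intro v hv
    rw [mul_assoc, b2 v hv, ← mul_assoc, a2 v hv, mul_assoc]
  · intro n hn
    have h1 := a3 n hn
    have h2 := hVn.conj_mem _ (b3 n hn) a
    have e : (n * a * n⁻¹ * a⁻¹) * (a * (n * b * n⁻¹ * b⁻¹) * a⁻¹) =
        n * (a * b) * n⁻¹ * (a * b)⁻¹ := by group
    rw [← e]
    exact V.mul_mem h1 h2
  · have hc : b * a * b⁻¹ * a⁻¹ ∈ V := a3 b b1
    have hca : (b * a * b⁻¹ * a⁻¹) * a = a * (b * a * b⁻¹ * a⁻¹) := (a2 _ hc).symm
    have hcb : (b * a * b⁻¹ * a⁻¹) * b = b * (b * a * b⁻¹ * a⁻¹) := (b2 _ hc).symm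
    have hyx : b * a = (b * a * b⁻¹ * a⁻¹) * a * b := by group
    have h := Cfsg.Agent.S0126.mul_pow_class_two a b (b * a * b⁻¹ * a⁻¹) hca hcb hyx p
    obtain ⟨m, hm⟩ := Cfsg.Agent.S0126.p_dvd_sum_range (p := p) hp2
    rw [h, a4, b4, hm, pow_mul, hVe _ hc, one_pow, one_mul, one_mul]

/-- **Key lemma.** For odd `p`, if a `p`-group has an elementary abelian subgroup of order
`p ^ 3` containing the normal elementary abelian subgroup `V` of order `p ^ 2`, then it has a
normal such subgroup. -/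
theorem exists_normal_elemAb_cube (hp2 : p ≠ 2) (hP : IsPGroup p P) (V : Subgroup P)
    [hVn : V.Normal] (hV : Cfsg.IsElementaryAbelian p V) (hVc : Nat.card V = p ^ 2)
    (T₀ : Subgroup P) (hT₀ : Cfsg.IsElementaryAbelian p T₀) (hT₀c : Nat.card T₀ = p ^ 3)
    (hVT₀ : V ≤ T₀) :
    ∃ T : Subgroup P, T.Normal ∧ Cfsg.IsElementaryAbelian p T ∧ Nat.card T = p ^ 3 ∧ V ≤ T := by
  have hpp := hp.out
  obtain ⟨T, ⟨hVT, hT, hTc⟩, hmax⟩ := Set.exists_max_image
    {T : Subgroup P | V ≤ T ∧ Cfsg.IsElementaryAbelian p T ∧ Nat.card T = p ^ 3}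
    (fun T => Nat.card (Subgroup.normalizer (T : Set P))) (Set.toFinite _)
    ⟨T₀, hVT₀, hT₀, hT₀c⟩
  refine ⟨T, ?_, hT, hTc, hVT⟩
  by_contra hTn
  have hN : Subgroup.normalizer (T : Set P) ≠ ⊤ :=
    fun h => hTn (Subgroup.normalizer_eq_top_iff.mp h)
  obtain ⟨g, -, hgN, hgT⟩ := Cfsg.Agent.Helper2.exists_mem_normalizer_notMem_of_lt
    (⊤ : Subgroup P) (Subgroup.normalizer (T : Set P)) (hP.to_subgroup ⊤)
    (lt_top_iff_ne_top.mpr hN)
  have hexy : ∃ y ∈ T, y ∉ V := by
    by_contra hcon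
    push Not at hcon
    have h1 : Nat.card T ≤ Nat.card V := Subgroup.card_le_of_le hcon
    rw [hTc, hVc] at h1
    have h2 : p ^ 2 < p ^ 3 := Nat.pow_lt_pow_right hpp.one_lt (by norm_num)
    omega
  obtain ⟨y, hyT, hyV⟩ := hexy
  have hTcomm : ∀ a ∈ T, ∀ b ∈ T, a * b = b * a := by
    intro a ha b hb
    haveI := hT.1
    exact congrArg Subtype.val (mul_comm' (⟨a, ha⟩ : T) ⟨b, hb⟩)
  have hy0 : Good p V (Subgroup.normalizer (T : Set P)) y := by
    refine ⟨Subgroup.le_normalizer hyT, fun v hv => hTcomm y hyT v (hVT hv), ?_, hT.2 y hyT⟩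
    intro n hn
    exact comm_mem_of_index_prime hP V T hVT (by rw [hTc, hVc]; ring) n hn y hyT
  let yseq : ℕ → P := fun k => Nat.rec y (fun _ x => g * x * g⁻¹ * x⁻¹) k
  have hseqS : ∀ k, yseq (k + 1) = g * yseq k * g⁻¹ * (yseq k)⁻¹ := fun k => rfl
  have hgood : ∀ k, Good p V (Subgroup.normalizer (T : Set P)) (yseq k) := by
    intro k
    induction k with
    | zero => exact hy0
    | succ k ih =>
      rw [hseqS]
      exact Good.mul hp2 hV.2 (ih.conj hgN) ih.inv
  have hlcs : ∀ k, yseq k ∈ (⊤ : Subgroup P).lowerCentralSeries k := by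
    intro k
    induction k with
    | zero => exact Subgroup.mem_top _
    | succ k ih =>
      rw [hseqS, Subgroup.lowerCentralSeries_succ]
      have h1 : ⁅yseq k, g⁆ ∈ ⁅(⊤ : Subgroup P).lowerCentralSeries k, (⊤ : Subgroup P)⁆ :=
        Subgroup.commutator_mem_commutator ih (Subgroup.mem_top g)
      have h2 := Subgroup.inv_mem _ h1
      have e : ⁅yseq k, g⁆⁻¹ = g * yseq k * g⁻¹ * (yseq k)⁻¹ := by
        rw [commutatorElement_def]; group
      rw [e] at h2
      exact h2
  haveI hnil : Group.IsNilpotent P := hP.isNilpotent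
  obtain ⟨n, hn⟩ := Subgroup.nilpotent_iff_lowerCentralSeries.mp hnil
  have hyn : yseq n ∈ V := by
    have := hlcs n
    rw [hn, Subgroup.mem_bot] at this
    rw [this]
    exact V.one_mem
  have hexk : ∃ k, yseq k ∉ V ∧ yseq (k + 1) ∈ V := by
    by_contra hcon
    push Not at hcon
    have hall : ∀ k, yseq k ∉ V := by
      intro k
      induction k with
      | zero => exact hyV
      | succ k ih => exact hcon k ih
    exact hall n hyn
  obtain ⟨k, hkV, hkV'⟩ := hexk
  obtain ⟨t1, t2, t3, t4⟩ := hgood k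
  rw [hseqS] at hkV'
  obtain ⟨hT2, hT2c⟩ := elemAb_sup_zpowers V hV hVc (yseq k) hkV t4 t2
  have hnorm : ∀ x : P, x * yseq k * x⁻¹ * (yseq k)⁻¹ ∈ V →
      x ∈ Subgroup.normalizer ((V ⊔ Subgroup.zpowers (yseq k) : Subgroup P) : Set P) := by
    intro x hx
    rw [Cfsg.Agent.Helper2.mem_normalizer_iff_map_conj_toMonoidHom_eq]
    apply Subgroup.eq_of_le_of_card_ge
    · rw [Subgroup.map_sup]
      apply sup_le
      · rintro _ ⟨v, hv, rfl⟩
        exact Subgroup.mem_sup_left (hVn.conj_mem v hv x)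
      · rw [MonoidHom.map_zpowers, Subgroup.zpowers_le]
        have e : (MulAut.conj x).toMonoidHom (yseq k) =
            (x * yseq k * x⁻¹ * (yseq k)⁻¹) * yseq k := by
          simp [MulAut.conj_apply]
        rw [e]
        exact Subgroup.mul_mem _ (Subgroup.mem_sup_left hx)
          (Subgroup.mem_sup_right (Subgroup.mem_zpowers _))
    · exact le_of_eq (Subgroup.card_map_of_injective (MulAut.conj x).injective).symm
  have hNle : Subgroup.normalizer (T : Set P) ≤
      Subgroup.normalizer ((V ⊔ Subgroup.zpowers (yseq k) : Subgroup P) : Set P) :=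
    fun n hn => hnorm n (t3 n hn)
  have hg2 : g ∈ Subgroup.normalizer ((V ⊔ Subgroup.zpowers (yseq k) : Subgroup P) : Set P) :=
    hnorm g hkV'
  have hlt := Cfsg.Agent.Helper2.card_lt_card_of_le_of_mem_of_notMem hNle g hg2 hgT
  have hle := hmax (V ⊔ Subgroup.zpowers (yseq k)) ⟨le_sup_left, hT2, hT2c⟩
  exact absurd hlt (not_lt.mpr hle)

end

/-- For odd p, a p-group without normal elementary abelian subgroups of order p^3 has p-rank at most 2. -/
theorem result {P : Type*} [Group P] [Finite P] {p : ℕ} [Fact p.Prime] (hp : p ≠ 2) (hP : IsPGroup p P) (h : ∀ A : Subgroup P, A.Normal → IsMulCommutative A → (∀ a ∈ A, a ^ p = 1) → Nat.card A ≠ p ^ 3) (E : Subgroup P) (hE : IsMulCommutative E) (hEe : ∀ e ∈ E, e ^ p = 1) : Nat.card E ≤ p ^ 2 := by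
  by_contra hcon
  push Not at hcon
  have hpp : p.Prime := Fact.out
  have hnc : ¬ IsCyclic P := by
    intro hc
    haveI : IsCyclic E := inferInstance
    obtain ⟨e, he⟩ := IsCyclic.exists_generator (α := E)
    have h1 : orderOf e = Nat.card E := orderOf_eq_card_of_forall_mem_zpowers he
    have h2 : e ^ p = 1 := Subtype.ext (by simpa using hEe e e.2)
    have h3 : orderOf e ≤ p := Nat.le_of_dvd hpp.pos (orderOf_dvd_of_pow_eq_one h2)
    have := hpp.two_le
    nlinarith
  obtain ⟨V, hVn, hV, hVc⟩ := Cfsg.Agent.S0126.result hp hP hnc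
  haveI := hVn
  obtain ⟨T₀, hT₀, hT₀c, hVT₀⟩ := exists_elemAb_cube_ge hP V hV hVc E hE hEe hcon
  obtain ⟨T, hTn, hT, hTc, -⟩ := exists_normal_elemAb_cube hp hP V hV hVc T₀ hT₀ hT₀c hVT₀
  exact h T hTn hT.1 hT.2 hTc

end Cfsg.Agent.S0100
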