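import Cfsg.Statements.S0065
-- import your own Cfsg.Agent.* helpers here

set_option autoImplicit false
open Cfsg
open scoped commutatorElement

namespace Cfsg.Agent.S0065

/-- A nontrivial normal subgroup of a nilpotent group intersects the centre nontrivially. -/
theorem result {G : Type*} [Group G] [Finite G] [Group.IsNilpotent G]
    (N : Subgroup G) [N.Normal] (hN : N ≠ ⊥) : N ⊓ Subgroup.center G ≠ ⊥ := by
  classical
  obtain ⟨n, hn⟩ := Group.IsNilpotent.nilpotent G
  have hex : ∃ i, N ⊓ Subgroup.upperCentralSeries G i ≠ ⊥ := ⟨n, by rw [hn, inf_top_eq]; exact hN⟩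
  have hi := Nat.find_spec hex
  have hmin := fun j => Nat.find_min hex (m := j)
  set i := Nat.find hex with hi_def
  have hi0 : i ≠ 0 := by
    intro h0
    rw [h0, Subgroup.upperCentralSeries_zero, inf_bot_eq] at hi
    exact hi rfl
  obtain ⟨j, hj⟩ := Nat.exists_eq_succ_of_ne_zero hi0
  have hjbot : N ⊓ Subgroup.upperCentralSeries G j = ⊥ := by
    by_contra hcon
    exact hmin j (by omega) hcon
  obtain ⟨x, hx, hx1⟩ : ∃ x : G, x ∈ N ⊓ Subgroup.upperCentralSeries G i ∧ x ≠ 1 := by
    by_contra hcon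
    apply hi
    rw [eq_bot_iff]
    intro x hx
    rw [Subgroup.mem_bot]
    by_contra hx1
    exact hcon ⟨x, hx, hx1⟩
  intro hbot
  apply hx1
  have hxc : x ∈ N ⊓ Subgroup.center G := by
    refine Subgroup.mem_inf.mpr ⟨hx.1, ?_⟩
    rw [Subgroup.mem_center_iff]
    intro y
    have hxi : x ∈ Subgroup.upperCentralSeries G (j + 1) := by
      rw [← Nat.succ_eq_add_one, ← hj]; exact hx.2
    rw [Subgroup.mem_upperCentralSeries_succ_iff] at hxi
    have h1 : ⁅x, y⁆ ∈ N ⊓ Subgroup.upperCentralSeries G j := by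
      refine Subgroup.mem_inf.mpr ⟨?_, hxi y⟩
      have : y * x⁻¹ * y⁻¹ ∈ N := ‹N.Normal›.conj_mem _ (N.inv_mem hx.1) y
      have h2 := N.mul_mem hx.1 this
      rw [commutatorElement_def]
      simpa [mul_assoc] using h2
    rw [hjbot, Subgroup.mem_bot, commutatorElement_eq_one_iff_mul_comm] at h1
    exact h1.symm
  rw [hbot, Subgroup.mem_bot] at hxc
  exact hxc

end Cfsg.Agent.S0065
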