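import Mathlib
import Cfsg.Statements.S0125

set_option autoImplicit false
open Cfsg

namespace Cfsg.Agent.S0125

/-- If `K ⊴ G` (finite) then for any subgroup `H`, `|K : H ∩ K|` divides `|G : H|`. -/
theorem relIndex_dvd_index_of_normal_right {G : Type*} [Group G] [Finite G] (H K : Subgroup G)
    [K.Normal] : H.relIndex K ∣ H.index := by
  obtain ⟨k, hk⟩ := Subgroup.relIndex_dvd_index_of_normal K H
  have h1 := Subgroup.relIndex_mul_index (inf_le_left : H ⊓ K ≤ H)
  have h2 := Subgroup.relIndex_mul_index (inf_le_right : H ⊓ K ≤ K)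
  rw [Subgroup.inf_relIndex_left] at h1
  rw [Subgroup.inf_relIndex_right] at h2
  have h3 : K.relIndex H ≠ 0 := by
    change (K.subgroupOf H).index ≠ 0
    exact Subgroup.index_ne_zero_of_finite
  refine ⟨k, ?_⟩
  have : K.relIndex H * H.index = K.relIndex H * (H.relIndex K * k) := by
    rw [h1, ← h2, hk]; ring
  exact Nat.eq_of_mul_eq_mul_left (Nat.pos_of_ne_zero h3) this

/-- The centralizer of a self-centralizing normal subgroup A of a Sylow p-subgroup is the direct product of A with a normal p'-subgroup. -/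
theorem result {G : Type*} [Group G] [Finite G] {p : ℕ} [Fact p.Prime] (R : Sylow p G) (A : Subgroup G) (hAR : A ≤ (R : Subgroup G)) (hAn : (R : Subgroup G) ≤ Subgroup.normalizer (A : Set G)) (hC : (R : Subgroup G) ⊓ Subgroup.centralizer (A : Set G) = A) : ∃ H : Subgroup G, H ≤ Subgroup.centralizer (A : Set G) ∧ Nat.Coprime (Nat.card H) p ∧ Subgroup.centralizer (A : Set G) ≤ Subgroup.normalizer (H : Set G) ∧ H ⊓ A = ⊥ ∧ H ⊔ A = Subgroup.centralizer (A : Set G) := by
  have hpp : p.Prime := Fact.out
  have hCN : Subgroup.centralizer (A : Set G) ≤ Subgroup.normalizer (A : Set G) :=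
    Subgroup.centralizer_le_normalizer _
  have hAC : A ≤ Subgroup.centralizer (A : Set G) := by
    intro a ha
    rw [← hC] at ha
    exact ha.2
  -- index claim
  have hidx : ¬ p ∣ (A.subgroupOf (Subgroup.centralizer (A : Set G))).index := by
    have h1 : (A.subgroupOf (Subgroup.centralizer (A : Set G))).index
        = (R : Subgroup G).relIndex (Subgroup.centralizer (A : Set G)) := by
      change A.relIndex _ = _
      rw [show A.relIndex (Subgroup.centralizer (A : Set G))
        = ((R : Subgroup G) ⊓ Subgroup.centralizer (A : Set G)).relIndex (Subgroup.centralizer (A : Set G)) from by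
          rw [hC]]
      rw [Subgroup.inf_relIndex_right]
    rw [h1, ← Subgroup.relIndex_subgroupOf hCN]
    have h2 := relIndex_dvd_index_of_normal_right
      ((R : Subgroup G).subgroupOf (Subgroup.normalizer (A : Set G)))
      ((Subgroup.centralizer (A : Set G)).subgroupOf (Subgroup.normalizer (A : Set G)))
    intro h3
    exact (R.subtype hAn).not_dvd_index (dvd_trans h3 h2)
  have hAp : IsPGroup p (A.subgroupOf (Subgroup.centralizer (A : Set G))) :=
    (R.isPGroup'.to_le hAR).comap_subtype
  obtain ⟨P, hP⟩ : ∃ P : Sylow p (Subgroup.centralizer (A : Set G)),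
      (P : Subgroup (Subgroup.centralizer (A : Set G))) = A.subgroupOf (Subgroup.centralizer (A : Set G)) :=
    ⟨hAp.toSylow hidx, rfl⟩
  have hPc : Subgroup.normalizer (P : Set (Subgroup.centralizer (A : Set G)))
      ≤ Subgroup.centralizer (P : Set (Subgroup.centralizer (A : Set G))) := by
    intro x _
    rw [Subgroup.mem_centralizer_iff]
    intro y hy
    have hy' : y ∈ (P : Subgroup (Subgroup.centralizer (A : Set G))) := hy
    rw [hP, Subgroup.mem_subgroupOf] at hy'
    apply Subtype.ext
    simp only [Subgroup.coe_mul]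
    exact (Subgroup.mem_centralizer_iff.mp x.2) y.1 hy'
  have hcompl := MonoidHom.ker_transferSylow_isComplement' P hPc
  have hnd := MonoidHom.not_dvd_card_ker_transferSylow P hPc
  obtain ⟨K, hK⟩ : ∃ K : Subgroup (Subgroup.centralizer (A : Set G)),
      K = (MonoidHom.transferSylow P hPc).ker := ⟨_, rfl⟩
  have hKn : K.Normal := by rw [hK]; infer_instance
  rw [← hK] at hcompl hnd
  refine ⟨K.map (Subgroup.centralizer (A : Set G)).subtype, ?_, ?_, ?_, ?_, ?_⟩
  · exact Subgroup.map_subtype_le K
  · rw [Subgroup.card_map_of_injective (Subgroup.subtype_injective _)]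
    exact ((Nat.Prime.coprime_iff_not_dvd hpp).mpr hnd).symm
  · intro c hc
    rw [Subgroup.mem_normalizer_iff]
    intro h
    constructor
    · rintro ⟨k, hk, rfl⟩
      exact ⟨⟨c, hc⟩ * k * ⟨c, hc⟩⁻¹, hKn.conj_mem k hk ⟨c, hc⟩, rfl⟩
    · rintro ⟨k, hk, hkeq⟩
      refine ⟨⟨c, hc⟩⁻¹ * k * ⟨c, hc⟩, ?_, ?_⟩
      · have := hKn.conj_mem k hk ⟨c, hc⟩⁻¹
        simpa using this
      · simp only [Subgroup.coe_subtype, Subgroup.coe_mul, Subgroup.coe_inv] at hkeq ⊢
        rw [hkeq]; group
  · rw [eq_bot_iff]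
    rintro x ⟨⟨k, hk, rfl⟩, hxA⟩
    have hkP : k ∈ (P : Subgroup (Subgroup.centralizer (A : Set G))) := by
      rw [hP, Subgroup.mem_subgroupOf]; exact hxA
    have : k ∈ K ⊓ (P : Subgroup (Subgroup.centralizer (A : Set G))) := ⟨hk, hkP⟩
    rw [hcompl.disjoint.eq_bot, Subgroup.mem_bot] at this
    rw [this]; simp
  · have h1 := congrArg (Subgroup.map (Subgroup.centralizer (A : Set G)).subtype) hcompl.sup_eq_top
    rw [Subgroup.map_sup, hP, Subgroup.map_subgroupOf_eq_of_le hAC, ← MonoidHom.range_eq_map,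
      Subgroup.range_subtype] at h1
    exact h1

end Cfsg.Agent.S0125
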