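import Cfsg.Statements.S4003
import Cfsg.Agent.S0126
import Cfsg.Agent.Helper50.NormalESq

set_option autoImplicit false
universe u v
open Cfsg

namespace Cfsg.Agent.S4003

/-- A finite type all of whose fibers under a map have cardinality divisible by `d` has
cardinality divisible by `d`. -/
theorem dvd_card_of_fibers {α β : Type*} [Finite α] [Finite β] (f : α → β) (d : ℕ)
    (h : ∀ b, d ∣ Nat.card {a // f a = b}) : d ∣ Nat.card α := by
  classical
  have : Fintype β := Fintype.ofFinite β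
  rw [← Nat.card_congr (Equiv.sigmaFiberEquiv f), Nat.card_sigma]
  exact Finset.dvd_sum (fun b _ => h b)

/-- The power formula for `x * w` when `w * x = x * w * c` with `c` central. -/
theorem mul_pow_of_comm_central {G : Type*} [Group G] (x w c : G) (hc : ∀ g : G, g * c = c * g)
    (hwx : w * x = x * w * c) (n : ℕ) : (x * w) ^ n = x ^ n * w ^ n * c ^ (n.choose 2) := by
  have hck : ∀ (k : ℕ) (g : G), g * c ^ k = c ^ k * g := by
    intro k g
    induction k with
    | zero => simp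
    | succ k ih => rw [pow_succ, ← mul_assoc, ih, mul_assoc, hc g, ← mul_assoc]
  have hw : ∀ k : ℕ, w ^ k * x = x * w ^ k * c ^ k := by
    intro k
    induction k with
    | zero => simp
    | succ k ih =>
      calc w ^ (k + 1) * x = w ^ k * (w * x) := by rw [pow_succ, mul_assoc]
        _ = w ^ k * (x * w * c) := by rw [hwx]
        _ = (w ^ k * x) * w * c := by simp only [mul_assoc]
        _ = (x * w ^ k * c ^ k) * w * c := by rw [ih]
        _ = x * w ^ k * (c ^ k * w) * c := by simp only [mul_assoc]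
        _ = x * w ^ k * (w * c ^ k) * c := by rw [hck k w]
        _ = x * (w ^ k * w) * (c ^ k * c) := by simp only [mul_assoc]
        _ = x * w ^ (k + 1) * c ^ (k + 1) := by rw [← pow_succ, ← pow_succ]
  induction n with
  | zero => simp
  | succ n ih =>
    have h2 : (n + 1).choose 2 = n + n.choose 2 := by
      rw [Nat.choose_succ_succ, Nat.choose_one_right]
    calc (x * w) ^ (n + 1) = (x * w) ^ n * (x * w) := pow_succ _ _
      _ = x ^ n * w ^ n * c ^ (n.choose 2) * (x * w) := by rw [ih]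
      _ = x ^ n * w ^ n * (c ^ (n.choose 2) * (x * w)) := by simp only [mul_assoc]
      _ = x ^ n * w ^ n * ((x * w) * c ^ (n.choose 2)) := by rw [hck (n.choose 2) (x * w)]
      _ = x ^ n * (w ^ n * x) * w * c ^ (n.choose 2) := by simp only [mul_assoc]
      _ = x ^ n * (x * w ^ n * c ^ n) * w * c ^ (n.choose 2) := by rw [hw n]
      _ = x ^ n * x * w ^ n * (c ^ n * w) * c ^ (n.choose 2) := by simp only [mul_assoc]
      _ = x ^ n * x * w ^ n * (w * c ^ n) * c ^ (n.choose 2) := by rw [hck n w]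
      _ = (x ^ n * x) * (w ^ n * w) * (c ^ n * c ^ (n.choose 2)) := by simp only [mul_assoc]
      _ = x ^ (n + 1) * w ^ (n + 1) * c ^ ((n + 1).choose 2) := by
        rw [← pow_succ, ← pow_succ, ← pow_add, h2]

/-- **Kulakoff–Miller**: in a non-cyclic finite `p`-group, `p` odd, the number of elements of
order `p ^ s`, `s ≥ 2`, is divisible by `p ^ s`. -/
theorem card_orderOf_eq_prime_pow_dvd {P : Type*} [Group P] [Finite P] {p : ℕ} [Fact p.Prime]
    (hp2 : p ≠ 2) (hP : IsPGroup p P) (hnc : ¬ IsCyclic P) (s : ℕ) (hs : 2 ≤ s) :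
    p ^ s ∣ Nat.card {x : P // orderOf x = p ^ s} := by
  classical
  have hp : p.Prime := Fact.out
  obtain ⟨A, hAn, hAe, hAc⟩ := Cfsg.Agent.S0126.result hp2 hP hnc
  have hAn' : A.Normal := hAn
  obtain ⟨z, u, hzu⟩ := Cfsg.Agent.Helper50.exists_goodPair_of_normal hP A hAe.2 (by
    rw [hAc]; have := hp.one_lt; nlinarith)
  obtain ⟨N, hNdef⟩ : ∃ N : Subgroup P, N = Subgroup.zpowers z ⊔ Subgroup.zpowers u := ⟨_, rfl⟩
  have hNn : N.Normal := by rw [hNdef]; exact hzu.normal
  have hNexp : ∀ w ∈ N, w ^ p = 1 := by rw [hNdef]; exact hzu.isElementaryAbelian.2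
  have hNcard : Nat.card N = p ^ 2 := by rw [hNdef]; exact hzu.card
  have hzc : ∀ c ∈ Subgroup.zpowers z, ∀ g : P, g * c = c * g := fun c hc g =>
    Subgroup.mem_center_iff.mp (hzu.zpowers_le_center hc) g
  -- commutators of `N` with anything lie in `⟨z⟩`
  have hcomm : ∀ w ∈ N, ∀ g : P, g * w * g⁻¹ * w⁻¹ ∈ Subgroup.zpowers z := by
    let C : Subgroup P :=
      { carrier := {w | ∀ g : P, g * w * g⁻¹ * w⁻¹ ∈ Subgroup.zpowers z}
        one_mem' := fun g => by
          have h1 : g * 1 * g⁻¹ * 1⁻¹ = 1 := by group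
          rw [h1]; exact Subgroup.one_mem _
        mul_mem' := by
          intro a b ha hb g
          have h1 : g * (a * b) * g⁻¹ * (a * b)⁻¹ =
              (g * a * g⁻¹ * a⁻¹) * (a * (g * b * g⁻¹ * b⁻¹) * a⁻¹) := by group
          have h2 : a * (g * b * g⁻¹ * b⁻¹) * a⁻¹ = g * b * g⁻¹ * b⁻¹ := by
            rw [hzc _ (hb g) a, mul_inv_cancel_right]
          rw [h1, h2]
          exact Subgroup.mul_mem _ (ha g) (hb g)
        inv_mem' := by
          intro a ha g
          have h1 : g * a⁻¹ * g⁻¹ * a⁻¹⁻¹ = a⁻¹ * (g * a * g⁻¹ * a⁻¹)⁻¹ * a := by group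
          have h2 : a⁻¹ * (g * a * g⁻¹ * a⁻¹)⁻¹ * a = (g * a * g⁻¹ * a⁻¹)⁻¹ := by
            rw [hzc _ (Subgroup.inv_mem _ (ha g)) a⁻¹, inv_mul_cancel_right]
          rw [h1, h2]
          exact Subgroup.inv_mem _ (ha g) }
    have hle : N ≤ C := by
      rw [hNdef]
      refine sup_le ?_ ?_
      · rw [Subgroup.zpowers_le]
        intro g
        have h1 : g * z * g⁻¹ * z⁻¹ = 1 := by
          rw [hzc z (Subgroup.mem_zpowers z) g, mul_inv_cancel_right, mul_inv_cancel]
        rw [h1]; exact Subgroup.one_mem _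
      · rw [Subgroup.zpowers_le]
        exact hzu.2.2.2.2
    exact fun w hw => hle hw
  -- Claim 1: multiplying by an element of `N` does not change the `p`-th power
  have hpow : ∀ x : P, ∀ w ∈ N, (x * w) ^ p = x ^ p := by
    intro x w hw
    obtain ⟨c, hcdef⟩ : ∃ c : P, c = x⁻¹ * w * x⁻¹⁻¹ * w⁻¹ := ⟨_, rfl⟩
    have hcz : c ∈ Subgroup.zpowers z := by rw [hcdef]; exact hcomm w hw x⁻¹
    have hwx : w * x = x * w * c := by
      rw [mul_assoc, hzc c hcz w, hcdef]; group
    have h1 := mul_pow_of_comm_central x w c (hzc c hcz) hwx p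
    have h2 : 2 < p := lt_of_le_of_ne hp.two_le (Ne.symm hp2)
    obtain ⟨k, hk⟩ := hp.dvd_choose_self (by norm_num) h2
    have hcp : c ^ p = 1 := hNexp c (by rw [hNdef]; exact Subgroup.mem_sup_left hcz)
    rw [h1, hNexp w hw, hk, pow_mul, hcp, one_pow, mul_one, mul_one]
  have hdiv : ∀ t : ℕ, 1 ≤ t → p ^ t / p = p ^ (t - 1) := by
    intro t ht
    have h1 : p ^ t = p ^ (t - 1) * p := by
      rw [← pow_succ]; congr 1; omega
    rw [h1, Nat.mul_div_cancel _ hp.pos]
  have hord_pow : ∀ x : P, orderOf x = p ^ s → orderOf (x ^ p) = p ^ (s - 1) := by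
    intro x hx
    rw [orderOf_pow_of_dvd hp.ne_zero (by rw [hx]; exact dvd_pow_self p (by omega)), hx]
    exact hdiv s (by omega)
  have hord_of_pow : ∀ y : P, orderOf (y ^ p) = p ^ (s - 1) → orderOf y = p ^ s := by
    intro y hy
    obtain ⟨t, ht⟩ := (IsPGroup.iff_orderOf.mp hP) y
    rcases Nat.eq_zero_or_pos t with rfl | htpos
    · exfalso
      rw [pow_zero, orderOf_eq_one_iff] at ht
      rw [ht, one_pow, orderOf_one] at hy
      have h1 : 1 < p ^ (s - 1) := Nat.one_lt_pow (by omega) hp.one_lt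
      omega
    · have h1 : orderOf (y ^ p) = p ^ (t - 1) := by
        rw [orderOf_pow_of_dvd hp.ne_zero (by rw [ht]; exact dvd_pow_self p (by omega)), ht]
        exact hdiv t htpos
      rw [h1] at hy
      have h2 := Nat.pow_right_injective hp.two_le hy
      rw [ht]; congr 1; omega
  -- Claim 2
  have hcl2 : ∀ x : P, orderOf x = p ^ s → ∀ y : P, x⁻¹ * y ∈ Subgroup.zpowers (x ^ p) ⊔ N →
      orderOf y = p ^ s ∧ Subgroup.zpowers (y ^ p) = Subgroup.zpowers (x ^ p) := by
    intro x hx y hy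
    rw [← SetLike.mem_coe, Subgroup.mul_normal] at hy
    obtain ⟨a, ha, w, hw, haw⟩ := hy
    have ha' : a ∈ Submonoid.powers (x ^ p) := mem_powers_iff_mem_zpowers.mpr ha
    obtain ⟨k, rfl⟩ := ha'
    have haw' : (x ^ p) ^ k * w = x⁻¹ * y := haw
    have hy' : y = x ^ (1 + p * k) * w := by
      rw [pow_add, pow_one, pow_mul, mul_assoc, haw', mul_inv_cancel_left]
    have hyp : y ^ p = (x ^ p) ^ (1 + p * k) := by
      rw [hy', hpow _ w hw, ← pow_mul, ← pow_mul, mul_comm]
    have hcop : (orderOf (x ^ p)).Coprime (1 + p * k) := by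
      rw [hord_pow x hx]
      apply Nat.Coprime.pow_left
      exact ((Nat.coprime_add_mul_left_left 1 p k).mpr (Nat.coprime_one_left p)).symm
    have hoy : orderOf (y ^ p) = p ^ (s - 1) := by
      rw [hyp, hcop.orderOf_pow, hord_pow x hx]
    refine ⟨hord_of_pow y hoy, ?_⟩
    apply Subgroup.eq_of_le_of_card_ge
    · rw [Subgroup.zpowers_le, hyp]
      exact Subgroup.pow_mem _ (Subgroup.mem_zpowers _) _
    · rw [Nat.card_zpowers, Nat.card_zpowers, hoy, hord_pow x hx]
  -- Claim 3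
  have hcl3 : ∀ x : P, orderOf x = p ^ s →
      p ^ s ∣ Nat.card ↥(Subgroup.zpowers (x ^ p) ⊔ N) := by
    intro x hx
    obtain ⟨t, ht⟩ := (hP.to_subgroup (Subgroup.zpowers (x ^ p) ⊔ N)).exists_card_eq
    rw [ht]
    apply pow_dvd_pow
    by_contra hlt
    push Not at hlt
    have h1 : p ^ (s - 1) ∣ p ^ t := by
      rw [← ht, ← hord_pow x hx, ← Nat.card_zpowers]
      exact Subgroup.card_dvd_of_le le_sup_left
    have h2 : s - 1 ≤ t := (Nat.pow_dvd_pow_iff_le_right hp.one_lt).mp h1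
    have h3 : t = s - 1 := by omega
    have h4 : Subgroup.zpowers (x ^ p) = Subgroup.zpowers (x ^ p) ⊔ N :=
      Subgroup.eq_of_le_of_card_ge le_sup_left (by rw [ht, h3, Nat.card_zpowers, hord_pow x hx])
    have h5 : N ≤ Subgroup.zpowers (x ^ p) := le_sup_right.trans (le_of_eq h4.symm)
    have hcyc : IsCyclic N := Subgroup.isCyclic_of_le h5
    obtain ⟨g, hg⟩ := hcyc.exists_generator
    have h6 : orderOf g = p ^ 2 := by
      rw [orderOf_eq_card_of_forall_mem_zpowers hg, hNcard]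
    have h7 : g ^ p = 1 := Subtype.ext (by
      rw [Subgroup.coe_pow]; exact hNexp g g.2)
    have h8 : p ^ 2 ∣ p := by
      rw [← h6]; exact orderOf_dvd_of_pow_eq_one h7
    have h9 := Nat.le_of_dvd hp.pos h8
    have := hp.one_lt
    nlinarith
  -- counting through the fibers of `x ↦ x * W(x)`
  obtain ⟨F, hF⟩ : ∃ F : P → Set P, F = fun x =>
      ((fun w : P => x * w) '' ((Subgroup.zpowers (x ^ p) ⊔ N : Subgroup P) : Set P)) := ⟨_, rfl⟩
  apply dvd_card_of_fibers (fun x : {x : P // orderOf x = p ^ s} => F (x : P))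
  intro b
  by_cases hne : Nonempty {a : {x : P // orderOf x = p ^ s} // F (a : P) = b}
  swap
  · rw [not_nonempty_iff] at hne
    rw [Nat.card_of_isEmpty]
    exact dvd_zero _
  obtain ⟨⟨⟨x₀, hx₀⟩, hb⟩⟩ := hne
  subst hb
  show p ^ s ∣ Nat.card {a : {x : P // orderOf x = p ^ s} // F (a : P) = F x₀}
  obtain ⟨W₀, hW₀⟩ : ∃ W₀ : Subgroup P, W₀ = Subgroup.zpowers (x₀ ^ p) ⊔ N := ⟨_, rfl⟩
  have hfib : ∀ w ∈ W₀, orderOf (x₀ * w) = p ^ s ∧ F (x₀ * w) = F x₀ := by
    intro w hw
    have h1 := hcl2 x₀ hx₀ (x₀ * w) (by rw [inv_mul_cancel_left, ← hW₀]; exact hw)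
    refine ⟨h1.1, ?_⟩
    rw [hF]
    show ((fun w' : P => (x₀ * w) * w') ''
        ((Subgroup.zpowers ((x₀ * w) ^ p) ⊔ N : Subgroup P) : Set P)) =
      ((fun w' : P => x₀ * w') '' ((Subgroup.zpowers (x₀ ^ p) ⊔ N : Subgroup P) : Set P))
    rw [h1.2, ← hW₀]
    ext y
    constructor
    · rintro ⟨w', hw', rfl⟩
      exact ⟨w * w', W₀.mul_mem hw hw', (mul_assoc _ _ _).symm⟩
    · rintro ⟨w', hw', rfl⟩
      refine ⟨w⁻¹ * w', W₀.mul_mem (W₀.inv_mem hw) hw', ?_⟩
      show x₀ * w * (w⁻¹ * w') = x₀ * w'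
      group
  let φ : W₀ → {a : {x : P // orderOf x = p ^ s} // F (a : P) = F x₀} :=
    fun w => ⟨⟨x₀ * w, (hfib w w.2).1⟩, (hfib w w.2).2⟩
  have hinj : Function.Injective φ := by
    intro w w' h
    have h1 : x₀ * (w : P) = x₀ * (w' : P) :=
      congrArg (fun t : {a : {x : P // orderOf x = p ^ s} // F (a : P) = F x₀} =>
        ((t.1 : {x : P // orderOf x = p ^ s}) : P)) h
    exact Subtype.ext (mul_left_cancel h1)
  have hsurj : Function.Surjective φ := by
    rintro ⟨⟨x, hx⟩, hxb⟩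
    have hxb' : F x = F x₀ := hxb
    have h1 : x ∈ F x := by
      rw [hF]
      exact ⟨1, Subgroup.one_mem _, mul_one x⟩
    rw [hxb', hF] at h1
    obtain ⟨w, hw, hwx⟩ := h1
    refine ⟨⟨w, by rw [hW₀]; exact hw⟩, ?_⟩
    apply Subtype.ext
    apply Subtype.ext
    exact hwx
  rw [← Nat.card_congr (Equiv.ofBijective φ ⟨hinj, hsurj⟩), hW₀]
  exact hcl3 x₀ hx₀

/-- Elements of order `n * m` (`n`, `m` coprime) correspond to commuting pairs of elements of
orders `n` and `m`. -/
theorem card_orderOf_eq_card_pairs {G : Type*} [Group G] [Finite G] (n m : ℕ)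
    (hnm : Nat.Coprime n m) (hm : 0 < m) (hn : 0 < n) :
    Nat.card {g : G // orderOf g = n * m} =
      Nat.card {w : G × G // orderOf w.1 = n ∧ orderOf w.2 = m ∧ w.1 * w.2 = w.2 * w.1} := by
  obtain ⟨a, ha1, ha2⟩ := Nat.chineseRemainder hnm 1 0
  obtain ⟨b, hb1, hb2⟩ := Nat.chineseRemainder hnm 0 1
  have hma : m ∣ a := (Nat.modEq_zero_iff_dvd).mp ha2
  have hnb : n ∣ b := (Nat.modEq_zero_iff_dvd).mp hb1
  have key : ∀ u v : G, orderOf u = n → orderOf v = m → u * v = v * u →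
      (u * v) ^ a = u ∧ (u * v) ^ b = v := by
    intro u v hu hv huv
    have hc : Commute u v := huv
    refine ⟨?_, ?_⟩
    · have h1 : u ^ a = u ^ 1 := pow_eq_pow_iff_modEq.mpr (by rw [hu]; exact ha1)
      have h2 : v ^ a = 1 := orderOf_dvd_iff_pow_eq_one.mp (by rw [hv]; exact hma)
      rw [hc.mul_pow, h1, h2, pow_one, mul_one]
    · have h1 : v ^ b = v ^ 1 := pow_eq_pow_iff_modEq.mpr (by rw [hv]; exact hb2)
      have h2 : u ^ b = 1 := orderOf_dvd_iff_pow_eq_one.mp (by rw [hu]; exact hnb)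
      rw [hc.mul_pow, h1, h2, pow_one, one_mul]
  let ψ : {w : G × G // orderOf w.1 = n ∧ orderOf w.2 = m ∧ w.1 * w.2 = w.2 * w.1} →
      {g : G // orderOf g = n * m} := fun w => ⟨w.1.1 * w.1.2, by
        have hc : Commute w.1.1 w.1.2 := w.2.2.2
        rw [hc.orderOf_mul_eq_mul_orderOf_of_coprime (by rw [w.2.1, w.2.2.1]; exact hnm),
          w.2.1, w.2.2.1]⟩
  have hinj : Function.Injective ψ := by
    rintro ⟨⟨u, v⟩, hu, hv, huv⟩ ⟨⟨u', v'⟩, hu', hv', huv'⟩ h
    have h1 : u * v = u' * v' := congrArg Subtype.val h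
    obtain ⟨k1, k2⟩ := key u v hu hv huv
    obtain ⟨k1', k2'⟩ := key u' v' hu' hv' huv'
    have e1 : u = u' := by rw [← k1, ← k1', h1]
    have e2 : v = v' := by rw [← k2, ← k2', h1]
    subst e1; subst e2; rfl
  have hsurj : Function.Surjective ψ := by
    rintro ⟨g, hg⟩
    have h1 : (g ^ a) ^ n = 1 := by
      rw [← pow_mul]
      apply orderOf_dvd_iff_pow_eq_one.mp
      rw [hg, mul_comm a n]
      exact mul_dvd_mul_left n hma
    have h2 : (g ^ b) ^ m = 1 := by
      rw [← pow_mul]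
      apply orderOf_dvd_iff_pow_eq_one.mp
      rw [hg]
      exact mul_dvd_mul_right hnb m
    have d1 : orderOf (g ^ a) ∣ n := orderOf_dvd_of_pow_eq_one h1
    have d2 : orderOf (g ^ b) ∣ m := orderOf_dvd_of_pow_eq_one h2
    have hab : g ^ a * g ^ b = g := by
      rw [← pow_add]
      have h3 : a + b ≡ 1 [MOD n * m] := by
        apply (Nat.modEq_and_modEq_iff_modEq_mul hnm).mp
        exact ⟨by simpa using ha1.add hb1, by simpa using ha2.add hb2⟩
      have h4 : g ^ (a + b) = g ^ 1 := pow_eq_pow_iff_modEq.mpr (by rw [hg]; exact h3)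
      rw [h4, pow_one]
    have hc : Commute (g ^ a) (g ^ b) := (Commute.refl g).pow_pow a b
    have hco : (orderOf (g ^ a)).Coprime (orderOf (g ^ b)) :=
      Nat.Coprime.coprime_dvd_left d1 (Nat.Coprime.coprime_dvd_right d2 hnm)
    have h5 : orderOf (g ^ a) * orderOf (g ^ b) = n * m := by
      rw [← hc.orderOf_mul_eq_mul_orderOf_of_coprime hco, hab, hg]
    have e1 : orderOf (g ^ a) = n := by
      apply Nat.dvd_antisymm d1
      apply Nat.dvd_of_mul_dvd_mul_right hm
      rw [← h5]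
      exact mul_dvd_mul_left _ d2
    have e2 : orderOf (g ^ b) = m := by
      apply Nat.dvd_antisymm d2
      apply Nat.dvd_of_mul_dvd_mul_left hn
      rw [← h5]
      exact mul_dvd_mul_right d1 _
    exact ⟨⟨(g ^ a, g ^ b), e1, e2, hc⟩, Subtype.ext hab⟩
  exact (Nat.card_congr (Equiv.ofBijective ψ ⟨hinj, hsurj⟩)).symm

/-- Counting a preimage through a map all of whose fibers have the same size. -/
theorem card_preimage_of_fibers {α β : Type*} [Finite α] [Finite β] (f : α → β) (c : ℕ)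
    (h : ∀ b, Nat.card {a // f a = b} = c) (Q : β → Prop) :
    Nat.card {a // Q (f a)} = c * Nat.card {b // Q b} := by
  classical
  have : Fintype {b // Q b} := Fintype.ofFinite _
  let e : {a // Q (f a)} ≃ Σ b : {b // Q b}, {a // f a = b.1} :=
    { toFun := fun a => ⟨⟨f a.1, a.2⟩, ⟨a.1, rfl⟩⟩
      invFun := fun x => ⟨x.2.1, by rw [x.2.2]; exact x.1.2⟩
      left_inv := fun a => rfl
      right_inv := by
        rintro ⟨⟨b, hb⟩, ⟨a, ha⟩⟩
        change f a = b at ha
        subst ha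
        rfl }
  rw [Nat.card_congr e, Nat.card_sigma]
  simp only [h, Finset.sum_const, Finset.card_univ, smul_eq_mul]
  rw [Nat.card_eq_fintype_card, mul_comm]

/-- Pairs: a cyclic subgroup of order `n` and an element of order `m` centralizing it. -/
def IsT {G : Type*} [Group G] (n m : ℕ) (t : Subgroup G × G) : Prop :=
  Nat.card t.1 = n ∧ IsCyclic t.1 ∧ orderOf t.2 = m ∧ ∀ c ∈ t.1, c * t.2 = t.2 * c

/-- The map from commuting pairs of elements to pairs (cyclic subgroup, element). -/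
def toT {G : Type*} [Group G] (n m : ℕ)
    (w : {w : G × G // orderOf w.1 = n ∧ orderOf w.2 = m ∧ w.1 * w.2 = w.2 * w.1}) :
    {t : Subgroup G × G // IsT n m t} :=
  ⟨(Subgroup.zpowers w.1.1, w.1.2), by
    refine ⟨by rw [Nat.card_zpowers, w.2.1], inferInstance, w.2.2.1, ?_⟩
    intro c hc
    obtain ⟨k, rfl⟩ := Subgroup.mem_zpowers_iff.mp hc
    have hcm : Commute w.1.1 w.1.2 := w.2.2.2
    exact (hcm.zpow_left k)⟩

theorem card_fiber_toT {G : Type*} [Group G] [Finite G] (n m : ℕ)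
    (t : {t : Subgroup G × G // IsT n m t}) :
    Nat.card {w : {w : G × G // orderOf w.1 = n ∧ orderOf w.2 = m ∧ w.1 * w.2 = w.2 * w.1} //
      toT n m w = t} = Nat.totient n := by
  classical
  obtain ⟨⟨C, v⟩, hC, hcyc, hv, hcv⟩ := t
  have hgen : Nat.card {c : ↥C // orderOf c = n} = Nat.totient n := by
    have : Fintype ↥C := Fintype.ofFinite _
    haveI := hcyc
    have h1 := IsCyclic.card_orderOf_eq_totient (α := ↥C) (d := n)
      (by rw [← Nat.card_eq_fintype_card]; exact dvd_of_eq hC.symm)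
    rw [← h1, Nat.card_eq_fintype_card, Fintype.card_subtype]
  rw [← hgen]
  symm
  let φ : {c : ↥C // orderOf c = n} →
      {w : {w : G × G // orderOf w.1 = n ∧ orderOf w.2 = m ∧ w.1 * w.2 = w.2 * w.1} //
        toT n m w = ⟨(C, v), hC, hcyc, hv, hcv⟩} :=
    fun c => ⟨⟨((c.1 : G), v), by rw [Subgroup.orderOf_coe]; exact c.2, hv, hcv c.1 c.1.2⟩, by
      apply Subtype.ext
      show (Subgroup.zpowers (c.1 : G), v) = (C, v)
      congr 1
      apply Subgroup.eq_of_le_of_card_ge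
      · rw [Subgroup.zpowers_le]; exact c.1.2
      · rw [Nat.card_zpowers, hC, Subgroup.orderOf_coe, c.2]⟩
  have hinj : Function.Injective φ := by
    intro c c' h
    have h1 : ((c.1 : G), v) = ((c'.1 : G), v) :=
      congrArg (fun t : {w : {w : G × G // orderOf w.1 = n ∧ orderOf w.2 = m ∧
        w.1 * w.2 = w.2 * w.1} // toT n m w = ⟨(C, v), hC, hcyc, hv, hcv⟩} => (t.1.1 : G × G)) h
    exact Subtype.ext (Subtype.ext (Prod.mk.inj h1).1)
  have hsurj : Function.Surjective φ := by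
    rintro ⟨⟨⟨u, v'⟩, hu, hv', huv⟩, hw⟩
    have h1 : (Subgroup.zpowers u, v') = (C, v) := congrArg Subtype.val hw
    obtain ⟨h2, h3⟩ := Prod.mk.inj h1
    subst h3
    refine ⟨⟨⟨u, by rw [← h2]; exact Subgroup.mem_zpowers u⟩, ?_⟩, ?_⟩
    · rw [← Subgroup.orderOf_coe]; exact hu
    · rfl
  exact Nat.card_congr (Equiv.ofBijective φ ⟨hinj, hsurj⟩)

/-- Conjugating a pair (subgroup, element). -/
def cpair {G : Type*} [Group G] (h : G) (t : Subgroup G × G) : Subgroup G × G :=
  (t.1.map (MulAut.conj h).toMonoidHom, h * t.2 * h⁻¹)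

theorem mem_cpair_fst {G : Type*} [Group G] (h : G) (t : Subgroup G × G) (x : G) :
    x ∈ (cpair h t).1 ↔ h⁻¹ * x * h ∈ t.1 := by
  constructor
  · rintro ⟨c, hc, rfl⟩
    have h1 : h⁻¹ * ((MulAut.conj h).toMonoidHom c) * h = c := by
      show h⁻¹ * (h * c * h⁻¹) * h = c
      group
    rw [h1]; exact hc
  · intro hx
    refine ⟨h⁻¹ * x * h, hx, ?_⟩
    show h * (h⁻¹ * x * h) * h⁻¹ = x
    group

theorem cpair_one {G : Type*} [Group G] (t : Subgroup G × G) : cpair 1 t = t := by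
  refine Prod.ext (Subgroup.ext fun x => ?_) ?_
  · rw [mem_cpair_fst]; simp
  · show (1 : G) * t.2 * 1⁻¹ = t.2
    group

theorem cpair_mul {G : Type*} [Group G] (g h : G) (t : Subgroup G × G) :
    cpair (g * h) t = cpair g (cpair h t) := by
  refine Prod.ext (Subgroup.ext fun x => ?_) ?_
  · rw [mem_cpair_fst, mem_cpair_fst, mem_cpair_fst]
    have h1 : (g * h)⁻¹ * x * (g * h) = h⁻¹ * (g⁻¹ * x * g) * h := by group
    rw [h1]
  · show g * h * t.2 * (g * h)⁻¹ = g * (h * t.2 * h⁻¹) * g⁻¹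
    group

theorem isT_cpair {G : Type*} [Group G] {n m : ℕ} (h : G) {t : Subgroup G × G}
    (ht : IsT n m t) : IsT n m (cpair h t) := by
  obtain ⟨C, v⟩ := t
  obtain ⟨h1, h2, h3, h4⟩ := ht
  refine ⟨?_, ?_, ?_, ?_⟩
  · show Nat.card (C.map (MulAut.conj h).toMonoidHom) = n
    rw [Subgroup.card_map_of_injective (MulEquiv.injective _)]
    exact h1
  · haveI : IsCyclic ↥C := h2
    exact isCyclic_of_surjective ((MulAut.conj h).toMonoidHom.subgroupMap C)
      (MonoidHom.subgroupMap_surjective _ _)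
  · show orderOf (h * v * h⁻¹) = m
    rw [← h3]
    exact orderOf_injective (MulAut.conj h).toMonoidHom (MulEquiv.injective _) v
  · intro c hc
    rw [mem_cpair_fst] at hc
    have h5 : h⁻¹ * c * h * v = v * (h⁻¹ * c * h) := h4 _ hc
    show c * (h * v * h⁻¹) = h * v * h⁻¹ * c
    calc c * (h * v * h⁻¹) = h * ((h⁻¹ * c * h) * v) * h⁻¹ := by group
      _ = h * (v * (h⁻¹ * c * h)) * h⁻¹ := by rw [h5]
      _ = h * v * h⁻¹ * c := by group

/-- The pairs not "inside" a Sylow `p`-subgroup `P` are permuted by `P` without fixed points, so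
their number is divisible by `p`. -/
theorem card_notQ_dvd {G : Type*} [Group G] [Finite G] {p : ℕ} [Fact p.Prime] (P : Sylow p G)
    (n m : ℕ) (hn : ∃ k, n = p ^ k) :
    p ∣ Nat.card {t : {t : Subgroup G × G // IsT n m t} //
      ¬ (t.1.1 ≤ (P : Subgroup G) ∧
        t.1.2 ∈ Subgroup.centralizer ((P : Subgroup G) : Set G))} := by
  classical
  have hQ : ∀ h ∈ (P : Subgroup G), ∀ t : Subgroup G × G,
      ((cpair h t).1 ≤ (P : Subgroup G) ∧
        (cpair h t).2 ∈ Subgroup.centralizer ((P : Subgroup G) : Set G)) →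
      (t.1 ≤ (P : Subgroup G) ∧ t.2 ∈ Subgroup.centralizer ((P : Subgroup G) : Set G)) := by
    rintro h hh t ⟨h1, h2⟩
    refine ⟨?_, ?_⟩
    · intro c hc
      have h3 : h * c * h⁻¹ ∈ (cpair h t).1 := by
        rw [mem_cpair_fst]
        have e : h⁻¹ * (h * c * h⁻¹) * h = c := by group
        rw [e]; exact hc
      have h4 := h1 h3
      have e : c = h⁻¹ * (h * c * h⁻¹) * h := by group
      rw [e]
      exact Subgroup.mul_mem _ (Subgroup.mul_mem _ (Subgroup.inv_mem _ hh) h4) hh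
    · rw [Subgroup.mem_centralizer_iff] at h2 ⊢
      intro g hg
      have h4 : (h * g * h⁻¹) * (h * t.2 * h⁻¹) = (h * t.2 * h⁻¹) * (h * g * h⁻¹) :=
        h2 (h * g * h⁻¹) (Subgroup.mul_mem _ (Subgroup.mul_mem _ hh hg) (Subgroup.inv_mem _ hh))
      have e1 : g * t.2 = h⁻¹ * ((h * g * h⁻¹) * (h * t.2 * h⁻¹)) * h := by group
      rw [e1, h4]; group
  letI act : MulAction ↥(P : Subgroup G) {t : {t : Subgroup G × G // IsT n m t} //
      ¬ (t.1.1 ≤ (P : Subgroup G) ∧
        t.1.2 ∈ Subgroup.centralizer ((P : Subgroup G) : Set G))} :=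
    { smul := fun h t => ⟨⟨cpair (h : G) t.1.1, isT_cpair (h : G) t.1.2⟩,
        fun hq => t.2 (hQ h h.2 t.1.1 hq)⟩
      one_smul := fun t => Subtype.ext (Subtype.ext (cpair_one t.1.1))
      mul_smul := fun g h t => Subtype.ext (Subtype.ext (cpair_mul (g : G) (h : G) t.1.1)) }
  have hsmul : ∀ (h : ↥(P : Subgroup G)) (t : {t : {t : Subgroup G × G // IsT n m t} //
      ¬ (t.1.1 ≤ (P : Subgroup G) ∧
        t.1.2 ∈ Subgroup.centralizer ((P : Subgroup G) : Set G))}),
      ((h • t).1.1 : Subgroup G × G) = cpair (h : G) t.1.1 := fun h t => rfl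
  have hmod := (P.isPGroup').card_modEq_card_fixedPoints
    {t : {t : Subgroup G × G // IsT n m t} //
      ¬ (t.1.1 ≤ (P : Subgroup G) ∧
        t.1.2 ∈ Subgroup.centralizer ((P : Subgroup G) : Set G))}
  have hempty : IsEmpty (MulAction.fixedPoints ↥(P : Subgroup G)
      {t : {t : Subgroup G × G // IsT n m t} //
        ¬ (t.1.1 ≤ (P : Subgroup G) ∧
          t.1.2 ∈ Subgroup.centralizer ((P : Subgroup G) : Set G))}) := by
    constructor
    rintro ⟨⟨⟨⟨C, v⟩, hT⟩, hq⟩, hfix⟩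
    apply hq
    have hfix' : ∀ h ∈ (P : Subgroup G), cpair h (C, v) = (C, v) := by
      intro h hh
      have h1 := MulAction.mem_fixedPoints.mp hfix ⟨h, hh⟩
      have h2 := congrArg (fun t : {t : {t : Subgroup G × G // IsT n m t} //
        ¬ (t.1.1 ≤ (P : Subgroup G) ∧
          t.1.2 ∈ Subgroup.centralizer ((P : Subgroup G) : Set G))} =>
            (t.1.1 : Subgroup G × G)) h1
      exact h2
    have hCfix : ∀ h ∈ (P : Subgroup G), ∀ x : G, x ∈ C ↔ h⁻¹ * x * h ∈ C := by
      intro h hh x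
      have h1 := hfix' h hh
      have h2 : (cpair h (C, v)).1 = C := congrArg Prod.fst h1
      rw [← mem_cpair_fst h (C, v) x, h2]
    have hvfix : ∀ h ∈ (P : Subgroup G), h * v * h⁻¹ = v := by
      intro h hh
      exact congrArg Prod.snd (hfix' h hh)
    refine ⟨?_, ?_⟩
    · obtain ⟨k, hk⟩ := hn
      have hCp : IsPGroup p ↥C := IsPGroup.of_card (n := k) (by rw [hT.1, hk])
      have hnorm : (P : Subgroup G) ≤ Subgroup.normalizer (C : Set G) := by
        intro h hh
        rw [Subgroup.mem_normalizer_iff]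
        intro x
        have h1 := hCfix h⁻¹ (Subgroup.inv_mem _ hh) x
        rw [inv_inv] at h1
        exact h1
      have hsup : IsPGroup p ↥(C ⊔ (P : Subgroup G)) :=
        IsPGroup.to_sup_of_normal_left' hCp P.isPGroup' hnorm
      have h3 := P.is_maximal' hsup le_sup_right
      exact le_sup_left.trans (le_of_eq h3)
    · show v ∈ Subgroup.centralizer ((P : Subgroup G) : Set G)
      rw [Subgroup.mem_centralizer_iff]
      intro g hg
      have h1 := hvfix g hg
      calc g * v = (g * v * g⁻¹) * g := by group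
        _ = v * g := by rw [h1]
  have h0 : Nat.card (MulAction.fixedPoints ↥(P : Subgroup G)
      {t : {t : Subgroup G × G // IsT n m t} //
        ¬ (t.1.1 ≤ (P : Subgroup G) ∧
          t.1.2 ∈ Subgroup.centralizer ((P : Subgroup G) : Set G))}) = 0 := Nat.card_of_isEmpty
  rw [h0] at hmod
  exact (Nat.modEq_zero_iff_dvd).mp hmod

/-- The pairs "inside" `P`. -/
theorem card_Q_eq {G : Type*} [Group G] [Finite G] (P : Subgroup G) (n m : ℕ) :
    Nat.card {w : {w : G × G // orderOf w.1 = n ∧ orderOf w.2 = m ∧ w.1 * w.2 = w.2 * w.1} //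
        ((toT n m w).1.1 ≤ P ∧ (toT n m w).1.2 ∈ Subgroup.centralizer (P : Set G))} =
      Nat.card {u : ↥P // orderOf u = n} *
        Nat.card {v : G // orderOf v = m ∧ v ∈ Subgroup.centralizer (P : Set G)} := by
  rw [← Nat.card_prod]
  apply Nat.card_congr
  exact
    { toFun := fun w => (⟨⟨w.1.1.1, w.2.1 (Subgroup.mem_zpowers _)⟩, by
          rw [← Subgroup.orderOf_coe]; exact w.1.2.1⟩, ⟨w.1.1.2, w.1.2.2.1, w.2.2⟩)
      invFun := fun x => ⟨⟨((x.1.1 : G), x.2.1), by
            rw [Subgroup.orderOf_coe]; exact x.1.2, x.2.2.1,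
            (Subgroup.mem_centralizer_iff.mp x.2.2.2 _ x.1.1.2)⟩,
          ⟨by
            show Subgroup.zpowers (x.1.1 : G) ≤ P
            rw [Subgroup.zpowers_le]; exact x.1.1.2, x.2.2.2⟩⟩
      left_inv := fun w => rfl
      right_inv := fun x => rfl }

/-- Let G be a finite group, p an odd prime dividing the order of G whose Sylow p-subgroups are not cyclic, and n = p^s·m with s > 1 and m coprime to p. Then the number of elements of G of order n is a multiple of p^s. -/
theorem result {G : Type*} [Group G] [Finite G] (p : ℕ) [Fact p.Prime] (hodd : p ≠ 2) (hpG : p ∣ Nat.card G)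
    (P : Sylow p G) (hP : ¬ IsCyclic ↥(P : Subgroup G)) (s m : ℕ) (hs : 1 < s) (hm : Nat.Coprime p m) :
    p ^ s ∣ Nat.card {g : G // orderOf g = p ^ s * m} := by
  classical
  have hp : p.Prime := Fact.out
  have hm0 : 0 < m := by
    rcases Nat.eq_zero_or_pos m with rfl | h
    · exfalso
      rw [Nat.coprime_zero_right] at hm
      exact hp.one_lt.ne' hm
    · exact h
  have hn0 : 0 < p ^ s := pow_pos hp.pos s
  have hco : Nat.Coprime (p ^ s) m := Nat.Coprime.pow_left s hm
  rw [card_orderOf_eq_card_pairs (p ^ s) m hco hm0 hn0]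
  have hsplit : Nat.card {w : G × G // orderOf w.1 = p ^ s ∧ orderOf w.2 = m ∧
        w.1 * w.2 = w.2 * w.1} =
      Nat.card {w : {w : G × G // orderOf w.1 = p ^ s ∧ orderOf w.2 = m ∧
        w.1 * w.2 = w.2 * w.1} //
        ((toT (p ^ s) m w).1.1 ≤ (P : Subgroup G) ∧
          (toT (p ^ s) m w).1.2 ∈ Subgroup.centralizer ((P : Subgroup G) : Set G))} +
      Nat.card {w : {w : G × G // orderOf w.1 = p ^ s ∧ orderOf w.2 = m ∧
        w.1 * w.2 = w.2 * w.1} //
        ¬ ((toT (p ^ s) m w).1.1 ≤ (P : Subgroup G) ∧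
          (toT (p ^ s) m w).1.2 ∈ Subgroup.centralizer ((P : Subgroup G) : Set G))} := by
    rw [← Nat.card_sum]
    exact Nat.card_congr (Equiv.sumCompl _).symm
  rw [hsplit]
  apply Nat.dvd_add
  · rw [card_Q_eq]
    exact Dvd.dvd.mul_right (card_orderOf_eq_prime_pow_dvd hodd P.isPGroup' hP s hs) _
  · rw [card_preimage_of_fibers (toT (p ^ s) m) (Nat.totient (p ^ s)) (card_fiber_toT (p ^ s) m)
      (fun t => ¬ (t.1.1 ≤ (P : Subgroup G) ∧
        t.1.2 ∈ Subgroup.centralizer ((P : Subgroup G) : Set G)))]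
    rw [Nat.totient_prime_pow hp (by omega : 0 < s)]
    obtain ⟨k, hk⟩ := card_notQ_dvd P (p ^ s) m ⟨s, rfl⟩
    rw [hk]
    refine ⟨(p - 1) * k, ?_⟩
    have h1 : p ^ s = p ^ (s - 1) * p := by
      rw [← pow_succ]; congr 1; omega
    rw [h1]
    ring

end Cfsg.Agent.S4003
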