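import Cfsg.Statements.S0040
import Cfsg.Agent.Helper1.FpfSylow
import Cfsg.Agent.S0016

set_option autoImplicit false
open Cfsg

namespace Cfsg.Agent.S0040

/-- Sylow subgroups of Frobenius complements: if H complements a nontrivial normal subgroup K and every nonidentity element of H has trivial centraliser in K, then each Sylow subgroup of H is cyclic or isomorphic to a generalized quaternion group. -/
theorem result {G : Type*} [Group G] [Finite G] (K H : Subgroup G) [K.Normal]
    (hc : Subgroup.IsComplement' K H) (hK : K ≠ ⊥) (hfpf : ∀ h ∈ H, h ≠ 1 → K ⊓ Subgroup.centralizer {h} = ⊥)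
    (p : ℕ) [Fact p.Prime] (P : Sylow p H) :
    IsCyclic P ∨ ∃ n : ℕ, Nonempty (P ≃* QuaternionGroup (2 ^ n)) := by
  have hP : IsPGroup p P := P.isPGroup'
  have huniq : ∀ A B : Subgroup P, Nat.card A = p → Nat.card B = p → A = B := by
    intro A B hA hB
    let φ : P →* G := H.subtype.comp (P : Subgroup H).subtype
    have hφ : Function.Injective φ := fun a b hab =>
      Subtype.ext (Subtype.ext hab)
    have hQ : IsPGroup p ((P : Subgroup H).map H.subtype) := hP.map H.subtype
    have hle : ∀ A : Subgroup P, A.map φ ≤ (P : Subgroup H).map H.subtype := by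
      intro A
      rintro _ ⟨a, -, rfl⟩
      exact ⟨(a : H), (a : P).2, rfl⟩
    have hQK : (P : Subgroup H).map H.subtype ≤ Subgroup.normalizer (K : Set G) := by
      rw [Subgroup.normalizer_eq_top]; exact le_top
    have hf : ∀ h ∈ (P : Subgroup H).map H.subtype, h ≠ 1 → K ⊓ Subgroup.centralizer {h} = ⊥ := by
      intro h hh hh1
      exact hfpf h (Subgroup.map_subtype_le _ hh) hh1
    have h1 := Cfsg.Agent.Helper1.fpf_eq_of_card_prime K ((P : Subgroup H).map H.subtype) hK hQK hf p
      hQ (A.map φ) (B.map φ) (hle A) (hle B)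
      (by rw [Subgroup.card_map_of_injective hφ, hA]) (by rw [Subgroup.card_map_of_injective hφ, hB])
    exact Subgroup.map_injective hφ h1
  rcases Cfsg.Agent.S0016.result p hP huniq with h | ⟨-, h⟩
  · exact Or.inl h
  · exact Or.inr h

end Cfsg.Agent.S0040
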