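import Cfsg.Statements.S0580
import Mathlib

set_option autoImplicit false
open Cfsg

namespace Cfsg.Agent.S0580

/-- If every maximal subgroup has prime index, the Sylow subgroup for the largest prime is normal. -/
theorem sylow_normal_of_max {G : Type*} [Group G] [Finite G]
    (h : ∀ M : Subgroup G, IsCoatom M → M.index.Prime) (p : ℕ) [hp : Fact p.Prime]
    (hmax : ∀ q : ℕ, q.Prime → q ∣ Nat.card G → q ≤ p) (P : Sylow p G) : (P : Subgroup G).Normal := by
  by_contra hnot
  have hN : Subgroup.normalizer ((P : Subgroup G) : Set G) ≠ ⊤ := fun h => hnot (Subgroup.normalizer_eq_top_iff.mp h)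
  obtain ⟨M, hM, hNM⟩ := (eq_top_or_exists_le_coatom (Subgroup.normalizer ((P : Subgroup G) : Set G))).resolve_left hN
  have hq := h M hM
  have hPM : (P : Subgroup G) ≤ M := Subgroup.le_normalizer.trans hNM
  have h1 : Nat.card (Sylow p G) = (Subgroup.normalizer ((P : Subgroup G) : Set G)).index :=
    Sylow.card_eq_index_normalizer P
  have h2 : Nat.card (Sylow p M) = (Subgroup.normalizer ((P : Subgroup G) : Set G)).relIndex M := by
    have e : ((P.subtype hPM : Sylow p M) : Subgroup M) = (P : Subgroup G).subgroupOf M :=
      Sylow.coe_subtype P hPM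
    have h2' : Nat.card (Sylow p M) =
        (Subgroup.normalizer (((P.subtype hPM : Sylow p M) : Subgroup M) : Set M)).index :=
      Sylow.card_eq_index_normalizer (P.subtype hPM)
    rw [h2', e, ← Subgroup.subgroupOf_normalizer_eq hPM]
    rfl
  have h3 := Subgroup.relIndex_mul_index hNM
  have m1 := card_sylow_modEq_one p G
  have m2 := card_sylow_modEq_one p M
  rw [h1, ← h3] at m1
  rw [h2] at m2
  have m3 : M.index ≡ 1 [MOD p] := by
    have := Nat.ModEq.mul_right M.index m2
    rw [one_mul] at this
    exact this.symm.trans m1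
  have hle : M.index ≤ p := hmax _ hq M.index_dvd_card
  have hlt : 1 < M.index := hq.one_lt
  -- M.index ≡ 1 mod p with 1 < M.index ≤ p is impossible
  have hdvd : p ∣ M.index - 1 := (Nat.modEq_iff_dvd' hlt.le).mp m3.symm
  have : p ≤ M.index - 1 := Nat.le_of_dvd (by omega) hdvd
  omega

universe u

theorem solvable_aux (n : ℕ) : ∀ (G : Type u) [Group G] [Finite G], Nat.card G = n →
    (∀ M : Subgroup G, IsCoatom M → M.index.Prime) → Group.IsSolvable G := by
  induction n using Nat.strong_induction_on with
  | _ n ih =>
  intro G _ _ hn h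
  by_cases hG : Nat.card G = 1
  · have : Subsingleton G := (Nat.card_eq_one_iff_unique.mp hG).1
    infer_instance
  -- the largest prime divisor
  have hne : (Nat.card G).primeFactors.Nonempty := by
    rw [Nat.nonempty_primeFactors]
    have := Nat.card_pos (α := G)
    omega
  set p := (Nat.card G).primeFactors.max' hne with hp_def
  have hpmem : p ∈ (Nat.card G).primeFactors := Finset.max'_mem _ _
  have hpp : p.Prime := Nat.prime_of_mem_primeFactors hpmem
  have hpd : p ∣ Nat.card G := Nat.dvd_of_mem_primeFactors hpmem
  have : Fact p.Prime := ⟨hpp⟩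
  have hmax : ∀ q : ℕ, q.Prime → q ∣ Nat.card G → q ≤ p := by
    intro q hq hqd
    apply Finset.le_max'
    rw [Nat.mem_primeFactors]
    exact ⟨hq, hqd, Nat.card_pos.ne'⟩
  obtain ⟨P⟩ : Nonempty (Sylow p G) := inferInstance
  have hPn : (P : Subgroup G).Normal := sylow_normal_of_max h p hmax P
  have hP0 : (P : Subgroup G) ≠ ⊥ := P.ne_bot_of_dvd_card hpd
  -- the quotient is smaller
  have hcard : Nat.card (G ⧸ (P : Subgroup G)) < n := by
    have h1 := Subgroup.card_eq_card_quotient_mul_card_subgroup (P : Subgroup G)
    have h2 : 1 < Nat.card (P : Subgroup G) := (Subgroup.one_lt_card_iff_ne_bot _).mpr hP0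
    have h3 : 0 < Nat.card (G ⧸ (P : Subgroup G)) := Nat.card_pos
    rw [← hn, h1]
    nlinarith
  have : Group.IsSolvable (G ⧸ (P : Subgroup G)) := by
    refine ih _ hcard (G ⧸ (P : Subgroup G)) rfl ?_
    intro M hM
    have hc := Subgroup.isCoatom_comap_of_surjective (QuotientGroup.mk'_surjective (P : Subgroup G)) hM
    have := h _ hc
    rwa [Subgroup.index_comap_of_surjective _ (QuotientGroup.mk'_surjective (P : Subgroup G))] at this
  have : Group.IsSolvable (P : Subgroup G) := by
    have := IsPGroup.isNilpotent P.2
    infer_instance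
  refine Group.isSolvable_of_ker_le_range (P : Subgroup G).subtype (QuotientGroup.mk' (P : Subgroup G)) ?_
  rw [QuotientGroup.ker_mk', Subgroup.range_subtype]

/-- If every maximal subgroup of a finite group has prime index, then the group is solvable. -/
theorem result {G : Type*} [Group G] [Finite G] (h : ∀ M : Subgroup G, IsCoatom M → M.index.Prime) : Group.IsSolvable G := by
  exact solvable_aux (Nat.card G) G rfl h

end Cfsg.Agent.S0580
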