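import Cfsg.Statements.S0867
import Cfsg.Agent.Helper15.DetExt

set_option autoImplicit false
open Cfsg

namespace Cfsg.Agent.S0867

open Cfsg.Agent.Helper15 in
/-- Let N be a normal subgroup of the finite group G and ϑ an irreducible character of N of degree d, invariant under conjugation by G, such that the index of N is coprime to the product of d and the determinantal order of ϑ. Then there is an irreducible character χ of G restricting to ϑ whose determinantal order equals that of ϑ, and χ is the only irreducible character of G restricting to ϑ whose determinantal order is coprime to the index of N. -/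
theorem result {G : Type*} [Group G] [Finite G] (N : Subgroup G) [hN : N.Normal] (ϑ : N → ℂ) (hϑ : Cfsg.IsIrrCharacter N ϑ) (hinv : ∀ (g : G) (n : N), ϑ ⟨g * n * g⁻¹, hN.conj_mem (n : G) n.2 g⟩ = ϑ n) (d : ℕ) (hd : ϑ 1 = d) (hcop : Nat.Coprime N.index (Cfsg.detOrder ϑ * d)) : ∃ χ : G → ℂ, (Cfsg.IsIrrCharacter G χ ∧ (∀ n : N, χ n = ϑ n) ∧ Cfsg.detOrder χ = Cfsg.detOrder ϑ) ∧ ∀ χ' : G → ℂ, Cfsg.IsIrrCharacter G χ' → (∀ n : N, χ' n = ϑ n) → Nat.Coprime N.index (Cfsg.detOrder χ') → χ' = χ := by
  have hϑc := isChar_of_irr hϑ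
  have hcop1 : Nat.Coprime N.index (detOrder ϑ) := Nat.Coprime.coprime_mul_right_right hcop
  have hcop2 : Nat.Coprime N.index d := Nat.Coprime.coprime_mul_left_right hcop
  obtain ⟨l, hl⟩ := detChar_exists_hom ϑ hϑc
  have hlfun : detChar ϑ = fun n => (l n : ℂ) := funext hl
  have hol : detOrder ϑ = orderOf l := by
    unfold detOrder
    rw [hlfun, orderOf_homToFun]
  have hlinv : ∀ (g : G) (n : N), l ⟨g * n * g⁻¹, hN.conj_mem (n : G) n.2 g⟩ = l n := by
    intro g n
    apply Units.ext
    rw [← hl, ← hl]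
    exact detChar_invariant N ϑ hϑc hinv g n
  obtain ⟨F, hFN, hFo⟩ := exists_hom_extension_coprime N l hlinv (by rw [← hol]; exact hcop1)
  have hext : ∃ η : G → ℂ, IsIrrCharacter G η ∧ ∀ n : N, η n = ϑ n := by
    obtain ⟨d', θ, hθirr, hθ⟩ := hϑ
    have hd' : d' = d := by
      have h1 := hd
      rw [← hθ, Representation.char_one] at h1
      simpa using h1
    subst hd'
    have hdet : ∀ n : N, (F n : ℂ) = LinearMap.det (θ n) := by
      intro n
      rw [hFN, ← hl, detChar_of_rep θ ϑ ⟨d', θ, hθ⟩ hθ]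
    obtain ⟨ρ, hρ⟩ := exists_rep_extension_of_det θ hθirr (by rw [hθ]; exact hinv) F hdet hcop2
    exact exists_irr_extension_of_rep θ hθirr hθ ρ hρ
  obtain ⟨χ, hχ, hχN, hχdet⟩ := exists_irr_extension_det N ϑ hϑ d hd hcop2 hext F
    (fun n => by rw [hFN, hl])
  refine ⟨χ, ⟨hχ, hχN, ?_⟩, ?_⟩
  · unfold detOrder
    rw [hχdet, orderOf_homToFun, hFo, hlfun, orderOf_homToFun]
  · intro χ' hχ' hχ'N hcop'
    have hχ'c := isChar_of_irr hχ'
    obtain ⟨F', hF'⟩ := detChar_exists_hom χ' hχ'c
    have hF'fun : detChar χ' = fun g => (F' g : ℂ) := funext hF'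
    have hres : (fun x : N => χ' x) = ϑ := funext hχ'N
    have hF'N : ∀ n : N, F' n = l n := by
      intro n
      apply Units.ext
      rw [← hF', ← hl, ← detChar_restrict N χ' hχ'c n, hres]
    have hoF' : detOrder χ' = orderOf F' := by
      unfold detOrder
      rw [hF'fun, orderOf_homToFun]
    have hFF' : F' = F := hom_eq_of_coprime N F' F (fun n => by rw [hF'N, hFN])
      (by rw [← hoF']; exact hcop') (by rw [hFo, ← hol]; exact hcop1)
    exact irr_extension_det_unique N ϑ hϑ d hd hcop2 χ' χ hχ' hχ hχ'N hχN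
      (by rw [hF'fun, hχdet, hFF'])

end Cfsg.Agent.S0867
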