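import Cfsg.Statements.S1984
import Cfsg.Agent.S1972
import Cfsg.Agent.S1983
import Cfsg.Agent.Helper33.KIso

set_option autoImplicit false
universe u
open Cfsg

namespace Cfsg.Agent.S1984

/-- Let p ≥ 5 be a prime and G a finite group. Then the lower K-infinity subgroup controls transfer in G: for some (equivalently, every) Sylow p-subgroup S of G, S ∩ G' = S ∩ (N_G(K))', where K is the lower K-infinity subgroup of S. -/
theorem result {G : Type u} [Group G] [Finite G] {p : ℕ} [Fact p.Prime] (hp : 5 ≤ p) : Cfsg.ControlsTransferIn p (Cfsg.inducedFunctor (G := G) Cfsg.kInfLower) ⊤ := by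
  have hW : Cfsg.IsCharPFunctor.{u} p Cfsg.kInfLower := Cfsg.Agent.Helper33.isCharPFunctor_kInfLower p
  have h𝓦 : ∀ W' ∈ ({Cfsg.kInfLower} : Set (∀ (Q : Type u) [Group Q], Subgroup Q)),
      Cfsg.IsCharPFunctor.{u} p W' := by
    intro W' hW'
    rw [Set.mem_singleton_iff] at hW'
    rw [hW']
    exact hW
  have hctl := Cfsg.Agent.S1972.result (G := G) (p := p) Cfsg.kInfLower hW (by
    intro K R hR hcen T hnn
    obtain ⟨g, hgT, hgP, hg, -, -⟩ := Cfsg.Agent.S1983.result T (Or.inl hnn)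
    refine ⟨g, hgT, hgP, fun U V hUV hU => ?_⟩
    haveI := hUV.2.1
    exact (Cfsg.Agent.Helper33.iterCommutator_anti U (Subgroup.zpowers g)
      (Subgroup.commutator_le_left U _) (by omega : 4 ≤ p - 1)).trans (hg U V hUV hU))
  obtain ⟨K, R, hR, ⟨e⟩⟩ := (Cfsg.Agent.Helper33.IsSectionOf.refl G).exists_equiv
  exact Cfsg.Agent.Helper33.controlsTransferIn_top_of_secCT
    (Cfsg.Agent.Helper33.secCT_of_equiv h𝓦 e
      (Cfsg.Agent.Helper33.secCT_of_controlsTransferIn_top hW (hctl K R)))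

end Cfsg.Agent.S1984
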