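import Cfsg.Statements.S0108
import Cfsg.Agent.Helper70.FrobComp2
import Cfsg.Agent.Helper19.ThompsonNPC

set_option autoImplicit false
open Cfsg

namespace Cfsg.Agent.S0108

open Cfsg.Agent.Helper19 Cfsg.Agent.Helper70

universe uu

/-- Frobenius' criterion (helper70's library) in the `PNil` form. -/
theorem frobHyp (p : ℕ) [Fact p.Prime] : FrobHyp.{uu} p := by
  intro Γ _ _ hnot
  by_contra hcon
  apply hnot
  rw [pNil_top_iff_hasNPC]
  rw [hasNormalPComplement_iff_frobCond]
  apply frobCond_of_local
  intro Q hQ hQb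
  have h1 : PNil p (Subgroup.normalizer (Q : Set Γ)) := by
    by_contra h2
    exact hcon ⟨Q, hQ, hQb, h2⟩
  exact hasNormalPComplement_iff_hasNPC.mp ((pNil_iff_hasNPC _).mp h1)

/-- The Thompson normal p-complement Theorem, in the form stating that for odd p, G has a normal p-complement exactly when the normalizer of the Thompson subgroup J(P) and the centralizer of the centre of P both have one. -/
theorem result {G : Type*} [Group G] [Finite G] {p : ℕ} [Fact p.Prime] (hp : p ≠ 2) (P : Sylow p G) : Cfsg.HasNormalPComplement p G ↔ (Cfsg.HasNormalPComplement p (Subgroup.normalizer (Cfsg.thompsonSubgroupOf p (P : Subgroup G) : Set G)) ∧ Cfsg.HasNormalPComplement p (Subgroup.centralizer (((P : Subgroup G) ⊓ Subgroup.centralizer (P : Set G)) : Set G))) := by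
  constructor
  · intro h
    have h1 : PNil p (⊤ : Subgroup G) := pNil_top_iff_hasNPC.mpr h
    exact ⟨(pNil_iff_hasNPC _).mp (h1.mono le_top), (pNil_iff_hasNPC _).mp (h1.mono le_top)⟩
  · rintro ⟨hN, hC⟩
    rw [thompsonSubgroupOf_eq_JJ] at hN
    have hN' := (pNil_iff_hasNPC _).mpr hN
    have hC' := (pNil_iff_hasNPC _).mpr hC
    exact pNil_top_iff_hasNPC.mp (thompson_npc hp (frobHyp p) P hC' hN')

end Cfsg.Agent.S0108
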