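import Cfsg.Statements.S5226
import Cfsg.Agent.Helper87.Chain

set_option autoImplicit false
open Cfsg

namespace Cfsg.Agent.S5226


open Cfsg.FusionSystem Cfsg.Agent.Helper87
open scoped commutatorElement

/-- The descending chain used for the chain stabilizer. -/
def chainT {Ω : Type*} [Group Ω] (S Q : Subgroup Ω) (D : ℕ → Subgroup Ω) (j : ℕ) : ℕ → Subgroup Ω
  | 0 => S
  | 1 => Q
  | (k + 2) => if k ≤ j then D (j - k) else ⊥

/-- A map of the system defined on `P ⊔ Q` maps `Q` into `Q` (for `Q` strongly closed). -/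
theorem map_Q_mem {Ω : Type*} [Group Ω] {S : Subgroup Ω} (F : Cfsg.FusionSystem S) {Q : Subgroup Ω}
    (hQ : F.StronglyClosed Q) {P : Subgroup Ω} {ψ : ↥(P ⊔ Q) →* Ω} (hψ : ψ ∈ F.Hom (P ⊔ Q))
    (q : Ω) (hq : q ∈ Q) : ψ ⟨q, (le_sup_right : Q ≤ P ⊔ Q) hq⟩ ∈ Q :=
  hQ.2 Q le_rfl _ (hom_restrict F hψ (le_sup_right : Q ≤ P ⊔ Q)) ⟨q, hq⟩

/-- A map of the system defined on `P ⊔ Q` maps `Q` onto `Q` (for `Q` strongly closed, `S` finite). -/
theorem map_Q_surj {Ω : Type*} [Group Ω] {S : Subgroup Ω} [Finite S] (F : Cfsg.FusionSystem S)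
    {Q : Subgroup Ω} (hQ : F.StronglyClosed Q) {P : Subgroup Ω} {ψ : ↥(P ⊔ Q) →* Ω}
    (hψ : ψ ∈ F.Hom (P ⊔ Q)) (q : Ω) (hq : q ∈ Q) :
    ∃ (q' : Ω) (hq' : q' ∈ Q), ψ ⟨q', (le_sup_right : Q ≤ P ⊔ Q) hq'⟩ = q := by
  have h1 := hom_restrict F hψ (le_sup_right : Q ≤ P ⊔ Q)
  have h2 := range_eq_of_forall_mem F h1 (fun x => map_Q_mem F hQ hψ x x.2)
  have h3 : q ∈ (ψ.comp (Subgroup.inclusion (le_sup_right : Q ≤ P ⊔ Q))).range := by rw [h2]; exact hq
  obtain ⟨q', hq'⟩ := h3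
  exact ⟨q', q'.2, hq'⟩

theorem ext_of_chain {Ω : Type*} [Group Ω] {S : Subgroup Ω} [Finite S] (p : ℕ) [Fact p.Prime]
    (hS : IsPGroup p S) (F : Cfsg.FusionSystem S) (hF : F.IsSaturated p)
    (Q : Subgroup Ω) (hQ : F.StronglyClosed Q) (n : ℕ) (D : ℕ → Subgroup Ω) (hD0 : D 0 = ⊥) (hDn : D n = Q)
    (hmono : ∀ i < n, D i ≤ D (i + 1)) (hcomm : ∀ i < n, ⁅D (i + 1), Q⁆ ≤ D i)
    (hwc : ∀ i < n, F.WeaklyClosed (D i)) :
    ∀ (P : Subgroup Ω) (φ : P →* Ω), φ ∈ F.Hom P →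
      ∃ ψ ∈ F.Hom (P ⊔ Q), ∀ x : P, ψ ⟨x, (le_sup_left : P ≤ P ⊔ Q) x.2⟩ = φ x := by
  have hQS : Q ≤ S := hQ.1
  have hQnorm : ∀ s ∈ S, ∀ q ∈ Q, s * q * s⁻¹ ∈ Q := fun s hs q hq => stronglyClosed_conj_mem F hQ hs hq
  have supQ : ∀ {P : Subgroup Ω} (_ : P ≤ S) {y : Ω}, y ∈ P ⊔ Q ↔ ∃ a ∈ P, ∃ k ∈ Q, y = a * k :=
    fun {P} hP {y} => mem_sup_of_normalizes (H := P) (K := Q) (fun a ha k hk => hQnorm a (hP ha) k hk)
  -- values of an extension
  have hval : ∀ {P P₂ : Subgroup Ω} {φ : P →* Ω} (_ : φ ∈ F.Hom P) (_ : ∀ x : P, φ x ∈ P₂)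
      {φ' : ↥(P ⊔ Q) →* Ω} (_ : φ' ∈ F.Hom (P ⊔ Q))
      (_ : ∀ x : P, φ' ⟨x, (le_sup_left : P ≤ P ⊔ Q) x.2⟩ = φ x), ∀ y : ↥(P ⊔ Q), φ' y ∈ P₂ ⊔ Q := by
    intro P P₂ φ hφ hPQ φ' hφ' hext y
    obtain ⟨a, ha, k, hk, hy⟩ := (supQ (hom_le F hφ)).mp y.2
    have hy' : y = (⟨a, (le_sup_left : P ≤ P ⊔ Q) ha⟩ : ↥(P ⊔ Q)) * ⟨k, (le_sup_right : Q ≤ P ⊔ Q) hk⟩ :=
      Subtype.ext hy
    rw [hy', map_mul]
    refine Subgroup.mul_mem _ (Subgroup.mem_sup_left ?_) (Subgroup.mem_sup_right (map_Q_mem F hQ hφ' k hk))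
    rw [hext ⟨a, ha⟩]
    exact hPQ _
  refine alperin_induction hS F hF
    (fun P φ => ∃ ψ ∈ F.Hom (P ⊔ Q), ∀ x : P, ψ ⟨x, (le_sup_left : P ≤ P ⊔ Q) x.2⟩ = φ x) ?_ ?_ ?_ ?_
  · -- restriction
    rintro P P₁ h φ θ hφ hθ ⟨ψ, hψ, hψ'⟩
    refine ⟨ψ.comp (Subgroup.inclusion (sup_le_sup_right h Q)), hom_restrict F hψ _, fun x => ?_⟩
    rw [hθ]
    exact hψ' ⟨x, h x.2⟩
  · -- composition
    rintro P P₂ φ ψ θ hφ hψ hPQ hθ ⟨φ', hφ', hφ''⟩ ⟨ψ', hψ', hψ''⟩
    have hv := hval hφ hPQ hφ' hφ''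
    refine ⟨ψ'.comp (φ'.codRestrict (P₂ ⊔ Q) hv), F.comp_mem hφ' hψ' hv, fun x => ?_⟩
    rw [hθ]
    show ψ' ⟨φ' ⟨x, _⟩, _⟩ = ψ ⟨φ x, _⟩
    have e : (⟨φ' ⟨x, (le_sup_left : P ≤ P ⊔ Q) x.2⟩, hv _⟩ : ↥(P₂ ⊔ Q)) =
        ⟨((⟨φ x, hPQ x⟩ : P₂) : Ω), (le_sup_left : P₂ ≤ P₂ ⊔ Q) (hPQ x)⟩ := Subtype.ext (hφ'' x)
    rw [e]
    exact hψ'' ⟨φ x, hPQ x⟩
  · -- inverse
    rintro P P₂ φ ψ hφ hψ hr hPQ hψφ ⟨φ', hφ', hφ''⟩
    have hv := hval hφ hPQ hφ' hφ''
    have hrange : φ'.range = P₂ ⊔ Q := by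
      apply le_antisymm
      · rintro _ ⟨y, rfl⟩
        exact hv y
      · apply sup_le
        · intro z hz
          rw [← hr] at hz
          obtain ⟨x, rfl⟩ := hz
          exact ⟨⟨x, (le_sup_left : P ≤ P ⊔ Q) x.2⟩, hφ'' x⟩
        · intro q hq
          obtain ⟨q', hq', hqq⟩ := map_Q_surj F hQ hφ' q hq
          exact ⟨_, hqq⟩
    obtain ⟨ψ', hψ', -, hψ1, -⟩ := hom_inv F hφ' hrange
    refine ⟨ψ', hψ', fun z => ?_⟩
    have hz : (z : Ω) ∈ φ.range := by rw [hr]; exact z.2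
    obtain ⟨x, hx⟩ := hz
    have h1 := hψφ x
    have h2 : (⟨φ x, hPQ x⟩ : P₂) = z := Subtype.ext hx
    rw [h2] at h1
    rw [h1]
    have h3 := hψ1 ⟨x, (le_sup_left : P ≤ P ⊔ Q) x.2⟩ (hv _)
    have e : (⟨(z : Ω), (le_sup_left : P₂ ≤ P₂ ⊔ Q) z.2⟩ : ↥(P₂ ⊔ Q)) =
        ⟨φ' ⟨x, (le_sup_left : P ≤ P ⊔ Q) x.2⟩, hv _⟩ := by
      apply Subtype.ext
      show (z : Ω) = φ' ⟨x, _⟩
      rw [hφ'' x]
      exact hx.symm
    rw [e]
    exact h3
  · -- automorphisms
    intro R hfa hrec hbig α hα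
    have hRS : R ≤ S := hfa.1
    have hfinR : Finite R := finite_of_le hRS
    have hαF := (mem_autGroup_iff F hRS α).mp hα
    by_cases hQR : Q ≤ R
    · have hle : R ⊔ Q ≤ R := sup_le le_rfl hQR
      exact ⟨(R.subtype.comp α.toMonoidHom).comp (Subgroup.inclusion hle), hom_restrict F hαF hle,
        fun x => rfl⟩
    · classical
      have hex : ∃ i, ¬ D i ≤ R := ⟨n, by rw [hDn]; exact hQR⟩
      have hi₀ : ¬ D (Nat.find hex) ≤ R := Nat.find_spec hex
      have hi₀n : Nat.find hex ≤ n := Nat.find_min' hex (by rw [hDn]; exact hQR)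
      have hi₀pos : Nat.find hex ≠ 0 := by
        intro h
        rw [h, hD0] at hi₀
        exact hi₀ bot_le
      obtain ⟨j, hj⟩ : ∃ j, Nat.find hex = j + 1 := Nat.exists_eq_succ_of_ne_zero hi₀pos
      have hjR : ∀ i ≤ j, D i ≤ R := by
        intro i hi
        by_contra h
        have := Nat.find_min' hex h
        omega
      have hjn : j < n := by omega
      rw [hj] at hi₀
      have hmono' : ∀ b, b ≤ n → ∀ a, a ≤ b → D a ≤ D b := by
        intro b
        induction b with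
        | zero =>
          intro _ a ha
          have : a = 0 := by omega
          rw [this]
        | succ b ih =>
          intro hb a ha
          by_cases hab : a = b + 1
          · rw [hab]
          · exact (ih (by omega) a (by omega)).trans (hmono b (by omega))
      have hDQ : ∀ i ≤ n, D i ≤ Q := fun i hi => by
        have := hmono' n le_rfl i hi
        rwa [hDn] at this
      have hWS : D (j + 1) ≤ S := (hDQ _ (by omega)).trans hQS
      have hWnorm : ∀ s ∈ S, ∀ w ∈ D (j + 1), s * w * s⁻¹ ∈ D (j + 1) := by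
        intro s hs w hw
        by_cases h : j + 1 < n
        · have hwc' := hwc (j + 1) h
          have := hwc'.2 (conjHom (D (j + 1)) s) (F.conj_mem hwc'.1 hs)
          have h2 : conjHom (D (j + 1)) s ⟨w, hw⟩ ∈ (conjHom (D (j + 1)) s).range := ⟨_, rfl⟩
          rw [this] at h2
          exact h2
        · have : j + 1 = n := by omega
          rw [this, hDn] at hw ⊢
          exact hQnorm s hs w hw
      obtain ⟨t, htW, htN, htR⟩ := exists_mem_normalizer_not_mem hS hRS hWS hWnorm hi₀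
      have htQ : t ∈ Q := hDQ _ (by omega) htW
      -- the chain
      have hT : ∀ k < j + 2, chainT S Q D j (k + 1) ≤ chainT S Q D j k := by
        intro k hk
        match k, hk with
        | 0, _ => exact hQS
        | 1, _ =>
          show (if 0 ≤ j then D (j - 0) else ⊥) ≤ Q
          rw [if_pos (Nat.zero_le j)]
          exact hDQ _ (by omega)
        | (k + 2), hk =>
          show (if k + 1 ≤ j then D (j - (k + 1)) else ⊥) ≤ (if k ≤ j then D (j - k) else ⊥)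
          rw [if_pos (by omega), if_pos (by omega)]
          have h1 := hmono (j - (k + 1)) (by omega)
          have h2 : j - (k + 1) + 1 = j - k := by omega
          rwa [h2] at h1
      have hTn : R ⊓ chainT S Q D j (j + 2) = ⊥ := by
        show R ⊓ (if j ≤ j then D (j - j) else ⊥) = ⊥
        rw [if_pos le_rfl, Nat.sub_self, hD0]
        exact inf_bot_eq _
      have hKp : IsPGroup p (chainStab R (chainT S Q D j) (j + 2) hT) :=
        chainStab_isPGroup R (hS.to_le hRS) _ _ hT hRS hTn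
      have hinv : ∀ γ ∈ F.autGroup R, ∀ k ≤ j + 2, ∀ x : R, (x : Ω) ∈ chainT S Q D j k →
          ((γ x : R) : Ω) ∈ chainT S Q D j k := by
        intro γ hγ k hk x hx
        match k, hk, hx with
        | 0, _, _ => exact hRS (γ x).2
        | 1, _, hx => exact aut_mem_of_stronglyClosed F hQ hRS hγ x hx
        | (k + 2), hk, hx =>
          have hx' : (x : Ω) ∈ (if k ≤ j then D (j - k) else ⊥) := hx
          show ((γ x : R) : Ω) ∈ (if k ≤ j then D (j - k) else ⊥)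
          by_cases hkj : k ≤ j
          · rw [if_pos hkj] at hx' ⊢
            have hle : D (j - k) ≤ R := hjR _ (by omega)
            have hγF := (mem_autGroup_iff F hRS γ).mp hγ
            have h1 := hom_restrict F hγF hle
            have h2 := (hwc (j - k) (by omega)).2 _ h1
            have h3 : ((R.subtype.comp γ.toMonoidHom).comp (Subgroup.inclusion hle)) ⟨x, hx'⟩ ∈
                ((R.subtype.comp γ.toMonoidHom).comp (Subgroup.inclusion hle)).range := ⟨_, rfl⟩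
            rw [h2] at h3
            exact h3
          · rw [if_neg hkj] at hx' ⊢
            have : x = 1 := Subtype.ext (Subgroup.mem_bot.mp hx')
            rw [this, map_one]
            exact Subgroup.one_mem _
      have hc : R.normalizerMonoidHom ⟨t, htN⟩ ∈ chainStab R (chainT S Q D j) (j + 2) hT := by
        intro k hk x hx
        have hel : ((x⁻¹ * R.normalizerMonoidHom ⟨t, htN⟩ x : R) : Ω) = ⁅(x : Ω)⁻¹, t⁆ := by
          simp [commutatorElement_def, mul_assoc]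
        rw [hel]
        match k, hk, hx with
        | 0, _, _ =>
          show ⁅(x : Ω)⁻¹, t⁆ ∈ Q
          rw [commutatorElement_def]
          have h1 := hQnorm _ (S.inv_mem (hRS x.2)) t htQ
          have h2 : (x : Ω)⁻¹ * t * (x : Ω)⁻¹⁻¹ * t⁻¹ = ((x : Ω)⁻¹ * t * (x : Ω)⁻¹⁻¹) * t⁻¹ := by group
          rw [h2]
          exact Q.mul_mem h1 (Q.inv_mem htQ)
        | 1, _, hx =>
          show ⁅(x : Ω)⁻¹, t⁆ ∈ (if 0 ≤ j then D (j - 0) else ⊥)
          rw [if_pos (Nat.zero_le j)]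
          have h1 : ⁅t, (x : Ω)⁻¹⁆ ∈ ⁅D (j + 1), Q⁆ :=
            Subgroup.commutator_mem_commutator htW (Q.inv_mem hx)
          have h2 := hcomm j hjn h1
          rw [← commutatorElement_inv]
          exact Subgroup.inv_mem _ h2
        | (k + 2), hk, hx =>
          have hx' : (x : Ω) ∈ (if k ≤ j then D (j - k) else ⊥) := hx
          show ⁅(x : Ω)⁻¹, t⁆ ∈ (if k + 1 ≤ j then D (j - (k + 1)) else ⊥)
          rw [if_pos (by omega)] at hx' ⊢
          have h0 : j - (k + 1) + 1 = j - k := by omega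
          have h1 : ⁅(x : Ω)⁻¹, t⁆ ∈ ⁅D (j - (k + 1) + 1), Q⁆ :=
            Subgroup.commutator_mem_commutator (by rw [h0]; exact Subgroup.inv_mem _ hx') htQ
          exact hcomm (j - (k + 1)) (by omega) h1
      obtain ⟨R', hRR', hcard, ψ, hψ, hψ'⟩ := exists_extension_of_normal_pgroup F hfa hrec _ hKp
        (chainStab_normal F _ _ hT hinv) ⟨t, htN⟩ (hWS htW) htR hc α hα
      obtain ⟨ψ₂, hψ₂, hψ₂'⟩ := hbig R' ψ hψ hcard
      refine ⟨ψ₂.comp (Subgroup.inclusion (sup_le_sup_right hRR' Q)), hom_restrict F hψ₂ _, fun x => ?_⟩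
      show ψ₂ ⟨x, _⟩ = α x
      rw [← hψ' x]
      exact hψ₂' ⟨x, hRR' x.2⟩

/-- Let F be a saturated fusion system over a finite p-group S and Q a subgroup of S. Then Q is normal in F (F equals the normalizer system of Q) if and only if Q is strongly closed in F and admits a central series 1 = Q₀ ≤ Q₁ ≤ ⋯ ≤ Qₙ = Q ([Qᵢ₊₁, Q] ≤ Qᵢ) all of whose proper terms are weakly closed in F. -/
theorem result {Ω : Type*} [Group Ω] {S : Subgroup Ω} [Finite S] (p : ℕ) [Fact p.Prime] (hS : IsPGroup p S) (F : Cfsg.FusionSystem S) (hF : F.IsSaturated p) (Q : Subgroup Ω) : F.IsNormal Q ↔ F.StronglyClosed Q ∧ ∃ (n : ℕ) (C : Fin (n + 1) → Subgroup Ω), C 0 = ⊥ ∧ C (Fin.last n) = Q ∧ Monotone C ∧ (∀ i : Fin n, ⁅C i.succ, Q⁆ ≤ C i.castSucc) ∧ ∀ i : Fin n, F.WeaklyClosed (C i.castSucc) := by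
  constructor
  · -- forward
    rintro ⟨hQS, hext⟩
    have hfinQ : Finite Q := finite_of_le hQS
    have hsc : F.StronglyClosed Q := by
      refine ⟨hQS, fun R hR φ hφ x => ?_⟩
      obtain ⟨ψ, hψ, hψ1, hψ2⟩ := hext R φ hφ
      rw [← hψ1 x]
      have hmem : ψ (Subgroup.inclusion (le_sup_left : R ≤ R ⊔ Q) x) ∈
          Subgroup.map ψ (Q.subgroupOf (R ⊔ Q)) :=
        ⟨_, Subgroup.mem_subgroupOf.mpr (hR x.2), rfl⟩
      rw [hψ2] at hmem
      exact hmem
    refine ⟨hsc, ?_⟩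
    have hnil : Group.IsNilpotent Q := (hS.to_le hQS).isNilpotent
    obtain ⟨n, hn⟩ := hnil.nilpotent'
    refine ⟨n, fun i => (Subgroup.upperCentralSeries Q i).map Q.subtype, ?_, ?_, ?_, ?_, ?_⟩
    · show (Subgroup.upperCentralSeries Q 0).map Q.subtype = ⊥
      rw [Subgroup.upperCentralSeries_zero, Subgroup.map_bot]
    · show (Subgroup.upperCentralSeries Q n).map Q.subtype = Q
      rw [hn, ← MonoidHom.range_eq_map, Subgroup.range_subtype]
    · intro a b hab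
      exact Subgroup.map_mono (Subgroup.upperCentralSeries_mono Q (Fin.le_def.mp hab))
    · intro i
      rw [Subgroup.commutator_le]
      rintro _ ⟨z, hz, rfl⟩ b hb
      refine ⟨⁅z, ⟨b, hb⟩⁆, ?_, rfl⟩
      exact Subgroup.mem_upperCentralSeries_succ_iff.mp hz ⟨b, hb⟩
    · intro i
      have hCQ : (Subgroup.upperCentralSeries Q (i.castSucc : ℕ)).map Q.subtype ≤ Q := by
        rintro _ ⟨z, -, rfl⟩
        exact z.2
      refine ⟨hCQ.trans hQS, fun φ hφ => ?_⟩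
      obtain ⟨ψ, hψ, hψ1, hψ2⟩ := hext _ φ hφ
      -- ψ restricted to Q is an automorphism of Q
      have hψQ := hom_restrict F hψ (le_sup_right :
        Q ≤ (Subgroup.upperCentralSeries Q (i.castSucc : ℕ)).map Q.subtype ⊔ Q)
      have hψQmem : ∀ q : Q, (ψ.comp (Subgroup.inclusion (le_sup_right :
          Q ≤ (Subgroup.upperCentralSeries Q (i.castSucc : ℕ)).map Q.subtype ⊔ Q))) q ∈ Q := by
        intro q
        have hmem : (ψ.comp (Subgroup.inclusion (le_sup_right :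
            Q ≤ (Subgroup.upperCentralSeries Q (i.castSucc : ℕ)).map Q.subtype ⊔ Q))) q ∈
            Subgroup.map ψ (Q.subgroupOf ((Subgroup.upperCentralSeries Q (i.castSucc : ℕ)).map Q.subtype ⊔ Q)) :=
          ⟨_, Subgroup.mem_subgroupOf.mpr q.2, rfl⟩
        rw [hψ2] at hmem
        exact hmem
      have hinj : Function.Injective ((ψ.comp (Subgroup.inclusion (le_sup_right :
          Q ≤ (Subgroup.upperCentralSeries Q (i.castSucc : ℕ)).map Q.subtype ⊔ Q))).codRestrict Q hψQmem) := by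
        intro a b hab
        exact F.injective_of_mem hψQ (congrArg Subtype.val hab)
      let σ : MulAut Q := MulEquiv.ofBijective _ ⟨hinj, Finite.surjective_of_injective hinj⟩
      have hchar : (Subgroup.upperCentralSeries Q (i.castSucc : ℕ)).Characteristic := inferInstance
      refine range_eq_of_forall_mem F hφ (fun x => ?_)
      obtain ⟨z, hz, hzx⟩ := x.2
      have h1 : σ z ∈ Subgroup.upperCentralSeries Q (i.castSucc : ℕ) := by
        have := (Subgroup.characteristic_iff_map_le.mp hchar) σ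
        exact this ⟨z, hz, rfl⟩
      refine ⟨σ z, h1, ?_⟩
      rw [← hψ1 x]
      show ψ ⟨(z : Ω), _⟩ = ψ _
      congr 1
      exact Subtype.ext hzx
  · -- backward
    rintro ⟨hQ, n, C, hC0, hCn, hCmono, hCcomm, hCwc⟩
    have hQS : Q ≤ S := hQ.1
    let D : ℕ → Subgroup Ω := fun i => if h : i < n + 1 then C ⟨i, h⟩ else Q
    have hD : ∀ (i : ℕ) (h : i < n + 1), D i = C ⟨i, h⟩ := fun i h => dif_pos h
    have hD0 : D 0 = ⊥ := by rw [hD 0 (Nat.succ_pos n)]; exact hC0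
    have hDn : D n = Q := by rw [hD n (Nat.lt_succ_self n)]; exact hCn
    have hmono : ∀ i < n, D i ≤ D (i + 1) := by
      intro i hi
      rw [hD i (by omega), hD (i + 1) (by omega)]
      exact hCmono (Fin.mk_le_mk.mpr (Nat.le_succ i))
    have hcomm : ∀ i < n, ⁅D (i + 1), Q⁆ ≤ D i := by
      intro i hi
      rw [hD i (by omega), hD (i + 1) (by omega)]
      exact hCcomm ⟨i, hi⟩
    have hwc : ∀ i < n, F.WeaklyClosed (D i) := by
      intro i hi
      rw [hD i (by omega)]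
      exact hCwc ⟨i, hi⟩
    have key := ext_of_chain p hS F hF Q hQ n D hD0 hDn hmono hcomm hwc
    refine ⟨hQS, fun P φ hφ => ?_⟩
    obtain ⟨ψ, hψ, hψ'⟩ := key P φ hφ
    refine ⟨ψ, hψ, fun x => hψ' x, ?_⟩
    ext y
    constructor
    · rintro ⟨z, hz, rfl⟩
      exact map_Q_mem F hQ hψ z (Subgroup.mem_subgroupOf.mp hz)
    · intro hy
      obtain ⟨q', hq', hqq⟩ := map_Q_surj F hQ hψ y hy
      exact ⟨_, Subgroup.mem_subgroupOf.mpr hq', hqq⟩

end Cfsg.Agent.S5226
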