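import Cfsg.Statements.S5625
import Cfsg.Agent.Helper93.Steiner

set_option autoImplicit false
open Cfsg

namespace Cfsg.Agent.S5625

/-- In any Steiner system S(5, 8, 24) and for any set Y of three points, the blocks meeting Y in exactly 3, 2, 1 and 0 points number 21, 168, 360 and 210 respectively (so there are 759 blocks in all). -/
theorem result (α : Type*) [Fintype α] [DecidableEq α] (hα : Fintype.card α = 24) (B : Set (Finset α)) (hB : Cfsg.IsSteinerSystem 5 8 B) (Y : Finset α) (hY : Y.card = 3) : {b : Finset α | b ∈ B ∧ (b ∩ Y).card = 3}.ncard = 21 ∧ {b : Finset α | b ∈ B ∧ (b ∩ Y).card = 2}.ncard = 168 ∧ {b : Finset α | b ∈ B ∧ (b ∩ Y).card = 1}.ncard = 360 ∧ {b : Finset α | b ∈ B ∧ (b ∩ Y).card = 0}.ncard = 210 := by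
  classical
  have hset : ∀ i : ℕ, {b : Finset α | b ∈ B ∧ (b ∩ Y).card = i}.ncard =
      ((Finset.univ.filter (fun b : Finset α => b ∈ B)).filter
        (fun b => (b ∩ Y).card = i)).card := by
    intro i
    rw [← Set.ncard_coe_finset]
    congr 1
    ext b
    simp
  have hmaps : ∀ b ∈ Finset.univ.filter (fun b : Finset α => b ∈ B),
      (b ∩ Y).card ∈ Finset.range 4 := by
    intro b _
    rw [Finset.mem_range]
    have := Finset.card_le_card (Finset.inter_subset_right : b ∩ Y ⊆ Y)
    omega
  have hsum : ∀ j : ℕ, ∑ i ∈ Finset.range 4,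
      ((Finset.univ.filter (fun b : Finset α => b ∈ B)).filter
        (fun b => (b ∩ Y).card = i)).card * i.choose j =
      ∑ S ∈ Y.powersetCard j,
        (Finset.univ.filter (fun b : Finset α => b ∈ B ∧ S ⊆ b)).card := by
    intro j
    rw [← Cfsg.Agent.Helper93.sum_choose_inter, ← Finset.sum_fiberwise_of_maps_to hmaps]
    apply Finset.sum_congr rfl
    intro i _
    rw [Finset.card_eq_sum_ones, Finset.sum_mul]
    apply Finset.sum_congr rfl
    intro b hb
    rw [(Finset.mem_filter.mp hb).2, one_mul]
  have h0 := hsum 0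
  have h1 := hsum 1
  have h2 := hsum 2
  have h3 := hsum 3
  rw [Finset.sum_congr rfl (fun S hS =>
    (Cfsg.Agent.Helper93.steiner_5_8_24_lambda hα B hB S).1
      (Finset.mem_powersetCard.mp hS).2)] at h0
  rw [Finset.sum_congr rfl (fun S hS =>
    (Cfsg.Agent.Helper93.steiner_5_8_24_lambda hα B hB S).2.1
      (Finset.mem_powersetCard.mp hS).2)] at h1
  rw [Finset.sum_congr rfl (fun S hS =>
    (Cfsg.Agent.Helper93.steiner_5_8_24_lambda hα B hB S).2.2.1
      (Finset.mem_powersetCard.mp hS).2)] at h2
  rw [Finset.sum_congr rfl (fun S hS =>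
    (Cfsg.Agent.Helper93.steiner_5_8_24_lambda hα B hB S).2.2.2.1
      (Finset.mem_powersetCard.mp hS).2)] at h3
  simp only [Finset.sum_const, Finset.card_powersetCard, hY, smul_eq_mul,
    Finset.sum_range_succ, Finset.sum_range_zero] at h0 h1 h2 h3
  rw [hset, hset, hset, hset]
  generalize ((Finset.univ.filter (fun b : Finset α => b ∈ B)).filter
        (fun b => (b ∩ Y).card = 0)).card = n0 at *
  generalize ((Finset.univ.filter (fun b : Finset α => b ∈ B)).filter
        (fun b => (b ∩ Y).card = 1)).card = n1 at *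
  generalize ((Finset.univ.filter (fun b : Finset α => b ∈ B)).filter
        (fun b => (b ∩ Y).card = 2)).card = n2 at *
  generalize ((Finset.univ.filter (fun b : Finset α => b ∈ B)).filter
        (fun b => (b ∩ Y).card = 3)).card = n3 at *
  norm_num [Nat.choose] at h0 h1 h2 h3
  omega

end Cfsg.Agent.S5625
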