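import Cfsg.Statements.S5626
import Cfsg.Agent.Helper93.Plane4Iso

set_option autoImplicit false
open Cfsg

namespace Cfsg.Agent.S5626

/-- Uniqueness of the projective plane of order 4: any two Steiner systems S(2, 5, 21) (21 points, lines of 5 points, two points on exactly one line) are isomorphic. -/
theorem result {α β : Type*} [Fintype α] [DecidableEq α] [Fintype β] [DecidableEq β] (hα : Fintype.card α = 21) (hβ : Fintype.card β = 21) {L : Set (Finset α)} {L' : Set (Finset β)} (hL : Cfsg.IsSteinerSystem 2 5 L) (hL' : Cfsg.IsSteinerSystem 2 5 L') : Cfsg.SetSystemIso L L' := by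
  obtain ⟨H, h⟩ := Cfsg.Agent.Helper93.exists_hyperoval hα L hL
  obtain ⟨H', h'⟩ := Cfsg.Agent.Helper93.exists_hyperoval hβ L' hL'
  have hcard : H.card = H'.card := by rw [h.six, h'.six]
  have hne : H'.Nonempty := by
    rw [← Finset.card_pos, h'.six]; norm_num
  obtain ⟨b0, hb0⟩ := hne
  let eq := Finset.equivOfCardEq hcard
  let e : α → β := fun a => if ha : a ∈ H then (eq ⟨a, ha⟩ : β) else b0
  have heH : ∀ a ∈ H, e a ∈ H' := by
    intro a ha
    simp only [e, dif_pos ha]
    exact (eq ⟨a, ha⟩).2
  have hinj : Set.InjOn e H := by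
    intro a ha b hb hab
    simp only [e, dif_pos (show a ∈ H from ha), dif_pos (show b ∈ H from hb)] at hab
    have := eq.injective (Subtype.ext hab)
    exact congrArg Subtype.val this
  refine ⟨Equiv.ofBijective _ (Cfsg.Agent.Helper93.extMap_bijective h h' e heH hinj), ?_⟩
  exact Cfsg.Agent.Helper93.extMap_iso h h' e heH hinj

end Cfsg.Agent.S5626
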