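import Cfsg.Statements.S0369
import Cfsg.Agent.Helper7.M24Trans

set_option autoImplicit false
open scoped Pointwise
open Cfsg

namespace Cfsg.Agent.S0369

open Cfsg.Agent.Helper7 in
/-- The group of the length-24 code coincides with the automorphism group of its octad system. -/
theorem result : Cfsg.M24 = Cfsg.setSystemAut Cfsg.octads := by
  ext g
  constructor
  · intro hg
    show g ∈ MulAction.stabilizer (Equiv.Perm GolayPt) octads
    rw [MulAction.mem_stabilizer_iff]
    apply Set.eq_of_subset_of_ncard_le
    · rintro x ⟨o, ho, rfl⟩
      exact smul_mem_wordsOfWeight hg ho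
    · rw [← Set.image_smul, Set.ncard_image_of_injective _ (MulAction.injective g)]
    · exact Set.toFinite _
  · intro hg
    have hg' : g • octads = octads := MulAction.mem_stabilizer_iff.mp hg
    apply mem_M24_of_basis
    intro b hb
    obtain ⟨hin, hwt⟩ := basis_octads b hb
    have ho : setOf b ∈ octads := by
      have := setOf_mem_wordsOfWeight hin
      rwa [hwt] at this
    have hgo : g • setOf b ∈ octads := by
      rw [← hg']
      exact Set.smul_mem_smul_set ho
    obtain ⟨w, hw, hs, _⟩ := mem_wordsOfWeight.mp hgo
    rw [← support_wordOf, ← support_comp_symm] at hs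
    rw [← support₂_injective hs]
    exact hw

end Cfsg.Agent.S0369
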