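-- Statement S0366: M24 is 5-transitive.
import Cfsg.Statements.S0366
import Cfsg.Agent.Helper91.M24Five

set_option autoImplicit false
open Cfsg

namespace Cfsg.Agent.S0366

open Cfsg.Agent.Helper91

theorem ofFn_five (x : Fin 5 ↪ GolayPt) :
    ∃ u ∈ M24, ∀ i : Fin 5, x i = u (pt ([23, 0, 1, 2, 3].getD i.val 0)) := by
  obtain ⟨u, hu, h⟩ := m24_five_trans (List.ofFn x) (by simp)
    (List.nodup_ofFn.2 x.injective)
  refine ⟨u, hu, ?_⟩
  have h0 : List.ofFn x = [x 0, x 1, x 2, x 3, x 4] := by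
    simp [List.ofFn_succ]
  rw [h0] at h
  simp only [List.cons.injEq, and_true] at h
  obtain ⟨e0, e1, e2, e3, e4⟩ := h
  intro i
  fin_cases i
  · exact e0
  · exact e1
  · exact e2
  · exact e3
  · exact e4

/-- The permutation group preserving the length-24 code is 5-transitive on the 24 points. -/
theorem result : MulAction.IsMultiplyPretransitive Cfsg.M24 Cfsg.GolayPt 5 := by
  refine ⟨fun x y => ?_⟩
  obtain ⟨u, hu, hx⟩ := ofFn_five x
  obtain ⟨v, hv, hy⟩ := ofFn_five y
  refine ⟨⟨v * u⁻¹, mul_mem hv (inv_mem hu)⟩, ?_⟩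
  apply Function.Embedding.ext
  intro i
  rw [Function.Embedding.smul_apply, hx i, hy i]
  show (v * u⁻¹) (u _) = v _
  rw [Equiv.Perm.mul_apply]
  congr 1
  exact Equiv.symm_apply_apply u _

end Cfsg.Agent.S0366
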