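import Cfsg.Statements.S0414
import Cfsg.Agent.Helper93.SteinerAut22

set_option autoImplicit false
open Cfsg

namespace Cfsg.Agent.S0414

/-- Aut of an S(3, 6, 22) has order 887040, is 3-transitive, and contains a simple subgroup of index 2. -/
theorem result {α : Type*} [Fintype α] [DecidableEq α] (hα : Fintype.card α = 22) {B : Set (Finset α)} (hB : Cfsg.IsSteinerSystem 3 6 B) : Nat.card (Cfsg.setSystemAut B) = 887040 ∧ MulAction.IsMultiplyPretransitive (Cfsg.setSystemAut B) α 3 ∧ ∃ H : Subgroup (Cfsg.setSystemAut B), H.index = 2 ∧ Cfsg.IsM22 H := by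
  obtain ⟨e, he⟩ := Cfsg.Agent.Helper93.steiner_3_6_22_conc hα hB
  let Φ : Cfsg.setSystemAut B ≃*
      Cfsg.setSystemAut (Cfsg.Agent.Helper93.concR Cfsg.Agent.Helper93.R2) :=
    Cfsg.Agent.Helper93.autCongr e he
  have hcard : Nat.card (Cfsg.setSystemAut B) = 887040 := by
    rw [Nat.card_congr Φ.toEquiv]
    exact Cfsg.Agent.Helper93.card_aut22
  refine ⟨hcard, ?_, ?_⟩
  · have := Cfsg.Agent.Helper93.aut22_trans
    exact Cfsg.Agent.Helper93.multTrans_transfer
      (H := Cfsg.setSystemAut (Cfsg.Agent.Helper93.concR Cfsg.Agent.Helper93.R2)) e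
      (fun u hu => (Cfsg.Agent.Helper93.aut_mem_iff' e he u).2 hu) 3
  · obtain ⟨H₂, hs, hc⟩ := Cfsg.Agent.Helper93.exists_M22_sub
    have eqH := Subgroup.equivMapOfInjective H₂ Φ.symm.toMonoidHom Φ.symm.injective
    have hcH : Nat.card (H₂.map Φ.symm.toMonoidHom) = 443520 := by
      rw [← Nat.card_congr eqH.toEquiv]
      exact hc
    refine ⟨H₂.map Φ.symm.toMonoidHom, ?_, ?_, hcH⟩
    · have := Subgroup.card_mul_index (H₂.map Φ.symm.toMonoidHom)
      rw [hcard, hcH] at this
      omega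
    · exact eqH.symm.isSimpleGroup

end Cfsg.Agent.S0414
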