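import Cfsg.Statements.S0428
import Cfsg.Agent.Helper93.PointBlock

set_option autoImplicit false
open Cfsg

namespace Cfsg.Agent.S0428

/-- The point-block graph of an S(3, 6, 22) is strongly regular with parameters (100, 22, 0, 6). -/
theorem result {α : Type*} [Fintype α] (hα : Fintype.card α = 22) {B : Set (Finset α)} (hB : Cfsg.IsSteinerSystem 3 6 B) [Fintype B] [DecidableRel (Cfsg.pointBlockGraph B).Adj] : (Cfsg.pointBlockGraph B).IsSRGWith 100 22 0 6 := by
  classical
  have hadjBB := Cfsg.Agent.Helper93.pb_adj_inr_inr' B hB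
  have hfA : ∀ b : Finset α, (Finset.univ.filter (fun a : α => a ∈ b)).card = b.card := by
    intro b
    congr 1
    ext a
    simp
  have hfT : (Finset.univ.filter (fun _ : α => True)).card = 22 := by
    rw [Finset.filter_true_of_mem (fun _ _ => trivial), Finset.card_univ, hα]
  have hfF : (Finset.univ.filter (fun _ : α => False)).card = 0 := by simp
  have hlF : ((Cfsg.Agent.Helper93.linesF B).filter (fun _ => False)).card = 0 := by simp
  refine ⟨?_, ?_, ?_, ?_⟩
  · rw [Fintype.card_option, Fintype.card_sum, hα, Cfsg.Agent.Helper93.card_blocks_type, Cfsg.Agent.Helper93.s22_card hα B hB]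
  · intro u
    rw [← SimpleGraph.card_neighborSet_eq_degree]
    rcases u with _ | (a | b)
    · rw [Cfsg.Agent.Helper93.card_set_pb B _ False (fun _ => True) (fun _ => False)
        (by rw [SimpleGraph.mem_neighborSet]; exact iff_of_false (Cfsg.Agent.Helper93.pb_adj_none_none B) id)
        (fun a => by rw [SimpleGraph.mem_neighborSet]; exact iff_of_true (Cfsg.Agent.Helper93.pb_adj_none_inl B a) trivial)
        (fun b => by rw [SimpleGraph.mem_neighborSet]; exact iff_of_false (Cfsg.Agent.Helper93.pb_adj_none_inr B b) id)]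
      rw [hfT, hlF]; rfl
    · rw [Cfsg.Agent.Helper93.card_set_pb B _ True (fun _ => False) (fun c => a ∈ c)
        (by rw [SimpleGraph.mem_neighborSet]; exact iff_of_true (Cfsg.Agent.Helper93.pb_adj_inl_none B a) trivial)
        (fun a' => by rw [SimpleGraph.mem_neighborSet]; exact iff_of_false (Cfsg.Agent.Helper93.pb_adj_inl_inl B a a') id)
        (fun c => by rw [SimpleGraph.mem_neighborSet]; exact Cfsg.Agent.Helper93.pb_adj_inl_inr B a c)]
      rw [hfF, Cfsg.Agent.Helper93.s22_through_one hα B hB a]; rfl
    · rw [Cfsg.Agent.Helper93.card_set_pb B _ False (fun a => a ∈ (b : Finset α)) (fun c => Disjoint c (b : Finset α))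
        (by rw [SimpleGraph.mem_neighborSet]; exact iff_of_false (Cfsg.Agent.Helper93.pb_adj_inr_none B b) id)
        (fun a => by rw [SimpleGraph.mem_neighborSet]; exact Cfsg.Agent.Helper93.pb_adj_inr_inl B a b)
        (fun c => by rw [SimpleGraph.mem_neighborSet]; exact hadjBB b c)]
      rw [hfA, hB.1 _ b.2, Cfsg.Agent.Helper93.s22_disjoint hα B hB b.2]; rfl
  · intro u v huv
    rcases u with _ | (a | b) <;> rcases v with _ | (a' | c)
    · exact absurd huv (Cfsg.Agent.Helper93.pb_adj_none_none B)
    · rw [Cfsg.Agent.Helper93.card_set_pb B _ False (fun _ => False) (fun _ => False)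
        (by rw [SimpleGraph.mem_commonNeighbors]; exact iff_of_false (fun h => Cfsg.Agent.Helper93.pb_adj_none_none B h.1) id)
        (fun x => by rw [SimpleGraph.mem_commonNeighbors]; exact iff_of_false (fun h => Cfsg.Agent.Helper93.pb_adj_inl_inl B a' x h.2) id)
        (fun d => by rw [SimpleGraph.mem_commonNeighbors]; exact iff_of_false (fun h => Cfsg.Agent.Helper93.pb_adj_none_inr B d h.1) id)]
      rw [hfF, hlF]; rfl
    · exact absurd huv (Cfsg.Agent.Helper93.pb_adj_none_inr B c)
    · rw [Cfsg.Agent.Helper93.card_set_pb B _ False (fun _ => False) (fun _ => False)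
        (by rw [SimpleGraph.mem_commonNeighbors]; exact iff_of_false (fun h => Cfsg.Agent.Helper93.pb_adj_none_none B h.2) id)
        (fun x => by rw [SimpleGraph.mem_commonNeighbors]; exact iff_of_false (fun h => Cfsg.Agent.Helper93.pb_adj_inl_inl B a x h.1) id)
        (fun d => by rw [SimpleGraph.mem_commonNeighbors]; exact iff_of_false (fun h => Cfsg.Agent.Helper93.pb_adj_none_inr B d h.2) id)]
      rw [hfF, hlF]; rfl
    · exact absurd huv (Cfsg.Agent.Helper93.pb_adj_inl_inl B a a')
    · have hac : a ∈ (c : Finset α) := (Cfsg.Agent.Helper93.pb_adj_inl_inr B a c).1 huv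
      rw [Cfsg.Agent.Helper93.card_set_pb B _ False (fun _ => False) (fun _ => False)
        (by rw [SimpleGraph.mem_commonNeighbors]; exact iff_of_false (fun h => Cfsg.Agent.Helper93.pb_adj_inr_none B c h.2) id)
        (fun x => by rw [SimpleGraph.mem_commonNeighbors]; exact iff_of_false (fun h => Cfsg.Agent.Helper93.pb_adj_inl_inl B a x h.1) id)
        (fun d => by
          rw [SimpleGraph.mem_commonNeighbors]
          refine iff_of_false (fun h => ?_) id
          have h1 := (Cfsg.Agent.Helper93.pb_adj_inl_inr B a d).1 h.1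
          have h2 := (hadjBB c d).1 h.2
          exact (Finset.disjoint_left.1 h2 h1) hac)]
      rw [hfF, hlF]; rfl
    · exact absurd huv (Cfsg.Agent.Helper93.pb_adj_inr_none B b)
    · have hab : a' ∈ (b : Finset α) := (Cfsg.Agent.Helper93.pb_adj_inr_inl B a' b).1 huv
      rw [Cfsg.Agent.Helper93.card_set_pb B _ False (fun _ => False) (fun _ => False)
        (by rw [SimpleGraph.mem_commonNeighbors]; exact iff_of_false (fun h => Cfsg.Agent.Helper93.pb_adj_inr_none B b h.1) id)
        (fun x => by rw [SimpleGraph.mem_commonNeighbors]; exact iff_of_false (fun h => Cfsg.Agent.Helper93.pb_adj_inl_inl B a' x h.2) id)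
        (fun d => by
          rw [SimpleGraph.mem_commonNeighbors]
          refine iff_of_false (fun h => ?_) id
          have h1 := (Cfsg.Agent.Helper93.pb_adj_inl_inr B a' d).1 h.2
          have h2 := (hadjBB b d).1 h.1
          exact (Finset.disjoint_left.1 h2 h1) hab)]
      rw [hfF, hlF]; rfl
    · have hbc : Disjoint (c : Finset α) (b : Finset α) := (hadjBB b c).1 huv
      rw [Cfsg.Agent.Helper93.card_set_pb B _ False (fun _ => False) (fun _ => False)
        (by rw [SimpleGraph.mem_commonNeighbors]; exact iff_of_false (fun h => Cfsg.Agent.Helper93.pb_adj_inr_none B b h.1) id)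
        (fun x => by
          rw [SimpleGraph.mem_commonNeighbors]
          refine iff_of_false (fun h => ?_) id
          have h1 := (Cfsg.Agent.Helper93.pb_adj_inr_inl B x b).1 h.1
          have h2 := (Cfsg.Agent.Helper93.pb_adj_inr_inl B x c).1 h.2
          exact (Finset.disjoint_left.1 hbc h2) h1)
        (fun d => by
          rw [SimpleGraph.mem_commonNeighbors]
          refine iff_of_false (fun h => ?_) id
          have h1 := (hadjBB b d).1 h.1
          have h2 := (hadjBB c d).1 h.2
          exact Cfsg.Agent.Helper93.s22_no_triangle hα B hB b.2 c.2 d.2 hbc h1 h2)]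
      rw [hfF, hlF]; rfl
  · intro u v hne huv
    rcases u with _ | (a | b) <;> rcases v with _ | (a' | c)
    · exact absurd rfl hne
    · exact absurd (Cfsg.Agent.Helper93.pb_adj_none_inl B a') huv
    · rw [Cfsg.Agent.Helper93.card_set_pb B _ False (fun x => x ∈ (c : Finset α)) (fun _ => False)
        (by rw [SimpleGraph.mem_commonNeighbors]; exact iff_of_false (fun h => Cfsg.Agent.Helper93.pb_adj_none_none B h.1) id)
        (fun x => by
          rw [SimpleGraph.mem_commonNeighbors]
          exact ⟨fun h => (Cfsg.Agent.Helper93.pb_adj_inr_inl B x c).1 h.2,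
            fun h => ⟨Cfsg.Agent.Helper93.pb_adj_none_inl B x, (Cfsg.Agent.Helper93.pb_adj_inr_inl B x c).2 h⟩⟩)
        (fun d => by rw [SimpleGraph.mem_commonNeighbors]; exact iff_of_false (fun h => Cfsg.Agent.Helper93.pb_adj_none_inr B d h.1) id)]
      rw [hfA, hB.1 _ c.2, hlF]; rfl
    · exact absurd (Cfsg.Agent.Helper93.pb_adj_inl_none B a) huv
    · have haa : a ≠ a' := fun e => hne (by rw [e])
      rw [Cfsg.Agent.Helper93.card_set_pb B _ True (fun _ => False) (fun d => a ∈ d ∧ a' ∈ d)
        (by rw [SimpleGraph.mem_commonNeighbors]; exact iff_of_true ⟨Cfsg.Agent.Helper93.pb_adj_inl_none B a, Cfsg.Agent.Helper93.pb_adj_inl_none B a'⟩ trivial)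
        (fun x => by rw [SimpleGraph.mem_commonNeighbors]; exact iff_of_false (fun h => Cfsg.Agent.Helper93.pb_adj_inl_inl B a x h.1) id)
        (fun d => by
          rw [SimpleGraph.mem_commonNeighbors, Cfsg.Agent.Helper93.pb_adj_inl_inr, Cfsg.Agent.Helper93.pb_adj_inl_inr])]
      rw [hfF, Cfsg.Agent.Helper93.s22_through_two hα B hB haa]; rfl
    · have hac : a ∉ (c : Finset α) := fun h => huv ((Cfsg.Agent.Helper93.pb_adj_inl_inr B a c).2 h)
      rw [Cfsg.Agent.Helper93.card_set_pb B _ False (fun _ => False) (fun d => a ∈ d ∧ Disjoint d (c : Finset α))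
        (by rw [SimpleGraph.mem_commonNeighbors]; exact iff_of_false (fun h => Cfsg.Agent.Helper93.pb_adj_inr_none B c h.2) id)
        (fun x => by rw [SimpleGraph.mem_commonNeighbors]; exact iff_of_false (fun h => Cfsg.Agent.Helper93.pb_adj_inl_inl B a x h.1) id)
        (fun d => by
          rw [SimpleGraph.mem_commonNeighbors, Cfsg.Agent.Helper93.pb_adj_inl_inr, hadjBB])]
      rw [hfF, Cfsg.Agent.Helper93.s22_through_disjoint hα B hB c.2 hac]; rfl
    · rw [Cfsg.Agent.Helper93.card_set_pb B _ False (fun x => x ∈ (b : Finset α)) (fun _ => False)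
        (by rw [SimpleGraph.mem_commonNeighbors]; exact iff_of_false (fun h => Cfsg.Agent.Helper93.pb_adj_none_none B h.2) id)
        (fun x => by
          rw [SimpleGraph.mem_commonNeighbors]
          exact ⟨fun h => (Cfsg.Agent.Helper93.pb_adj_inr_inl B x b).1 h.1,
            fun h => ⟨(Cfsg.Agent.Helper93.pb_adj_inr_inl B x b).2 h, Cfsg.Agent.Helper93.pb_adj_none_inl B x⟩⟩)
        (fun d => by rw [SimpleGraph.mem_commonNeighbors]; exact iff_of_false (fun h => Cfsg.Agent.Helper93.pb_adj_none_inr B d h.2) id)]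
      rw [hfA, hB.1 _ b.2, hlF]; rfl
    · have hab : a' ∉ (b : Finset α) := fun h => huv ((Cfsg.Agent.Helper93.pb_adj_inr_inl B a' b).2 h)
      rw [Cfsg.Agent.Helper93.card_set_pb B _ False (fun _ => False) (fun d => a' ∈ d ∧ Disjoint d (b : Finset α))
        (by rw [SimpleGraph.mem_commonNeighbors]; exact iff_of_false (fun h => Cfsg.Agent.Helper93.pb_adj_inr_none B b h.1) id)
        (fun x => by rw [SimpleGraph.mem_commonNeighbors]; exact iff_of_false (fun h => Cfsg.Agent.Helper93.pb_adj_inl_inl B a' x h.2) id)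
        (fun d => by
          rw [SimpleGraph.mem_commonNeighbors, Cfsg.Agent.Helper93.pb_adj_inl_inr, hadjBB, and_comm])]
      rw [hfF, Cfsg.Agent.Helper93.s22_through_disjoint hα B hB b.2 hab]; rfl
    · have hbc : (c : Finset α) ≠ (b : Finset α) := fun e => hne (by rw [Subtype.ext e])
      have h2 : ((c : Finset α) ∩ (b : Finset α)).card = 2 := by
        rcases Cfsg.Agent.Helper93.s22_inter hα B hB b.2 c.2 hbc with h | h
        · exfalso
          apply huv
          rw [hadjBB]
          exact Finset.disjoint_iff_inter_eq_empty.2 (Finset.card_eq_zero.1 h)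
        · exact h
      rw [Cfsg.Agent.Helper93.card_set_pb B _ False (fun x => x ∈ (c : Finset α) ∩ (b : Finset α))
        (fun d => Disjoint d (b : Finset α) ∧ Disjoint d (c : Finset α))
        (by rw [SimpleGraph.mem_commonNeighbors]; exact iff_of_false (fun h => Cfsg.Agent.Helper93.pb_adj_inr_none B b h.1) id)
        (fun x => by
          rw [SimpleGraph.mem_commonNeighbors, Cfsg.Agent.Helper93.pb_adj_inr_inl, Cfsg.Agent.Helper93.pb_adj_inr_inl,
            Finset.mem_inter, and_comm])
        (fun d => by
          rw [SimpleGraph.mem_commonNeighbors, hadjBB, hadjBB])]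
      rw [hfA, h2, Cfsg.Agent.Helper93.s22_common_disjoint hα B hB b.2 c.2 h2]; rfl

end Cfsg.Agent.S0428
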