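import Cfsg.Statements.S0430
import Cfsg.Agent.Helper93.Srg100Iso
import Cfsg.Agent.S0410

set_option autoImplicit false
open Cfsg

namespace Cfsg.Agent.S0430

/-- Uniqueness of the strongly regular graph with parameters (100, 22, 0, 6). -/
theorem result {V W : Type*} [Fintype V] [Fintype W] {G : SimpleGraph V} {H : SimpleGraph W} [DecidableRel G.Adj] [DecidableRel H.Adj] (hG : G.IsSRGWith 100 22 0 6) (hH : H.IsSRGWith 100 22 0 6) : Nonempty (G ≃g H) := by
  classical
  have hV : Nonempty V := by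
    rw [← Fintype.card_pos_iff, hG.card]
    norm_num
  have hW : Nonempty W := by
    rw [← Fintype.card_pos_iff, hH.card]
    norm_num
  obtain ⟨v⟩ := hV
  obtain ⟨w⟩ := hW
  obtain ⟨e, he⟩ := Cfsg.Agent.S0410.result (Cfsg.Agent.Helper93.card_NbT hG v)
    (Cfsg.Agent.Helper93.card_NbT hH w) (Cfsg.Agent.Helper93.locB_steiner hG v)
    (Cfsg.Agent.Helper93.locB_steiner hH w)
  exact ⟨(Cfsg.Agent.Helper93.locIso hG v).trans
    ((Cfsg.Agent.Helper93.pbIso e he).trans (Cfsg.Agent.Helper93.locIso hH w).symm)⟩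

end Cfsg.Agent.S0430
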