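-- Statement S5421: large extraspecial criterion (centre inside the 2-core of the centralizer of a
-- non-central involution of Q).
import Cfsg.Statements.S5421
import Cfsg.Agent.Helper90.Extraspecial

set_option autoImplicit false
open Cfsg

namespace Cfsg.Agent.S5421

/-- Let Q be an extraspecial 2-subgroup of the finite group G whose centralizer in G is its centre Z and which is normal in the centralizer of Z. If some involution b of Q outside Z has Z inside the largest normal 2-subgroup of the centralizer of b, then Q is a large extraspecial 2-subgroup of G. -/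
theorem result {G : Type*} [Group G] [Finite G] (Q : Subgroup G) (hL1 : Cfsg.IsExtraspecial 2 ↥Q) (hL2 : Subgroup.centralizer (Q : Set G) = ((Subgroup.center ↥Q).map Q.subtype)) (hL3 : Subgroup.centralizer (((Subgroup.center ↥Q).map Q.subtype) : Set G) ≤ Subgroup.normalizer (Q : Set G)) (b : G) (hbQ : b ∈ Q) (hbZ : b ∉ ((Subgroup.center ↥Q).map Q.subtype)) (hb : orderOf b = 2) (hZ : ((Subgroup.center ↥Q).map Q.subtype) ≤ (Cfsg.pCore 2 ↥(Subgroup.centralizer ({b} : Set G))).map (Subgroup.centralizer ({b} : Set G)).subtype) : Cfsg.IsLargeExtraspecial Q := by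
  refine ⟨hL1, hL2, hL3, ?_⟩
  intro K hK hQK
  have hQ2 : IsPGroup 2 ↥Q := hL1.1.1
  obtain ⟨z, hzZ, hz1, hzz, hzall⟩ := Cfsg.Agent.Helper90.exists_center_generator Q hL1.2
  have hzQ : z ∈ Q := ((Cfsg.Agent.Helper90.mem_center_map_iff Q z).mp hzZ).1
  have hzc : ∀ q ∈ Q, q * z = z * q := ((Cfsg.Agent.Helper90.mem_center_map_iff Q z).mp hzZ).2
  have hzinv : z⁻¹ = z := inv_eq_of_mul_eq_one_left hzz
  have hbb : b * b = 1 := by
    have := pow_orderOf_eq_one b
    rw [hb, pow_two] at this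
    exact this
  have hbinv : b⁻¹ = b := inv_eq_of_mul_eq_one_left hbb
  -- normalizing
  have hnorm : ∀ q ∈ Q, ∀ k ∈ K, q * k * q⁻¹ ∈ K := fun q hq k hk =>
    (Subgroup.mem_normalizer_iff.mp (hQK hq) k).mp hk
  -- (i) z has no fixed points on K
  have hFz : ∀ k ∈ K, z * k * z⁻¹ = k → k = 1 := by
    intro k hk hfix
    apply Cfsg.Agent.Helper90.eq_one_of_mem_odd_of_mem_centralizer_center Q hQ2 hL2 hL3 K hK hQK hk
    rw [Subgroup.mem_centralizer_iff]
    intro c hc
    rcases hzall c hc with h | h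
    · rw [h, one_mul, mul_one]
    · rw [h]
      have : z * k * z⁻¹ * z = k * z := by rw [hfix]
      rw [← this]; group
  -- (ii) b has no fixed points on K
  have hO : IsPGroup 2 ((Cfsg.pCore 2 ↥(Subgroup.centralizer ({b} : Set G))).map
      (Subgroup.centralizer ({b} : Set G)).subtype) :=
    (Cfsg.Agent.Helper90.pCore_isPGroup 2 _).map _
  have hFb : ∀ k ∈ K, b * k * b⁻¹ = k → k = 1 := by
    intro k hk hfix
    apply hFz k hk
    have hkC : k ∈ Subgroup.centralizer ({b} : Set G) := by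
      rw [Subgroup.mem_centralizer_iff]
      intro x hx
      rw [Set.mem_singleton_iff] at hx
      rw [hx]
      have : b * k * b⁻¹ * b = k * b := by rw [hfix]
      rw [← this]; group
    obtain ⟨z', hz', hz'z⟩ := Subgroup.mem_map.mp (hZ hzZ)
    have h1 : (⟨k, hkC⟩ : ↥(Subgroup.centralizer ({b} : Set G))) * z' * (⟨k, hkC⟩)⁻¹ * z'⁻¹ ∈
        Cfsg.pCore 2 ↥(Subgroup.centralizer ({b} : Set G)) :=
      Subgroup.mul_mem _
        ((inferInstance : (Cfsg.pCore 2 ↥(Subgroup.centralizer ({b} : Set G))).Normal).conj_mem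
          z' hz' ⟨k, hkC⟩)
        (Subgroup.inv_mem _ hz')
    have h2 : k * z * k⁻¹ * z⁻¹ ∈ (Cfsg.pCore 2 ↥(Subgroup.centralizer ({b} : Set G))).map
        (Subgroup.centralizer ({b} : Set G)).subtype := by
      refine Subgroup.mem_map.mpr ⟨_, h1, ?_⟩
      have hz'' : (z' : G) = z := hz'z
      simp [hz'']
    have h3 : k * z * k⁻¹ * z⁻¹ ∈ K := by
      have : k * z * k⁻¹ * z⁻¹ = k * (z * k⁻¹ * z⁻¹) := by group
      rw [this]
      exact K.mul_mem hk (hnorm z hzQ k⁻¹ (K.inv_mem hk))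
    have h4 : k * z * k⁻¹ * z⁻¹ = 1 := Cfsg.Agent.Helper90.eq_one_of_mem_odd_of_mem_two hK hO h3 h2
    have h5 : k * z * k⁻¹ * z⁻¹ * (z * k) = z * k := by rw [h4, one_mul]
    have h6 : k * z = z * k := by rw [← h5]; group
    rw [← h6]
    group
  -- (iii) z * b has no fixed points on K
  obtain ⟨q, hq, hqb⟩ := Cfsg.Agent.Helper90.exists_conj_eq_mul_of_not_mem_center Q hL1.1.2.2 z
    hzall b hbQ hbZ
  have hFzb : ∀ k ∈ K, (z * b) * k * (z * b)⁻¹ = k → k = 1 := by
    intro k hk hfix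
    rw [← hqb] at hfix
    have h1 : q⁻¹ * k * q ∈ K := by
      have := hnorm q⁻¹ (Q.inv_mem hq) k hk
      rwa [inv_inv] at this
    have h2 : b * (q⁻¹ * k * q) * b⁻¹ = q⁻¹ * k * q := by
      have : b * (q⁻¹ * k * q) * b⁻¹ = q⁻¹ * ((q * b * q⁻¹) * k * (q * b * q⁻¹)⁻¹) * q := by group
      rw [this, hfix]
    have h3 := hFb _ h1 h2
    have : k = q * (q⁻¹ * k * q) * q⁻¹ := by group
    rw [this, h3]; group
  -- (iv) all three invert K, so z * b centralizes K
  haveI : Finite K := inferInstance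
  have hzb : z * b = b * z := (hzc b hbQ).symm
  have hzbzb : (z * b) * (z * b) = 1 := by
    have : (z * b) * (z * b) = z * (b * z) * b := by group
    rw [this, ← hzb]
    have : z * (z * b) * b = (z * z) * (b * b) := by group
    rw [this, hzz, hbb, one_mul]
  have hIz := Cfsg.Agent.Helper90.inverts_of_fixedPointFree K z hzz (hnorm z hzQ) hFz
  have hIb := Cfsg.Agent.Helper90.inverts_of_fixedPointFree K b hbb (hnorm b hbQ) hFb
  rw [Subgroup.eq_bot_iff_forall]
  intro k hk
  apply hFzb k hk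
  have : (z * b) * k * (z * b)⁻¹ = z * (b * k * b⁻¹) * z⁻¹ := by group
  rw [this, hIb k hk, hIz _ (K.inv_mem hk), inv_inv]

end Cfsg.Agent.S5421
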