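-- Statement S5433: Frattini argument for a large extraspecial subgroup.
import Cfsg.Statements.S5433
import Cfsg.Agent.Helper90.Extraspecial

set_option autoImplicit false
open Cfsg

namespace Cfsg.Agent.S5433

/-- Let Q be a large extraspecial 2-subgroup of the finite group G (extraspecial; centralizer equal to its centre; normal in the centralizer of its centre; normalizing no non-trivial subgroup of odd order), and L a normal subgroup of G containing Q. Then G is the product of L and the normalizer of Q. -/
theorem result {G : Type*} [Group G] [Finite G] (Q : Subgroup G) (hQ : Cfsg.IsLargeExtraspecial Q) (L : Subgroup G) [L.Normal] (hQL : Q ≤ L) : L ⊔ Subgroup.normalizer (Q : Set G) = ⊤ := by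
  obtain ⟨hL1, hL2, hL3, -⟩ := hQ
  have hQ2 : IsPGroup 2 ↥Q := hL1.1.1
  obtain ⟨z, hzZ, hz1, hzz, hzall⟩ := Cfsg.Agent.Helper90.exists_center_generator Q hL1.2
  have hzQ : z ∈ Q := ((Cfsg.Agent.Helper90.mem_center_map_iff Q z).mp hzZ).1
  have : Fact (Nat.Prime 2) := ⟨Nat.prime_two⟩
  have hQL2 : IsPGroup 2 ↥(Q.subgroupOf L) := hQ2.comap_subtype
  obtain ⟨T, hT⟩ := hQL2.exists_le_sylow
  have hfr := Sylow.normalizer_sup_eq_top T
  -- Q ≤ T'
  have hQT : ∀ q ∈ Q, q ∈ (T : Subgroup ↥L).map L.subtype := by
    intro q hq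
    refine Subgroup.mem_map.mpr ⟨⟨q, hQL hq⟩, hT ?_, rfl⟩
    exact Subgroup.mem_subgroupOf.mpr hq
  -- anything in G commuting with all of T' is 1 or z
  have hcent : ∀ x : G, (∀ t ∈ (T : Subgroup ↥L).map L.subtype, t * x = x * t) → x = 1 ∨ x = z := by
    intro x hx
    apply hzall
    rw [← hL2, Subgroup.mem_centralizer_iff]
    intro q hq
    exact hx q (hQT q hq)
  -- z is central in T'
  have hzT : ∀ t ∈ (T : Subgroup ↥L).map L.subtype, t * z = z * t := by
    have : Nontrivial ↥(T : Subgroup ↥L) := by
      refine ⟨⟨⟨⟨z, hQL hzQ⟩, hT (Subgroup.mem_subgroupOf.mpr hzQ)⟩, 1, ?_⟩⟩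
      intro h
      apply hz1
      have := congrArg (fun t : ↥(T : Subgroup ↥L) => ((t : ↥L) : G)) h
      simpa using this
    have := IsPGroup.center_nontrivial T.isPGroup'
    obtain ⟨c, hc⟩ := exists_ne (1 : Subgroup.center ↥(T : Subgroup ↥L))
    have hcc : ∀ t ∈ (T : Subgroup ↥L).map L.subtype,
        t * (((c : ↥(T : Subgroup ↥L)) : ↥L) : G) = (((c : ↥(T : Subgroup ↥L)) : ↥L) : G) * t := by
      intro t ht
      obtain ⟨t', ht', rfl⟩ := Subgroup.mem_map.mp ht
      have := Subgroup.mem_center_iff.mp c.2 ⟨t', ht'⟩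
      have := congrArg (fun t : ↥(T : Subgroup ↥L) => ((t : ↥L) : G)) this
      simpa using this
    rcases hcent _ hcc with h | h
    · exfalso
      apply hc
      apply Subtype.ext
      apply Subtype.ext
      apply Subtype.ext
      simpa using h
    · rw [← h]; exact hcc
  have hle : Subgroup.normalizer (((T : Subgroup ↥L).map L.subtype : Subgroup G) : Set G) ≤
      Subgroup.normalizer (Q : Set G) := by
    intro n hn
    apply hL3
    rw [Subgroup.mem_centralizer_iff]
    have hnz : n * z * n⁻¹ = z := by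
      have h1 : ∀ t ∈ (T : Subgroup ↥L).map L.subtype, t * (n * z * n⁻¹) = (n * z * n⁻¹) * t := by
        intro t ht
        have h2 : n⁻¹ * t * n ∈ (T : Subgroup ↥L).map L.subtype := by
          have := (Subgroup.mem_normalizer_iff.mp hn (n⁻¹ * t * n)).mpr (by
            have e : n * (n⁻¹ * t * n) * n⁻¹ = t := by group
            rw [e]; exact ht)
          exact this
        have h3 := hzT _ h2
        have e1 : t * (n * z * n⁻¹) = n * ((n⁻¹ * t * n) * z) * n⁻¹ := by group
        rw [e1, h3]; group
      rcases hcent _ h1 with h | h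
      · exfalso
        apply hz1
        have : z = n⁻¹ * (n * z * n⁻¹) * n := by group
        rw [this, h]; group
      · exact h
    intro c hc
    rcases hzall c hc with h | h
    · rw [h, one_mul, mul_one]
    · rw [h]
      have : n * z * n⁻¹ * n = z * n := by rw [hnz]
      rw [← this]; group
  rw [eq_top_iff, ← hfr, sup_comm]
  exact sup_le_sup_left hle L

end Cfsg.Agent.S5433
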