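import Cfsg.Statements.S5393
import Cfsg.Agent.Helper91.Words

set_option autoImplicit false
open Cfsg

namespace Cfsg.Agent.S5393

open Cfsg.Agent.Helper91

/-- The length-24 code built from the squares modulo 23 contains the all-ones word, and the code modulo the all-ones word is an irreducible module over the field with two elements for the code's automorphism group: a subspace of the code that contains the all-ones word and is invariant under every coordinate permutation preserving the code is either the span of the all-ones word or the whole code. -/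
theorem result : (fun _ : Cfsg.GolayPt => (1 : ZMod 2)) ∈ Cfsg.golayCode ∧ ∀ W : Submodule (ZMod 2) (Cfsg.GolayPt → ZMod 2), (fun _ => (1 : ZMod 2)) ∈ W → W ≤ Cfsg.golayCode → (∀ σ ∈ Cfsg.M24, ∀ w ∈ W, (fun p => w (σ.symm p)) ∈ W) → W = Submodule.span (ZMod 2) {fun _ => (1 : ZMod 2)} ∨ W = Cfsg.golayCode := by
  refine ⟨by rw [← toWord_one]; exact toWord_ALL_mem, ?_⟩
  intro W h1 hWC hinv
  have hW : InvSub W := hinv
  by_cases h : ∃ w ∈ W, w ≠ 0 ∧ w ≠ 1
  · right
    obtain ⟨w, hw, hw0, hw1⟩ := h
    have hc := (mem_golayCode_iff26 w).1 (hWC hw)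
    refine le_antisymm hWC (code_le_of_mem hW hc (mk_ne_zero hw0) (mk_ne_ALL hw1) ?_)
    rw [toWord_mk]; exact hw
  · left
    apply le_antisymm
    · intro w hw
      by_cases hw0 : w = 0
      · rw [hw0]; exact Submodule.zero_mem _
      · by_cases hw1 : w = 1
        · rw [hw1]
          exact Submodule.subset_span rfl
        · exact absurd ⟨w, hw, hw0, hw1⟩ h
    · rw [Submodule.span_le]
      intro x hx
      rw [Set.mem_singleton_iff] at hx
      rw [hx]
      exact h1

end Cfsg.Agent.S5393
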