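import Cfsg.Statements.S5553
import Cfsg.Agent.Helper92.Leech

set_option autoImplicit false
open Cfsg

namespace Cfsg.Agent.S5553

open Cfsg.Agent.Helper92 Cfsg.Agent.Helper26

/-- all coordinates of a lattice vector have the parity of the coordinate at the extra point -/
theorem parity {x : GolayPt → ℤ} (hx : x ∈ leechLattice) (i : GolayPt) :
    (x i + x none) % 2 = 0 := by
  rw [mem_leechLattice_iff] at hx
  obtain ⟨m, h1, -, -⟩ := hx
  have a : x i % 2 = m % 2 := h1 i
  have b : x none % 2 = m % 2 := h1 none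
  omega

/-- the word `i ↦ (x i + x ∞) / 2 mod 2` attached to an integer vector -/
def thetaFun (x : GolayPt → ℤ) : GolayPt → ZMod 2 := fun i => (((x i + x none) / 2 : ℤ) : ZMod 2)

/-- `thetaFun` as an additive map on the lattice -/
def theta : leechLattice →+ (GolayPt → ZMod 2) where
  toFun x := thetaFun x.1
  map_zero' := by
    funext i
    simp [thetaFun]
  map_add' := by
    intro x y
    funext i
    have hx := parity x.2 i
    have hy := parity y.2 i
    show (((((x : GolayPt → ℤ) i + (y : GolayPt → ℤ) i) +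
      ((x : GolayPt → ℤ) none + (y : GolayPt → ℤ) none)) / 2 : ℤ) : ZMod 2) =
      ((((x : GolayPt → ℤ) i + (x : GolayPt → ℤ) none) / 2 : ℤ) : ZMod 2) +
      ((((y : GolayPt → ℤ) i + (y : GolayPt → ℤ) none) / 2 : ℤ) : ZMod 2)
    rw [← Int.cast_add]
    congr 1
    omega

theorem theta_apply (x : leechLattice) (i : GolayPt) :
    theta x i = ((((x : GolayPt → ℤ) i + (x : GolayPt → ℤ) none) / 2 : ℤ) : ZMod 2) := rfl

theorem cast_eq_zero_iff (t : ℤ) : ((t : ℤ) : ZMod 2) = 0 ↔ t % 2 = 0 := by
  rw [ZMod.intCast_zmod_eq_zero_iff_dvd]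
  omega

/-- membership in the kernel of `theta` -/
theorem theta_eq_zero_iff (x : leechLattice) :
    theta x = 0 ↔ ∀ i, ((x : GolayPt → ℤ) i + (x : GolayPt → ℤ) none) % 4 = 0 := by
  constructor
  · intro h i
    have h1 : theta x i = 0 := by rw [h]; rfl
    rw [theta_apply, cast_eq_zero_iff] at h1
    have := parity x.2 i
    omega
  · intro h
    funext i
    show theta x i = 0
    rw [theta_apply, cast_eq_zero_iff]
    have := h i
    omega

theorem sq_mod32_zero (t : ℤ) (h : t % 4 = 0) : (32 : ℤ) ∣ t ^ 2 - 4 * t := by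
  obtain ⟨k, rfl⟩ : ∃ k, t = 4 * k := ⟨t / 4, by omega⟩
  rcases Int.emod_two_eq_zero_or_one k with hk | hk
  · obtain ⟨j, rfl⟩ : ∃ j, k = 2 * j := ⟨k / 2, by omega⟩
    exact ⟨2 * j ^ 2 - j, by ring⟩
  · obtain ⟨j, rfl⟩ : ∃ j, k = 2 * j + 1 := ⟨k / 2, by omega⟩
    exact ⟨2 * j ^ 2 + j, by ring⟩

theorem sq_mod32_two (t : ℤ) (h : t % 4 = 2) : (32 : ℤ) ∣ t ^ 2 - 4 := by
  obtain ⟨k, rfl⟩ : ∃ k, t = 4 * k + 2 := ⟨t / 4, by omega⟩
  rcases Int.emod_two_eq_zero_or_one k with hk | hk
  · obtain ⟨j, rfl⟩ : ∃ j, k = 2 * j := ⟨k / 2, by omega⟩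
    exact ⟨2 * j ^ 2 + j, by ring⟩
  · obtain ⟨j, rfl⟩ : ∃ j, k = 2 * j + 1 := ⟨k / 2, by omega⟩
    exact ⟨2 * j ^ 2 + 3 * j + 1, by ring⟩

/-- vectors in the kernel of `theta` have squared length divisible by 32 -/
theorem dvd_sqNorm_of_theta_eq_zero (x : leechLattice) (h : theta x = 0) :
    (32 : ℤ) ∣ sqNorm (x : GolayPt → ℤ) := by
  rw [theta_eq_zero_iff] at h
  obtain ⟨x, hx⟩ := x
  simp only at h ⊢
  have hx' := (mem_leechLattice_iff x).1 hx
  obtain ⟨m, h1, h2, -⟩ := hx'
  have hn := h none
  have hm : x none % 2 = m % 2 := h1 none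
  have h2' : (∑ i, x i) % 8 = (4 * m) % 8 := h2
  have hs : (∑ i, x i) % 8 = 0 := by omega
  have hc : x none % 4 = 0 ∨ x none % 4 = 2 := by omega
  rcases hc with hc | hc
  · have hd : (32 : ℤ) ∣ sqNorm x - 4 * ∑ i, x i := by
      unfold sqNorm
      rw [Finset.mul_sum, ← Finset.sum_sub_distrib]
      apply Finset.dvd_sum
      intro i _
      have := h i
      exact sq_mod32_zero (x i) (by omega)
    have h4 : (32 : ℤ) ∣ 4 * ∑ i, x i := by omega
    have := dvd_add hd h4
    simpa using this
  · have hd : (32 : ℤ) ∣ sqNorm x - 96 := by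
      unfold sqNorm
      have h96 : (96 : ℤ) = ∑ i : GolayPt, 4 := by simp
      rw [h96, ← Finset.sum_sub_distrib]
      apply Finset.dvd_sum
      intro i _
      have := h i
      exact sq_mod32_two (x i) (by omega)
    omega

theorem one_mem_golayCode : (1 : GolayPt → ZMod 2) ∈ golayCode := by
  obtain ⟨w, hw, hs⟩ := supports_univ
  have : w = 1 := support₂_injective (by rw [hs, support₂_one])
  rw [← this]; exact hw

/-- the range of `theta` is inside the code -/
theorem theta_mem (x : leechLattice) : theta x ∈ golayCode := by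
  obtain ⟨x, hx⟩ := x
  have hx' := (mem_leechLattice_iff x).1 hx
  obtain ⟨m, h1, -, h3⟩ := hx'
  obtain ⟨w, hw, hs⟩ := h3 (2 - x none)
  have : w = theta ⟨x, hx⟩ := by
    apply support₂_injective
    rw [hs]
    ext i
    simp only [support₂, Finset.mem_filter, Finset.mem_univ, true_and]
    rw [theta_apply, Ne, cast_eq_zero_iff]
    show x i % 4 = (2 - x none) % 4 ↔ _
    have a : x i % 2 = m % 2 := h1 i
    have b : x none % 2 = m % 2 := h1 none
    simp only
    omega
  rw [← this]; exact hw

/-- the coordinate of the lift of a code word -/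
def G (a b : ZMod 2) (f : Bool) : ℤ :=
  (if b = 0 then 0 else 1) + 2 * (if a ≠ b then 1 else 0) +
    (if f then 4 * (if b = 0 then 0 else 1) else 0)

theorem G_parity : ∀ (a b : ZMod 2) (f : Bool),
    G a b f % 2 = (if b = 0 then (0 : ℤ) else 1) % 2 := by decide

theorem G_lvl : ∀ (a b : ZMod 2) (f : Bool),
    G a b f % 4 = ((if b = 0 then (0 : ℤ) else 1) + 2) % 4 ↔ a + b ≠ 0 := by decide

theorem G_theta : ∀ (a b : ZMod 2) (f : Bool),
    (((G a b f + G b b true) / 2 : ℤ) : ZMod 2) = a := by decide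

/-- the lift of a word -/
def lift (w : GolayPt → ZMod 2) : GolayPt → ℤ := fun i => G (w i) (w none) (decide (i = none))

theorem lift_mem (w : GolayPt → ZMod 2) (hw : w ∈ golayCode) : lift w ∈ leechLattice := by
  rw [mem_leechLattice_iff, mem_leechSet_iff]
  have hL : lvl (lift w) (if w none = 0 then (0 : ℤ) else 1) =
      support₂ (w + (w none) • (1 : GolayPt → ZMod 2)) := by
    ext i
    rw [mem_lvl]
    simp only [support₂, Finset.mem_filter, Finset.mem_univ, true_and, Pi.add_apply,
      Pi.smul_apply, Pi.one_apply, smul_eq_mul, mul_one]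
    exact G_lvl (w i) (w none) (decide (i = none))
  have hLs : lvl (lift w) (if w none = 0 then (0 : ℤ) else 1) ∈
      supports (golayCode : Set (GolayPt → ZMod 2)) := by
    rw [hL]
    exact ⟨_, golayCode.add_mem hw (golayCode.smul_mem _ one_mem_golayCode), rfl⟩
  refine ⟨if w none = 0 then (0 : ℤ) else 1, fun i => G_parity _ _ _, ?_, hLs⟩
  have hc := card_of_mem_supports hLs
  have hsum : ∑ i, lift w i = 24 * (if w none = 0 then (0 : ℤ) else 1) +
      2 * ((Finset.univ.filter fun i => w i ≠ w none).card : ℤ) +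
      4 * (if w none = 0 then (0 : ℤ) else 1) := by
    unfold lift G
    rw [Finset.sum_add_distrib, Finset.sum_add_distrib, Finset.sum_const, ← Finset.mul_sum,
      Finset.sum_boole]
    simp
  have hcard : (Finset.univ.filter fun i => w i ≠ w none) =
      lvl (lift w) (if w none = 0 then (0 : ℤ) else 1) := by
    rw [hL]
    ext i
    simp only [support₂, Finset.mem_filter, Finset.mem_univ, true_and, Pi.add_apply,
      Pi.smul_apply, Pi.one_apply, smul_eq_mul, mul_one]
    generalize w i = a
    generalize w none = b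
    revert a b
    decide
  rw [hcard] at hsum
  show (∑ i, lift w i) % 8 = (4 * (if w none = 0 then (0 : ℤ) else 1)) % 8
  rw [hsum]
  split_ifs at hc ⊢ <;> omega

theorem theta_lift (w : GolayPt → ZMod 2) (hw : w ∈ golayCode) :
    theta ⟨lift w, lift_mem w hw⟩ = w := by
  funext i
  rw [theta_apply]
  exact G_theta (w i) (w none) (decide (i = none))

theorem theta_range : theta.range = golayCode.toAddSubgroup := by
  ext w
  constructor
  · rintro ⟨x, rfl⟩
    exact theta_mem x
  · intro hw
    exact ⟨⟨lift w, lift_mem w hw⟩, theta_lift w hw⟩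

theorem card_range : Nat.card theta.range = 2 ^ 12 := by
  rw [theta_range]
  have := ncard_golayCode
  rw [← Nat.card_coe_set_eq] at this
  exact this

/-- The Leech lattice of the definitions has an additive subgroup A containing twice the lattice, of index 2^12 in the lattice, all of whose vectors have squared length divisible by 32: the invariant quadratic form 'squared length over 16 modulo 2' on the lattice modulo twice the lattice (a 24-dimensional space over the field with two elements) vanishes on a 12-dimensional subspace, so it is of plus type. -/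
theorem result : ∃ A : AddSubgroup (Cfsg.GolayPt → ℤ), A ≤ Cfsg.leechLattice ∧ (∀ v ∈ Cfsg.leechLattice, (2 : ℤ) • v ∈ A) ∧ (A.addSubgroupOf Cfsg.leechLattice).index = 2 ^ 12 ∧ ∀ v ∈ A, (32 : ℤ) ∣ Cfsg.sqNorm v := by
  refine ⟨theta.ker.map leechLattice.subtype, AddSubgroup.map_subtype_le _, ?_, ?_, ?_⟩
  · intro v hv
    refine ⟨(2 : ℤ) • (⟨v, hv⟩ : leechLattice), ?_, rfl⟩
    show theta ((2 : ℤ) • (⟨v, hv⟩ : leechLattice)) = 0
    rw [map_zsmul]
    funext i
    show (2 : ℤ) • (theta ⟨v, hv⟩ i) = 0
    generalize theta ⟨v, hv⟩ i = a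
    revert a
    decide
  · have : (theta.ker.map leechLattice.subtype).addSubgroupOf leechLattice = theta.ker :=
      AddSubgroup.comap_map_eq_self_of_injective (AddSubgroup.subtype_injective _) _
    rw [this, AddSubgroup.index_ker, card_range]
  · rintro v ⟨x, hx, rfl⟩
    exact dvd_sqNorm_of_theta_eq_zero x hx

end Cfsg.Agent.S5553
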