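import Cfsg.Statements.S5408
import Cfsg.Agent.Helper92.LeechQuad
import Cfsg.Agent.S5553

set_option autoImplicit false
open Cfsg

namespace Cfsg.Agent.S5408

open Cfsg.Agent.Helper92

/-- `0` if the element squares to `1`, else `1` -/
noncomputable def sqv {Q : Type*} [Group Q] (q : Q) : ZMod 2 := by
  classical exact if q * q = 1 then 0 else 1

/-- `0` if the element is `1`, else `1` -/
noncomputable def io {Q : Type*} [Group Q] (q : Q) : ZMod 2 := by
  classical exact if q = 1 then 0 else 1

theorem sq_eq_io {Q : Type*} [Group Q] (q : Q) : sqv q = io (q * q) := rfl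

theorem sq_eq_zero_iff {Q : Type*} [Group Q] (q : Q) : sqv q = 0 ↔ q * q = 1 := by
  unfold sqv
  split_ifs with h
  · simp [h]
  · simp [h]

theorem sq_congr {Q : Type*} [Group Q] (q q' : Q) (h : q' * q' = 1 ↔ q * q = 1) : sqv q' = sqv q := by
  unfold sqv
  by_cases hq : q * q = 1
  · rw [if_pos hq, if_pos (h.2 hq)]
  · rw [if_neg hq, if_neg (fun h' => hq (h.1 h'))]

theorem center_sq {Q : Type*} [Group Q] (hZ : Nat.card (Subgroup.center Q) = 2) (t : Q)
    (ht : t ∈ Subgroup.center Q) : t * t = 1 := by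
  have h := pow_card_eq_one' (G := Subgroup.center Q) (x := ⟨t, ht⟩)
  rw [hZ] at h
  have h' : ((⟨t, ht⟩ : Subgroup.center Q) ^ 2 : Subgroup.center Q).1 = 1 := by rw [h]; rfl
  rw [← pow_two]
  exact h'

theorem center_eq {Q : Type*} [Group Q] (hZ : Nat.card (Subgroup.center Q) = 2) (t t' : Q)
    (ht : t ∈ Subgroup.center Q) (ht' : t' ∈ Subgroup.center Q) (h1 : t ≠ 1) (h1' : t' ≠ 1) :
    t = t' := by
  obtain ⟨y, -, hy⟩ := (Nat.card_eq_two_iff' (1 : Subgroup.center Q)).1 hZ
  have e1 : (⟨t, ht⟩ : Subgroup.center Q) = y := hy _ (fun h => h1 (congrArg Subtype.val h))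
  have e2 : (⟨t', ht'⟩ : Subgroup.center Q) = y := hy _ (fun h => h1' (congrArg Subtype.val h))
  exact congrArg Subtype.val (e1.trans e2.symm)

theorem io_one {Q : Type*} [Group Q] : io (1 : Q) = 0 := by
  unfold io
  rw [if_pos rfl]

theorem io_ne {Q : Type*} [Group Q] (q : Q) (h : q ≠ 1) : io q = 1 := by
  unfold io
  rw [if_neg h]

theorem io_mul {Q : Type*} [Group Q] (hZ : Nat.card (Subgroup.center Q) = 2) (t t' : Q)
    (ht : t ∈ Subgroup.center Q) (ht' : t' ∈ Subgroup.center Q) : io (t * t') = io t + io t' := by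
  by_cases h1 : t = 1
  · rw [h1, one_mul, io_one, zero_add]
  · by_cases h1' : t' = 1
    · rw [h1', mul_one, io_one, add_zero]
    · have := center_eq hZ t t' ht ht' h1 h1'
      subst this
      rw [center_sq hZ t ht, io_one, io_ne t h1]
      decide

theorem mul_mul_eq {Q : Type*} [Group Q] (a b : Q)
    (hc : (a * b)⁻¹ * (b * a) ∈ Subgroup.center Q) :
    a * b * (a * b) = a * a * (b * b) * ((a * b)⁻¹ * (b * a)) := by
  have hcomm := Subgroup.mem_center_iff.1 hc
  have h1 : b * a = a * b * ((a * b)⁻¹ * (b * a)) := by group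
  calc a * b * (a * b) = a * (b * a) * b := by group
    _ = a * (a * b * ((a * b)⁻¹ * (b * a))) * b := by rw [← h1]
    _ = a * a * b * (((a * b)⁻¹ * (b * a)) * b) := by group
    _ = a * a * b * (b * ((a * b)⁻¹ * (b * a))) := by rw [hcomm b]
    _ = a * a * (b * b) * ((a * b)⁻¹ * (b * a)) := by group

theorem comm_mul {Q : Type*} [Group Q] (a a' b : Q)
    (hc : (a * b)⁻¹ * (b * a) ∈ Subgroup.center Q) :
    (a * a' * b)⁻¹ * (b * (a * a')) = ((a' * b)⁻¹ * (b * a')) * ((a * b)⁻¹ * (b * a)) := by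
  have hcomm := Subgroup.mem_center_iff.1 hc
  have h1 : b * a = a * b * ((a * b)⁻¹ * (b * a)) := by group
  have h2 : b * (a * a') = a * b * (a' * ((a * b)⁻¹ * (b * a))) := by
    rw [hcomm a']
    calc b * (a * a') = (b * a) * a' := by group
      _ = a * b * ((a * b)⁻¹ * (b * a)) * a' := by rw [← h1]
      _ = a * b * ((a * b)⁻¹ * (b * a) * a') := by group
  rw [h2]
  group

/-- the abstract form of the statement -/
theorem main_abstract {Q : Type*} [Group Q] (hZ : Nat.card (Subgroup.center Q) = 2)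
    (hQ : Nat.card Q = 2 ^ 25) (ψ : leechLattice → Q ⧸ Subgroup.center Q)
    (hmul : ∀ v w : leechLattice, ψ (v + w) = ψ v * ψ w) (hsurj : Function.Surjective ψ)
    (hker : ∀ v : leechLattice, ψ v = 1 ↔ ∃ w : leechLattice, v = w + w)
    (hinv : ∀ g : Co0, ∃ φ : Q → Q, (∀ q, φ q * φ q = 1 ↔ q * q = 1) ∧
      ∀ (v : leechLattice) (q : Q), ψ v = QuotientGroup.mk q → ψ (g • v) = QuotientGroup.mk (φ q)) :
    ∃ E : Subgroup Q, IsElementaryAbelian 2 E ∧ Nat.card E = 2 ^ 13 := by
  -- squares and commutators are central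
  have sq_mem : ∀ q : Q, q * q ∈ Subgroup.center Q := by
    intro q
    obtain ⟨v, hv⟩ := hsurj (QuotientGroup.mk q)
    have h1 : ψ (v + v) = 1 := (hker _).2 ⟨v, rfl⟩
    rw [hmul, hv, ← QuotientGroup.mk_mul, QuotientGroup.eq_one_iff] at h1
    exact h1
  have comm_mem : ∀ a b : Q, (a * b)⁻¹ * (b * a) ∈ Subgroup.center Q := by
    intro a b
    obtain ⟨u, hu⟩ := hsurj (QuotientGroup.mk a)
    obtain ⟨v, hv⟩ := hsurj (QuotientGroup.mk b)
    have h1 : ψ (u + v) = ψ (v + u) := by rw [add_comm]
    rw [hmul, hmul, hu, hv, ← QuotientGroup.mk_mul, ← QuotientGroup.mk_mul] at h1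
    exact QuotientGroup.eq.1 h1
  have sq_mul : ∀ a b : Q, sqv (a * b) = sqv a + sqv b + io ((a * b)⁻¹ * (b * a)) := by
    intro a b
    rw [sq_eq_io, mul_mul_eq a b (comm_mem a b),
      io_mul hZ _ _ (mul_mem (sq_mem a) (sq_mem b)) (comm_mem a b),
      io_mul hZ _ _ (sq_mem a) (sq_mem b)]
    rfl
  have sq_center : ∀ (q t : Q), t ∈ Subgroup.center Q → sqv (q * t) = sqv q := by
    intro q t ht
    apply sq_congr
    have hcomm := Subgroup.mem_center_iff.1 ht
    have : q * t * (q * t) = q * q * (t * t) := by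
      calc q * t * (q * t) = q * (t * q) * t := by group
        _ = q * (q * t) * t := by rw [hcomm q]
        _ = q * q * (t * t) := by group
    rw [this, center_sq hZ t ht, mul_one]
  -- the quadratic form
  let κ : leechLattice → ZMod 2 := fun v => sqv (Quotient.out (ψ v))
  have κ_eq : ∀ (v : leechLattice) (q : Q), ψ v = QuotientGroup.mk q → κ v = sqv q := by
    intro v q hq
    have h1 : (QuotientGroup.mk (Quotient.out (ψ v)) : Q ⧸ Subgroup.center Q) =
        QuotientGroup.mk q := by
      rw [← hq]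
      exact QuotientGroup.out_eq' _
    have h2 : q⁻¹ * Quotient.out (ψ v) ∈ Subgroup.center Q := QuotientGroup.eq.1 h1.symm
    have h3 : Quotient.out (ψ v) = q * (q⁻¹ * Quotient.out (ψ v)) := by group
    show sqv (Quotient.out (ψ v)) = sqv q
    rw [h3]
    exact sq_center q _ h2
  have hout : ∀ v : leechLattice, ψ v = QuotientGroup.mk (Quotient.out (ψ v)) :=
    fun v => (QuotientGroup.out_eq' _).symm
  have hκ : IsInvQuad κ := by
    refine ⟨?_, ?_, ?_⟩
    · intro v w
      have h1 : ψ (w + w) = 1 := (hker _).2 ⟨w, rfl⟩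
      have h2 : ψ (v + (w + w)) = ψ v := by rw [hmul, h1, mul_one]
      show sqv (Quotient.out (ψ (v + (w + w)))) = sqv (Quotient.out (ψ v))
      rw [h2]
    · intro u v w
      have hu := hout u
      have hv := hout v
      have hw := hout w
      generalize Quotient.out (ψ u) = a at hu
      generalize Quotient.out (ψ v) = b at hv
      generalize Quotient.out (ψ w) = c at hw
      have huv : ψ (u + v) = QuotientGroup.mk (a * b) := by rw [hmul, hu, hv]; rfl
      have huw : ψ (u + w) = QuotientGroup.mk (a * c) := by rw [hmul, hu, hw]; rfl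
      have hvw : ψ (v + w) = QuotientGroup.mk (b * c) := by rw [hmul, hv, hw]; rfl
      have huvw : ψ (u + v + w) = QuotientGroup.mk (a * b * c) := by rw [hmul, huv, hw]; rfl
      rw [κ_eq _ _ hu, κ_eq _ _ hv, κ_eq _ _ hw, κ_eq _ _ huv, κ_eq _ _ huw, κ_eq _ _ hvw,
        κ_eq _ _ huvw]
      rw [sq_mul (a * b) c, comm_mul a b c (comm_mem a c),
        io_mul hZ _ _ (comm_mem b c) (comm_mem a c), sq_mul a c, sq_mul b c]
      ring
    · intro g v
      obtain ⟨φ, hφ1, hφ2⟩ := hinv g
      rw [κ_eq _ _ (hφ2 v _ (hout v))]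
      exact sq_congr _ _ (hφ1 _)
  -- the subgroup
  let ψ' : Multiplicative leechLattice →* Q ⧸ Subgroup.center Q :=
    MonoidHom.mk' (fun v => ψ (Multiplicative.toAdd v)) (fun a b => hmul _ _)
  let A' : Subgroup (Multiplicative leechLattice) :=
    AddSubgroup.toSubgroup (Cfsg.Agent.S5553.theta.ker)
  have hA'index : A'.index = 2 ^ 12 := by
    show (AddSubgroup.toSubgroup (Cfsg.Agent.S5553.theta.ker)).index = 2 ^ 12
    rw [AddSubgroup.index_toSubgroup, AddSubgroup.index_ker, Cfsg.Agent.S5553.card_range]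
  have hkerle : ψ'.ker ≤ A' := by
    intro v hv
    have h1 : ψ (Multiplicative.toAdd v) = 1 := hv
    obtain ⟨w, hw⟩ := (hker _).1 h1
    show Cfsg.Agent.S5553.theta (Multiplicative.toAdd v) = 0
    rw [hw, map_add]
    funext i
    show Cfsg.Agent.S5553.theta w i + Cfsg.Agent.S5553.theta w i = 0
    exact z2_d _
  have hψ'surj : Function.Surjective ψ' := fun y => by
    obtain ⟨v, hv⟩ := hsurj y
    exact ⟨Multiplicative.ofAdd v, hv⟩
  refine ⟨(A'.map ψ').comap (QuotientGroup.mk' (Subgroup.center Q)), ?_, ?_⟩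
  · have hsq1 : ∀ q ∈ (A'.map ψ').comap (QuotientGroup.mk' (Subgroup.center Q)), q * q = 1 := by
      intro q hq
      obtain ⟨x, hx, hxq⟩ := hq
      have hx0 : Cfsg.Agent.S5553.theta (Multiplicative.toAdd x) = 0 := hx
      rw [Cfsg.Agent.S5553.theta_eq_zero_iff] at hx0
      have h1 := hκ.kappa_eq_zero (Multiplicative.toAdd x) hx0
      have h2 : ψ (Multiplicative.toAdd x) = QuotientGroup.mk q := hxq
      rw [κ_eq _ _ h2, sq_eq_zero_iff] at h1
      exact h1
    refine ⟨⟨⟨?_⟩⟩, ?_⟩
    · rintro ⟨a, ha⟩ ⟨b, hb⟩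
      apply Subtype.ext
      show a * b = b * a
      have h1 := hsq1 a ha
      have h2 := hsq1 b hb
      have h3 := hsq1 (a * b) (mul_mem ha hb)
      calc a * b = a * (a * b * (a * b)) * b := by rw [h3]; group
        _ = (a * a) * (b * a) * (b * b) := by group
        _ = b * a := by rw [h1, h2]; group
    · intro a ha
      rw [pow_two]
      exact hsq1 a ha
  · have h1 : ((A'.map ψ').comap (QuotientGroup.mk' (Subgroup.center Q))).index = 2 ^ 12 := by
      rw [Subgroup.index_comap_of_surjective _ (QuotientGroup.mk'_surjective _),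
        Subgroup.index_map_eq _ hψ'surj hkerle, hA'index]
    have h2 := Subgroup.card_mul_index ((A'.map ψ').comap (QuotientGroup.mk' (Subgroup.center Q)))
    rw [h1, hQ] at h2
    have : (2 : ℕ) ^ 25 = 2 ^ 13 * 2 ^ 12 := by norm_num
    rw [this] at h2
    exact Nat.eq_of_mul_eq_mul_right (by norm_num) h2

/-- Let G be a finite group of Monster type at the involution z with Q the extraspecial normal subgroup of order 2^25 of C = C_G(z) (so C/Q is identified with the first Conway group with Q modulo its centre the Leech lattice modulo 2, and z is not weakly closed in Q). Then Q is of plus type: it contains an elementary abelian subgroup of order 2^13. -/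
theorem result {G : Type*} [Group G] [Finite G] (z : G) (Q : Subgroup (Subgroup.centralizer ({z} : Set G))) [Q.Normal] (hM : Cfsg.IsOfMonsterType z Q) : ∃ E : Subgroup Q, Cfsg.IsElementaryAbelian 2 E ∧ Nat.card E = 2 ^ 13 := by
  obtain ⟨⟨-, -, hE, hcard, -⟩, e, ψ, h1, h2, h3, h4⟩ := hM
  refine main_abstract hE.2 (by rw [hcard]) ψ h1 h2 h3 ?_
  intro g
  obtain ⟨hq, hhq⟩ := e.surjective (QuotientGroup.mk g)
  obtain ⟨h, rfl⟩ := QuotientGroup.mk_surjective hq
  refine ⟨fun q => ⟨h * q * h⁻¹, (inferInstance : Q.Normal).conj_mem (q : Subgroup.centralizer ({z} : Set G)) q.2 h⟩, ?_, ?_⟩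
  · intro q
    constructor
    · intro hh
      have hh' : h * (q : Subgroup.centralizer ({z} : Set G)) * h⁻¹ *
          (h * (q : Subgroup.centralizer ({z} : Set G)) * h⁻¹) = 1 := congrArg Subtype.val hh
      apply Subtype.ext
      show (q : Subgroup.centralizer ({z} : Set G)) * (q : Subgroup.centralizer ({z} : Set G)) = 1
      have h5 : h * ((q : Subgroup.centralizer ({z} : Set G)) *
          (q : Subgroup.centralizer ({z} : Set G))) * h⁻¹ = 1 := by
        rw [← hh']; group
      exact conj_eq_one_iff.1 h5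
    · intro hh
      have hh' : (q : Subgroup.centralizer ({z} : Set G)) *
          (q : Subgroup.centralizer ({z} : Set G)) = 1 := congrArg Subtype.val hh
      apply Subtype.ext
      show h * (q : Subgroup.centralizer ({z} : Set G)) * h⁻¹ *
          (h * (q : Subgroup.centralizer ({z} : Set G)) * h⁻¹) = 1
      calc h * (q : Subgroup.centralizer ({z} : Set G)) * h⁻¹ *
          (h * (q : Subgroup.centralizer ({z} : Set G)) * h⁻¹)
          = h * ((q : Subgroup.centralizer ({z} : Set G)) *
            (q : Subgroup.centralizer ({z} : Set G))) * h⁻¹ := by group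
        _ = 1 := by rw [hh']; group
  · intro v q hvq
    exact h4 h g hhq.symm v q hvq

end Cfsg.Agent.S5408
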