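import Cfsg.Statements.S2795
import Cfsg.Agent.Helper99.QdStable
import Cfsg.Agent.Helper11.QuadQd
import Cfsg.Agent.Helper33.Sections

set_option autoImplicit false
open Cfsg

namespace Cfsg.Agent.S2795

theorem mk_mem_pCore_congr {N : Type*} [Group N] (p : ℕ) (C C' : Subgroup N) [C.Normal]
    [C'.Normal] (h : C = C') (x : N) :
    (QuotientGroup.mk x : N ⧸ C) ∈ pCore p (N ⧸ C) ↔
      (QuotientGroup.mk x : N ⧸ C') ∈ pCore p (N ⧸ C') := by
  subst h
  rfl

open scoped commutatorElement in
/-- a `Qd(p)`-free finite group is `p`-stable in the normalizer form -/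
theorem nps_of_qd_free {X : Type*} [Group X] [Finite X] {p : ℕ} [Fact p.Prime] (hp : p ≠ 2)
    (hfree : ¬ Cfsg.Agent.Helper33.IsSectionOf X ↥(Cfsg.qd p)) : Cfsg.IsNormalizerPStable p X := by
  intro P hP g hg hq
  by_contra hout
  apply hfree
  -- work inside the normalizer
  set N : Subgroup X := Subgroup.normalizer (P : Set X) with hN
  have hVn : (P.subgroupOf N).Normal := Subgroup.normal_in_normalizer
  have hVp : IsPGroup p (P.subgroupOf N) :=
    hP.comap_of_injective N.subtype N.subtype_injective
  have hCeq : (Subgroup.centralizer (P : Set X)).subgroupOf N =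
      Subgroup.centralizer ((P.subgroupOf N : Subgroup N) : Set N) := by
    ext n
    rw [Subgroup.mem_subgroupOf, Subgroup.mem_centralizer_iff, Subgroup.mem_centralizer_iff]
    constructor
    · intro h m hm
      exact Subtype.ext (h (m : X) hm)
    · intro h x hx
      have hxN : x ∈ N := Subgroup.le_normalizer hx
      exact congrArg Subtype.val (h ⟨x, hxN⟩ hx)
  have hq' : ⁅⁅P.subgroupOf N, Subgroup.zpowers (⟨g, hg⟩ : N)⁆,
      Subgroup.zpowers (⟨g, hg⟩ : N)⁆ = ⊥ := by
    apply Subgroup.map_injective N.subtype_injective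
    rw [Subgroup.map_commutator, Subgroup.map_commutator, Subgroup.map_bot,
      Subgroup.subgroupOf_map_subtype, MonoidHom.map_zpowers]
    have h1 : P ⊓ N = P := inf_eq_left.mpr Subgroup.le_normalizer
    rw [h1]
    exact hq
  have hout' : (QuotientGroup.mk (⟨g, hg⟩ : N) :
      N ⧸ Subgroup.centralizer ((P.subgroupOf N : Subgroup N) : Set N)) ∉
      pCore p (N ⧸ Subgroup.centralizer ((P.subgroupOf N : Subgroup N) : Set N)) := by
    intro h'
    exact hout ((mk_mem_pCore_congr p _ _ hCeq ⟨g, hg⟩).mpr h')
  have h := Cfsg.Agent.Helper11.qd_section_of_quadratic hp (P.subgroupOf N) hVp ⟨g, hg⟩ hq' hout'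
  exact ((Cfsg.Agent.Helper33.IsSectionOf.refl X).subgroup N).trans h

/-- For an odd prime p and a finite group G, the group Qd(p) is not involved in G if and only if every section of G is p-stable in the normalizer form (for every p-subgroup P of the section and every g in its normalizer acting quadratically on P, the image of g in N(P)/C(P) lies in O_p(N(P)/C(P))). -/
theorem result {G : Type*} [Group G] [Finite G] {p : ℕ} [Fact p.Prime] (hp : p ≠ 2) : ¬ Cfsg.Involves ↥(Cfsg.qd p) G ↔ ∀ (K R : Subgroup G) [hR : (R.subgroupOf K).Normal], Cfsg.IsNormalizerPStable p (K ⧸ R.subgroupOf K) := by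
  constructor
  · intro hfree K R _
    apply nps_of_qd_free hp
    intro hsec
    apply hfree
    have h1 : Cfsg.Agent.Helper33.IsSectionOf G ↥(Cfsg.qd p) :=
      (Cfsg.Agent.Helper33.isSectionOf_quotient_subgroupOf K R).trans hsec
    exact h1.exists_equiv
  · intro h hinv
    obtain ⟨K, R, hR, ⟨e⟩⟩ := hinv
    exact Cfsg.Agent.Helper99.not_nps_of_equiv_qd p hp e (h K R)

end Cfsg.Agent.S2795
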