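import Cfsg.Statements.S0097
import Cfsg.Agent.Helper2.Class2

set_option autoImplicit false
open Cfsg
open Cfsg.Agent.Helper2
open scoped commutatorElement

namespace Cfsg.Agent.S0097

/-- For odd p and E extraspecial, the subgroup generated by the elements of order dividing p has exponent dividing p and index at most p. -/
theorem result {E : Type*} [Group E] [Finite E] {p : ℕ} [Fact p.Prime] (hp : p ≠ 2) (h : Cfsg.IsExtraspecial p E) : (Subgroup.closure {x : E | x ^ p = 1}).index ≤ p ∧ ∀ g ∈ Subgroup.closure {x : E | x ^ p = 1}, g ^ p = 1 := by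
  obtain ⟨⟨hPG, hfr, hcm⟩, hcard⟩ := h
  have hp' : p.Prime := Fact.out
  have hcl : commutator E ≤ Subgroup.center E := hcm.le
  have hpow_center : ∀ x : E, x ^ p ∈ Subgroup.center E :=
    fun x => hfr ▸ pow_mem_frattini_of_isPGroup hPG x
  have hmul : ∀ x y : E, (x * y) ^ p = x ^ p * y ^ p := by
    intro x y
    apply mul_pow_prime_of_class_two hcl hp' hp
    rw [← commutatorElement_pow_left_of_class_two hcl, commutatorElement_eq_one_iff_commute]
    exact (Subgroup.mem_center_iff.mp (hpow_center y) x).symm
  let f : E →* E := { toFun := fun x => x ^ p, map_one' := one_pow p, map_mul' := hmul }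
  have hker : Subgroup.closure {x : E | x ^ p = 1} = f.ker := by
    have hset : {x : E | x ^ p = 1} = (f.ker : Set E) := by
      ext x
      exact Iff.rfl
    rw [hset, Subgroup.closure_eq]
  refine ⟨?_, fun g hg => pow_eq_one_of_mem_closure_of_class_two hcl hp' hp g hg⟩
  rw [hker, Subgroup.index_ker]
  have hrange : f.range ≤ Subgroup.center E := by
    rintro _ ⟨x, rfl⟩
    exact hpow_center x
  calc Nat.card f.range ≤ Nat.card (Subgroup.center E) := Subgroup.card_le_of_le hrange
    _ = p := hcard

end Cfsg.Agent.S0097
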