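import Cfsg.Statements.S0109
import Mathlib
import Cfsg.Agent.S0601
import Cfsg.Agent.S0607
import Cfsg.Agent.S0608
import Cfsg.Agent.S0625
import Cfsg.Agent.S0626
import Cfsg.Agent.Helper24.HallHigman
import Cfsg.Agent.Helper24.QuadAmb
import Cfsg.Agent.Helper63.PSolv
import Cfsg.Agent.Helper10.PCore

set_option autoImplicit false
open Cfsg

namespace Cfsg.Agent.S0109

/-- The Thompson factorization Theorem for solvable groups states that, with p odd (and abelian Sylow 2-subgroups when p = 3) and no nontrivial normal subgroup of order prime to p, every element of G is a product of an element normalizing J(P) and an element centralizing the elements of order dividing p in the centre of P. -/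
theorem result {G : Type*} [Group G] [Finite G] {p : ℕ} [Fact p.Prime] (hp : p ≠ 2) (hs : Group.IsSolvable G) (h3 : p = 3 → ∀ T : Sylow 2 G, IsMulCommutative T) (hF : ∀ N : Subgroup G, N.Normal → Nat.Coprime (Nat.card N) p → N = ⊥) (P : Sylow p G) (g : G) : ∃ a ∈ Subgroup.normalizer (Cfsg.thompsonSubgroupOf p (P : Subgroup G) : Set G), ∃ c ∈ Subgroup.centralizer {x : G | x ∈ (P : Subgroup G) ∧ (∀ y ∈ (P : Subgroup G), x * y = y * x) ∧ x ^ p = 1}, g = a * c := by
  haveI := hs
  have hpp : p.Prime := Fact.out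
  have hO : Cfsg.pPrimeCore p G = ⊥ := by
    unfold Cfsg.pPrimeCore
    rw [sSup_eq_bot]
    rintro N ⟨hNn, hNc⟩
    exact hF N hNn hNc
  have hc : Subgroup.centralizer (Cfsg.pCore p G : Set G) ≤ Cfsg.pCore p G :=
    Helper24.centralizer_pCore_le p hF
  obtain ⟨W, hW⟩ : ∃ W : Subgroup G, W = ⨆ S : Sylow p G, Cfsg.omegaOne p
      ((S : Subgroup G) ⊓ Subgroup.centralizer ((S : Subgroup G) : Set G)) := ⟨_, rfl⟩
  obtain ⟨hWn, hWea, hD⟩ := S0601.result (G := G) (p := p) hc
  rw [← hW] at hWn hWea hD
  haveI := hWn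
  have hstab : Cfsg.IsActionPStable p G := by
    by_cases hp3 : p = 3
    · exact S0626.result hp (h3 hp3)
    · exact S0625.result (Helper24.five_le_of_prime hpp hp hp3)
        (Helper63.PSolv.isPSolvable_of_isSolvable p G hs)
  have hWst : Cfsg.IsPStableOn p W := hstab.1 W hWea
  haveI hCn : (Subgroup.centralizer (W : Set G)).Normal := Subgroup.normal_centralizer
  -- `O_p(G / C_G(W)) = 1`, in the form: the preimage is `C_G(W)`
  have hcomap : (Cfsg.pCore p (G ⧸ Subgroup.centralizer (W : Set G))).comap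
      (QuotientGroup.mk' (Subgroup.centralizer (W : Set G))) = Subgroup.centralizer (W : Set G) := by
    apply hD
    · exact Subgroup.Normal.comap (Cfsg.pCore_normal p _) _
    · intro x hx
      rw [Subgroup.mem_comap]
      have : QuotientGroup.mk' (Subgroup.centralizer (W : Set G)) x = 1 := by
        rw [← MonoidHom.mem_ker, QuotientGroup.ker_mk']; exact hx
      rw [this]; exact Subgroup.one_mem _
    · obtain ⟨k, hk⟩ := IsPGroup.iff_card.mp
        (Helper10.pCore_isPGroup p (G ⧸ Subgroup.centralizer (W : Set G)))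
      refine ⟨k, ?_⟩
      have h1 := Subgroup.relIndex_comap (⊥ : Subgroup (G ⧸ Subgroup.centralizer (W : Set G)))
        (QuotientGroup.mk' (Subgroup.centralizer (W : Set G)))
        ((Cfsg.pCore p (G ⧸ Subgroup.centralizer (W : Set G))).comap
          (QuotientGroup.mk' (Subgroup.centralizer (W : Set G))))
      rw [Subgroup.map_comap_eq_self_of_surjective (QuotientGroup.mk'_surjective _),
        Subgroup.relIndex_bot_left, hk, MonoidHom.comap_bot, QuotientGroup.ker_mk'] at h1
      exact h1
  have key : Cfsg.thompsonSubgroup p G ≤ Subgroup.centralizer (W : Set G) := by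
    by_contra hnot
    unfold Cfsg.thompsonSubgroup at hnot
    rw [sSup_le_iff] at hnot
    push Not at hnot
    obtain ⟨A, hA, hAW⟩ := hnot
    obtain ⟨-, hquad, hne⟩ := S0607.result W hWea A hA
    have hWA : ⁅W, A⁆ ≠ ⊥ := by
      intro h
      exact hAW (Subgroup.le_centralizer_iff.mp
        (Subgroup.commutator_eq_bot_iff_le_centralizer.mp h))
    have hne' := hne hWA
    obtain ⟨a, haA, haW⟩ : ∃ a ∈ ⁅W, A⁆ ⊔
        (A ⊓ Subgroup.centralizer ((⁅W, A⁆ : Subgroup G) : Set G)),
        a ∉ Subgroup.centralizer (W : Set G) := by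
      by_contra hcon
      push Not at hcon
      apply hne'
      rw [Subgroup.commutator_eq_bot_iff_le_centralizer, Subgroup.le_centralizer_iff]
      exact hcon
    have hq : ⁅⁅W, Subgroup.zpowers a⁆, Subgroup.zpowers a⁆ = ⊥ := by
      rw [eq_bot_iff, ← hquad]
      have hz : Subgroup.zpowers a ≤ ⁅W, A⁆ ⊔
          (A ⊓ Subgroup.centralizer ((⁅W, A⁆ : Subgroup G) : Set G)) :=
        Subgroup.zpowers_le.mpr haA
      exact Subgroup.commutator_mono (Subgroup.commutator_mono le_rfl hz) hz
    have h1 := hWst a hq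
    have h2 : a ∈ (Cfsg.pCore p (G ⧸ Subgroup.centralizer (W : Set G))).comap
        (QuotientGroup.mk' (Subgroup.centralizer (W : Set G))) := h1
    rw [hcomap] at h2
    exact haW h2
  rw [hW] at key
  have hfac := (S0608.result hO).mpr key
  obtain ⟨x, hx, c, hc', n, hn, hg⟩ := hfac P g⁻¹
  rw [hO, Subgroup.mem_bot] at hx
  subst hx
  rw [one_mul] at hg
  refine ⟨n⁻¹, Subgroup.inv_mem _ hn, c⁻¹, ?_, ?_⟩
  · apply Subgroup.inv_mem
    rw [Subgroup.mem_centralizer_iff] at hc' ⊢
    intro x hx
    apply hc'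
    apply Subgroup.subset_closure
    refine ⟨⟨hx.1, ?_⟩, hx.2.2⟩
    show x ∈ Subgroup.centralizer ((P : Subgroup G) : Set G)
    rw [Subgroup.mem_centralizer_iff]
    intro y hy
    exact (hx.2.1 y hy).symm
  · have hg' : g = (c * n)⁻¹ := by rw [← hg, inv_inv]
    rw [hg', mul_inv_rev]

end Cfsg.Agent.S0109
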