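import Cfsg.Statements.S0165
import Cfsg.Agent.Helper77.Twist
import Cfsg.Agent.Helper78.Counting
import Cfsg.Agent.Helper80.CharSchur
import Cfsg.Agent.Helper3.CenterDvd

set_option autoImplicit false
open Cfsg

namespace Cfsg.Agent.S0165

/-- If p ^ n is the exact power of the prime p dividing the order of a finite group and p ^ n divides the degree of an irreducible complex representation, then its character vanishes at every element of order divisible by p. -/
theorem result {G : Type*} [Group G] [Finite G] {V : Type*} [AddCommGroup V] [Module ℂ V] [FiniteDimensional ℂ V] (ρ : Representation ℂ G V) [ρ.IsIrreducible] (p n : ℕ) (hp : p.Prime) (hn : p ^ n ∣ Nat.card G) (hn' : ¬ p ^ (n + 1) ∣ Nat.card G) (hdeg : p ^ n ∣ Module.finrank ℂ V) (x : G) (hx : p ∣ orderOf x) : ρ.character x = 0 := by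
  classical
  have : Fintype G := Fintype.ofFinite G
  obtain ⟨M, hM⟩ := Cfsg.Agent.Helper78.exists_isPModular p hp
  have hMmax := hM.2.1
  have hpos := Cfsg.Agent.Helper3.finrank_pos_of_isIrreducible ρ
  obtain ⟨d, hd⟩ : ∃ d : ℕ, d = Module.finrank ℂ V := ⟨_, rfl⟩
  have hdvd : d ∣ Nat.card G := by
    rw [hd]
    exact Cfsg.Agent.Helper3.finrank_dvd_card ρ
  obtain ⟨c, hc⟩ := hdvd
  have hcp : ¬ p ∣ c := by
    intro hpc
    apply hn'
    rw [← hd] at hdeg
    obtain ⟨d', hd'⟩ := hdeg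
    obtain ⟨c', hc'⟩ := hpc
    rw [hc, hd', hc']
    exact ⟨d' * c', by ring⟩
  have hc0 : (c : ℂ) ≠ 0 := by
    have : c ≠ 0 := by
      rintro rfl
      rw [mul_zero] at hc
      exact Nat.card_pos.ne' hc
    exact_mod_cast this
  have hd0 : (d : ℂ) ≠ 0 := by
    rw [hd]
    exact_mod_cast hpos.ne'
  have hcard : (Fintype.card G : ℂ) = (d : ℂ) * (c : ℂ) := by
    rw [← Nat.card_eq_fintype_card, hc]
    push_cast
    ring
  let e : G → ℂ := fun g => (c : ℂ)⁻¹ * ρ.character g⁻¹
  have he : ∀ g, Cfsg.MemLocalRing M (e g) := fun g =>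
    Cfsg.Agent.Helper77.memLocalRing_mul hMmax (Cfsg.Agent.Helper77.memLocalRing_natCast_inv hM hcp)
      (Cfsg.Agent.Helper77.memLocalRing_of_isIntegral hMmax
        (Cfsg.Agent.Helper3.isIntegral_character ρ g⁻¹))
  have hidem : ∀ g, ∑ h : G, e h * e (h⁻¹ * g) = e g := by
    intro g
    have h1 := Cfsg.Agent.Helper80.rep_sum_char_conv ρ ρ g⁻¹
    rw [if_pos ⟨Representation.Equiv.refl ρ⟩, ← hd] at h1
    have h2 : ∑ h : G, e h * e (h⁻¹ * g)
        = (c : ℂ)⁻¹ * (c : ℂ)⁻¹ * ∑ y : G, ρ.character y⁻¹ * ρ.character (y * g⁻¹) := by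
      rw [Finset.mul_sum]
      apply Finset.sum_congr rfl
      intro h _
      simp only [e]
      rw [mul_inv_rev, inv_inv, Representation.char_mul_comm]
      ring
    rw [h2, h1, hcard]
    simp only [e]
    field_simp
  have hsum := Cfsg.Agent.Helper77.sum_conj_eq_zero_of_idempotent p M hM e he hidem x⁻¹
    (by rwa [orderOf_inv])
  have hcl : ∀ g : G, e (g⁻¹ * x⁻¹ * g) = e x⁻¹ := by
    intro g
    simp only [e]
    congr 1
    have : (g⁻¹ * x⁻¹ * g)⁻¹ = g⁻¹ * x⁻¹⁻¹ * g⁻¹⁻¹ := by group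
    rw [this, Representation.char_conj]
  simp only [hcl] at hsum
  rw [Finset.sum_const, Finset.card_univ, nsmul_eq_mul] at hsum
  have hG0 : (Fintype.card G : ℂ) ≠ 0 := by exact_mod_cast Fintype.card_ne_zero
  have h3 : e x⁻¹ = 0 := by
    rcases mul_eq_zero.mp hsum with h | h
    · exact absurd h hG0
    · exact h
  simp only [e, inv_inv] at h3
  rcases mul_eq_zero.mp h3 with h | h
  · exact absurd h (inv_ne_zero hc0)
  · exact h

end Cfsg.Agent.S0165
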