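import Mathlib
import Cfsg.Statements.S0214
-- import your own Cfsg.Agent.* helpers here

set_option autoImplicit false
open Cfsg

namespace Cfsg.Agent.S0214

lemma mem_conj_map {G : Type*} [Group G] (g x : G) (Y : Subgroup G) :
    x ∈ Y.map (MulAut.conj g).toMonoidHom ↔ g⁻¹ * x * g ∈ Y := by
  rw [Subgroup.mem_map_equiv]; simp

/-- Sylow's theorem inside a subgroup `H`, stated with elements of the ambient group. -/
lemma exists_conj_le_sylow {G : Type*} [Group G] [Finite G] {p : ℕ} [Fact p.Prime]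
    (H : Subgroup G) (P : Sylow p ↥H) (Y : Subgroup G) (hY : Y ≤ H) (hp : IsPGroup p Y) :
    ∃ h ∈ H, ∀ y ∈ Y, h * y * h⁻¹ ∈ (P : Subgroup ↥H).map H.subtype := by
  have hp' : IsPGroup p (Y.subgroupOf H) := hp.comap_subtype
  obtain ⟨Q, hQ⟩ := hp'.exists_le_sylow
  obtain ⟨h, hh⟩ := MulAction.exists_smul_eq ↥H Q P
  refine ⟨h.1, h.2, fun y hy => ?_⟩
  have hy' : (⟨y, hY hy⟩ : ↥H) ∈ (Q : Subgroup ↥H) :=
    hQ (by rw [Subgroup.mem_subgroupOf]; exact hy)
  have h3 : h * ⟨y, hY hy⟩ * h⁻¹ ∈ (P : Subgroup ↥H) := by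
    rw [← hh, Sylow.coe_subgroup_smul]
    have := Subgroup.smul_mem_pointwise_smul _ (MulAut.conj h) _ hy'
    simpa [MulAut.smul_def] using this
  exact ⟨_, h3, rfl⟩

lemma normalizer_le_of_pgroup {G : Type*} [Group G] [Finite G] (H : Subgroup G)
    (P : Sylow 2 ↥H)
    (hN : ∀ X : Subgroup ↥H, X ≤ (P : Subgroup ↥H) → X ≠ ⊥ →
      Subgroup.normalizer ((X.map H.subtype : Subgroup G) : Set G) ≤ H)
    (Y : Subgroup G) (hY : Y ≤ H) (hp : IsPGroup 2 Y) (hne : Y ≠ ⊥) :
    Subgroup.normalizer (Y : Set G) ≤ H := by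
  have : Fact (Nat.Prime 2) := ⟨Nat.prime_two⟩
  obtain ⟨h, hh, hc⟩ := exists_conj_le_sylow H P Y hY hp
  set Z : Subgroup G := Y.map (MulAut.conj h).toMonoidHom with hZ
  have hZH : Z ≤ H := by
    intro z hz
    rw [hZ, mem_conj_map] at hz
    have := hY hz
    have e : z = h * (h⁻¹ * z * h) * h⁻¹ := by group
    rw [e]; exact H.mul_mem (H.mul_mem hh this) (H.inv_mem hh)
  have hZP : Z.subgroupOf H ≤ P := by
    intro z hz
    rw [Subgroup.mem_subgroupOf, hZ, mem_conj_map] at hz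
    obtain ⟨w, hw, hwe⟩ := hc _ hz
    have e : w = z := by
      apply Subtype.ext
      rw [Subgroup.coe_subtype] at hwe
      rw [hwe]; group
    rw [← e]; exact hw
  have hZne : Z.subgroupOf H ≠ ⊥ := by
    rw [Ne, Subgroup.subgroupOf_eq_bot, disjoint_iff, inf_eq_left.2 hZH, hZ,
      Subgroup.map_eq_bot_iff_of_injective _ (MulAut.conj h).injective]
    exact hne
  have hZN := hN (Z.subgroupOf H) hZP hZne
  rw [Subgroup.map_subgroupOf_eq_of_le hZH] at hZN
  intro n hn
  have h1 : h * n * h⁻¹ ∈ Subgroup.normalizer (Z : Set G) := by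
    rw [Subgroup.mem_normalizer_iff]
    intro x
    rw [hZ, mem_conj_map, mem_conj_map]
    rw [Subgroup.mem_normalizer_iff] at hn
    rw [hn (h⁻¹ * x * h)]
    have e : h⁻¹ * (h * n * h⁻¹ * x * (h * n * h⁻¹)⁻¹) * h = n * (h⁻¹ * x * h) * n⁻¹ := by group
    rw [e]
  have h2 := hZN h1
  have e : n = h⁻¹ * (h * n * h⁻¹) * h := by group
  rw [e]; exact H.mul_mem (H.mul_mem (H.inv_mem hh) h2) hh

lemma mem_of_even_inter {G : Type*} [Group G] [Finite G] (H : Subgroup G)
    (hA : ∀ Y : Subgroup G, Y ≤ H → IsPGroup 2 Y → Y ≠ ⊥ →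
      Subgroup.normalizer (Y : Set G) ≤ H)
    (g : G) (he : Even (Nat.card ↥(H ⊓ H.map (MulAut.conj g).toMonoidHom))) : g ∈ H := by
  have : Fact (Nat.Prime 2) := ⟨Nat.prime_two⟩
  set D : Subgroup G := H ⊓ H.map (MulAut.conj g).toMonoidHom with hD
  obtain ⟨S⟩ : Nonempty (Sylow 2 ↥D) := inferInstance
  have hSne : (S : Subgroup D) ≠ ⊥ := S.ne_bot_of_dvd_card (even_iff_two_dvd.1 he)
  set S' : Subgroup G := (S : Subgroup D).map D.subtype with hS'
  have hS'D : S' ≤ D := Subgroup.map_subtype_le _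
  have hS'p : IsPGroup 2 S' := S.isPGroup'.map _
  have hS'ne : S' ≠ ⊥ := by
    rw [Ne, hS', Subgroup.map_eq_bot_iff_of_injective _ D.subtype_injective]; exact hSne
  have hN1 : Subgroup.normalizer (S' : Set G) ≤ H := hA S' (hS'D.trans inf_le_left) hS'p hS'ne
  set S2 : Subgroup G := S'.map (MulAut.conj g⁻¹).toMonoidHom with hS2
  have hS2H : S2 ≤ H := by
    intro x hx
    rw [hS2, mem_conj_map] at hx
    have h1 : g⁻¹⁻¹ * x * g⁻¹ ∈ H.map (MulAut.conj g).toMonoidHom :=
      (Subgroup.mem_inf.1 (hS'D hx)).2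
    rw [mem_conj_map] at h1
    have e : g⁻¹ * (g⁻¹⁻¹ * x * g⁻¹) * g = x := by group
    rw [e] at h1; exact h1
  have hS2ne : S2 ≠ ⊥ := by
    rw [Ne, hS2, Subgroup.map_eq_bot_iff_of_injective _ (MulAut.conj g⁻¹).injective]
    exact hS'ne
  have hN2 : Subgroup.normalizer (S2 : Set G) ≤ H := hA S2 hS2H (hS'p.map _) hS2ne
  have hN1' : Subgroup.normalizer (S' : Set G) ≤ H.map (MulAut.conj g).toMonoidHom := by
    intro n hn
    rw [mem_conj_map]
    apply hN2
    rw [Subgroup.mem_normalizer_iff]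
    intro x
    rw [hS2, mem_conj_map, mem_conj_map]
    rw [Subgroup.mem_normalizer_iff] at hn
    rw [hn (g⁻¹⁻¹ * x * g⁻¹)]
    have e : g⁻¹⁻¹ * (g⁻¹ * n * g * x * (g⁻¹ * n * g)⁻¹) * g⁻¹ = n * (g⁻¹⁻¹ * x * g⁻¹) * n⁻¹ := by
      group
    rw [e]
  have hND : Subgroup.normalizer (S' : Set G) ≤ D := le_inf hN1 hN1'
  obtain ⟨R, hR⟩ := hS'p.exists_le_sylow
  have hRD : ∀ x ∈ (R : Subgroup G), x ∈ D → x ∈ S' := by
    intro x hxR hxD
    have hQ : IsPGroup 2 ((R : Subgroup G).subgroupOf D) := R.isPGroup'.comap_subtype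
    have hSQ : (S : Subgroup D) ≤ (R : Subgroup G).subgroupOf D := by
      intro s hs
      rw [Subgroup.mem_subgroupOf]
      exact hR (Subgroup.mem_map_of_mem _ hs)
    have hmax := S.is_maximal' hQ hSQ
    have hx : (⟨x, hxD⟩ : D) ∈ (S : Subgroup D) := by
      rw [← hmax, Subgroup.mem_subgroupOf]; exact hxR
    exact ⟨⟨x, hxD⟩, hx, rfl⟩
  have hRS : (R : Subgroup G) ≤ S' := by
    have : Group.IsNilpotent ↥(R : Subgroup G) := R.isPGroup'.isNilpotent
    have nc := Group.normalizerCondition_of_isNilpotent (G := ↥(R : Subgroup G))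
    rw [normalizerCondition_iff_only_full_group_self_normalizing] at nc
    have htop : S'.subgroupOf (R : Subgroup G) = ⊤ := by
      apply nc
      apply le_antisymm _ Subgroup.le_normalizer
      intro x hx
      rw [Subgroup.mem_subgroupOf]
      apply hRD x.1 x.2
      apply hND
      rw [Subgroup.mem_normalizer_iff] at hx ⊢
      intro y
      constructor
      · intro hy
        have h1 := (hx ⟨y, hR hy⟩).1 (by rw [Subgroup.mem_subgroupOf]; exact hy)
        rw [Subgroup.mem_subgroupOf] at h1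
        simpa using h1
      · intro hy
        have hyR : y ∈ (R : Subgroup G) := by
          have e : y = (x : G)⁻¹ * ((x : G) * y * (x : G)⁻¹) * (x : G) := by group
          rw [e]; exact mul_mem (mul_mem (inv_mem x.2) (hR hy)) x.2
        have h1 := (hx ⟨y, hyR⟩).2 (by rw [Subgroup.mem_subgroupOf]; simpa using hy)
        rw [Subgroup.mem_subgroupOf] at h1
        exact h1
    intro r hr
    have h1 : (⟨r, hr⟩ : (R : Subgroup G)) ∈ S'.subgroupOf (R : Subgroup G) := by
      rw [htop]; trivial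
    rw [Subgroup.mem_subgroupOf] at h1
    exact h1
  have hRH : (R : Subgroup G) ≤ H := hRS.trans (hS'D.trans inf_le_left)
  obtain ⟨h, hh, hc⟩ := exists_conj_le_sylow H (R.subtype hRH) S2 hS2H (hS'p.map _)
  have hmapR : ((R.subtype hRH : Sylow 2 H) : Subgroup H).map H.subtype = R := by
    rw [Sylow.coe_subtype, Subgroup.map_subgroupOf_eq_of_le hRH]
  have hn : h * g⁻¹ ∈ Subgroup.normalizer (S' : Set G) := by
    apply Subgroup.mem_normalizer_fintype
    intro s hs
    have h1 : g⁻¹ * s * g ∈ S2 := by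
      rw [hS2, mem_conj_map]
      have e : g⁻¹⁻¹ * (g⁻¹ * s * g) * g⁻¹ = s := by group
      rw [e]; exact hs
    have h2 := hc _ h1
    rw [hmapR] at h2
    have h3 := hRS h2
    have e : h * g⁻¹ * s * (h * g⁻¹)⁻¹ = h * (g⁻¹ * s * g) * h⁻¹ := by group
    rw [e]; exact h3
  have h4 := hN1 hn
  have e : g = (h * g⁻¹)⁻¹ * h := by group
  rw [e]; exact mul_mem (inv_mem h4) hh

/-- A proper subgroup H of even order is strongly embedded iff N_G(X) ≤ H for every nonidentity 2-subgroup X of H; it suffices to check this for the nonidentity subgroups X of one fixed Sylow 2-subgroup P of H. -/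
theorem result {G : Type*} [Group G] [Finite G] (H : Subgroup G) (hH : H ≠ ⊤) (P : Sylow 2 ↥H) (hP : (P : Subgroup ↥H) ≠ ⊥) : Cfsg.IsStronglyEmbedded H ↔ (∀ X : Subgroup ↥H, X ≤ (P : Subgroup ↥H) → X ≠ ⊥ → Subgroup.normalizer ((X.map H.subtype : Subgroup G) : Set G) ≤ H) := by
  have : Fact (Nat.Prime 2) := ⟨Nat.prime_two⟩
  constructor
  · rintro ⟨-, -, hodd⟩ X hXP hXne g hg
    by_contra hgH
    have hodd' := hodd g hgH
    set X' : Subgroup G := X.map H.subtype with hX'
    have hX'H : X' ≤ H := Subgroup.map_subtype_le X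
    have hX'c : X' ≤ H.map (MulAut.conj g).toMonoidHom := by
      intro x hx
      rw [mem_conj_map]
      apply hX'H
      exact (Subgroup.mem_normalizer_iff''.1 hg x).1 hx
    have hdvd : Nat.card X' ∣ Nat.card ↥(H ⊓ H.map (MulAut.conj g).toMonoidHom) :=
      Subgroup.card_dvd_of_le (le_inf hX'H hX'c)
    have hX'p : IsPGroup 2 X' := (P.isPGroup'.to_le hXP).map _
    have hX'ne : X' ≠ ⊥ := by
      rw [Ne, hX', Subgroup.map_eq_bot_iff_of_injective _ H.subtype_injective]; exact hXne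
    have h2 : 2 ∣ Nat.card X' := by
      rcases hX'p.card_eq_or_dvd with h1 | h2
      · exact absurd (Subgroup.card_eq_one.1 h1) hX'ne
      · exact h2
    have h3 : ¬ 2 ∣ Nat.card ↥(H ⊓ H.map (MulAut.conj g).toMonoidHom) := by
      rw [← even_iff_two_dvd, Nat.not_even_iff_odd]; exact hodd'
    exact h3 (h2.trans hdvd)
  · intro hN
    refine ⟨hH, ?_, ?_⟩
    · rw [even_iff_two_dvd]
      have h2 : 2 ∣ Nat.card (P : Subgroup H) := by
        rcases P.isPGroup'.card_eq_or_dvd with h1 | h2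
        · exact absurd (Subgroup.card_eq_one.1 h1) hP
        · exact h2
      exact h2.trans (Subgroup.card_subgroup_dvd_card _)
    · intro g hg
      by_contra hodd
      rw [Nat.not_odd_iff_even] at hodd
      exact hg (mem_of_even_inter H (normalizer_le_of_pgroup H P hN) g hodd)

end Cfsg.Agent.S0214
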