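import Cfsg.Statements.S0224
import Mathlib
import Cfsg.Agent.Helper4.Invol

set_option autoImplicit false
open Cfsg

namespace Cfsg.Agent.S0224

theorem fixed_iff {G : Type*} [Group G] (H : Subgroup G) (t g : G) :
    t • (g : G ⧸ H) = (g : G ⧸ H) ↔ g⁻¹ * t * g ∈ H := by
  have h1 : t • (g : G ⧸ H) = ((t * g : G) : G ⧸ H) := rfl
  rw [h1, QuotientGroup.eq]
  constructor
  · intro h
    have : g⁻¹ * t * g = ((t * g)⁻¹ * g)⁻¹ := by group
    rw [this]; exact H.inv_mem h
  · intro h
    have : (t * g)⁻¹ * g = (g⁻¹ * t * g)⁻¹ := by group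
    rw [this]; exact H.inv_mem h

/-- Let H be a proper subgroup of even order of the finite group G. Then H is strongly embedded if and only if each involution of H fixes exactly one point (namely the coset H) in the action of G on the cosets of H. -/
theorem result {G : Type*} [Group G] [Finite G] (H : Subgroup G) (hH : H ≠ ⊤) (heven : Even (Nat.card H)) : Cfsg.IsStronglyEmbedded H ↔ ∀ t ∈ H, orderOf t = 2 → Nat.card {c : G ⧸ H // t • c = c} = 1 := by
  constructor
  · rintro ⟨-, -, hSE⟩ t htH ht
    rw [Nat.card_eq_one_iff_unique]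
    constructor
    · constructor
      rintro ⟨c, hc⟩ ⟨c', hc'⟩
      apply Subtype.ext
      simp only
      have key : ∀ c : G ⧸ H, t • c = c → c = ((1 : G) : G ⧸ H) := by
        intro c hc
        induction c using QuotientGroup.induction_on with
        | H g =>
          rw [fixed_iff] at hc
          by_contra hne
          have hgH : g ∉ H := by
            intro hg
            apply hne
            rw [QuotientGroup.eq]
            simpa using H.inv_mem hg
          have hodd := hSE g hgH
          have hmem : t ∈ H ⊓ H.map (MulAut.conj g).toMonoidHom :=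
            Subgroup.mem_inf.mpr ⟨htH, (Helper4.mem_map_conj_iff H g t).mpr hc⟩
          exact (Helper4.not_odd_card_iff_exists_involution _).mpr ⟨t, hmem, ht⟩ hodd
      rw [key c hc, key c' hc']
    · refine ⟨⟨((1 : G) : G ⧸ H), ?_⟩⟩
      rw [fixed_iff]
      simpa using htH
  · intro hfix
    refine ⟨hH, heven, fun g hgH => ?_⟩
    by_contra hodd
    obtain ⟨s, hs, hs2⟩ := (Helper4.not_odd_card_iff_exists_involution _).mp hodd
    obtain ⟨hsH, hsg⟩ := Subgroup.mem_inf.mp hs
    rw [Helper4.mem_map_conj_iff] at hsg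
    have h1 := hfix s hsH hs2
    rw [Nat.card_eq_one_iff_unique] at h1
    obtain ⟨hsub, -⟩ := h1
    have e : (⟨((1 : G) : G ⧸ H), by rw [fixed_iff]; simpa using hsH⟩ :
        {c : G ⧸ H // s • c = c}) = ⟨(g : G ⧸ H), by rw [fixed_iff]; exact hsg⟩ :=
      Subsingleton.elim _ _
    have e' : ((1 : G) : G ⧸ H) = (g : G ⧸ H) := congrArg Subtype.val e
    rw [QuotientGroup.eq] at e'
    apply hgH
    simpa using e'

end Cfsg.Agent.S0224
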