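import Cfsg.Statements.S0255
import Cfsg.Agent.Helper57.Psl27
import Cfsg.Agent.Helper5.SLCard
import Cfsg.Agent.Helper5.SLGen

set_option autoImplicit false
open Cfsg

namespace Cfsg.Agent.S0255

open Cfsg.Agent.Helper57 Matrix

instance fact_prime_7 : Fact (Nat.Prime 7) := ⟨by norm_num⟩

/-- `SL(2, 7)` -/
abbrev G7 : Type := SpecialLinearGroup (Fin 2) (ZMod 7)
/-- `SL(3, 2)` -/
abbrev H2 : Type := SpecialLinearGroup (Fin 3) (ZMod 2)

/-- The coercion to pairs of matrices, as a monoid hom. -/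
def coe27 : G7 × H2 →* Matrix (Fin 2) (Fin 2) (ZMod 7) × Matrix (Fin 3) (Fin 3) (ZMod 2) where
  toFun g := (g.1.1, g.2.1)
  map_one' := rfl
  map_mul' _ _ := rfl

theorem coe27_injective : Function.Injective coe27 := by
  intro x y h
  have h1 := congrArg Prod.fst h
  have h2 := congrArg Prod.snd h
  exact Prod.ext (Subtype.ext h1) (Subtype.ext h2)

/-- decoding of a pair of codes -/
def dec27 (x : C27) : Matrix (Fin 2) (Fin 2) (ZMod 7) × Matrix (Fin 3) (Fin 3) (ZMod 2) :=
  (Q2.toMat x.1, Q3.toMat x.2)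

theorem dec27_mul (x y : C27) : dec27 (c27mul x y) = dec27 x * dec27 y := by
  simp [dec27, c27mul, Q2.toMat_mul, Q3.toMat_mul]

/-- the transvection `T` -/
def tT : G7 := ⟨Q2.toMat g27A.1, by rw [Q2.det_toMat]; decide⟩
/-- its image `A` -/
def tA : H2 := ⟨Q3.toMat g27A.2, by rw [Q3.det_toMat]; decide⟩
/-- the transvection `T'` -/
def tT' : G7 := ⟨Q2.toMat g27B.1, by rw [Q2.det_toMat]; decide⟩
/-- its image `B` -/
def tB : H2 := ⟨Q3.toMat g27B.2, by rw [Q3.det_toMat]; decide⟩

/-- The graph of the homomorphism. -/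
def Γ : Subgroup (G7 × H2) := Subgroup.closure {(tT, tA), (tT', tB)}

theorem Γ_sub : ∀ g ∈ Γ, ∃ x ∈ g27L, dec27 x = coe27 g :=
  closure_pair_subset_codes coe27 coe27_injective dec27 c27mul dec27_mul (tT, tA) (tT', tB)
    g27A g27B (Q2.one, Q3.one) rfl rfl (Prod.ext Q2.toMat_one Q3.toMat_one) g27L g27L_one
    g27L_mulA g27L_mulB

theorem Γ_inj : ∀ h : H2, ((1 : G7), h) ∈ Γ → h = 1 := by
  intro h hh
  obtain ⟨x, hx, hxg⟩ := Γ_sub _ hh
  have h1 : Q2.toMat x.1 = 1 := congrArg Prod.fst hxg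
  have h2 : Q3.toMat x.2 = h.1 := congrArg Prod.snd hxg
  have h3 : x.1 = Q2.one := Q2.toMat_injective (h1.trans Q2.toMat_one.symm)
  have h4 := g27L_fst_one x hx h3
  apply Subtype.ext
  rw [← h2, h4, Q3.toMat_one]
  rfl

theorem transv_pow {i j : Fin 2} (hij : i ≠ j) (n : ℕ) :
    SpecialLinearGroup.transvection hij (n : ZMod 7) = (SpecialLinearGroup.transvection hij 1) ^ n := by
  induction n with
  | zero => simp [SpecialLinearGroup.transvection_coeff_zero]
  | succ n ih =>
    rw [pow_succ, ← ih]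
    apply Subtype.ext
    show Matrix.transvection i j (((n + 1 : ℕ) : ZMod 7)) =
      Matrix.transvection i j (n : ZMod 7) * Matrix.transvection i j 1
    rw [Matrix.transvection_mul_transvection_same i j hij]
    push_cast
    rfl

theorem tT_eq : SpecialLinearGroup.transvection (show (0 : Fin 2) ≠ 1 by decide) (1 : ZMod 7) = tT := by
  apply Subtype.ext
  show Matrix.transvection (0 : Fin 2) 1 (1 : ZMod 7) = Q2.toMat g27A.1
  ext i j
  fin_cases i <;> fin_cases j <;> simp [Matrix.transvection, Q2.toMat, g27A]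

theorem tT'_eq : SpecialLinearGroup.transvection (show (1 : Fin 2) ≠ 0 by decide) (1 : ZMod 7) = tT' := by
  apply Subtype.ext
  show Matrix.transvection (1 : Fin 2) 0 (1 : ZMod 7) = Q2.toMat g27B.1
  ext i j
  fin_cases i <;> fin_cases j <;> simp [Matrix.transvection, Q2.toMat, g27B]

theorem Γ_surj : ∀ g : G7, ∃ h : H2, (g, h) ∈ Γ := by
  have hpowT : ∀ n : ℕ, ∃ h : H2, (tT ^ n, h) ∈ Γ := fun n =>
    ⟨tA ^ n, by
      have : ((tT, tA) : G7 × H2) ^ n ∈ Γ := Γ.pow_mem (Subgroup.subset_closure (by simp)) n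
      simpa using this⟩
  have hpowT' : ∀ n : ℕ, ∃ h : H2, (tT' ^ n, h) ∈ Γ := fun n =>
    ⟨tB ^ n, by
      have : ((tT', tB) : G7 × H2) ^ n ∈ Γ := Γ.pow_mem (Subgroup.subset_closure (by simp)) n
      simpa using this⟩
  intro g
  refine Helper5.SL_transvection_induction (fun g : G7 => ∃ h : H2, (g, h) ∈ Γ) ?_ ?_ g
  · intro i j hij a
    have ha : a = ((a.val : ℕ) : ZMod 7) := (ZMod.natCast_zmod_val a).symm
    rw [ha, transv_pow]
    fin_cases i <;> fin_cases j
    · exact absurd rfl hij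
    · have := hpowT a.val
      rwa [← tT_eq] at this
    · have := hpowT' a.val
      rwa [← tT'_eq] at this
    · exact absurd rfl hij
  · rintro A B ⟨h, hh⟩ ⟨h', hh'⟩
    exact ⟨h * h', by simpa using Γ.mul_mem hh hh'⟩

theorem exists_hom : ∃ φ : G7 →* H2, φ tT = tA ∧
    ∀ z ∈ Subgroup.center G7, φ z = 1 := by
  obtain ⟨φ, hφ⟩ := exists_hom_of_graph Γ Γ_surj Γ_inj
  refine ⟨φ, (hφ _ _).1 (Subgroup.subset_closure (by simp)), ?_⟩
  intro z hz
  rw [Matrix.SpecialLinearGroup.mem_center_iff] at hz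
  obtain ⟨r, hr, hrz⟩ := hz
  simp only [Fintype.card_fin] at hr
  have h0 : (r - 1) * (r + 1) = 0 := by linear_combination hr
  rcases mul_eq_zero.1 h0 with h | h
  · have hr1 : r = 1 := by linear_combination h
    have hz1 : z = 1 := by
      apply Subtype.ext
      rw [← hrz, hr1]
      simp
    rw [hz1, map_one]
  · have hr1 : r = -1 := by linear_combination h
    have hmem : (z, φ z) ∈ Γ := (hφ z (φ z)).2 rfl
    obtain ⟨x, hx, hxg⟩ := Γ_sub _ hmem
    have h1 : Q2.toMat x.1 = z.1 := congrArg Prod.fst hxg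
    have h2 : Q3.toMat x.2 = (φ z).1 := congrArg Prod.snd hxg
    have h3 : x.1 = ⟨6, 0, 0, 6⟩ := by
      apply Q2.toMat_injective
      rw [h1, ← hrz, hr1]
      have h6 : (6 : ZMod 7) = -1 := by decide
      ext i j
      fin_cases i <;> fin_cases j <;> simp [Q2.toMat, h6]
    have h4 := g27L_fst_neg_one x hx h3
    apply Subtype.ext
    rw [← h2, h4, Q3.toMat_one]
    rfl

theorem tA_ne_one : tA ≠ 1 := by
  intro h
  have h1 : Q3.toMat g27A.2 = 1 := congrArg Subtype.val h
  have h2 : g27A.2 = Q3.one := Q3.toMat_injective (h1.trans Q3.toMat_one.symm)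
  revert h2
  decide

theorem psl27 : Nonempty (ProjectiveSpecialLinearGroup (Fin 2) (ZMod 7) ≃*
    ProjectiveSpecialLinearGroup (Fin 3) (ZMod 2)) := by
  classical
  obtain ⟨φ, hφT, hφz⟩ := exists_hom
  have hker : Subgroup.center G7 ≤ φ.ker := fun z hz => hφz z hz
  let ψ : ProjectiveSpecialLinearGroup (Fin 2) (ZMod 7) →* H2 :=
    QuotientGroup.lift (Subgroup.center G7) φ hker
  have hsimple : IsSimpleGroup (ProjectiveSpecialLinearGroup (Fin 2) (ZMod 7)) :=
    Matrix.ProjectiveSpecialLinearGroup.rank_two_simple (by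
      rw [Nat.card_eq_fintype_card, ZMod.card]; norm_num)
  have hψ : Function.Injective ψ := by
    rw [← MonoidHom.ker_eq_bot_iff]
    rcases (MonoidHom.normal_ker ψ).eq_bot_or_eq_top with h | h
    · exact h
    · exfalso
      have hg : (QuotientGroup.mk tT : ProjectiveSpecialLinearGroup (Fin 2) (ZMod 7)) ∈ ψ.ker := by
        rw [h]; trivial
      have : φ tT = 1 := hg
      rw [hφT] at this
      exact tA_ne_one this
  have h2 : (2 : ZMod 7) ≠ 0 := by decide
  have hcard1 : Nat.card (ProjectiveSpecialLinearGroup (Fin 2) (ZMod 7)) = 168 := by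
    have h1 := Helper5.card_PSL2_mul (F := ZMod 7)
    rw [Helper5.card_center_SL2 h2, ZMod.card] at h1
    omega
  have hcard2 : Nat.card H2 = 168 := by
    have h := Helper5.card_SL_mul (F := ZMod 2) (Fin 3)
    rw [Matrix.card_GL_field, ZMod.card] at h
    simp only [Fin.prod_univ_three] at h
    simpa using h
  have hbij : Function.Bijective ψ :=
    (Nat.bijective_iff_injective_and_card ψ).2 ⟨hψ, by rw [hcard1, hcard2]⟩
  have hr2 : ∀ r : ZMod 2, r ^ 3 = 1 → r = 1 := by decide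
  have hc : Subgroup.center H2 = ⊥ := by
    rw [eq_bot_iff]
    intro A hA
    rw [Matrix.SpecialLinearGroup.mem_center_iff] at hA
    obtain ⟨r, hr, hrA⟩ := hA
    have hr1 : r = 1 := by
      simp only [Fintype.card_fin] at hr
      exact hr2 r hr
    rw [Subgroup.mem_bot]
    apply Subtype.ext
    rw [← hrA, hr1]
    simp
  exact ⟨(MulEquiv.ofBijective ψ hbij).trans
    ((QuotientGroup.quotientMulEquivOfEq hc).trans QuotientGroup.quotientBot).symm⟩

/-- PSL_2(7) is isomorphic to PSL_3(2). -/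
theorem result {F K : Type*} [Field F] [Fintype F] [Field K] [Fintype K] (hF : Fintype.card F = 7) (hK : Fintype.card K = 2) : Nonempty (Matrix.ProjectiveSpecialLinearGroup (Fin 2) F ≃* Matrix.ProjectiveSpecialLinearGroup (Fin 3) K) := by
  have : Fact (Nat.Prime 2) := ⟨Nat.prime_two⟩
  have e7 : ZMod 7 ≃+* F := ZMod.ringEquivOfPrime F (by norm_num) hF
  have e2 : ZMod 2 ≃+* K := ZMod.ringEquivOfPrime K Nat.prime_two hK
  obtain ⟨e⟩ := psl27
  exact ⟨((pslCongr e7.symm).trans e).trans (pslCongr e2)⟩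

end Cfsg.Agent.S0255
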