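import Cfsg.Statements.S0825
import Cfsg.Agent.Helper5.HeartQuad

set_option autoImplicit false
open Cfsg

namespace Cfsg.Agent.S0825

open Cfsg.Agent.Helper5 Matrix

/-- O⁺_6(2) ≅ S_8: the isometry group of the hyperbolic form x_1y_1 + x_2y_2 + x_3y_3 over the field with 2 elements is isomorphic to the symmetric group on 8 letters. -/
theorem result {F : Type*} [Field F] [Fintype F] (hF : Fintype.card F = 2) : Nonempty (↥(Cfsg.isometryGroup F (Cfsg.quadFormPlus 3 F)) ≃* Equiv.Perm (Fin 8)) := by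
  classical
  have h2 : (2 : F) = 0 := by
    have := Nat.cast_card_eq_zero F
    rw [hF] at this
    exact_mod_cast this
  have hΩ : ((Fintype.card (Fin 8) : ℕ) : F) = 0 := by
    rw [Fintype.card_fin]
    push_cast
    linear_combination 4 * h2
  -- the coordinate isomorphism
  let φh : (Fin 3 ⊕ Fin 3 → F) →ₗ[F] heartV F (7 : Fin 8) :=
    LinearMap.codRestrict (heartV F (7 : Fin 8)) (heartPhi F) (heartPhi_mem h2)
  have hφinj : Function.Injective φh := by
    intro s t h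
    exact heartPhi_injective h2 (congrArg Subtype.val h)
  have hfr := heart_finrank (F := F) (7 : Fin 8) (0 : Fin 8) (by decide)
  rw [Fintype.card_fin] at hfr
  have hfin : Module.finrank F (Fin 3 ⊕ Fin 3 → F) = Module.finrank F (heartV F (7 : Fin 8)) := by
    rw [Module.finrank_fintype_fun_eq_card]
    simp only [Fintype.card_sum, Fintype.card_fin]
    omega
  let Φ : (Fin 3 ⊕ Fin 3 → F) ≃ₗ[F] heartV F (7 : Fin 8) :=
    LinearMap.linearEquivOfInjective φh hφinj hfin
  have hΦ : ∀ t, (Φ t : Fin 8 → F) = heartPhi F t := fun t => rfl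
  have hQ : ∀ y : heartV F (7 : Fin 8), Cfsg.quadFormPlus 3 F (Φ.symm y) = pairQ (y : Fin 8 → F) := by
    intro y
    rw [← heartPhi_pairQ h2, ← hΦ, LinearEquiv.apply_symm_apply]
  let b : Module.Basis (Fin 3 ⊕ Fin 3) F (heartV F (7 : Fin 8)) := Module.Basis.ofEquivFun Φ.symm
  have hb : ∀ y, b.equivFun y = Φ.symm y := by
    intro y
    rw [Module.Basis.equivFun_ofEquivFun]
  have hmv : ∀ (σ : Equiv.Perm (Fin 8)) (x : heartV F (7 : Fin 8)),
      (LinearMap.toMatrixAlgEquiv b (heartAct (7 : Fin 8) hΩ σ)) *ᵥ (b.equivFun x) =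
        b.equivFun (heartAct (7 : Fin 8) hΩ σ x) :=
    fun σ x => LinearMap.toMatrix_mulVec_repr b b _ x
  let f0 : Equiv.Perm (Fin 8) →* Matrix (Fin 3 ⊕ Fin 3) (Fin 3 ⊕ Fin 3) F :=
    (MonoidHomClass.toMonoidHom (LinearMap.toMatrixAlgEquiv b)).comp (heartHom (7 : Fin 8) hΩ)
  let f1 : Equiv.Perm (Fin 8) →* Matrix.GeneralLinearGroup (Fin 3 ⊕ Fin 3) F := f0.toHomUnits
  have hf1 : ∀ σ, ((f1 σ : Matrix.GeneralLinearGroup (Fin 3 ⊕ Fin 3) F) :
      Matrix (Fin 3 ⊕ Fin 3) (Fin 3 ⊕ Fin 3) F) =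
      LinearMap.toMatrixAlgEquiv b (heartAct (7 : Fin 8) hΩ σ) := fun σ => rfl
  have hmem : ∀ σ, f1 σ ∈ Cfsg.isometryGroup F (Cfsg.quadFormPlus 3 F) := by
    intro σ
    rw [mem_isometryGroup_iff]
    intro u
    have hu : u = b.equivFun (Φ u) := by
      rw [hb, LinearEquiv.symm_apply_apply]
    rw [hf1]
    conv_lhs => rw [hu]
    rw [hmv, hb, hQ, pairQ_heartAct h2 hΩ, ← hQ, LinearEquiv.symm_apply_apply]
  let f : Equiv.Perm (Fin 8) →* Cfsg.isometryGroup F (Cfsg.quadFormPlus 3 F) :=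
    f1.codRestrict _ hmem
  have hfinj : Function.Injective f := by
    intro σ τ h
    have h1 : f1 σ = f1 τ := congrArg Subtype.val h
    have h3 : LinearMap.toMatrixAlgEquiv b (heartHom (7 : Fin 8) hΩ σ) =
        LinearMap.toMatrixAlgEquiv b (heartHom (7 : Fin 8) hΩ τ) := congrArg Units.val h1
    exact heartHom_injective (7 : Fin 8) hΩ (by rw [Fintype.card_fin]; norm_num)
      ((LinearMap.toMatrixAlgEquiv b).injective h3)
  have hcard : Nat.card (Cfsg.isometryGroup F (Cfsg.quadFormPlus 3 F)) ≤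
      Nat.card (Equiv.Perm (Fin 8)) := by
    rw [card_GO_plus 3 (by norm_num), hF, Nat.card_perm]
    simp [Finset.prod_range_succ]
    decide
  exact ⟨(MulEquiv.ofBijective f (hfinj.bijective_of_nat_card_le hcard)).symm⟩

end Cfsg.Agent.S0825
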