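import Cfsg.Statements.S0256
import Cfsg.Agent.S0825
import Cfsg.Agent.Helper5.Klein
import Cfsg.Agent.Helper5.SLCard
import Cfsg.Agent.Helper42.SLn

set_option autoImplicit false
open Cfsg

namespace Cfsg.Agent.S0256

open Cfsg.Agent.Helper5 Matrix

/-- PSL_4(2) is isomorphic to A_8. -/
theorem result {F : Type*} [Field F] [Fintype F] (hF : Fintype.card F = 2) : Nonempty (Matrix.ProjectiveSpecialLinearGroup (Fin 4) F ≃* alternatingGroup (Fin 8)) := by
  classical
  obtain ⟨e⟩ := Cfsg.Agent.S0825.result hF
  -- the centre is trivial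
  have hc : Subgroup.center (Matrix.SpecialLinearGroup (Fin 4) F) = ⊥ := by
    rw [eq_bot_iff]
    intro A hA
    rw [Matrix.SpecialLinearGroup.mem_center_iff] at hA
    obtain ⟨r, hr, hrA⟩ := hA
    have hr0 : r ≠ 0 := by
      rintro rfl
      simp at hr
    have hr1 : r = 1 := by
      have := FiniteField.pow_card_sub_one_eq_one r hr0
      rw [hF] at this
      simpa using this
    rw [Subgroup.mem_bot]
    apply Subtype.ext
    rw [← hrA, hr1]
    simp
  have hker : (kleinIso F).ker = ⊥ := by
    rcases Cfsg.Agent.Helper42.SLn.normal_le_center_or_eq_top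
      (Cfsg.Agent.Helper42.SLn.commutator_eq_top_of_three (F := F) (ι := Fin 4)
        (by rw [Fintype.card_fin]; norm_num)) (kleinIso F).ker with h | h
    · rw [hc] at h
      exact eq_bot_iff.2 h
    · exact absurd h (kleinIso_ker_ne_top F)
  let ψ : Matrix.SpecialLinearGroup (Fin 4) F →* Equiv.Perm (Fin 8) :=
    e.toMonoidHom.comp (kleinIso F)
  have hψ : Function.Injective ψ :=
    e.injective.comp ((MonoidHom.ker_eq_bot_iff _).1 hker)
  have hcard : Nat.card (Matrix.SpecialLinearGroup (Fin 4) F) = 20160 := by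
    have h := card_SL_mul (F := F) (Fin 4)
    rw [Matrix.card_GL_field, hF] at h
    simp only [Fin.prod_univ_four] at h
    simpa using h
  have hidx : ψ.range.index = 2 := by
    have h1 := Subgroup.card_mul_index ψ.range
    rw [← Nat.card_congr (MonoidHom.ofInjective hψ).toEquiv, hcard, Nat.card_perm,
      Nat.card_eq_fintype_card, Fintype.card_fin] at h1
    have h2 : (Nat.factorial 8) = 20160 * 2 := by decide
    rw [h2] at h1
    exact Nat.eq_of_mul_eq_mul_left (by norm_num) h1
  have hr : ψ.range = alternatingGroup (Fin 8) :=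
    Equiv.Perm.eq_alternatingGroup_of_index_eq_two hidx
  exact ⟨((QuotientGroup.quotientMulEquivOfEq hc).trans QuotientGroup.quotientBot).trans
    ((MonoidHom.ofInjective hψ).trans (MulEquiv.subgroupCongr hr))⟩

end Cfsg.Agent.S0256
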