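import Cfsg.Statements.S0420
import Cfsg.Agent.Helper48.M11UDefs
import Cfsg.Agent.Helper48.M11UAsm
import Cfsg.Agent.Helper7.M11UP3
import Cfsg.Agent.Helper88.M11UP4

/-!
# S0420: a simple group of order 7920 is the concrete M11

Team proof (CALL S0420, architect helper48; pieces by many seats, see the imports of
`Cfsg.Agent.Helper48.M11UAsm`).
* PART I (`m11u_part1`): `G` is isomorphic to a sharply 4-transitive group of degree 11
  (the 55 Sylow 3-subgroups form the triangular graph T(11); its 11 stars are the points).
* PART III (`Helper7.m11u_part3`): so is the stabiliser of a dodecad and one of its points.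
* PART IV (`Helper88.m11u_part4`): two sharply 4-transitive groups of degree 11 are isomorphic
  (each preserves a Steiner system S(4,5,11) and is its full automorphism group; S0411, S0426).
-/

set_option autoImplicit false
open scoped Pointwise
open Cfsg

namespace Cfsg.Agent.S0420

/-- Simple groups of order 7920 are all isomorphic to the concrete smallest Mathieu group. -/
theorem result {G : Type*} [Group G] [Finite G] (hG : Cfsg.IsM11 G) (d : Finset Cfsg.GolayPt) (hd : d ∈ Cfsg.dodecads) (p : Cfsg.GolayPt) (hp : p ∈ d) : Nonempty (G ≃* ↥(MulAction.stabilizer Cfsg.M24 d ⊓ MulAction.stabilizer Cfsg.M24 p)) := by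
  obtain ⟨H, hH, ⟨e1⟩⟩ := Cfsg.Agent.Helper48.M11U.m11u_part1 hG
  obtain ⟨hc, K, hK, ⟨e3⟩⟩ := Cfsg.Agent.Helper7.m11u_part3 d hd p hp
  obtain ⟨e2⟩ := Cfsg.Agent.Helper88.m11u_part4 (by simp) hc H K hH hK
  exact ⟨(e1.trans e2).trans e3.symm⟩

end Cfsg.Agent.S0420
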