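import Mathlib
import Cfsg.Statements.S0991

set_option autoImplicit false

namespace Cfsg.Agent.S0991

theorem result {G : Type*} [Group G] [Finite G] [IsSimpleGroup G] (hG : ¬ IsMulCommutative G) (H : Subgroup G) (hH : H ≠ ⊤) : ∃ f : G →* ↥(alternatingGroup (Fin H.index)), Function.Injective f := by
  classical
  have e : (G ⧸ H) ≃ Fin H.index := Finite.equivFin (G ⧸ H)
  let φ : G →* Equiv.Perm (Fin H.index) :=
    (e.permCongrHom.toMonoidHom).comp (MulAction.toPermHom G (G ⧸ H))
  have hφ : Function.Injective φ := by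
    have hk : (MulAction.toPermHom G (G ⧸ H)).ker ≠ ⊤ := by
      intro h
      apply hH
      rw [eq_top_iff]
      intro g _
      have hg : g ∈ (MulAction.toPermHom G (G ⧸ H)).ker := by rw [h]; trivial
      rw [MonoidHom.mem_ker] at hg
      have h1 : (MulAction.toPermHom G (G ⧸ H)) g (QuotientGroup.mk 1) = (QuotientGroup.mk 1 : G ⧸ H) := by
        rw [hg]; rfl
      have h2 : (QuotientGroup.mk (g * 1) : G ⧸ H) = QuotientGroup.mk 1 := h1
      rw [QuotientGroup.eq] at h2
      simpa using h2
    have hk' : (MulAction.toPermHom G (G ⧸ H)).ker = ⊥ :=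
      ((MonoidHom.normal_ker (MulAction.toPermHom G (G ⧸ H))).eq_bot_or_eq_top).resolve_right hk
    have hinj : Function.Injective (MulAction.toPermHom G (G ⧸ H)) :=
      (MonoidHom.ker_eq_bot_iff _).mp hk'
    exact e.permCongrHom.injective.comp hinj
  have hsign : ∀ g : G, Equiv.Perm.sign (φ g) = 1 := by
    let ψ : G →* ℤˣ := Equiv.Perm.sign.comp φ
    rcases (MonoidHom.normal_ker ψ).eq_bot_or_eq_top with h | h
    · exfalso
      apply hG
      have hinj : Function.Injective ψ := (MonoidHom.ker_eq_bot_iff _).mp h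
      refine ⟨⟨fun a b => ?_⟩⟩
      apply hinj
      rw [map_mul, map_mul, mul_comm]
    · intro g
      have hg : g ∈ ψ.ker := by rw [h]; trivial
      exact hg
  refine ⟨φ.codRestrict (alternatingGroup (Fin H.index)) (fun g => ?_), ?_⟩
  · rw [Equiv.Perm.mem_alternatingGroup]
    exact hsign g
  · intro a b hab
    apply hφ
    have := congrArg Subtype.val hab
    simpa using this

end Cfsg.Agent.S0991
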