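import Cfsg.Statements.S0497
import Cfsg.Agent.Helper9.BrauerP2
import Cfsg.Agent.Helper40.PresSmall
import Cfsg.Agent.S0991

set_option autoImplicit false
set_option maxHeartbeats 1000000
set_option linter.style.haveILetI false
open Cfsg

namespace Cfsg.Agent.S0497

open Subgroup Cfsg.Agent.Helper9.OrdTools Cfsg.Agent.Helper9.BrauerP

theorem arith_sylow : ∀ d, d ∣ 72 → d % 5 = 1 → d = 1 ∨ d = 6 ∨ d = 36 := by
  intro d hd
  have hle : d ≤ 72 := Nat.le_of_dvd (by norm_num) hd
  revert hd
  have key : ∀ d ≤ 72, d ∣ 72 → d % 5 = 1 → d = 1 ∨ d = 6 ∨ d = 36 := by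
    decide +kernel
  exact key d hle

theorem arith_factor {e c : ℕ} (he : 1 < e) (h : e * c = 2) : e = 2 ∧ c = 1 := by
  have hc0 : 0 < c := by
    rcases Nat.eq_zero_or_pos c with h0 | h0
    · rw [h0] at h; simp at h
    · exact h0
  have hele : e ≤ 2 := by nlinarith
  have hcle : c ≤ 2 := by nlinarith
  interval_cases e <;> interval_cases c <;> simp_all

/-- a simple group of order 360 has a subgroup of index 6. -/
theorem exists_index_six {G : Type*} [Group G] [Finite G] [IsSimpleGroup G]
    (h : Nat.card G = 360) : ∃ H : Subgroup G, H.index = 6 := by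
  classical
  haveI : Fact (Nat.Prime 5) := ⟨by norm_num⟩
  haveI : Fact (Nat.Prime 2) := ⟨by norm_num⟩
  haveI : Fact (Nat.Prime 3) := ⟨by norm_num⟩
  obtain ⟨P⟩ : Nonempty (Sylow 5 G) := inferInstance
  have hP : Nat.card (P : Subgroup G) = 5 := by
    have := sylow_card 1 72 (h.trans (by norm_num)) (by norm_num) P
    simpa using this
  obtain ⟨hd, hm, hne, hN⟩ := sylow_num P (by rw [hP]; norm_num) (by rw [hP, h]; norm_num)
  have hidxP : (P : Subgroup G).index = 72 := by
    have := (P : Subgroup G).card_mul_index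
    rw [hP, h] at this
    omega
  rw [hidxP] at hd
  have hNi : Nat.card (Sylow 5 G) = (normalizer ((P : Subgroup G) : Set G)).index :=
    Sylow.card_eq_index_normalizer P
  rcases arith_sylow _ hd hm with h1 | h6 | h36
  · exact absurd h1 hne
  · exact ⟨normalizer ((P : Subgroup G) : Set G), by rw [← hNi, h6]⟩
  · obtain ⟨e, he, he1, hNe, ⟨c, hc⟩⟩ := normalizer_centralizer_prime P hP (by rw [h]; norm_num)
    rw [h36, h] at hN
    have hec : e * c = 2 := by
      rw [hc] at hNe
      rw [hNe] at hN
      nlinarith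
    obtain ⟨he2, hc1⟩ := arith_factor he1 hec
    have hC5 : Nat.card (centralizer ((P : Subgroup G) : Set G)) = 5 := by rw [hc, hc1]
    have hN10 : Nat.card (normalizer ((P : Subgroup G) : Set G)) = 2 * 5 := by
      rw [hNe, he2, hC5]
    obtain ⟨t, ht⟩ := exists_prime_orderOf_dvd_card' (G := G) 2 (by rw [h]; norm_num)
    obtain ⟨l, hl⟩ := exists_prime_orderOf_dvd_card' (G := G) 3 (by rw [h]; norm_num)
    have ht1 : t ≠ 1 := by
      intro h0
      rw [h0, orderOf_one] at ht
      norm_num at ht
    have hl1 : l ≠ 1 := by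
      intro h0
      rw [h0, orderOf_one] at hl
      norm_num at hl
    obtain ⟨z, hz1⟩ : ∃ z : (P : Subgroup G), z ≠ 1 := by
      haveI : Nontrivial (P : Subgroup G) := by
        rw [← Finite.one_lt_card_iff_nontrivial, hP]
        norm_num
      exact exists_ne 1
    obtain ⟨t', l', hct, hcl, hprod⟩ := class_product_two P hP (by rw [h]; norm_num)
      (by norm_num) hC5 hN10 ht1 hl1 (by rw [ht]; norm_num) (by rw [hl]; norm_num) z.2
      (fun h0 => hz1 (Subtype.ext h0))
    have ht'2 : t' ^ 2 = 1 := by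
      obtain ⟨x, hx⟩ := isConj_iff.mp hct
      rw [← hx, conj_pow, ← ht, pow_orderOf_eq_one, mul_one, mul_inv_cancel]
    have hl'3 : l' ^ 3 = 1 := by
      obtain ⟨x, hx⟩ := isConj_iff.mp hcl
      rw [← hx, conj_pow, ← hl, pow_orderOf_eq_one, mul_one, mul_inv_cancel]
    have ht'1 : t' ≠ 1 := by
      obtain ⟨x, hx⟩ := isConj_iff.mp hct
      intro h0
      apply ht1
      rw [h0] at hx
      have : t = x⁻¹ * (x * t * x⁻¹) * x := by group
      rw [this, hx]
      group
    have hz5 : (t' * l') ^ 5 = 1 := by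
      rw [hprod]
      have h0 := pow_card_eq_one' (G := (P : Subgroup G)) (x := z)
      have h1 : ((z : (P : Subgroup G)) : G) ^ Nat.card (P : Subgroup G) = 1 := by
        rw [← Subgroup.coe_pow, h0, Subgroup.coe_one]
      rwa [hP] at h1
    obtain ⟨f, hfa, hfb⟩ := Helper40.PresSmall.a5_hom t' l' ht'2 hl'3 hz5
    have hinj := Helper40.PresSmall.a5_inj f (by rw [hfa]; exact ht'1)
    refine ⟨f.range, ?_⟩
    have hcard : Nat.card f.range = 60 := by
      rw [← Nat.card_congr (MonoidHom.ofInjective hinj).toEquiv]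
      exact Helper40.PresSmall.a5_card
    have := f.range.card_mul_index
    rw [hcard, h] at this
    omega


/-- A simple group of order 360 is isomorphic to the alternating group of degree 6. -/
theorem result {G : Type*} [Group G] [Finite G] [IsSimpleGroup G]
    (h : Nat.card G = 360) : Nonempty (G ≃* alternatingGroup (Fin 6)) := by
  classical
  haveI : Fact (Nat.Prime 5) := ⟨by norm_num⟩
  obtain ⟨H, hH6⟩ := exists_index_six h
  have hHtop : H ≠ ⊤ := by
    intro ht
    rw [ht, Subgroup.index_top] at hH6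
    omega
  obtain ⟨P⟩ : Nonempty (Sylow 5 G) := inferInstance
  have hP : Nat.card (P : Subgroup G) = 5 := by
    have := sylow_card 1 72 (h.trans (by norm_num)) (by norm_num) P
    simpa using this
  obtain ⟨a, b, hab⟩ := exists_not_comm P (by rw [hP]; norm_num) (by rw [hP, h]; norm_num)
  have hnc : ¬ IsMulCommutative G := fun hc => hab (hc.is_comm.comm a b)
  obtain ⟨f, hf⟩ := Cfsg.Agent.S0991.result hnc H hHtop
  have key : ∀ n, H.index = n →
      ∃ f : G →* alternatingGroup (Fin n), Function.Injective f := by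
    intro n hn
    subst hn
    exact ⟨f, hf⟩
  obtain ⟨f6, hf6⟩ := key 6 hH6
  have hcardA : Nat.card (alternatingGroup (Fin 6)) = 360 := by
    have := two_mul_nat_card_alternatingGroup (α := Fin 6)
    rw [Nat.card_perm, Nat.card_eq_fintype_card (α := Fin 6), Fintype.card_fin] at this
    have h6 : Nat.factorial 6 = 720 := by decide
    omega
  have hbij : Function.Bijective f6 :=
    (Nat.bijective_iff_injective_and_card f6).mpr ⟨hf6, by rw [h, hcardA]⟩
  exact ⟨MulEquiv.ofBijective f6 hbij⟩

end Cfsg.Agent.S0497
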