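import Cfsg.Statements.S0627
import Cfsg.Agent.Helper35.StableNormal
import Cfsg.Agent.Helper35.StableMap
import Cfsg.Agent.Helper11.ActionPStable
import Cfsg.Agent.Helper11.SL2Facts
import Cfsg.Agent.Helper32.HallHigman
import Cfsg.Agent.Helper32.PSolvable
import Cfsg.Agent.Helper55.TwoClosed
import Cfsg.Agent.Helper22.Fitting
import Cfsg.Agent.Helper1.PPrimeCore

set_option autoImplicit false
open Cfsg

namespace Cfsg.Agent.S0627

/-- In a p-separable group with p at least 5, the normalizer of W(S) supplements the largest normal subgroup of order prime to p. -/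
theorem result {G : Type*} [Group G] [Finite G] {p : ℕ} [Fact p.Prime] (hp : 5 ≤ p) (hsep : Cfsg.IsPSolvable p G) (S : Sylow p G) : Cfsg.pPrimeCore p G ⊔ Subgroup.normalizer (((Cfsg.stableNormalClosure p ↥(S : Subgroup G)).map (S : Subgroup G).subtype) : Set G) = ⊤ := by
  have hpp : p.Prime := Fact.out
  have hp2 : p ≠ 2 := by omega
  have hKn : (Cfsg.pPrimeCore p G).Normal := Cfsg.Agent.Helper1.pPrimeCore_normal p
  have hKcop : (Nat.card (Cfsg.pPrimeCore p G)).Coprime p :=
    Cfsg.Agent.Helper22.card_pPrimeCore_coprime p G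
  have hπ : Function.Surjective (QuotientGroup.mk' (Cfsg.pPrimeCore p G)) :=
    QuotientGroup.mk'_surjective _
  have hsepQ : Cfsg.IsPSolvable p (G ⧸ Cfsg.pPrimeCore p G) :=
    Cfsg.Agent.Helper32.isPSolvable_quotient hpp hsep _
  have hredQ := Cfsg.Agent.Helper55.pPrimeCore_quotient_eq_bot p G
  have hcQ := Cfsg.Agent.Helper32.centralizer_pCore_le_of_isPSolvable hsepQ hredQ
  have hstQ : Cfsg.IsActionPStable p (G ⧸ Cfsg.pPrimeCore p G) :=
    Cfsg.Agent.Helper11.isActionPStable_of_no_sl2 hp2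
      (Cfsg.Agent.Helper11.not_isSectionOf_sl2_of_isPSolvable hp hsepQ)
  have hnorm := Cfsg.Agent.Helper35.stableNormalClosure_map_normal hstQ hcQ
    (S.mapSurjective hπ)
  have hinj : ∀ x ∈ (S : Subgroup G),
      QuotientGroup.mk' (Cfsg.pPrimeCore p G) x = 1 → x = 1 := by
    intro x hx hx1
    have hxK : x ∈ Cfsg.pPrimeCore p G := (QuotientGroup.eq_one_iff x).mp hx1
    obtain ⟨j, hj⟩ := S.isPGroup' ⟨x, hx⟩
    have h1 : x ^ (p ^ j) = 1 := by simpa using congrArg Subtype.val hj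
    have h2 : x ^ (Nat.card (Cfsg.pPrimeCore p G)) = 1 := by
      have h0 : (⟨x, hxK⟩ : ↥(Cfsg.pPrimeCore p G)) ^ Nat.card ↥(Cfsg.pPrimeCore p G) = 1 :=
        pow_card_eq_one'
      have h0' := congrArg Subtype.val h0
      rw [Subgroup.coe_pow] at h0'
      exact h0'
    have hc : (p ^ j).Coprime (Nat.card (Cfsg.pPrimeCore p G)) :=
      Nat.Coprime.pow_left j hKcop.symm
    have h3 := pow_gcd_eq_one.mpr ⟨h1, h2⟩
    rwa [hc.gcd_eq_one, pow_one] at h3
  have hmap := Cfsg.Agent.Helper35.map_stableNormalClosure_map p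
    (QuotientGroup.mk' (Cfsg.pPrimeCore p G)) (S : Subgroup G)
    ((S.mapSurjective hπ : Sylow p (G ⧸ Cfsg.pPrimeCore p G)) :
      Subgroup (G ⧸ Cfsg.pPrimeCore p G))
    (Sylow.coe_mapSurjective hπ S).symm hinj
  rw [← hmap] at hnorm
  have hWp : IsPGroup p (((Cfsg.stableNormalClosure p ↥(S : Subgroup G)).map
      (S : Subgroup G).subtype) : Subgroup G) :=
    S.isPGroup'.to_le (Subgroup.map_subtype_le _)
  have hlift := Cfsg.Agent.Helper19.norm_lift _ (Cfsg.pPrimeCore p G) hWp hKcop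
  rw [eq_top_iff]
  intro g _
  have hg : QuotientGroup.mk' (Cfsg.pPrimeCore p G) g ∈ Subgroup.normalizer
      (((((Cfsg.stableNormalClosure p ↥(S : Subgroup G)).map (S : Subgroup G).subtype).map
        (QuotientGroup.mk' (Cfsg.pPrimeCore p G)) : Subgroup (G ⧸ Cfsg.pPrimeCore p G))) :
          Set (G ⧸ Cfsg.pPrimeCore p G)) := by
    rw [Subgroup.normalizer_eq_top]; trivial
  obtain ⟨n, hn, hng⟩ := hlift hg
  have h4 : g * n⁻¹ ∈ Cfsg.pPrimeCore p G := by
    rw [← QuotientGroup.eq_one_iff, QuotientGroup.mk_mul, QuotientGroup.mk_inv]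
    have h5 : (QuotientGroup.mk n : G ⧸ Cfsg.pPrimeCore p G) = QuotientGroup.mk g := hng
    rw [h5, mul_inv_cancel]
  have h6 : g = (g * n⁻¹) * n := by group
  rw [h6]
  exact Subgroup.mul_mem _ (Subgroup.mem_sup_left h4) (Subgroup.mem_sup_right hn)

end Cfsg.Agent.S0627
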