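import Cfsg.Statements.S0628
import Cfsg.Agent.Helper35.StableNormal
import Cfsg.Agent.Helper35.MinConfig
import Cfsg.Agent.Helper33.ThompsonNPC

set_option autoImplicit false
open Cfsg

namespace Cfsg.Agent.S0628

universe u

/-- The functor `Q ↦ W(Q)` (stable normal closure of Kurzweil–Stellmacher). -/
def wF (p : ℕ) (Q : Type u) [Group Q] : Subgroup Q := Cfsg.stableNormalClosure p Q

theorem isCharPFunctor_wF (p : ℕ) [Fact p.Prime] : Cfsg.IsCharPFunctor.{u} p (wF p) := by
  refine ⟨?_, ?_⟩
  · intro Q _ _ hQ hnt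
    exact (Cfsg.Agent.S0622.result hQ).2.2.2.1 hnt
  · intro Q R _ _ _ hQ φ
    exact Cfsg.Agent.S0622.map_stableNormalClosure p φ

theorem thLoc_wF {p : ℕ} [Fact p.Prime] (hp : p ≠ 2) (H : Type u) [Group H] [Finite H] :
    Cfsg.Agent.Helper33.ThLoc (wF p) p H := by
  intro hc hq T hT
  exact Cfsg.Agent.Helper35.stableNormalClosure_map_normal
    (Cfsg.Agent.Helper11.isActionPStable_of_no_sl2 hp
      (Cfsg.Agent.Helper35.not_sl2_section_of_coatom_sylow hp hq T hT)) hc T

/-- The normal p-complement Theorem of Thompson in the form with W(S): for odd p, G has a normal p-complement as soon as the normalizer of the characteristic subgroup W(S) of a Sylow p-subgroup S has one. -/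
theorem result {G : Type*} [Group G] [Finite G] {p : ℕ} [Fact p.Prime] (hp : p ≠ 2) (S : Sylow p G) (hN : Cfsg.HasNormalPComplement p ↥(Subgroup.normalizer (((Cfsg.stableNormalClosure p ↥(S : Subgroup G)).map (S : Subgroup G).subtype) : Set G))) : Cfsg.HasNormalPComplement p G := by
  have hN' : Cfsg.Agent.Helper33.NormFunctorNPC (wF p) p (S : Subgroup G) := hN
  exact Cfsg.Agent.Helper33.thompson_sections (isCharPFunctor_wF p)
    (fun H _ hsec => by
      have : Finite H := hsec.finite
      exact thLoc_wF hp H)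
    (Nat.card G) G (Cfsg.Agent.Helper33.IsSectionOf.refl G) rfl ⟨S, hN'⟩

end Cfsg.Agent.S0628
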