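import Cfsg.Statements.S0632
import Cfsg.Agent.Helper11.ZJQuot
import Cfsg.Agent.Helper32.PConstrained
import Cfsg.Agent.Helper51.PCore

set_option autoImplicit false
open Cfsg

namespace Cfsg.Agent.S0632

open Subgroup

theorem pCore_le_pPrimePCore' (p : ℕ) (H : Type*) [Group H] :
    Cfsg.pCore p H ≤ Cfsg.pPrimePCore p H := by
  intro x hx
  show x ∈ (Cfsg.pCore p (H ⧸ Cfsg.pPrimeCore p H)).comap
    (QuotientGroup.mk' (Cfsg.pPrimeCore p H))
  rw [Subgroup.mem_comap]
  have h1 : (Cfsg.pCore p H).map (QuotientGroup.mk' (Cfsg.pPrimeCore p H)) ≤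
      Cfsg.pCore p (H ⧸ Cfsg.pPrimeCore p H) :=
    Helper51.le_pCore _
      (Subgroup.Normal.map (Cfsg.pCore_normal p H) _ (QuotientGroup.mk'_surjective _))
      ((Helper51.pCore_isPGroup p H).map _)
  exact h1 (Subgroup.mem_map_of_mem _ hx)

/-- For a group with a nontrivial normal p-subgroup, p-stability passes to and from the quotient by the largest normal subgroup of order prime to p. -/
theorem result {G : Type*} [Group G] [Finite G] {p : ℕ} [Fact p.Prime] (hO : Cfsg.pCore p G ≠ ⊥) : Cfsg.IsPStable p G ↔ Cfsg.IsPStable p (G ⧸ Cfsg.pPrimeCore p G) := by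
  have hπsurj : Function.Surjective (QuotientGroup.mk' (Cfsg.pPrimeCore p G)) :=
    QuotientGroup.mk'_surjective _
  have hKbot : Cfsg.pPrimeCore p (G ⧸ Cfsg.pPrimeCore p G) = ⊥ :=
    Helper32.pPrimeCore_quotient_eq_bot' p G
  have hPK : ∀ (R : Subgroup G), IsPGroup p R → ∀ x ∈ R,
      QuotientGroup.mk' (Cfsg.pPrimeCore p G) x = 1 → x = 1 := by
    intro R hR x hx hx1
    exact Helper32.eq_one_of_mem_pGroup_of_mem_pPrimeCore hR hx
      ((QuotientGroup.eq_one_iff x).mp hx1)
  constructor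
  · intro hs
    refine ⟨hs.1, ?_, ?_⟩
    · intro h0
      apply hs.2.1
      have h1 : (Cfsg.pCore p G).map (QuotientGroup.mk' (Cfsg.pPrimeCore p G)) ≤
          Cfsg.pCore p (G ⧸ Cfsg.pPrimeCore p G) :=
        Helper51.le_pCore _ (Subgroup.Normal.map (Cfsg.pCore_normal p G) _ hπsurj)
          ((Helper51.pCore_isPGroup p G).map _)
      rw [h0, le_bot_iff] at h1
      rw [eq_bot_iff]
      intro x hx
      rw [Subgroup.mem_bot]
      apply hPK _ (Helper51.pCore_isPGroup p G) x hx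
      have : QuotientGroup.mk' (Cfsg.pPrimeCore p G) x ∈
          (Cfsg.pCore p G).map (QuotientGroup.mk' (Cfsg.pPrimeCore p G)) :=
        Subgroup.mem_map_of_mem _ hx
      rw [h1, Subgroup.mem_bot] at this
      exact this
    · intro Ab Pb hAp hPp hnorm hPL hsupn hq
      rw [hKbot, bot_sup_eq] at hsupn
      have : Pb.Normal := hsupn
      obtain ⟨T, hT⟩ := hAp.exists_le_sylow
      obtain ⟨S, rfl⟩ := Sylow.mapSurjective_surjective hπsurj p T
      have hAS : Ab ≤ (S : Subgroup G).map (QuotientGroup.mk' (Cfsg.pPrimeCore p G)) := by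
        rw [← Sylow.coe_mapSurjective]; exact hT
      have key : ∀ a ∈ Ab, (QuotientGroup.mk a : (G ⧸ Cfsg.pPrimeCore p G) ⧸
            centralizer (Pb : Set (G ⧸ Cfsg.pPrimeCore p G))) ∈
          Cfsg.pCore p ((G ⧸ Cfsg.pPrimeCore p G) ⧸
            centralizer (Pb : Set (G ⧸ Cfsg.pPrimeCore p G))) :=
        fun a ha => Helper11.stable_quotient_pPrimeCore hs S Pb hPp Ab hAS hq a ha
      have hcomp := Helper54.comap_pCore_le_comap_pCore (p := p)
        ((QuotientGroup.mk' (centralizer (Pb : Set (G ⧸ Cfsg.pPrimeCore p G)))).comp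
          (normalizer (Pb : Set (G ⧸ Cfsg.pPrimeCore p G))).subtype)
        (QuotientGroup.mk' ((centralizer (Pb : Set (G ⧸ Cfsg.pPrimeCore p G))).subgroupOf
          (normalizer (Pb : Set (G ⧸ Cfsg.pPrimeCore p G)))))
        (QuotientGroup.mk'_surjective _) (by
          intro n hn
          rw [MonoidHom.mem_ker] at hn
          rw [QuotientGroup.ker_mk', Subgroup.mem_subgroupOf]
          exact (QuotientGroup.eq_one_iff _).mp hn)
      rintro _ ⟨⟨a, haN⟩, ha, rfl⟩
      rw [SetLike.mem_coe, Subgroup.mem_subgroupOf] at ha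
      have h1 : (⟨a, haN⟩ : ↥(normalizer (Pb : Set (G ⧸ Cfsg.pPrimeCore p G)))) ∈
          (Cfsg.pCore p ((G ⧸ Cfsg.pPrimeCore p G) ⧸
            centralizer (Pb : Set (G ⧸ Cfsg.pPrimeCore p G)))).comap
            ((QuotientGroup.mk' (centralizer (Pb : Set (G ⧸ Cfsg.pPrimeCore p G)))).comp
              (normalizer (Pb : Set (G ⧸ Cfsg.pPrimeCore p G))).subtype) := by
        rw [Subgroup.mem_comap]
        exact key a ha
      exact Subgroup.mem_comap.mp (hcomp h1)
  · intro hs
    refine ⟨hs.1, hO, ?_⟩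
    intro A P hAp hPp hnorm hPL hsupn hq
    have hAbp : IsPGroup p (A.map (QuotientGroup.mk' (Cfsg.pPrimeCore p G))) := hAp.map _
    have hPbp : IsPGroup p (P.map (QuotientGroup.mk' (Cfsg.pPrimeCore p G))) := hPp.map _
    have hnormb : ∀ a ∈ A.map (QuotientGroup.mk' (Cfsg.pPrimeCore p G)),
        ∀ x ∈ P.map (QuotientGroup.mk' (Cfsg.pPrimeCore p G)),
        a * x * a⁻¹ ∈ P.map (QuotientGroup.mk' (Cfsg.pPrimeCore p G)) := by
      rintro _ ⟨a, ha, rfl⟩ _ ⟨x, hx, rfl⟩
      exact ⟨a * x * a⁻¹, hnorm a ha x hx, by simp⟩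
    have hPLb : P.map (QuotientGroup.mk' (Cfsg.pPrimeCore p G)) ≤
        Cfsg.pPrimePCore p (G ⧸ Cfsg.pPrimeCore p G) := by
      refine le_trans ?_ (pCore_le_pPrimePCore' p (G ⧸ Cfsg.pPrimeCore p G))
      rw [Subgroup.map_le_iff_le_comap]
      exact hPL
    have hsupnb : (Cfsg.pPrimeCore p (G ⧸ Cfsg.pPrimeCore p G) ⊔
        P.map (QuotientGroup.mk' (Cfsg.pPrimeCore p G))).Normal := by
      rw [hKbot, bot_sup_eq]
      have h1 : (Cfsg.pPrimeCore p G ⊔ P).map (QuotientGroup.mk' (Cfsg.pPrimeCore p G)) =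
          P.map (QuotientGroup.mk' (Cfsg.pPrimeCore p G)) := by
        rw [Subgroup.map_sup, QuotientGroup.map_mk'_self, bot_sup_eq]
      rw [← h1]
      exact Subgroup.Normal.map hsupn _ hπsurj
    have hqb : ⁅⁅P.map (QuotientGroup.mk' (Cfsg.pPrimeCore p G)),
        A.map (QuotientGroup.mk' (Cfsg.pPrimeCore p G))⁆,
        A.map (QuotientGroup.mk' (Cfsg.pPrimeCore p G))⁆ = ⊥ := by
      rw [← Subgroup.map_commutator, ← Subgroup.map_commutator, hq, Subgroup.map_bot]
    have key := hs.2.2 _ _ hAbp hPbp hnormb hPLb hsupnb hqb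
    have hNN : ∀ n : ↥(normalizer (P : Set G)),
        (QuotientGroup.mk' (Cfsg.pPrimeCore p G)).comp (normalizer (P : Set G)).subtype n ∈
        normalizer ((P.map (QuotientGroup.mk' (Cfsg.pPrimeCore p G)) :
          Subgroup (G ⧸ Cfsg.pPrimeCore p G)) : Set (G ⧸ Cfsg.pPrimeCore p G)) := by
      intro n
      rw [Subgroup.mem_normalizer_iff]
      intro y
      constructor
      · rintro ⟨x, hx, rfl⟩
        exact ⟨n * x * (n : G)⁻¹, (Subgroup.mem_normalizer_iff.mp n.2 x).mp hx, by simp⟩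
      · intro hy
        obtain ⟨x, hx, hxy⟩ := hy
        refine ⟨(n : G)⁻¹ * x * n, ?_, ?_⟩
        · have := (Subgroup.mem_normalizer_iff.mp
            ((normalizer (P : Set G)).inv_mem n.2) x).mp hx
          simpa using this
        · rw [map_mul, map_mul, hxy, map_inv]
          simp only [MonoidHom.comp_apply, Subgroup.coe_subtype]
          group
    let ρ : ↥(normalizer (P : Set G)) →*
        ↥(normalizer ((P.map (QuotientGroup.mk' (Cfsg.pPrimeCore p G)) :
          Subgroup (G ⧸ Cfsg.pPrimeCore p G)) : Set (G ⧸ Cfsg.pPrimeCore p G))) :=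
      ((QuotientGroup.mk' (Cfsg.pPrimeCore p G)).comp
        (normalizer (P : Set G)).subtype).codRestrict _ hNN
    have hρ : ∀ n : ↥(normalizer (P : Set G)),
        (ρ n).1 = QuotientGroup.mk' (Cfsg.pPrimeCore p G) (n : G) := fun n => rfl
    have hcomp := Helper54.comap_pCore_le_comap_pCore (p := p)
      ((QuotientGroup.mk' ((centralizer ((P.map (QuotientGroup.mk' (Cfsg.pPrimeCore p G)) :
          Subgroup (G ⧸ Cfsg.pPrimeCore p G)) : Set (G ⧸ Cfsg.pPrimeCore p G))).subgroupOf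
          (normalizer ((P.map (QuotientGroup.mk' (Cfsg.pPrimeCore p G)) :
          Subgroup (G ⧸ Cfsg.pPrimeCore p G)) : Set (G ⧸ Cfsg.pPrimeCore p G))))).comp ρ)
      (QuotientGroup.mk' ((centralizer (P : Set G)).subgroupOf (normalizer (P : Set G))))
      (QuotientGroup.mk'_surjective _) (by
        intro n hn
        rw [MonoidHom.mem_ker, MonoidHom.comp_apply, QuotientGroup.mk'_apply,
          QuotientGroup.eq_one_iff, Subgroup.mem_subgroupOf] at hn
        rw [QuotientGroup.ker_mk', Subgroup.mem_subgroupOf, Subgroup.mem_centralizer_iff]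
        intro x hx
        have h1 : (n : G) * x * (n : G)⁻¹ ∈ P := (Subgroup.mem_normalizer_iff.mp n.2 x).mp hx
        have h2 : QuotientGroup.mk' (Cfsg.pPrimeCore p G) ((n : G) * x * (n : G)⁻¹ * x⁻¹) = 1 := by
          have h3 := (Subgroup.mem_centralizer_iff.mp hn)
            (QuotientGroup.mk' (Cfsg.pPrimeCore p G) x) (Subgroup.mem_map_of_mem _ hx)
          rw [hρ] at h3
          rw [map_mul, map_mul, map_mul, map_inv, map_inv, ← h3]
          group
        have h5 := hPK P hPp _ (P.mul_mem h1 (P.inv_mem hx)) h2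
        have h6 : (n : G) * x = x * (n : G) := by
          have : (n : G) * x = ((n : G) * x * (n : G)⁻¹ * x⁻¹) * (x * n) := by group
          rw [this, h5, one_mul]
        exact h6.symm)
    rintro _ ⟨⟨a, haN⟩, ha, rfl⟩
    rw [SetLike.mem_coe, Subgroup.mem_subgroupOf] at ha
    have h1 : (⟨a, haN⟩ : ↥(normalizer (P : Set G))) ∈
        (Cfsg.pCore p _).comap
        ((QuotientGroup.mk' ((centralizer ((P.map (QuotientGroup.mk' (Cfsg.pPrimeCore p G)) :
          Subgroup (G ⧸ Cfsg.pPrimeCore p G)) : Set (G ⧸ Cfsg.pPrimeCore p G))).subgroupOf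
          (normalizer ((P.map (QuotientGroup.mk' (Cfsg.pPrimeCore p G)) :
          Subgroup (G ⧸ Cfsg.pPrimeCore p G)) : Set (G ⧸ Cfsg.pPrimeCore p G))))).comp ρ) := by
      rw [Subgroup.mem_comap]
      apply key
      exact ⟨ρ ⟨a, haN⟩, Subgroup.mem_subgroupOf.mpr (Subgroup.mem_map_of_mem _ ha), rfl⟩
    exact Subgroup.mem_comap.mp (hcomp h1)

end Cfsg.Agent.S0632
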