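import Cfsg.Statements.S0654
import Cfsg.Agent.Helper11.ZJ
import Cfsg.Agent.Helper11.Basic
import Cfsg.Agent.S0655
import Cfsg.Agent.S0652

set_option autoImplicit false
open Cfsg

namespace Cfsg.Agent.S0654

open Cfsg.Agent.Helper11

/-- The ZJ-Theorem for the elementary-abelian Thompson subgroup: for an odd prime p, a finite group G with C_G(O_p(G)) ≤ O_p(G) acting p-stably on its normal p-subgroups, and a Sylow p-subgroup S of G, the subgroup generated by the elements of order dividing p in Z(J_e(S)) is characteristic in G. -/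
theorem result {G : Type*} [Group G] [Finite G] {p : ℕ} [Fact p.Prime] (hp : p ≠ 2) (hc : Subgroup.centralizer (Cfsg.pCore p G : Set G) ≤ Cfsg.pCore p G) (hst : ∀ (P : Subgroup G) [P.Normal], IsPGroup p P → Cfsg.IsPStableOn p P) (S : Sylow p G) : ((Cfsg.omegaCenterThompson p ↥(S : Subgroup G)).map (S : Subgroup G).subtype).Characteristic := by
  have hSp : IsPGroup p ↥(S : Subgroup G) := S.isPGroup'
  have hmap : ∀ (φ : G ≃* G) (A : Subgroup G), IsElementaryAbelian p A →
      IsElementaryAbelian p (A.map φ.toMonoidHom) := by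
    intro φ A hA
    have hAc : IsMulCommutative A := hA.1
    refine ⟨inferInstance, ?_⟩
    rintro _ ⟨a, ha, rfl⟩
    rw [← map_pow, hA.2 a ha, map_one]
  have hrep : ∀ A A' : Subgroup G, IsElementaryAbelian p A → IsMulCommutative A' →
      Nat.card A' = Nat.card A → Monoid.exponent A' ∣ Monoid.exponent A →
      IsElementaryAbelian p A' := by
    intro A A' hA hA'c _ hexp
    refine ⟨hA'c, ?_⟩
    intro a' ha'
    have h1 : Monoid.exponent A ∣ p := by
      apply Monoid.exponent_dvd_of_forall_pow_eq_one
      rintro ⟨a, ha⟩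
      apply Subtype.ext
      rw [Subgroup.coe_pow, Subgroup.coe_one]
      exact hA.2 a ha
    have h2 := (Monoid.exponent_dvd_iff_forall_pow_eq_one.mp (hexp.trans h1)) ⟨a', ha'⟩
    have h3 := congrArg Subtype.val h2
    rw [Subgroup.coe_pow, Subgroup.coe_one] at h3
    exact h3
  have key := zj_generic hp hc hst S (fun A => IsElementaryAbelian p A) (fun A h => h.1)
    (isElementaryAbelian_bot p) hmap hrep
  have hF : maxFamily (fun A : Subgroup G => IsElementaryAbelian p A) (S : Subgroup G) =
      (fun A : Subgroup ↥(S : Subgroup G) => A.map (S : Subgroup G).subtype) ''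
        (maxElementaryAbelianSubgroups p ↥(S : Subgroup G)) := by
    ext X
    exact (Cfsg.Agent.S0652.mem_image_maxElementaryAbelian_iff p (S : Subgroup G) X).symm
  have hne := maxElementaryAbelianSubgroups_nonempty (G := ↥(S : Subgroup G)) p
  have h55 := (Cfsg.Agent.S0655.result hSp).1
  rw [← h55, map_subtype_sInf _ _ hne, ← hF]
  exact key

end Cfsg.Agent.S0654
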