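import Cfsg.Statements.S0657
import Cfsg.Agent.Helper11.QuadSL2

set_option autoImplicit false
open Cfsg

namespace Cfsg.Agent.S0657

open Cfsg.Agent.Helper11
open scoped commutatorElement

/-- For odd p, a group that fails to be p-stable modulo its largest normal subgroup of order prime to p, and whose upper p-series does not stop there, has a section isomorphic to SL(2, p). -/
theorem result {G : Type*} [Group G] [Finite G] {p : ℕ} [Fact p.Prime] (hp : p ≠ 2) (hO : Cfsg.pPrimeCore p G < Cfsg.pPrimePCore p G) (hns : ¬ Cfsg.IsPStable p (G ⧸ Cfsg.pPrimeCore p G)) : ∃ (K L : Subgroup G) (hL : (L.subgroupOf K).Normal), K ≤ ⊤ ∧ Nonempty ((K ⧸ L.subgroupOf K) ≃* Matrix.SpecialLinearGroup (Fin 2) (ZMod p)) := by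
  classical
  have hpodd : Odd p := (Fact.out : p.Prime).odd_of_ne_two hp
  have hcore : Cfsg.pCore p (G ⧸ Cfsg.pPrimeCore p G) ≠ ⊥ := by
    intro h
    apply hO.ne
    unfold Cfsg.pPrimePCore
    rw [h, MonoidHom.comap_bot, QuotientGroup.ker_mk']
  unfold Cfsg.IsPStable at hns
  push Not at hns
  obtain ⟨A, P, hA, hP, hAP, -, -, hquad, hnot⟩ := hns hpodd hcore
  -- the group `N = N(P)` with its normal `p`-subgroup `P`
  set N := Subgroup.normalizer (P : Set (G ⧸ Cfsg.pPrimeCore p G)) with hN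
  rw [SetLike.not_le_iff_exists] at hnot
  obtain ⟨z, ⟨x, hxA, rfl⟩, hz⟩ := hnot
  have hVp : IsPGroup p (P.subgroupOf N) := hP.comap_subtype
  have hCeq : (Subgroup.centralizer (P : Set (G ⧸ Cfsg.pPrimeCore p G))).subgroupOf N =
      Subgroup.centralizer ((P.subgroupOf N : Subgroup N) : Set N) := by
    ext y
    rw [Subgroup.mem_subgroupOf, Subgroup.mem_centralizer_iff, Subgroup.mem_centralizer_iff]
    constructor
    · intro h v hv
      exact Subtype.ext (h v hv)
    · intro h v hv
      exact congrArg Subtype.val (h ⟨v, Subgroup.le_normalizer hv⟩ hv)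
  have hq : ⁅⁅P.subgroupOf N, Subgroup.zpowers x⁆, Subgroup.zpowers x⁆ = ⊥ := by
    apply Subgroup.map_injective N.subtype_injective
    rw [Subgroup.map_commutator, Subgroup.map_commutator, Subgroup.map_bot, eq_bot_iff, ← hquad]
    have hxA' : (x : G ⧸ Cfsg.pPrimeCore p G) ∈ A := Subgroup.mem_subgroupOf.mp hxA
    have hz1 : (Subgroup.zpowers x).map N.subtype ≤ A := by
      rw [MonoidHom.map_zpowers]
      exact (Subgroup.zpowers_le).mpr hxA'
    apply Subgroup.commutator_mono (Subgroup.commutator_mono ?_ hz1) hz1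
    rw [Subgroup.subgroupOf_map_subtype]
    exact inf_le_left
  have hsec : Helper33.IsSectionOf N (Matrix.SpecialLinearGroup (Fin 2) (ZMod p)) :=
    sl2_section_of_quadratic' hp (P.subgroupOf N) hVp _ hCeq x hq hz
  have h1 : Helper33.IsSectionOf (G ⧸ Cfsg.pPrimeCore p G)
      (Matrix.SpecialLinearGroup (Fin 2) (ZMod p)) :=
    ((Helper33.IsSectionOf.refl _).subgroup N).trans hsec
  have h2 : Helper33.IsSectionOf G (Matrix.SpecialLinearGroup (Fin 2) (ZMod p)) :=
    ((Helper33.IsSectionOf.refl G).quotient (Cfsg.pPrimeCore p G)).trans h1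
  obtain ⟨K, R, hR, hiso⟩ := h2.exists_equiv
  exact ⟨K, R, hR, le_top, hiso⟩

end Cfsg.Agent.S0657
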