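import Cfsg.Statements.S0738
import Cfsg.Agent.Helper13.Zass

set_option autoImplicit false
open Cfsg

namespace Cfsg.Agent.S0738

/-- Let a finite Zassenhaus group of degree `n + 1` have two-point stabilisers of order `d` with `2d ≥ n - 1`. Then a normal subgroup of a point stabiliser acting regularly on the remaining points is elementary abelian, and the degree is a prime power plus one. -/
theorem result {G Ω : Type*} [Group G] [Finite G] [MulAction G Ω] [Fintype Ω] (hZ : Cfsg.IsZassenhausGroup G Ω) {a b : Ω} (hab : a ≠ b) (hd : Fintype.card Ω - 2 ≤ 2 * Nat.card ↥(MulAction.stabilizer G a ⊓ MulAction.stabilizer G b)) (F : Subgroup G) (hFle : F ≤ MulAction.stabilizer G a) (hFn : (F.subgroupOf (MulAction.stabilizer G a)).Normal) (hreg : ∀ y z : Ω, y ≠ a → z ≠ a → ∃! u : F, (u : G) • y = z) : IsMulCommutative F ∧ ∃ p f : ℕ, p.Prime ∧ (∀ u ∈ F, u ^ p = 1) ∧ Fintype.card Ω = p ^ f + 1 := by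
  classical
  obtain ⟨hfaith, h2t, h3, hex, hnoreg⟩ := hZ
  have hFa : ∀ u : F, (u : G) • a = a := fun u => hFle u.2
  have hub_ne_a : ∀ u : F, (u : G) • b ≠ a := by
    intro u h
    have : (u : G) • b = (u : G) • a := by rw [hFa u]; exact h
    exact hab ((MulAction.injective (u : G)) this).symm
  have huniq : ∀ (u u' : F) (y : Ω), y ≠ a → (u : G) • y = (u' : G) • y → u = u' := by
    intro u u' y hy h
    have hz : (u' : G) • y ≠ a := by
      intro h'
      have : (u' : G) • y = (u' : G) • a := by rw [hFa u']; exact h'
      exact hy ((MulAction.injective (u' : G)) this)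
    obtain ⟨w, hw, hwu⟩ := hreg y ((u' : G) • y) hy hz
    exact (hwu u h).trans (hwu u' rfl).symm
  -- |F| = |Ω| - 1
  have hcardF : Nat.card F = Fintype.card Ω - 1 := by
    have h1 : Nat.card F = Nat.card {y : Ω // y ≠ a} := by
      apply Nat.card_congr
      refine Equiv.ofBijective (fun u => ⟨(u : G) • b, hub_ne_a u⟩) ⟨?_, ?_⟩
      · intro u u' h
        exact huniq u u' b (Ne.symm hab) (congrArg Subtype.val h)
      · rintro ⟨z, hz⟩
        obtain ⟨w, hw, _⟩ := hreg b z (Ne.symm hab) hz
        exact ⟨w, Subtype.ext hw⟩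
    rw [h1, Nat.card_eq_fintype_card, Fintype.card_subtype_compl, Fintype.card_subtype_eq]
  have hΩ2 : 2 ≤ Fintype.card Ω := by
    have : ({a, b} : Finset Ω).card ≤ Fintype.card Ω := Finset.card_le_univ _
    rwa [Finset.card_pair hab] at this
  letI : Fintype F := Fintype.ofFinite F
  have hnF : Fintype.card F = Fintype.card Ω - 1 := by rw [← Nat.card_eq_fintype_card, hcardF]
  -- normality
  have hnorm : ∀ h ∈ MulAction.stabilizer G a, ∀ u ∈ F, h * u * h⁻¹ ∈ F := by
    intro h hh u hu
    have := hFn.conj_mem ⟨u, hFle hu⟩ (Subgroup.mem_subgroupOf.mpr hu) ⟨h, hh⟩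
    exact Subgroup.mem_subgroupOf.mp this
  -- the conjugation action
  letI act : MulAction ↥(MulAction.stabilizer G a ⊓ MulAction.stabilizer G b) F :=
    { smul := fun h u => ⟨(h : G) * u * (h : G)⁻¹, hnorm h.1 (Subgroup.mem_inf.mp h.2).1 u u.2⟩
      one_smul := fun u => Subtype.ext (by
        show ((1 : ↥(MulAction.stabilizer G a ⊓ MulAction.stabilizer G b)) : G) * u *
          ((1 : ↥(MulAction.stabilizer G a ⊓ MulAction.stabilizer G b)) : G)⁻¹ = u
        simp)
      mul_smul := fun h h' u => Subtype.ext (by
        show ((h * h' : ↥(MulAction.stabilizer G a ⊓ MulAction.stabilizer G b)) : G) * u *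
          ((h * h' : ↥(MulAction.stabilizer G a ⊓ MulAction.stabilizer G b)) : G)⁻¹ =
          (h : G) * ((h' : G) * u * (h' : G)⁻¹) * (h : G)⁻¹
        simp [mul_assoc]) }
  have hsmul : ∀ (h : ↥(MulAction.stabilizer G a ⊓ MulAction.stabilizer G b)) (u : F),
      ((h • u : F) : G) = (h : G) * u * (h : G)⁻¹ := fun _ _ => rfl
  have hfix : ∀ h : ↥(MulAction.stabilizer G a ⊓ MulAction.stabilizer G b), h • (1 : F) = 1 := by
    intro h
    apply Subtype.ext
    rw [hsmul]; simp
  have hmul : ∀ (h : ↥(MulAction.stabilizer G a ⊓ MulAction.stabilizer G b)) (x y : F),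
      h • (x * y) = h • x * h • y := by
    intro h x y
    apply Subtype.ext
    simp [hsmul, mul_assoc]
  have hfree : ∀ (h : ↥(MulAction.stabilizer G a ⊓ MulAction.stabilizer G b)) (u : F),
      u ≠ 1 → h • u = u → h = 1 := by
    intro h u hu hhu
    have hcomm : (h : G) * u = u * h := by
      have hh := congrArg Subtype.val hhu
      rw [hsmul] at hh
      calc (h : G) * u = ((h : G) * u * (h : G)⁻¹) * h := by group
        _ = u * h := by rw [hh]
    have ha : (h : G) • a = a := (Subgroup.mem_inf.mp h.2).1
    have hb : (h : G) • b = b := (Subgroup.mem_inf.mp h.2).2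
    have hc : (h : G) • ((u : G) • b) = (u : G) • b := by
      rw [← mul_smul, hcomm, mul_smul, hb]
    have hbc : b ≠ (u : G) • b := by
      intro h'
      apply hu
      apply huniq u 1 b (Ne.symm hab)
      rw [← h']; simp
    have := h3 (h : G) a b ((u : G) • b) hab hbc (Ne.symm (hub_ne_a u)) ha hb hc
    exact Subtype.ext this
  have hn : Fintype.card F - 1 ≤
      2 * Nat.card ↥(MulAction.stabilizer G a ⊓ MulAction.stabilizer G b) := by
    rw [hnF]; omega
  have hdpos : 0 < Nat.card ↥(MulAction.stabilizer G a ⊓ MulAction.stabilizer G b) := Nat.card_pos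
  by_cases hn1 : Fintype.card F = 1
  · -- trivial F
    have hsub : ∀ x : F, x = 1 := by
      have := Fintype.card_le_one_iff.mp hn1.le
      intro x; exact this x 1
    refine ⟨⟨⟨fun x y => by rw [hsub x, hsub y]⟩⟩, 2, 0, Nat.prime_two, ?_, ?_⟩
    · intro u hu
      have := hsub ⟨u, hu⟩
      have h1 : u = 1 := congrArg Subtype.val this
      rw [h1]; simp
    · rw [hnF] at hn1; omega
  · obtain ⟨p, hp, hpdvd⟩ := Nat.exists_prime_and_dvd hn1
    haveI : Fact p.Prime := ⟨hp⟩
    -- exponent p
    have hexp : ∀ u : F, u ^ p = 1 := by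
      let T : Finset F := Finset.univ.filter (fun u => u ^ p = 1)
      have hT : ∀ (h : ↥(MulAction.stabilizer G a ⊓ MulAction.stabilizer G b)) (x : F),
          x ∈ T → h • x ∈ T := by
        intro h x hx
        simp only [T, Finset.mem_filter, Finset.mem_univ, true_and] at hx ⊢
        apply Subtype.ext
        have hx' : (x : G) ^ p = 1 := by
          have := congrArg Subtype.val hx
          simpa using this
        simp only [Subgroup.coe_pow, hsmul, conj_pow, hx', Subgroup.coe_one]
        simp
      have h0 : (1 : F) ∈ T := by simp [T]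
      have hne : ∃ x ∈ T, x ≠ 1 := by
        obtain ⟨x, hx⟩ := exists_prime_orderOf_dvd_card p hpdvd
        refine ⟨x, ?_, ?_⟩
        · simp only [T, Finset.mem_filter, Finset.mem_univ, true_and]
          rw [← hx]; exact pow_orderOf_eq_one x
        · intro h1
          rw [h1, orderOf_one] at hx
          exact hp.one_lt.ne hx
      rcases Cfsg.Agent.Helper13.inv_set_card (1 : F) hfix hfree hn T hT h0 hne with hT' | ⟨hT1, hT2⟩
      · intro u
        have : u ∈ T := by rw [hT']; exact Finset.mem_univ u
        simpa [T] using this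
      · exfalso
        have hmk := Cfsg.Agent.Helper13.card_pow_eq_one_dvd (G := F) p hpdvd
        rw [Fintype.card_subtype] at hmk
        change p ∣ T.card at hmk
        rw [hT1] at hmk
        rw [hT2] at hpdvd
        have h3' : p ∣ Nat.card ↥(MulAction.stabilizer G a ⊓ MulAction.stabilizer G b) := by
          have := Nat.dvd_sub hpdvd hmk
          have e : 1 + 2 * Nat.card ↥(MulAction.stabilizer G a ⊓ MulAction.stabilizer G b) -
            (1 + Nat.card ↥(MulAction.stabilizer G a ⊓ MulAction.stabilizer G b)) =
            Nat.card ↥(MulAction.stabilizer G a ⊓ MulAction.stabilizer G b) := by omega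
          rwa [e] at this
        have h4 : p ∣ 1 := by
          have := Nat.dvd_sub hmk h3'
          have e : 1 + Nat.card ↥(MulAction.stabilizer G a ⊓ MulAction.stabilizer G b) -
            Nat.card ↥(MulAction.stabilizer G a ⊓ MulAction.stabilizer G b) = 1 := by omega
          rwa [e] at this
        exact hp.one_lt.ne' (Nat.dvd_one.mp h4)
    have hPG : IsPGroup p F := fun g => ⟨1, by rw [pow_one]; exact hexp g⟩
    obtain ⟨f, hf⟩ := IsPGroup.iff_card.mp hPG
    -- abelian
    have hcomm : ∀ x y : F, x * y = y * x := by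
      haveI : Nontrivial F := by
        rw [← Fintype.one_lt_card_iff_nontrivial]
        have : 0 < Fintype.card F := Fintype.card_pos
        omega
      let T : Finset F := Finset.univ.filter (fun u => u ∈ Subgroup.center F)
      have hT : ∀ (h : ↥(MulAction.stabilizer G a ⊓ MulAction.stabilizer G b)) (x : F),
          x ∈ T → h • x ∈ T := by
        intro h x hx
        simp only [T, Finset.mem_filter, Finset.mem_univ, true_and] at hx ⊢
        rw [Subgroup.mem_center_iff] at hx ⊢
        intro w
        have hw : w = h • (h⁻¹ • w) := (smul_inv_smul h w).symm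
        rw [hw, ← hmul, ← hmul, hx]
      have h0 : (1 : F) ∈ T := by simp [T, Subgroup.one_mem]
      have hne : ∃ x ∈ T, x ≠ 1 := by
        haveI := hPG.center_nontrivial
        obtain ⟨z, hz⟩ := exists_ne (1 : Subgroup.center F)
        refine ⟨z.1, by simp [T], ?_⟩
        intro h1
        exact hz (Subtype.ext h1)
      rcases Cfsg.Agent.Helper13.inv_set_card (1 : F) hfix hfree hn T hT h0 hne with hT' | ⟨hT1, hT2⟩
      · intro x y
        have : y ∈ T := by rw [hT']; exact Finset.mem_univ y
        simp only [T, Finset.mem_filter, Finset.mem_univ, true_and] at this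
        exact (Subgroup.mem_center_iff.mp this x)
      · exfalso
        have hdv : Nat.card (Subgroup.center F) ∣ Nat.card F := Subgroup.card_subgroup_dvd_card _
        have hc : Nat.card (Subgroup.center F) = T.card := by
          rw [Nat.card_eq_fintype_card, Fintype.card_subtype]
        have hF' : Nat.card F = Fintype.card F := Nat.card_eq_fintype_card
        rw [hc, hT1, hF', hT2] at hdv
        have h5 : 1 + Nat.card ↥(MulAction.stabilizer G a ⊓ MulAction.stabilizer G b) ∣
            Nat.card ↥(MulAction.stabilizer G a ⊓ MulAction.stabilizer G b) := by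
          have := Nat.dvd_sub hdv (dvd_refl _)
          have e : 1 + 2 * Nat.card ↥(MulAction.stabilizer G a ⊓ MulAction.stabilizer G b) -
            (1 + Nat.card ↥(MulAction.stabilizer G a ⊓ MulAction.stabilizer G b)) =
            Nat.card ↥(MulAction.stabilizer G a ⊓ MulAction.stabilizer G b) := by omega
          rwa [e] at this
        have := Nat.le_of_dvd hdpos h5
        omega
    refine ⟨⟨⟨hcomm⟩⟩, p, f, hp, ?_, ?_⟩
    · intro u hu
      have := congrArg Subtype.val (hexp ⟨u, hu⟩)
      simpa using this
    · rw [hcardF] at hf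
      omega

end Cfsg.Agent.S0738
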