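import Cfsg.Statements.S0819

set_option autoImplicit false
open Cfsg
open Polynomial

namespace Cfsg.Agent.S0819

section Certs

variable {R : Type*} [CommRing R]

theorem cert_0_0_1 (W X : R) (hW : W ^ 2 = W + 1) (h2 : (2 : R) = 0) :
    X ^ 3 - 1 = (1) * (X ^ 3 + 0 * X ^ 2 + 0 * X + 1) +
      (0) * (X ^ 15 - 1) := by
  linear_combination (0) * hW +
    (-1) * h2

theorem cert_0_0_w (W X : R) (hW : W ^ 2 = W + 1) (h2 : (2 : R) = 0) :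
    (1 : R) = (W * X ^ 12 + W * X ^ 9 + W * X ^ 6 + W * X ^ 3 + W) * (X ^ 3 + 0 * X ^ 2 + 0 * X + 1) +
      (W) * (X ^ 15 - W) := by
  linear_combination (1) * hW +
    (-W * X ^ 15 - W * X ^ 12 - W * X ^ 9 - W * X ^ 6 - W * X ^ 3 + 1) * h2

theorem cert_0_0_v (W X : R) (hW : W ^ 2 = W + 1) (h2 : (2 : R) = 0) :
    (1 : R) = (W * X ^ 12 + X ^ 12 + W * X ^ 9 + X ^ 9 + W * X ^ 6 + X ^ 6 + W * X ^ 3 + X ^ 3 + W + 1) * (X ^ 3 + 0 * X ^ 2 + 0 * X + 1) +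
      (W + 1) * (X ^ 15 - (W + 1)) := by
  linear_combination (1) * hW +
    (-W * X ^ 15 - X ^ 15 - W * X ^ 12 - X ^ 12 - W * X ^ 9 - X ^ 9 - W * X ^ 6 - X ^ 6 - W * X ^ 3 - X ^ 3 + W + 1) * h2

theorem cert_0_1_1 (W X : R) (hW : W ^ 2 = W + 1) (h2 : (2 : R) = 0) :
    (1 : R) = (X ^ 14 + X ^ 13 + X ^ 12 + X ^ 9 + X ^ 7 + X ^ 6 + X ^ 5 + X ^ 2 + 1) * (X ^ 3 + 0 * X ^ 2 + 1 * X + 1) +
      (X ^ 2 + X) * (X ^ 15 - 1) := by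
  linear_combination (0) * hW +
    (-X ^ 17 - X ^ 16 - X ^ 15 - X ^ 14 - X ^ 13 - X ^ 12 - X ^ 10 - X ^ 9 - X ^ 8 - X ^ 7 - X ^ 6 - X ^ 5 - X ^ 3) * h2

theorem cert_0_1_w (W X : R) (hW : W ^ 2 = W + 1) (h2 : (2 : R) = 0) :
    (1 : R) = (W * X ^ 14 + X ^ 14 + X ^ 13 + W * X ^ 12 + W * X ^ 11 + W * X ^ 10 + X ^ 10 + X ^ 8 + W * X ^ 7 + X ^ 7 + X ^ 6 + W * X ^ 5 + W * X ^ 4 + W * X ^ 3 + X ^ 3 + X + W + 1) * (X ^ 3 + 0 * X ^ 2 + 1 * X + 1) +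
      (W * X ^ 2 + X ^ 2 + X + 1) * (X ^ 15 - W) := by
  linear_combination (X ^ 2) * hW +
    (-W * X ^ 17 - X ^ 17 - X ^ 16 - W * X ^ 15 - X ^ 15 - W * X ^ 14 - X ^ 14 - W * X ^ 13 - X ^ 13 - W * X ^ 12 - W * X ^ 11 - X ^ 11 - W * X ^ 10 - X ^ 10 - X ^ 9 - W * X ^ 8 - X ^ 8 - W * X ^ 7 - X ^ 7 - W * X ^ 6 - X ^ 6 - W * X ^ 5 - W * X ^ 4 - X ^ 4 - W * X ^ 3 - X ^ 3 + W * X ^ 2 - X) * h2

theorem cert_0_1_v (W X : R) (hW : W ^ 2 = W + 1) (h2 : (2 : R) = 0) :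
    (1 : R) = (W * X ^ 14 + X ^ 13 + W * X ^ 12 + X ^ 12 + W * X ^ 11 + X ^ 11 + W * X ^ 10 + X ^ 8 + W * X ^ 7 + X ^ 6 + W * X ^ 5 + X ^ 5 + W * X ^ 4 + X ^ 4 + W * X ^ 3 + X + W) * (X ^ 3 + 0 * X ^ 2 + 1 * X + 1) +
      (W * X ^ 2 + X + 1) * (X ^ 15 - (W + 1)) := by
  linear_combination (X ^ 2) * hW +
    (-W * X ^ 17 - X ^ 16 - W * X ^ 15 - X ^ 15 - W * X ^ 14 - X ^ 14 - W * X ^ 13 - X ^ 13 - W * X ^ 12 - X ^ 12 - W * X ^ 11 - X ^ 11 - W * X ^ 10 - X ^ 9 - W * X ^ 8 - X ^ 8 - W * X ^ 7 - X ^ 7 - W * X ^ 6 - X ^ 6 - W * X ^ 5 - X ^ 5 - W * X ^ 4 - X ^ 4 - W * X ^ 3 + W * X ^ 2 + 1) * h2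

theorem cert_0_w_1 (W X : R) (hW : W ^ 2 = W + 1) (h2 : (2 : R) = 0) :
    (1 : R) = (W * X ^ 14 + X ^ 14 + W * X ^ 13 + X ^ 12 + X ^ 9 + W * X ^ 7 + X ^ 6 + W * X ^ 5 + X ^ 5 + W * X ^ 2 + X ^ 2 + 1) * (X ^ 3 + 0 * X ^ 2 + W * X + 1) +
      (W * X ^ 2 + X ^ 2 + W * X) * (X ^ 15 - 1) := by
  linear_combination (-X ^ 15 - X ^ 14 - X ^ 8 - X ^ 6 - X ^ 3) * hW +
    (-W * X ^ 17 - X ^ 17 - W * X ^ 16 - W * X ^ 15 - X ^ 15 - W * X ^ 14 - X ^ 14 - W * X ^ 13 - X ^ 12 - W * X ^ 10 - X ^ 9 - W * X ^ 8 - X ^ 8 - W * X ^ 7 - W * X ^ 6 - X ^ 6 - W * X ^ 5 - X ^ 5 - W * X ^ 3 - X ^ 3) * h2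

theorem cert_0_w_w (W X : R) (hW : W ^ 2 = W + 1) (h2 : (2 : R) = 0) :
    (1 : R) = (W * X ^ 14 + W * X ^ 13 + W * X ^ 12 + X ^ 11 + X ^ 10 + W * X ^ 8 + X ^ 8 + X ^ 7 + X ^ 6 + X ^ 5 + W * X ^ 4 + X ^ 4 + W * X ^ 3 + X ^ 3 + W * X + W + 1) * (X ^ 3 + 0 * X ^ 2 + W * X + 1) +
      (W * X ^ 2 + W * X + 1) * (X ^ 15 - W) := by
  linear_combination (-X ^ 15 - X ^ 14 - X ^ 13 - X ^ 9 - X ^ 5 - X ^ 4) * hW +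
    (-W * X ^ 17 - W * X ^ 16 - W * X ^ 15 - X ^ 15 - W * X ^ 14 - X ^ 14 - W * X ^ 13 - X ^ 13 - W * X ^ 12 - W * X ^ 11 - X ^ 11 - X ^ 10 - W * X ^ 9 - X ^ 9 - W * X ^ 8 - X ^ 8 - W * X ^ 7 - X ^ 7 - W * X ^ 6 - X ^ 6 - W * X ^ 5 - X ^ 5 - 2 * W * X ^ 4 - X ^ 4 - W * X ^ 3 - X ^ 3 - W * X) * h2

theorem cert_0_w_v (W X : R) (hW : W ^ 2 = W + 1) (h2 : (2 : R) = 0) :
    (1 : R) = (X ^ 14 + W * X ^ 13 + W * X ^ 12 + X ^ 12 + W * X ^ 11 + W * X ^ 10 + X ^ 10 + W * X ^ 8 + X ^ 8 + W * X ^ 7 + X ^ 7 + X ^ 6 + W * X ^ 5 + X ^ 4 + W * X ^ 3 + W * X + W) * (X ^ 3 + 0 * X ^ 2 + W * X + 1) +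
      (X ^ 2 + W * X + 1) * (X ^ 15 - (W + 1)) := by
  linear_combination (-X ^ 14 - X ^ 13 - X ^ 12 - X ^ 11 - X ^ 9 - X ^ 8 - X ^ 6 - X ^ 4 - X ^ 2) * hW +
    (-X ^ 17 - W * X ^ 16 - W * X ^ 15 - X ^ 15 - W * X ^ 14 - X ^ 14 - 2 * W * X ^ 13 - X ^ 13 - W * X ^ 12 - X ^ 12 - 2 * W * X ^ 11 - X ^ 11 - W * X ^ 10 - X ^ 10 - W * X ^ 9 - X ^ 9 - 2 * W * X ^ 8 - X ^ 8 - W * X ^ 7 - X ^ 7 - W * X ^ 6 - X ^ 6 - W * X ^ 5 - W * X ^ 4 - X ^ 4 - W * X ^ 3 + 1) * h2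

theorem cert_0_v_1 (W X : R) (hW : W ^ 2 = W + 1) (h2 : (2 : R) = 0) :
    (1 : R) = (W * X ^ 14 + W * X ^ 13 + X ^ 13 + X ^ 12 + X ^ 9 + W * X ^ 7 + X ^ 7 + X ^ 6 + W * X ^ 5 + W * X ^ 2 + 1) * (X ^ 3 + 0 * X ^ 2 + (W + 1) * X + 1) +
      (W * X ^ 2 + W * X + X) * (X ^ 15 - 1) := by
  linear_combination (-X ^ 15 - X ^ 14 - X ^ 8 - X ^ 6 - X ^ 3) * hW +
    (-W * X ^ 17 - W * X ^ 16 - X ^ 16 - W * X ^ 15 - X ^ 15 - 2 * W * X ^ 14 - X ^ 14 - W * X ^ 13 - X ^ 13 - X ^ 12 - W * X ^ 10 - X ^ 10 - X ^ 9 - 2 * W * X ^ 8 - X ^ 8 - W * X ^ 7 - X ^ 7 - W * X ^ 6 - X ^ 6 - W * X ^ 5 - W * X ^ 3 - X ^ 3) * h2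

theorem cert_0_v_w (W X : R) (hW : W ^ 2 = W + 1) (h2 : (2 : R) = 0) :
    (1 : R) = (X ^ 14 + W * X ^ 13 + X ^ 13 + W * X ^ 12 + W * X ^ 11 + X ^ 11 + W * X ^ 10 + W * X ^ 8 + W * X ^ 7 + X ^ 6 + W * X ^ 5 + X ^ 5 + X ^ 4 + W * X ^ 3 + X ^ 3 + W * X + X + W + 1) * (X ^ 3 + 0 * X ^ 2 + (W + 1) * X + 1) +
      (X ^ 2 + W * X + X + 1) * (X ^ 15 - W) := by
  linear_combination (-X ^ 14 - X ^ 13 - X ^ 12 - X ^ 11 - X ^ 9 - X ^ 8 - X ^ 6 - X ^ 4 - X ^ 2) * hW +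
    (-X ^ 17 - W * X ^ 16 - X ^ 16 - W * X ^ 15 - X ^ 15 - 2 * W * X ^ 14 - 2 * X ^ 14 - 2 * W * X ^ 13 - X ^ 13 - 2 * W * X ^ 12 - X ^ 12 - 2 * W * X ^ 11 - X ^ 11 - W * X ^ 10 - W * X ^ 9 - X ^ 9 - 2 * W * X ^ 8 - X ^ 8 - W * X ^ 7 - X ^ 7 - 2 * W * X ^ 6 - 2 * X ^ 6 - W * X ^ 5 - X ^ 5 - 2 * W * X ^ 4 - 2 * X ^ 4 - W * X ^ 3 - X ^ 3 - W * X ^ 2 - X ^ 2 - W * X - X) * h2

theorem cert_0_v_v (W X : R) (hW : W ^ 2 = W + 1) (h2 : (2 : R) = 0) :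
    (1 : R) = (W * X ^ 14 + X ^ 14 + W * X ^ 13 + X ^ 13 + W * X ^ 12 + X ^ 12 + X ^ 11 + X ^ 10 + W * X ^ 8 + X ^ 7 + X ^ 6 + X ^ 5 + W * X ^ 4 + W * X ^ 3 + W * X + X + W) * (X ^ 3 + 0 * X ^ 2 + (W + 1) * X + 1) +
      (W * X ^ 2 + X ^ 2 + W * X + X + 1) * (X ^ 15 - (W + 1)) := by
  linear_combination (-X ^ 15 - X ^ 14 - X ^ 13 - X ^ 9 - X ^ 5 - X ^ 4) * hW +
    (-W * X ^ 17 - X ^ 17 - W * X ^ 16 - X ^ 16 - 2 * W * X ^ 15 - 2 * X ^ 15 - 2 * W * X ^ 14 - 2 * X ^ 14 - 2 * W * X ^ 13 - 2 * X ^ 13 - W * X ^ 12 - X ^ 12 - W * X ^ 11 - X ^ 11 - X ^ 10 - W * X ^ 9 - X ^ 9 - W * X ^ 8 - X ^ 8 - W * X ^ 7 - X ^ 7 - W * X ^ 6 - X ^ 6 - W * X ^ 5 - X ^ 5 - 2 * W * X ^ 4 - X ^ 4 - W * X ^ 3 + 1) * h2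

theorem cert_1_0_1 (W X : R) (hW : W ^ 2 = W + 1) (h2 : (2 : R) = 0) :
    (1 : R) = (X ^ 14 + X ^ 13 + X ^ 12 + X ^ 10 + X ^ 7 + X ^ 6 + X ^ 5 + X ^ 3 + 1) * (X ^ 3 + 1 * X ^ 2 + 0 * X + 1) +
      (X ^ 2) * (X ^ 15 - 1) := by
  linear_combination (0) * hW +
    (-X ^ 17 - X ^ 16 - X ^ 15 - X ^ 14 - X ^ 13 - X ^ 12 - X ^ 10 - X ^ 9 - X ^ 8 - X ^ 7 - X ^ 6 - X ^ 5 - X ^ 3) * h2

theorem cert_1_0_w (W X : R) (hW : W ^ 2 = W + 1) (h2 : (2 : R) = 0) :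
    (1 : R) = (W * X ^ 14 + W * X ^ 13 + X ^ 13 + X ^ 12 + W * X ^ 11 + X ^ 11 + X ^ 9 + W * X ^ 8 + W * X ^ 7 + W * X ^ 6 + X ^ 6 + X ^ 5 + W * X ^ 4 + X ^ 4 + X ^ 2 + W * X + W) * (X ^ 3 + 1 * X ^ 2 + 0 * X + 1) +
      (W * X ^ 2 + X + W) * (X ^ 15 - W) := by
  linear_combination (X ^ 2 + 1) * hW +
    (-W * X ^ 17 - W * X ^ 16 - X ^ 16 - W * X ^ 15 - X ^ 15 - W * X ^ 14 - X ^ 14 - W * X ^ 13 - X ^ 13 - X ^ 12 - W * X ^ 11 - X ^ 11 - W * X ^ 10 - W * X ^ 9 - X ^ 9 - W * X ^ 8 - X ^ 8 - W * X ^ 7 - X ^ 7 - W * X ^ 6 - X ^ 6 - X ^ 5 - W * X ^ 4 - X ^ 4 - W * X ^ 3 + 1) * h2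

theorem cert_1_0_v (W X : R) (hW : W ^ 2 = W + 1) (h2 : (2 : R) = 0) :
    (1 : R) = (W * X ^ 14 + X ^ 14 + W * X ^ 13 + X ^ 12 + W * X ^ 11 + X ^ 9 + W * X ^ 8 + X ^ 8 + W * X ^ 7 + X ^ 7 + W * X ^ 6 + X ^ 5 + W * X ^ 4 + X ^ 2 + W * X + X + W + 1) * (X ^ 3 + 1 * X ^ 2 + 0 * X + 1) +
      (W * X ^ 2 + X ^ 2 + X + W + 1) * (X ^ 15 - (W + 1)) := by
  linear_combination (X ^ 2 + 1) * hW +
    (-W * X ^ 17 - X ^ 17 - W * X ^ 16 - X ^ 16 - W * X ^ 15 - X ^ 15 - W * X ^ 14 - X ^ 14 - W * X ^ 13 - X ^ 12 - W * X ^ 11 - X ^ 11 - W * X ^ 10 - X ^ 10 - W * X ^ 9 - X ^ 9 - W * X ^ 8 - X ^ 8 - W * X ^ 7 - X ^ 7 - W * X ^ 6 - X ^ 5 - W * X ^ 4 - X ^ 4 - W * X ^ 3 - X ^ 3 + W * X ^ 2 + W + 1) * h2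

theorem cert_1_1_1 (W X : R) (hW : W ^ 2 = W + 1) (h2 : (2 : R) = 0) :
    X ^ 5 - 1 = (X ^ 13 + X ^ 12 + X ^ 9 + X ^ 8 + X ^ 5 + X ^ 4 + X ^ 2 + 1) * (X ^ 3 + 1 * X ^ 2 + 1 * X + 1) +
      (X) * (X ^ 15 - 1) := by
  linear_combination (0) * hW +
    (-X ^ 16 - X ^ 15 - X ^ 14 - X ^ 13 - X ^ 12 - X ^ 11 - X ^ 10 - X ^ 9 - X ^ 8 - X ^ 7 - X ^ 6 - X ^ 5 - X ^ 4 - X ^ 3 - X ^ 2 - 1) * h2

theorem cert_1_1_w (W X : R) (hW : W ^ 2 = W + 1) (h2 : (2 : R) = 0) :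
    (1 : R) = (W * X ^ 14 + X ^ 13 + W * X ^ 11 + X ^ 11 + W * X ^ 10 + X ^ 9 + W * X ^ 7 + X ^ 7 + W * X ^ 6 + X ^ 5 + W * X ^ 3 + X ^ 3 + W * X ^ 2 + X) * (X ^ 3 + 1 * X ^ 2 + 1 * X + 1) +
      (W * X ^ 2 + W * X + X + W + 1) * (X ^ 15 - W) := by
  linear_combination (X ^ 2 + X + 1) * hW +
    (-W * X ^ 17 - W * X ^ 16 - X ^ 16 - W * X ^ 15 - X ^ 15 - W * X ^ 14 - X ^ 14 - W * X ^ 13 - X ^ 13 - W * X ^ 12 - X ^ 12 - W * X ^ 11 - X ^ 11 - W * X ^ 10 - X ^ 10 - W * X ^ 9 - X ^ 9 - W * X ^ 8 - X ^ 8 - W * X ^ 7 - X ^ 7 - W * X ^ 6 - X ^ 6 - W * X ^ 5 - X ^ 5 - W * X ^ 4 - X ^ 4 - W * X ^ 3 - X ^ 3 + W * X + W + 1) * h2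

theorem cert_1_1_v (W X : R) (hW : W ^ 2 = W + 1) (h2 : (2 : R) = 0) :
    (1 : R) = (W * X ^ 14 + X ^ 14 + X ^ 13 + W * X ^ 11 + W * X ^ 10 + X ^ 10 + X ^ 9 + W * X ^ 7 + W * X ^ 6 + X ^ 6 + X ^ 5 + W * X ^ 3 + W * X ^ 2 + X ^ 2 + X) * (X ^ 3 + 1 * X ^ 2 + 1 * X + 1) +
      (W * X ^ 2 + X ^ 2 + W * X + W) * (X ^ 15 - (W + 1)) := by
  linear_combination (X ^ 2 + X + 1) * hW +
    (-W * X ^ 17 - X ^ 17 - W * X ^ 16 - X ^ 16 - W * X ^ 15 - X ^ 15 - W * X ^ 14 - X ^ 14 - W * X ^ 13 - X ^ 13 - W * X ^ 12 - X ^ 12 - W * X ^ 11 - X ^ 11 - W * X ^ 10 - X ^ 10 - W * X ^ 9 - X ^ 9 - W * X ^ 8 - X ^ 8 - W * X ^ 7 - X ^ 7 - W * X ^ 6 - X ^ 6 - W * X ^ 5 - X ^ 5 - W * X ^ 4 - X ^ 4 - W * X ^ 3 - X ^ 3 + W * X ^ 2 + W * X + W + 1) * h2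

theorem cert_1_w_1 (W X : R) (hW : W ^ 2 = W + 1) (h2 : (2 : R) = 0) :
    X ^ 5 - (W + 1) = (X ^ 2 + X + W + 1) * (X ^ 3 + 1 * X ^ 2 + W * X + 1) +
      (0) * (X ^ 15 - 1) := by
  linear_combination (-X) * hW +
    (-X ^ 4 - W * X ^ 3 - X ^ 3 - W * X ^ 2 - X ^ 2 - W * X - X - W - 1) * h2

theorem cert_1_w_w (W X : R) (hW : W ^ 2 = W + 1) (h2 : (2 : R) = 0) :
    (1 : R) = (W * X ^ 12 + W * X ^ 11 + X ^ 10 + X ^ 7 + X ^ 6 + W * X ^ 5 + X ^ 5 + W * X ^ 2 + X ^ 2 + W * X + X + W) * (X ^ 3 + 1 * X ^ 2 + W * X + 1) +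
      (W) * (X ^ 15 - W) := by
  linear_combination (-X ^ 13 - X ^ 12 - X ^ 6 - X ^ 3 - X ^ 2 - X + 1) * hW +
    (-W * X ^ 15 - W * X ^ 14 - W * X ^ 13 - X ^ 13 - W * X ^ 12 - X ^ 12 - W * X ^ 11 - X ^ 10 - X ^ 9 - W * X ^ 8 - X ^ 8 - W * X ^ 7 - X ^ 7 - W * X ^ 6 - X ^ 6 - W * X ^ 5 - X ^ 5 - W * X ^ 4 - X ^ 4 - 2 * W * X ^ 3 - X ^ 3 - 2 * W * X ^ 2 - X ^ 2 - W * X - X + 1) * h2

theorem cert_1_w_v (W X : R) (hW : W ^ 2 = W + 1) (h2 : (2 : R) = 0) :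
    (1 : R) = (W * X ^ 12 + X ^ 12 + W * X ^ 11 + X ^ 11 + W * X ^ 10 + W * X ^ 7 + W * X ^ 6 + X ^ 5 + X ^ 2 + X + W + 1) * (X ^ 3 + 1 * X ^ 2 + W * X + 1) +
      (W + 1) * (X ^ 15 - (W + 1)) := by
  linear_combination (-X ^ 13 - X ^ 12 - X ^ 11 - X ^ 8 - X ^ 7 - X + 1) * hW +
    (-W * X ^ 15 - X ^ 15 - W * X ^ 14 - X ^ 14 - 2 * W * X ^ 13 - X ^ 13 - 2 * W * X ^ 12 - X ^ 12 - W * X ^ 11 - X ^ 11 - W * X ^ 10 - W * X ^ 9 - W * X ^ 8 - X ^ 8 - W * X ^ 7 - X ^ 7 - W * X ^ 6 - X ^ 5 - X ^ 4 - W * X ^ 3 - X ^ 3 - W * X ^ 2 - X ^ 2 - W * X - X + W + 1) * h2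

theorem cert_1_v_1 (W X : R) (hW : W ^ 2 = W + 1) (h2 : (2 : R) = 0) :
    X ^ 5 - W = (X ^ 2 + X + W) * (X ^ 3 + 1 * X ^ 2 + (W + 1) * X + 1) +
      (0) * (X ^ 15 - 1) := by
  linear_combination (-X) * hW +
    (-X ^ 4 - W * X ^ 3 - X ^ 3 - W * X ^ 2 - X ^ 2 - W * X - X - W) * h2

theorem cert_1_v_w (W X : R) (hW : W ^ 2 = W + 1) (h2 : (2 : R) = 0) :
    (1 : R) = (W * X ^ 12 + W * X ^ 11 + W * X ^ 10 + X ^ 10 + W * X ^ 7 + X ^ 7 + W * X ^ 6 + X ^ 6 + X ^ 5 + X ^ 2 + X + W) * (X ^ 3 + 1 * X ^ 2 + (W + 1) * X + 1) +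
      (W) * (X ^ 15 - W) := by
  linear_combination (-X ^ 13 - X ^ 12 - X ^ 11 - X ^ 8 - X ^ 7 - X + 1) * hW +
    (-W * X ^ 15 - W * X ^ 14 - 2 * W * X ^ 13 - X ^ 13 - 2 * W * X ^ 12 - X ^ 12 - 2 * W * X ^ 11 - X ^ 11 - W * X ^ 10 - X ^ 10 - W * X ^ 9 - X ^ 9 - 2 * W * X ^ 8 - 2 * X ^ 8 - 2 * W * X ^ 7 - 2 * X ^ 7 - W * X ^ 6 - X ^ 6 - X ^ 5 - X ^ 4 - W * X ^ 3 - X ^ 3 - W * X ^ 2 - X ^ 2 - W * X - X + 1) * h2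

theorem cert_1_v_v (W X : R) (hW : W ^ 2 = W + 1) (h2 : (2 : R) = 0) :
    (1 : R) = (W * X ^ 12 + X ^ 12 + W * X ^ 11 + X ^ 11 + X ^ 10 + X ^ 7 + X ^ 6 + W * X ^ 5 + W * X ^ 2 + W * X + W + 1) * (X ^ 3 + 1 * X ^ 2 + (W + 1) * X + 1) +
      (W + 1) * (X ^ 15 - (W + 1)) := by
  linear_combination (-X ^ 13 - X ^ 12 - X ^ 6 - X ^ 3 - X ^ 2 - X + 1) * hW +
    (-W * X ^ 15 - X ^ 15 - W * X ^ 14 - X ^ 14 - 2 * W * X ^ 13 - 2 * X ^ 13 - 2 * W * X ^ 12 - 2 * X ^ 12 - W * X ^ 11 - X ^ 11 - X ^ 10 - X ^ 9 - W * X ^ 8 - X ^ 8 - W * X ^ 7 - X ^ 7 - W * X ^ 6 - X ^ 6 - W * X ^ 5 - W * X ^ 4 - 2 * W * X ^ 3 - X ^ 3 - 2 * W * X ^ 2 - X ^ 2 - 2 * W * X - X + W + 1) * h2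

theorem cert_w_0_1 (W X : R) (hW : W ^ 2 = W + 1) (h2 : (2 : R) = 0) :
    (1 : R) = (W * X ^ 14 + W * X ^ 13 + X ^ 13 + X ^ 12 + W * X ^ 10 + X ^ 10 + W * X ^ 7 + X ^ 7 + X ^ 6 + W * X ^ 5 + X ^ 3 + 1) * (X ^ 3 + W * X ^ 2 + 0 * X + 1) +
      (W * X ^ 2) * (X ^ 15 - 1) := by
  linear_combination (-X ^ 16 - X ^ 15 - X ^ 12 - X ^ 9 - X ^ 7) * hW +
    (-W * X ^ 17 - W * X ^ 16 - X ^ 16 - W * X ^ 15 - X ^ 15 - W * X ^ 14 - W * X ^ 13 - X ^ 13 - W * X ^ 12 - X ^ 12 - W * X ^ 10 - X ^ 10 - W * X ^ 9 - X ^ 9 - W * X ^ 8 - W * X ^ 7 - X ^ 7 - X ^ 6 - W * X ^ 5 - X ^ 3) * h2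

theorem cert_w_0_w (W X : R) (hW : W ^ 2 = W + 1) (h2 : (2 : R) = 0) :
    (1 : R) = (W * X ^ 14 + X ^ 14 + W * X ^ 13 + X ^ 12 + X ^ 11 + X ^ 9 + W * X ^ 8 + X ^ 8 + X ^ 7 + W * X ^ 6 + X ^ 6 + W * X ^ 5 + W * X ^ 4 + W * X ^ 2 + X + W) * (X ^ 3 + W * X ^ 2 + 0 * X + 1) +
      (W * X ^ 2 + X ^ 2 + W * X + X + W) * (X ^ 15 - W) := by
  linear_combination (-X ^ 16 - X ^ 15 - X ^ 10 - X ^ 8 - X ^ 7 - X ^ 6 - X ^ 4 + X + 1) * hW +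
    (-W * X ^ 17 - X ^ 17 - 2 * W * X ^ 16 - X ^ 16 - W * X ^ 15 - X ^ 15 - W * X ^ 14 - X ^ 14 - W * X ^ 13 - X ^ 12 - W * X ^ 11 - X ^ 11 - W * X ^ 10 - X ^ 10 - W * X ^ 9 - X ^ 9 - 2 * W * X ^ 8 - X ^ 8 - W * X ^ 7 - X ^ 7 - W * X ^ 6 - X ^ 6 - W * X ^ 5 - W * X ^ 4 - X ^ 4 - W * X ^ 3 + W * X + 1) * h2

theorem cert_w_0_v (W X : R) (hW : W ^ 2 = W + 1) (h2 : (2 : R) = 0) :
    (1 : R) = (X ^ 14 + X ^ 13 + X ^ 12 + W * X ^ 11 + X ^ 11 + X ^ 9 + X ^ 8 + W * X ^ 7 + W * X ^ 6 + W * X ^ 5 + X ^ 4 + W * X ^ 2 + W * X + W + 1) * (X ^ 3 + W * X ^ 2 + 0 * X + 1) +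
      (X ^ 2 + W * X + X + W + 1) * (X ^ 15 - (W + 1)) := by
  linear_combination (-X ^ 13 - X ^ 9 - X ^ 8 - X ^ 7 - X ^ 4 - X ^ 3 - X ^ 2 + X + 1) * hW +
    (-X ^ 17 - W * X ^ 16 - X ^ 16 - W * X ^ 15 - X ^ 15 - W * X ^ 14 - X ^ 14 - W * X ^ 13 - X ^ 13 - X ^ 12 - W * X ^ 11 - X ^ 11 - W * X ^ 10 - W * X ^ 9 - X ^ 9 - W * X ^ 8 - X ^ 8 - W * X ^ 7 - X ^ 7 - W * X ^ 6 - W * X ^ 5 - W * X ^ 4 - X ^ 4 - W * X ^ 3 - X ^ 3 - W * X ^ 2 + W * X + X + W + 1) * h2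

theorem cert_w_1_1 (W X : R) (hW : W ^ 2 = W + 1) (h2 : (2 : R) = 0) :
    X ^ 5 - W = (X ^ 2 + W * X + W) * (X ^ 3 + W * X ^ 2 + 1 * X + 1) +
      (0) * (X ^ 15 - 1) := by
  linear_combination (-X ^ 3 - X ^ 2) * hW +
    (-W * X ^ 4 - W * X ^ 3 - X ^ 3 - W * X ^ 2 - X ^ 2 - W * X - W) * h2

theorem cert_w_1_w (W X : R) (hW : W ^ 2 = W + 1) (h2 : (2 : R) = 0) :
    (1 : R) = (W * X ^ 12 + W * X ^ 11 + X ^ 11 + W * X ^ 10 + X ^ 10 + W * X ^ 7 + X ^ 7 + X ^ 6 + X ^ 5 + X ^ 2 + W * X + W) * (X ^ 3 + W * X ^ 2 + 1 * X + 1) +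
      (W) * (X ^ 15 - W) := by
  linear_combination (-X ^ 14 - X ^ 13 - X ^ 12 - X ^ 9 - X ^ 3 - X ^ 2 + 1) * hW +
    (-W * X ^ 15 - W * X ^ 14 - X ^ 14 - 2 * W * X ^ 13 - X ^ 13 - 2 * W * X ^ 12 - X ^ 12 - W * X ^ 11 - X ^ 11 - W * X ^ 10 - X ^ 10 - W * X ^ 9 - X ^ 9 - W * X ^ 8 - X ^ 8 - W * X ^ 7 - X ^ 7 - X ^ 6 - X ^ 5 - W * X ^ 4 - W * X ^ 3 - X ^ 3 - W * X ^ 2 - X ^ 2 - W * X + 1) * h2

theorem cert_w_1_v (W X : R) (hW : W ^ 2 = W + 1) (h2 : (2 : R) = 0) :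
    (1 : R) = (W * X ^ 12 + X ^ 12 + X ^ 11 + X ^ 10 + X ^ 7 + W * X ^ 6 + W * X ^ 5 + W * X ^ 2 + W * X + X + W + 1) * (X ^ 3 + W * X ^ 2 + 1 * X + 1) +
      (W + 1) * (X ^ 15 - (W + 1)) := by
  linear_combination (-X ^ 14 - X ^ 8 - X ^ 7 - X ^ 4 - X ^ 3 - X ^ 2 + 1) * hW +
    (-W * X ^ 15 - X ^ 15 - W * X ^ 14 - X ^ 14 - W * X ^ 13 - X ^ 13 - W * X ^ 12 - X ^ 12 - X ^ 11 - X ^ 10 - W * X ^ 9 - W * X ^ 8 - X ^ 8 - W * X ^ 7 - X ^ 7 - W * X ^ 6 - W * X ^ 5 - W * X ^ 4 - X ^ 4 - 2 * W * X ^ 3 - X ^ 3 - 2 * W * X ^ 2 - X ^ 2 - W * X - X + W + 1) * h2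

theorem cert_w_w_1 (W X : R) (hW : W ^ 2 = W + 1) (h2 : (2 : R) = 0) :
    X ^ 5 - 1 = (X ^ 2 + W * X + 1) * (X ^ 3 + W * X ^ 2 + W * X + 1) +
      (0) * (X ^ 15 - 1) := by
  linear_combination (-X ^ 3 - X ^ 2) * hW +
    (-W * X ^ 4 - W * X ^ 3 - X ^ 3 - W * X ^ 2 - X ^ 2 - W * X - 1) * h2

theorem cert_w_w_w (W X : R) (hW : W ^ 2 = W + 1) (h2 : (2 : R) = 0) :
    (1 : R) = (W * X ^ 12 + W * X ^ 11 + X ^ 11 + W * X ^ 10 + W * X ^ 7 + W * X ^ 6 + X ^ 6 + W * X ^ 5 + W * X ^ 2 + W * X + X + W) * (X ^ 3 + W * X ^ 2 + W * X + 1) +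
      (W) * (X ^ 15 - W) := by
  linear_combination (-X ^ 14 - 2 * X ^ 13 - 2 * X ^ 12 - X ^ 11 - X ^ 9 - 2 * X ^ 8 - 2 * X ^ 7 - X ^ 6 - X ^ 4 - 2 * X ^ 3 - 2 * X ^ 2 - X + 1) * hW +
    (-W * X ^ 15 - W * X ^ 14 - X ^ 14 - 2 * W * X ^ 13 - X ^ 13 - 2 * W * X ^ 12 - X ^ 12 - W * X ^ 11 - X ^ 11 - W * X ^ 10 - W * X ^ 9 - X ^ 9 - 2 * W * X ^ 8 - X ^ 8 - 2 * W * X ^ 7 - X ^ 7 - W * X ^ 6 - X ^ 6 - W * X ^ 5 - W * X ^ 4 - X ^ 4 - 2 * W * X ^ 3 - X ^ 3 - 2 * W * X ^ 2 - X ^ 2 - W * X - X + 1) * h2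

theorem cert_w_w_v (W X : R) (hW : W ^ 2 = W + 1) (h2 : (2 : R) = 0) :
    (1 : R) = (W * X ^ 12 + X ^ 12 + X ^ 11 + W * X ^ 10 + X ^ 10 + W * X ^ 7 + X ^ 7 + X ^ 6 + W * X ^ 5 + X ^ 5 + W * X ^ 2 + X ^ 2 + X + W + 1) * (X ^ 3 + W * X ^ 2 + W * X + 1) +
      (W + 1) * (X ^ 15 - (W + 1)) := by
  linear_combination (-X ^ 14 - X ^ 13 - X ^ 12 - X ^ 11 - X ^ 9 - X ^ 8 - X ^ 7 - X ^ 6 - X ^ 4 - X ^ 3 - X ^ 2 - X + 1) * hW +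
    (-W * X ^ 15 - X ^ 15 - W * X ^ 14 - X ^ 14 - 2 * W * X ^ 13 - X ^ 13 - 2 * W * X ^ 12 - X ^ 12 - W * X ^ 11 - X ^ 11 - W * X ^ 10 - X ^ 10 - W * X ^ 9 - X ^ 9 - 2 * W * X ^ 8 - X ^ 8 - 2 * W * X ^ 7 - X ^ 7 - W * X ^ 6 - X ^ 6 - W * X ^ 5 - X ^ 5 - W * X ^ 4 - X ^ 4 - 2 * W * X ^ 3 - X ^ 3 - 2 * W * X ^ 2 - X ^ 2 - W * X - X + W + 1) * h2

theorem cert_w_v_1 (W X : R) (hW : W ^ 2 = W + 1) (h2 : (2 : R) = 0) :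
    X ^ 5 - (W + 1) = (W * X ^ 13 + W * X ^ 12 + X ^ 12 + W * X ^ 9 + X ^ 9 + X ^ 8 + X ^ 5 + W * X ^ 4 + X ^ 2 + W + 1) * (X ^ 3 + W * X ^ 2 + (W + 1) * X + 1) +
      (W * X) * (X ^ 15 - 1) := by
  linear_combination (-X ^ 15 - 2 * X ^ 14 - X ^ 13 - X ^ 11 - X ^ 10 - X ^ 6 - X ^ 5 - X ^ 2 - X) * hW +
    (-W * X ^ 16 - W * X ^ 15 - X ^ 15 - 2 * W * X ^ 14 - X ^ 14 - 2 * W * X ^ 13 - X ^ 13 - W * X ^ 12 - X ^ 12 - W * X ^ 11 - X ^ 11 - 2 * W * X ^ 10 - X ^ 10 - W * X ^ 9 - X ^ 9 - X ^ 8 - W * X ^ 7 - W * X ^ 6 - X ^ 6 - W * X ^ 5 - X ^ 5 - W * X ^ 4 - W * X ^ 3 - X ^ 3 - W * X ^ 2 - X ^ 2 - W * X - X - W - 1) * h2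

theorem cert_w_v_w (W X : R) (hW : W ^ 2 = W + 1) (h2 : (2 : R) = 0) :
    (1 : R) = (W * X ^ 14 + X ^ 14 + W * X ^ 13 + X ^ 13 + X ^ 11 + X ^ 10 + X ^ 9 + W * X ^ 7 + W * X ^ 6 + W * X ^ 5 + W * X ^ 3 + X ^ 3 + W * X ^ 2 + X ^ 2 + W * X + X) * (X ^ 3 + W * X ^ 2 + (W + 1) * X + 1) +
      (W * X ^ 2 + X ^ 2 + W * X + W + 1) * (X ^ 15 - W) := by
  linear_combination (-X ^ 16 - 2 * X ^ 15 - X ^ 14 - X ^ 9 - 2 * X ^ 8 - 2 * X ^ 7 - X ^ 6 - X ^ 5 - 2 * X ^ 4 - 2 * X ^ 3 + X + 1) * hW +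
    (-W * X ^ 17 - X ^ 17 - 2 * W * X ^ 16 - X ^ 16 - 3 * W * X ^ 15 - 2 * X ^ 15 - 2 * W * X ^ 14 - 2 * X ^ 14 - W * X ^ 13 - X ^ 13 - W * X ^ 12 - X ^ 12 - W * X ^ 11 - X ^ 11 - W * X ^ 10 - X ^ 10 - W * X ^ 9 - X ^ 9 - 2 * W * X ^ 8 - X ^ 8 - 2 * W * X ^ 7 - X ^ 7 - 2 * W * X ^ 6 - X ^ 6 - 2 * W * X ^ 5 - X ^ 5 - 3 * W * X ^ 4 - 2 * X ^ 4 - 3 * W * X ^ 3 - 2 * X ^ 3 - W * X ^ 2 - X ^ 2 + W + 1) * h2

theorem cert_w_v_v (W X : R) (hW : W ^ 2 = W + 1) (h2 : (2 : R) = 0) :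
    (1 : R) = (X ^ 14 + W * X ^ 13 + X ^ 13 + W * X ^ 11 + X ^ 11 + W * X ^ 10 + X ^ 9 + X ^ 7 + W * X ^ 6 + X ^ 6 + W * X ^ 5 + W * X ^ 3 + X ^ 2 + W * X + X) * (X ^ 3 + W * X ^ 2 + (W + 1) * X + 1) +
      (X ^ 2 + X + W) * (X ^ 15 - (W + 1)) := by
  linear_combination (-X ^ 15 - X ^ 14 - X ^ 13 - 2 * X ^ 12 - X ^ 11 - X ^ 8 - 2 * X ^ 7 - X ^ 6 - X ^ 5 - X ^ 4 - X ^ 3 - X ^ 2 + 1) * hW +
    (-X ^ 17 - W * X ^ 16 - X ^ 16 - 2 * W * X ^ 15 - X ^ 15 - 2 * W * X ^ 14 - 2 * X ^ 14 - 2 * W * X ^ 13 - X ^ 13 - 2 * W * X ^ 12 - 2 * X ^ 12 - 2 * W * X ^ 11 - X ^ 11 - W * X ^ 10 - X ^ 10 - W * X ^ 9 - X ^ 9 - 2 * W * X ^ 8 - X ^ 8 - 2 * W * X ^ 7 - 2 * X ^ 7 - 2 * W * X ^ 6 - X ^ 6 - W * X ^ 5 - X ^ 5 - 2 * W * X ^ 4 - X ^ 4 - 2 * W * X ^ 3 - X ^ 3 - W * X ^ 2 - X ^ 2 + W + 1) * h2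

theorem cert_v_0_1 (W X : R) (hW : W ^ 2 = W + 1) (h2 : (2 : R) = 0) :
    (1 : R) = (W * X ^ 14 + X ^ 14 + W * X ^ 13 + X ^ 12 + W * X ^ 10 + W * X ^ 7 + X ^ 6 + W * X ^ 5 + X ^ 5 + X ^ 3 + 1) * (X ^ 3 + (W + 1) * X ^ 2 + 0 * X + 1) +
      (W * X ^ 2 + X ^ 2) * (X ^ 15 - 1) := by
  linear_combination (-X ^ 16 - X ^ 15 - X ^ 12 - X ^ 9 - X ^ 7) * hW +
    (-W * X ^ 17 - X ^ 17 - 2 * W * X ^ 16 - X ^ 16 - W * X ^ 15 - X ^ 15 - W * X ^ 14 - X ^ 14 - W * X ^ 13 - W * X ^ 12 - X ^ 12 - W * X ^ 10 - W * X ^ 9 - X ^ 9 - W * X ^ 8 - X ^ 8 - 2 * W * X ^ 7 - X ^ 7 - X ^ 6 - W * X ^ 5 - X ^ 5 - X ^ 3) * h2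

theorem cert_v_0_w (W X : R) (hW : W ^ 2 = W + 1) (h2 : (2 : R) = 0) :
    (1 : R) = (X ^ 14 + X ^ 13 + X ^ 12 + W * X ^ 11 + X ^ 9 + X ^ 8 + W * X ^ 7 + X ^ 7 + W * X ^ 6 + X ^ 6 + W * X ^ 5 + X ^ 5 + X ^ 4 + W * X ^ 2 + X ^ 2 + W * X + X + W) * (X ^ 3 + (W + 1) * X ^ 2 + 0 * X + 1) +
      (X ^ 2 + W * X + W) * (X ^ 15 - W) := by
  linear_combination (-X ^ 13 - X ^ 9 - X ^ 8 - X ^ 7 - X ^ 4 - X ^ 3 - X ^ 2 + X + 1) * hW +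
    (-X ^ 17 - W * X ^ 16 - X ^ 16 - W * X ^ 15 - X ^ 15 - W * X ^ 14 - X ^ 14 - W * X ^ 13 - X ^ 13 - X ^ 12 - W * X ^ 11 - X ^ 11 - W * X ^ 10 - X ^ 10 - 2 * W * X ^ 9 - 2 * X ^ 9 - 2 * W * X ^ 8 - 2 * X ^ 8 - 2 * W * X ^ 7 - 2 * X ^ 7 - W * X ^ 6 - X ^ 6 - W * X ^ 5 - X ^ 5 - 2 * W * X ^ 4 - 2 * X ^ 4 - 2 * W * X ^ 3 - X ^ 3 - W * X ^ 2 - X ^ 2 + 1) * h2

theorem cert_v_0_v (W X : R) (hW : W ^ 2 = W + 1) (h2 : (2 : R) = 0) :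
    (1 : R) = (W * X ^ 14 + W * X ^ 13 + X ^ 13 + X ^ 12 + X ^ 11 + X ^ 9 + W * X ^ 8 + X ^ 7 + W * X ^ 6 + W * X ^ 5 + X ^ 5 + W * X ^ 4 + X ^ 4 + W * X ^ 2 + X ^ 2 + X + W + 1) * (X ^ 3 + (W + 1) * X ^ 2 + 0 * X + 1) +
      (W * X ^ 2 + W * X + W + 1) * (X ^ 15 - (W + 1)) := by
  linear_combination (-X ^ 16 - X ^ 15 - X ^ 10 - X ^ 8 - X ^ 7 - X ^ 6 - X ^ 4 + X + 1) * hW +
    (-W * X ^ 17 - 2 * W * X ^ 16 - X ^ 16 - 2 * W * X ^ 15 - 2 * X ^ 15 - W * X ^ 14 - X ^ 14 - W * X ^ 13 - X ^ 13 - X ^ 12 - W * X ^ 11 - X ^ 11 - W * X ^ 10 - X ^ 10 - W * X ^ 9 - X ^ 9 - 2 * W * X ^ 8 - X ^ 8 - 2 * W * X ^ 7 - 2 * X ^ 7 - 2 * W * X ^ 6 - X ^ 6 - W * X ^ 5 - X ^ 5 - 2 * W * X ^ 4 - 2 * X ^ 4 - W * X ^ 3 - X ^ 3 - W * X ^ 2 - X ^ 2 + W * X + W + 1) * h2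

theorem cert_v_1_1 (W X : R) (hW : W ^ 2 = W + 1) (h2 : (2 : R) = 0) :
    X ^ 5 - (W + 1) = (X ^ 2 + W * X + X + W + 1) * (X ^ 3 + (W + 1) * X ^ 2 + 1 * X + 1) +
      (0) * (X ^ 15 - 1) := by
  linear_combination (-X ^ 3 - X ^ 2) * hW +
    (-W * X ^ 4 - X ^ 4 - 2 * W * X ^ 3 - 2 * X ^ 3 - 2 * W * X ^ 2 - 2 * X ^ 2 - W * X - X - W - 1) * h2

theorem cert_v_1_w (W X : R) (hW : W ^ 2 = W + 1) (h2 : (2 : R) = 0) :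
    (1 : R) = (W * X ^ 12 + X ^ 11 + X ^ 10 + X ^ 7 + W * X ^ 6 + X ^ 6 + W * X ^ 5 + X ^ 5 + W * X ^ 2 + X ^ 2 + W * X + W) * (X ^ 3 + (W + 1) * X ^ 2 + 1 * X + 1) +
      (W) * (X ^ 15 - W) := by
  linear_combination (-X ^ 14 - X ^ 8 - X ^ 7 - X ^ 4 - X ^ 3 - X ^ 2 + 1) * hW +
    (-W * X ^ 15 - W * X ^ 14 - X ^ 14 - W * X ^ 13 - X ^ 13 - W * X ^ 12 - X ^ 12 - X ^ 11 - X ^ 10 - W * X ^ 9 - X ^ 9 - 2 * W * X ^ 8 - 2 * X ^ 8 - 2 * W * X ^ 7 - 2 * X ^ 7 - W * X ^ 6 - X ^ 6 - W * X ^ 5 - X ^ 5 - 2 * W * X ^ 4 - X ^ 4 - 2 * W * X ^ 3 - X ^ 3 - 2 * W * X ^ 2 - X ^ 2 - W * X + 1) * h2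

theorem cert_v_1_v (W X : R) (hW : W ^ 2 = W + 1) (h2 : (2 : R) = 0) :
    (1 : R) = (W * X ^ 12 + X ^ 12 + W * X ^ 11 + W * X ^ 10 + W * X ^ 7 + X ^ 6 + X ^ 5 + X ^ 2 + W * X + X + W + 1) * (X ^ 3 + (W + 1) * X ^ 2 + 1 * X + 1) +
      (W + 1) * (X ^ 15 - (W + 1)) := by
  linear_combination (-X ^ 14 - X ^ 13 - X ^ 12 - X ^ 9 - X ^ 3 - X ^ 2 + 1) * hW +
    (-W * X ^ 15 - X ^ 15 - 2 * W * X ^ 14 - X ^ 14 - 2 * W * X ^ 13 - X ^ 13 - 2 * W * X ^ 12 - X ^ 12 - W * X ^ 11 - W * X ^ 10 - W * X ^ 9 - X ^ 9 - W * X ^ 8 - X ^ 8 - W * X ^ 7 - X ^ 7 - X ^ 6 - X ^ 5 - W * X ^ 4 - X ^ 4 - 2 * W * X ^ 3 - 2 * X ^ 3 - 2 * W * X ^ 2 - 2 * X ^ 2 - W * X - X + W + 1) * h2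

theorem cert_v_w_1 (W X : R) (hW : W ^ 2 = W + 1) (h2 : (2 : R) = 0) :
    X ^ 5 - W = (W * X ^ 13 + X ^ 13 + W * X ^ 12 + W * X ^ 9 + X ^ 8 + X ^ 5 + W * X ^ 4 + X ^ 4 + X ^ 2 + W) * (X ^ 3 + (W + 1) * X ^ 2 + W * X + 1) +
      (W * X + X) * (X ^ 15 - 1) := by
  linear_combination (-X ^ 15 - 2 * X ^ 14 - X ^ 13 - X ^ 11 - X ^ 10 - X ^ 6 - X ^ 5 - X ^ 2 - X) * hW +
    (-W * X ^ 16 - X ^ 16 - 2 * W * X ^ 15 - X ^ 15 - 2 * W * X ^ 14 - X ^ 14 - W * X ^ 13 - X ^ 13 - W * X ^ 12 - W * X ^ 11 - X ^ 11 - W * X ^ 10 - X ^ 10 - W * X ^ 9 - X ^ 8 - W * X ^ 7 - X ^ 7 - 2 * W * X ^ 6 - X ^ 6 - W * X ^ 5 - X ^ 5 - W * X ^ 4 - X ^ 4 - W * X ^ 3 - W * X ^ 2 - X ^ 2 - W) * h2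

theorem cert_v_w_w (W X : R) (hW : W ^ 2 = W + 1) (h2 : (2 : R) = 0) :
    (1 : R) = (X ^ 14 + W * X ^ 13 + W * X ^ 11 + W * X ^ 10 + X ^ 10 + X ^ 9 + X ^ 7 + W * X ^ 6 + W * X ^ 5 + X ^ 5 + W * X ^ 3 + X ^ 3 + X ^ 2 + W * X) * (X ^ 3 + (W + 1) * X ^ 2 + W * X + 1) +
      (X ^ 2 + X + W + 1) * (X ^ 15 - W) := by
  linear_combination (-X ^ 15 - X ^ 14 - X ^ 13 - 2 * X ^ 12 - X ^ 11 - X ^ 8 - 2 * X ^ 7 - X ^ 6 - X ^ 5 - X ^ 4 - X ^ 3 - X ^ 2 + 1) * hW +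
    (-X ^ 17 - W * X ^ 16 - X ^ 16 - 2 * W * X ^ 15 - X ^ 15 - W * X ^ 14 - X ^ 14 - 2 * W * X ^ 13 - X ^ 13 - 2 * W * X ^ 12 - 2 * X ^ 12 - 2 * W * X ^ 11 - X ^ 11 - W * X ^ 10 - X ^ 10 - W * X ^ 9 - X ^ 9 - 2 * W * X ^ 8 - X ^ 8 - 2 * W * X ^ 7 - 2 * X ^ 7 - 2 * W * X ^ 6 - X ^ 6 - 2 * W * X ^ 5 - 2 * X ^ 5 - 2 * W * X ^ 4 - X ^ 4 - 2 * W * X ^ 3 - X ^ 3 - X ^ 2 + W + 1) * h2

theorem cert_v_w_v (W X : R) (hW : W ^ 2 = W + 1) (h2 : (2 : R) = 0) :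
    (1 : R) = (W * X ^ 14 + W * X ^ 13 + X ^ 11 + X ^ 10 + X ^ 9 + W * X ^ 7 + X ^ 7 + W * X ^ 6 + X ^ 6 + W * X ^ 5 + X ^ 5 + W * X ^ 3 + W * X ^ 2 + W * X) * (X ^ 3 + (W + 1) * X ^ 2 + W * X + 1) +
      (W * X ^ 2 + W * X + X + W) * (X ^ 15 - (W + 1)) := by
  linear_combination (-X ^ 16 - 2 * X ^ 15 - X ^ 14 - X ^ 9 - 2 * X ^ 8 - 2 * X ^ 7 - X ^ 6 - X ^ 5 - 2 * X ^ 4 - 2 * X ^ 3 + X + 1) * hW +
    (-W * X ^ 17 - 2 * W * X ^ 16 - X ^ 16 - 2 * W * X ^ 15 - X ^ 15 - W * X ^ 14 - X ^ 14 - W * X ^ 13 - X ^ 13 - W * X ^ 12 - X ^ 12 - W * X ^ 11 - X ^ 11 - W * X ^ 10 - X ^ 10 - 2 * W * X ^ 9 - 2 * X ^ 9 - 3 * W * X ^ 8 - 2 * X ^ 8 - 3 * W * X ^ 7 - 2 * X ^ 7 - 2 * W * X ^ 6 - X ^ 6 - 2 * W * X ^ 5 - X ^ 5 - 2 * W * X ^ 4 - X ^ 4 - 2 * W * X ^ 3 - X ^ 3 + W * X + X + W + 1) * h2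

theorem cert_v_v_1 (W X : R) (hW : W ^ 2 = W + 1) (h2 : (2 : R) = 0) :
    X ^ 5 - 1 = (X ^ 2 + W * X + X + 1) * (X ^ 3 + (W + 1) * X ^ 2 + (W + 1) * X + 1) +
      (0) * (X ^ 15 - 1) := by
  linear_combination (-X ^ 3 - X ^ 2) * hW +
    (-W * X ^ 4 - X ^ 4 - 2 * W * X ^ 3 - 2 * X ^ 3 - 2 * W * X ^ 2 - 2 * X ^ 2 - W * X - X - 1) * h2

theorem cert_v_v_w (W X : R) (hW : W ^ 2 = W + 1) (h2 : (2 : R) = 0) :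
    (1 : R) = (W * X ^ 12 + X ^ 11 + W * X ^ 10 + W * X ^ 7 + X ^ 6 + W * X ^ 5 + W * X ^ 2 + X + W) * (X ^ 3 + (W + 1) * X ^ 2 + (W + 1) * X + 1) +
      (W) * (X ^ 15 - W) := by
  linear_combination (-X ^ 14 - X ^ 13 - X ^ 12 - X ^ 11 - X ^ 9 - X ^ 8 - X ^ 7 - X ^ 6 - X ^ 4 - X ^ 3 - X ^ 2 - X + 1) * hW +
    (-W * X ^ 15 - W * X ^ 14 - X ^ 14 - 2 * W * X ^ 13 - X ^ 13 - 2 * W * X ^ 12 - X ^ 12 - W * X ^ 11 - X ^ 11 - W * X ^ 10 - W * X ^ 9 - X ^ 9 - 2 * W * X ^ 8 - X ^ 8 - 2 * W * X ^ 7 - X ^ 7 - W * X ^ 6 - X ^ 6 - W * X ^ 5 - W * X ^ 4 - X ^ 4 - 2 * W * X ^ 3 - X ^ 3 - 2 * W * X ^ 2 - X ^ 2 - W * X - X + 1) * h2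

theorem cert_v_v_v (W X : R) (hW : W ^ 2 = W + 1) (h2 : (2 : R) = 0) :
    (1 : R) = (W * X ^ 12 + X ^ 12 + W * X ^ 11 + W * X ^ 10 + X ^ 10 + W * X ^ 7 + X ^ 7 + W * X ^ 6 + W * X ^ 5 + X ^ 5 + W * X ^ 2 + X ^ 2 + W * X + W + 1) * (X ^ 3 + (W + 1) * X ^ 2 + (W + 1) * X + 1) +
      (W + 1) * (X ^ 15 - (W + 1)) := by
  linear_combination (-X ^ 14 - 2 * X ^ 13 - 2 * X ^ 12 - X ^ 11 - X ^ 9 - 2 * X ^ 8 - 2 * X ^ 7 - X ^ 6 - X ^ 4 - 2 * X ^ 3 - 2 * X ^ 2 - X + 1) * hW +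
    (-W * X ^ 15 - X ^ 15 - 2 * W * X ^ 14 - X ^ 14 - 3 * W * X ^ 13 - 2 * X ^ 13 - 3 * W * X ^ 12 - 2 * X ^ 12 - 2 * W * X ^ 11 - X ^ 11 - W * X ^ 10 - X ^ 10 - 2 * W * X ^ 9 - X ^ 9 - 3 * W * X ^ 8 - 2 * X ^ 8 - 3 * W * X ^ 7 - 2 * X ^ 7 - 2 * W * X ^ 6 - X ^ 6 - W * X ^ 5 - X ^ 5 - 2 * W * X ^ 4 - X ^ 4 - 3 * W * X ^ 3 - 2 * X ^ 3 - 3 * W * X ^ 2 - 2 * X ^ 2 - 2 * W * X - X + W + 1) * h2

end Certs

section Aux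

variable {F : Type*} [Field F]

/-- The conclusion: the fifth or the third power is scalar. -/
def Concl (A : Matrix (Fin 3) (Fin 3) F) : Prop :=
  (∃ c : F, A ^ 5 = c • (1 : Matrix (Fin 3) (Fin 3) F)) ∨
    (∃ c : F, A ^ 3 = c • (1 : Matrix (Fin 3) (Fin 3) F))

theorem hWC (ω : F) (hω : ω ^ 2 = ω + 1) : (C ω : F[X]) ^ 2 = C ω + 1 := by
  rw [← C_pow, hω, C_add, C_1]

theorem h2C (h2 : (2 : F) = 0) : (2 : F[X]) = 0 := by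
  calc (2 : F[X]) = C (2 : F) := (map_ofNat C 2).symm
    _ = C 0 := by rw [h2]
    _ = 0 := C_0

theorem fin_one (A : Matrix (Fin 3) (Fin 3) F) (χ f U V : F[X]) (hχ : aeval A χ = 0)
    (hf : aeval A f = 0) (h : (1 : F[X]) = U * χ + V * f) : False := by
  have h1 := congrArg (aeval A) h
  rw [map_add, map_mul, map_mul, hχ, hf, mul_zero, mul_zero, add_zero, map_one] at h1
  exact one_ne_zero h1

theorem fin_pow (A : Matrix (Fin 3) (Fin 3) F) (k : ℕ) (cl : F[X]) (c : F)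
    (hc : aeval A cl = c • (1 : Matrix (Fin 3) (Fin 3) F)) (χ f U V : F[X]) (hχ : aeval A χ = 0)
    (hf : aeval A f = 0) (h : X ^ k - cl = U * χ + V * f) :
    A ^ k = c • (1 : Matrix (Fin 3) (Fin 3) F) := by
  have h1 := congrArg (aeval A) h
  rw [map_add, map_mul, map_mul, hχ, hf, mul_zero, mul_zero, add_zero, map_sub, map_pow, aeval_X,
    hc] at h1
  exact sub_eq_zero.mp h1

theorem aeval_lit_one (A : Matrix (Fin 3) (Fin 3) F) :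
    aeval A (1 : F[X]) = (1 : F) • (1 : Matrix (Fin 3) (Fin 3) F) := by
  rw [map_one, one_smul]

theorem aeval_lit_w (A : Matrix (Fin 3) (Fin 3) F) (ω : F) :
    aeval A (C ω : F[X]) = ω • (1 : Matrix (Fin 3) (Fin 3) F) := by
  rw [aeval_C, Algebra.algebraMap_eq_smul_one]

theorem aeval_lit_v (A : Matrix (Fin 3) (Fin 3) F) (ω : F) :
    aeval A (C ω + 1 : F[X]) = (ω + 1) • (1 : Matrix (Fin 3) (Fin 3) F) := by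
  rw [map_add, map_one, aeval_C, Algebra.algebraMap_eq_smul_one, add_smul, one_smul]

theorem case_0_0_1 (ω : F) (hω : ω ^ 2 = ω + 1) (h2 : (2 : F) = 0)
    (A : Matrix (Fin 3) (Fin 3) F) (t s ζ : F) (ht : t = 0) (hs : s = 0)
    (hζ : ζ = 1)
    (hχ : aeval A (X ^ 3 + C t * X ^ 2 + C s * X + 1 : F[X]) = 0)
    (h15 : aeval A (X ^ 15 - C ζ : F[X]) = 0) : Concl A := by
  have et : (C t : F[X]) = 0 := by rw [ht, map_zero]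
  have es : (C s : F[X]) = 0 := by rw [hs, map_zero]
  have ez : (C ζ : F[X]) = 1 := by rw [hζ, map_one]
  rw [et, es] at hχ
  rw [ez] at h15
  exact Or.inr ⟨_, fin_pow A 3 _ _ (aeval_lit_one A) _ _ _ _ hχ h15 (cert_0_0_1 (C ω) (X : F[X]) (hWC ω hω) (h2C h2))⟩

theorem case_0_0_w (ω : F) (hω : ω ^ 2 = ω + 1) (h2 : (2 : F) = 0)
    (A : Matrix (Fin 3) (Fin 3) F) (t s ζ : F) (ht : t = 0) (hs : s = 0)
    (hζ : ζ = ω)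
    (hχ : aeval A (X ^ 3 + C t * X ^ 2 + C s * X + 1 : F[X]) = 0)
    (h15 : aeval A (X ^ 15 - C ζ : F[X]) = 0) : Concl A := by
  have et : (C t : F[X]) = 0 := by rw [ht, map_zero]
  have es : (C s : F[X]) = 0 := by rw [hs, map_zero]
  have ez : (C ζ : F[X]) = C ω := by rw [hζ]
  rw [et, es] at hχ
  rw [ez] at h15
  exact (fin_one A _ _ _ _ hχ h15 (cert_0_0_w (C ω) (X : F[X]) (hWC ω hω) (h2C h2))).elim

theorem case_0_0_v (ω : F) (hω : ω ^ 2 = ω + 1) (h2 : (2 : F) = 0)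
    (A : Matrix (Fin 3) (Fin 3) F) (t s ζ : F) (ht : t = 0) (hs : s = 0)
    (hζ : ζ = (ω + 1))
    (hχ : aeval A (X ^ 3 + C t * X ^ 2 + C s * X + 1 : F[X]) = 0)
    (h15 : aeval A (X ^ 15 - C ζ : F[X]) = 0) : Concl A := by
  have et : (C t : F[X]) = 0 := by rw [ht, map_zero]
  have es : (C s : F[X]) = 0 := by rw [hs, map_zero]
  have ez : (C ζ : F[X]) = (C ω + 1) := by rw [hζ, map_add, map_one]
  rw [et, es] at hχ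
  rw [ez] at h15
  exact (fin_one A _ _ _ _ hχ h15 (cert_0_0_v (C ω) (X : F[X]) (hWC ω hω) (h2C h2))).elim

theorem case_0_1_1 (ω : F) (hω : ω ^ 2 = ω + 1) (h2 : (2 : F) = 0)
    (A : Matrix (Fin 3) (Fin 3) F) (t s ζ : F) (ht : t = 0) (hs : s = 1)
    (hζ : ζ = 1)
    (hχ : aeval A (X ^ 3 + C t * X ^ 2 + C s * X + 1 : F[X]) = 0)
    (h15 : aeval A (X ^ 15 - C ζ : F[X]) = 0) : Concl A := by
  have et : (C t : F[X]) = 0 := by rw [ht, map_zero]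
  have es : (C s : F[X]) = 1 := by rw [hs, map_one]
  have ez : (C ζ : F[X]) = 1 := by rw [hζ, map_one]
  rw [et, es] at hχ
  rw [ez] at h15
  exact (fin_one A _ _ _ _ hχ h15 (cert_0_1_1 (C ω) (X : F[X]) (hWC ω hω) (h2C h2))).elim

theorem case_0_1_w (ω : F) (hω : ω ^ 2 = ω + 1) (h2 : (2 : F) = 0)
    (A : Matrix (Fin 3) (Fin 3) F) (t s ζ : F) (ht : t = 0) (hs : s = 1)
    (hζ : ζ = ω)
    (hχ : aeval A (X ^ 3 + C t * X ^ 2 + C s * X + 1 : F[X]) = 0)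
    (h15 : aeval A (X ^ 15 - C ζ : F[X]) = 0) : Concl A := by
  have et : (C t : F[X]) = 0 := by rw [ht, map_zero]
  have es : (C s : F[X]) = 1 := by rw [hs, map_one]
  have ez : (C ζ : F[X]) = C ω := by rw [hζ]
  rw [et, es] at hχ
  rw [ez] at h15
  exact (fin_one A _ _ _ _ hχ h15 (cert_0_1_w (C ω) (X : F[X]) (hWC ω hω) (h2C h2))).elim

theorem case_0_1_v (ω : F) (hω : ω ^ 2 = ω + 1) (h2 : (2 : F) = 0)
    (A : Matrix (Fin 3) (Fin 3) F) (t s ζ : F) (ht : t = 0) (hs : s = 1)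
    (hζ : ζ = (ω + 1))
    (hχ : aeval A (X ^ 3 + C t * X ^ 2 + C s * X + 1 : F[X]) = 0)
    (h15 : aeval A (X ^ 15 - C ζ : F[X]) = 0) : Concl A := by
  have et : (C t : F[X]) = 0 := by rw [ht, map_zero]
  have es : (C s : F[X]) = 1 := by rw [hs, map_one]
  have ez : (C ζ : F[X]) = (C ω + 1) := by rw [hζ, map_add, map_one]
  rw [et, es] at hχ
  rw [ez] at h15
  exact (fin_one A _ _ _ _ hχ h15 (cert_0_1_v (C ω) (X : F[X]) (hWC ω hω) (h2C h2))).elim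

theorem case_0_w_1 (ω : F) (hω : ω ^ 2 = ω + 1) (h2 : (2 : F) = 0)
    (A : Matrix (Fin 3) (Fin 3) F) (t s ζ : F) (ht : t = 0) (hs : s = ω)
    (hζ : ζ = 1)
    (hχ : aeval A (X ^ 3 + C t * X ^ 2 + C s * X + 1 : F[X]) = 0)
    (h15 : aeval A (X ^ 15 - C ζ : F[X]) = 0) : Concl A := by
  have et : (C t : F[X]) = 0 := by rw [ht, map_zero]
  have es : (C s : F[X]) = C ω := by rw [hs]
  have ez : (C ζ : F[X]) = 1 := by rw [hζ, map_one]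
  rw [et, es] at hχ
  rw [ez] at h15
  exact (fin_one A _ _ _ _ hχ h15 (cert_0_w_1 (C ω) (X : F[X]) (hWC ω hω) (h2C h2))).elim

theorem case_0_w_w (ω : F) (hω : ω ^ 2 = ω + 1) (h2 : (2 : F) = 0)
    (A : Matrix (Fin 3) (Fin 3) F) (t s ζ : F) (ht : t = 0) (hs : s = ω)
    (hζ : ζ = ω)
    (hχ : aeval A (X ^ 3 + C t * X ^ 2 + C s * X + 1 : F[X]) = 0)
    (h15 : aeval A (X ^ 15 - C ζ : F[X]) = 0) : Concl A := by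
  have et : (C t : F[X]) = 0 := by rw [ht, map_zero]
  have es : (C s : F[X]) = C ω := by rw [hs]
  have ez : (C ζ : F[X]) = C ω := by rw [hζ]
  rw [et, es] at hχ
  rw [ez] at h15
  exact (fin_one A _ _ _ _ hχ h15 (cert_0_w_w (C ω) (X : F[X]) (hWC ω hω) (h2C h2))).elim

theorem case_0_w_v (ω : F) (hω : ω ^ 2 = ω + 1) (h2 : (2 : F) = 0)
    (A : Matrix (Fin 3) (Fin 3) F) (t s ζ : F) (ht : t = 0) (hs : s = ω)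
    (hζ : ζ = (ω + 1))
    (hχ : aeval A (X ^ 3 + C t * X ^ 2 + C s * X + 1 : F[X]) = 0)
    (h15 : aeval A (X ^ 15 - C ζ : F[X]) = 0) : Concl A := by
  have et : (C t : F[X]) = 0 := by rw [ht, map_zero]
  have es : (C s : F[X]) = C ω := by rw [hs]
  have ez : (C ζ : F[X]) = (C ω + 1) := by rw [hζ, map_add, map_one]
  rw [et, es] at hχ
  rw [ez] at h15
  exact (fin_one A _ _ _ _ hχ h15 (cert_0_w_v (C ω) (X : F[X]) (hWC ω hω) (h2C h2))).elim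

theorem case_0_v_1 (ω : F) (hω : ω ^ 2 = ω + 1) (h2 : (2 : F) = 0)
    (A : Matrix (Fin 3) (Fin 3) F) (t s ζ : F) (ht : t = 0) (hs : s = (ω + 1))
    (hζ : ζ = 1)
    (hχ : aeval A (X ^ 3 + C t * X ^ 2 + C s * X + 1 : F[X]) = 0)
    (h15 : aeval A (X ^ 15 - C ζ : F[X]) = 0) : Concl A := by
  have et : (C t : F[X]) = 0 := by rw [ht, map_zero]
  have es : (C s : F[X]) = (C ω + 1) := by rw [hs, map_add, map_one]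
  have ez : (C ζ : F[X]) = 1 := by rw [hζ, map_one]
  rw [et, es] at hχ
  rw [ez] at h15
  exact (fin_one A _ _ _ _ hχ h15 (cert_0_v_1 (C ω) (X : F[X]) (hWC ω hω) (h2C h2))).elim

theorem case_0_v_w (ω : F) (hω : ω ^ 2 = ω + 1) (h2 : (2 : F) = 0)
    (A : Matrix (Fin 3) (Fin 3) F) (t s ζ : F) (ht : t = 0) (hs : s = (ω + 1))
    (hζ : ζ = ω)
    (hχ : aeval A (X ^ 3 + C t * X ^ 2 + C s * X + 1 : F[X]) = 0)
    (h15 : aeval A (X ^ 15 - C ζ : F[X]) = 0) : Concl A := by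
  have et : (C t : F[X]) = 0 := by rw [ht, map_zero]
  have es : (C s : F[X]) = (C ω + 1) := by rw [hs, map_add, map_one]
  have ez : (C ζ : F[X]) = C ω := by rw [hζ]
  rw [et, es] at hχ
  rw [ez] at h15
  exact (fin_one A _ _ _ _ hχ h15 (cert_0_v_w (C ω) (X : F[X]) (hWC ω hω) (h2C h2))).elim

theorem case_0_v_v (ω : F) (hω : ω ^ 2 = ω + 1) (h2 : (2 : F) = 0)
    (A : Matrix (Fin 3) (Fin 3) F) (t s ζ : F) (ht : t = 0) (hs : s = (ω + 1))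
    (hζ : ζ = (ω + 1))
    (hχ : aeval A (X ^ 3 + C t * X ^ 2 + C s * X + 1 : F[X]) = 0)
    (h15 : aeval A (X ^ 15 - C ζ : F[X]) = 0) : Concl A := by
  have et : (C t : F[X]) = 0 := by rw [ht, map_zero]
  have es : (C s : F[X]) = (C ω + 1) := by rw [hs, map_add, map_one]
  have ez : (C ζ : F[X]) = (C ω + 1) := by rw [hζ, map_add, map_one]
  rw [et, es] at hχ
  rw [ez] at h15
  exact (fin_one A _ _ _ _ hχ h15 (cert_0_v_v (C ω) (X : F[X]) (hWC ω hω) (h2C h2))).elim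

theorem case_1_0_1 (ω : F) (hω : ω ^ 2 = ω + 1) (h2 : (2 : F) = 0)
    (A : Matrix (Fin 3) (Fin 3) F) (t s ζ : F) (ht : t = 1) (hs : s = 0)
    (hζ : ζ = 1)
    (hχ : aeval A (X ^ 3 + C t * X ^ 2 + C s * X + 1 : F[X]) = 0)
    (h15 : aeval A (X ^ 15 - C ζ : F[X]) = 0) : Concl A := by
  have et : (C t : F[X]) = 1 := by rw [ht, map_one]
  have es : (C s : F[X]) = 0 := by rw [hs, map_zero]
  have ez : (C ζ : F[X]) = 1 := by rw [hζ, map_one]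
  rw [et, es] at hχ
  rw [ez] at h15
  exact (fin_one A _ _ _ _ hχ h15 (cert_1_0_1 (C ω) (X : F[X]) (hWC ω hω) (h2C h2))).elim

theorem case_1_0_w (ω : F) (hω : ω ^ 2 = ω + 1) (h2 : (2 : F) = 0)
    (A : Matrix (Fin 3) (Fin 3) F) (t s ζ : F) (ht : t = 1) (hs : s = 0)
    (hζ : ζ = ω)
    (hχ : aeval A (X ^ 3 + C t * X ^ 2 + C s * X + 1 : F[X]) = 0)
    (h15 : aeval A (X ^ 15 - C ζ : F[X]) = 0) : Concl A := by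
  have et : (C t : F[X]) = 1 := by rw [ht, map_one]
  have es : (C s : F[X]) = 0 := by rw [hs, map_zero]
  have ez : (C ζ : F[X]) = C ω := by rw [hζ]
  rw [et, es] at hχ
  rw [ez] at h15
  exact (fin_one A _ _ _ _ hχ h15 (cert_1_0_w (C ω) (X : F[X]) (hWC ω hω) (h2C h2))).elim

theorem case_1_0_v (ω : F) (hω : ω ^ 2 = ω + 1) (h2 : (2 : F) = 0)
    (A : Matrix (Fin 3) (Fin 3) F) (t s ζ : F) (ht : t = 1) (hs : s = 0)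
    (hζ : ζ = (ω + 1))
    (hχ : aeval A (X ^ 3 + C t * X ^ 2 + C s * X + 1 : F[X]) = 0)
    (h15 : aeval A (X ^ 15 - C ζ : F[X]) = 0) : Concl A := by
  have et : (C t : F[X]) = 1 := by rw [ht, map_one]
  have es : (C s : F[X]) = 0 := by rw [hs, map_zero]
  have ez : (C ζ : F[X]) = (C ω + 1) := by rw [hζ, map_add, map_one]
  rw [et, es] at hχ
  rw [ez] at h15
  exact (fin_one A _ _ _ _ hχ h15 (cert_1_0_v (C ω) (X : F[X]) (hWC ω hω) (h2C h2))).elim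

theorem case_1_1_1 (ω : F) (hω : ω ^ 2 = ω + 1) (h2 : (2 : F) = 0)
    (A : Matrix (Fin 3) (Fin 3) F) (t s ζ : F) (ht : t = 1) (hs : s = 1)
    (hζ : ζ = 1)
    (hχ : aeval A (X ^ 3 + C t * X ^ 2 + C s * X + 1 : F[X]) = 0)
    (h15 : aeval A (X ^ 15 - C ζ : F[X]) = 0) : Concl A := by
  have et : (C t : F[X]) = 1 := by rw [ht, map_one]
  have es : (C s : F[X]) = 1 := by rw [hs, map_one]
  have ez : (C ζ : F[X]) = 1 := by rw [hζ, map_one]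
  rw [et, es] at hχ
  rw [ez] at h15
  exact Or.inl ⟨_, fin_pow A 5 _ _ (aeval_lit_one A) _ _ _ _ hχ h15 (cert_1_1_1 (C ω) (X : F[X]) (hWC ω hω) (h2C h2))⟩

theorem case_1_1_w (ω : F) (hω : ω ^ 2 = ω + 1) (h2 : (2 : F) = 0)
    (A : Matrix (Fin 3) (Fin 3) F) (t s ζ : F) (ht : t = 1) (hs : s = 1)
    (hζ : ζ = ω)
    (hχ : aeval A (X ^ 3 + C t * X ^ 2 + C s * X + 1 : F[X]) = 0)
    (h15 : aeval A (X ^ 15 - C ζ : F[X]) = 0) : Concl A := by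
  have et : (C t : F[X]) = 1 := by rw [ht, map_one]
  have es : (C s : F[X]) = 1 := by rw [hs, map_one]
  have ez : (C ζ : F[X]) = C ω := by rw [hζ]
  rw [et, es] at hχ
  rw [ez] at h15
  exact (fin_one A _ _ _ _ hχ h15 (cert_1_1_w (C ω) (X : F[X]) (hWC ω hω) (h2C h2))).elim

theorem case_1_1_v (ω : F) (hω : ω ^ 2 = ω + 1) (h2 : (2 : F) = 0)
    (A : Matrix (Fin 3) (Fin 3) F) (t s ζ : F) (ht : t = 1) (hs : s = 1)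
    (hζ : ζ = (ω + 1))
    (hχ : aeval A (X ^ 3 + C t * X ^ 2 + C s * X + 1 : F[X]) = 0)
    (h15 : aeval A (X ^ 15 - C ζ : F[X]) = 0) : Concl A := by
  have et : (C t : F[X]) = 1 := by rw [ht, map_one]
  have es : (C s : F[X]) = 1 := by rw [hs, map_one]
  have ez : (C ζ : F[X]) = (C ω + 1) := by rw [hζ, map_add, map_one]
  rw [et, es] at hχ
  rw [ez] at h15
  exact (fin_one A _ _ _ _ hχ h15 (cert_1_1_v (C ω) (X : F[X]) (hWC ω hω) (h2C h2))).elim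

theorem case_1_w_1 (ω : F) (hω : ω ^ 2 = ω + 1) (h2 : (2 : F) = 0)
    (A : Matrix (Fin 3) (Fin 3) F) (t s ζ : F) (ht : t = 1) (hs : s = ω)
    (hζ : ζ = 1)
    (hχ : aeval A (X ^ 3 + C t * X ^ 2 + C s * X + 1 : F[X]) = 0)
    (h15 : aeval A (X ^ 15 - C ζ : F[X]) = 0) : Concl A := by
  have et : (C t : F[X]) = 1 := by rw [ht, map_one]
  have es : (C s : F[X]) = C ω := by rw [hs]
  have ez : (C ζ : F[X]) = 1 := by rw [hζ, map_one]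
  rw [et, es] at hχ
  rw [ez] at h15
  exact Or.inl ⟨_, fin_pow A 5 _ _ (aeval_lit_v A ω) _ _ _ _ hχ h15 (cert_1_w_1 (C ω) (X : F[X]) (hWC ω hω) (h2C h2))⟩

theorem case_1_w_w (ω : F) (hω : ω ^ 2 = ω + 1) (h2 : (2 : F) = 0)
    (A : Matrix (Fin 3) (Fin 3) F) (t s ζ : F) (ht : t = 1) (hs : s = ω)
    (hζ : ζ = ω)
    (hχ : aeval A (X ^ 3 + C t * X ^ 2 + C s * X + 1 : F[X]) = 0)
    (h15 : aeval A (X ^ 15 - C ζ : F[X]) = 0) : Concl A := by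
  have et : (C t : F[X]) = 1 := by rw [ht, map_one]
  have es : (C s : F[X]) = C ω := by rw [hs]
  have ez : (C ζ : F[X]) = C ω := by rw [hζ]
  rw [et, es] at hχ
  rw [ez] at h15
  exact (fin_one A _ _ _ _ hχ h15 (cert_1_w_w (C ω) (X : F[X]) (hWC ω hω) (h2C h2))).elim

theorem case_1_w_v (ω : F) (hω : ω ^ 2 = ω + 1) (h2 : (2 : F) = 0)
    (A : Matrix (Fin 3) (Fin 3) F) (t s ζ : F) (ht : t = 1) (hs : s = ω)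
    (hζ : ζ = (ω + 1))
    (hχ : aeval A (X ^ 3 + C t * X ^ 2 + C s * X + 1 : F[X]) = 0)
    (h15 : aeval A (X ^ 15 - C ζ : F[X]) = 0) : Concl A := by
  have et : (C t : F[X]) = 1 := by rw [ht, map_one]
  have es : (C s : F[X]) = C ω := by rw [hs]
  have ez : (C ζ : F[X]) = (C ω + 1) := by rw [hζ, map_add, map_one]
  rw [et, es] at hχ
  rw [ez] at h15
  exact (fin_one A _ _ _ _ hχ h15 (cert_1_w_v (C ω) (X : F[X]) (hWC ω hω) (h2C h2))).elim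

theorem case_1_v_1 (ω : F) (hω : ω ^ 2 = ω + 1) (h2 : (2 : F) = 0)
    (A : Matrix (Fin 3) (Fin 3) F) (t s ζ : F) (ht : t = 1) (hs : s = (ω + 1))
    (hζ : ζ = 1)
    (hχ : aeval A (X ^ 3 + C t * X ^ 2 + C s * X + 1 : F[X]) = 0)
    (h15 : aeval A (X ^ 15 - C ζ : F[X]) = 0) : Concl A := by
  have et : (C t : F[X]) = 1 := by rw [ht, map_one]
  have es : (C s : F[X]) = (C ω + 1) := by rw [hs, map_add, map_one]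
  have ez : (C ζ : F[X]) = 1 := by rw [hζ, map_one]
  rw [et, es] at hχ
  rw [ez] at h15
  exact Or.inl ⟨_, fin_pow A 5 _ _ (aeval_lit_w A ω) _ _ _ _ hχ h15 (cert_1_v_1 (C ω) (X : F[X]) (hWC ω hω) (h2C h2))⟩

theorem case_1_v_w (ω : F) (hω : ω ^ 2 = ω + 1) (h2 : (2 : F) = 0)
    (A : Matrix (Fin 3) (Fin 3) F) (t s ζ : F) (ht : t = 1) (hs : s = (ω + 1))
    (hζ : ζ = ω)
    (hχ : aeval A (X ^ 3 + C t * X ^ 2 + C s * X + 1 : F[X]) = 0)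
    (h15 : aeval A (X ^ 15 - C ζ : F[X]) = 0) : Concl A := by
  have et : (C t : F[X]) = 1 := by rw [ht, map_one]
  have es : (C s : F[X]) = (C ω + 1) := by rw [hs, map_add, map_one]
  have ez : (C ζ : F[X]) = C ω := by rw [hζ]
  rw [et, es] at hχ
  rw [ez] at h15
  exact (fin_one A _ _ _ _ hχ h15 (cert_1_v_w (C ω) (X : F[X]) (hWC ω hω) (h2C h2))).elim

theorem case_1_v_v (ω : F) (hω : ω ^ 2 = ω + 1) (h2 : (2 : F) = 0)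
    (A : Matrix (Fin 3) (Fin 3) F) (t s ζ : F) (ht : t = 1) (hs : s = (ω + 1))
    (hζ : ζ = (ω + 1))
    (hχ : aeval A (X ^ 3 + C t * X ^ 2 + C s * X + 1 : F[X]) = 0)
    (h15 : aeval A (X ^ 15 - C ζ : F[X]) = 0) : Concl A := by
  have et : (C t : F[X]) = 1 := by rw [ht, map_one]
  have es : (C s : F[X]) = (C ω + 1) := by rw [hs, map_add, map_one]
  have ez : (C ζ : F[X]) = (C ω + 1) := by rw [hζ, map_add, map_one]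
  rw [et, es] at hχ
  rw [ez] at h15
  exact (fin_one A _ _ _ _ hχ h15 (cert_1_v_v (C ω) (X : F[X]) (hWC ω hω) (h2C h2))).elim

theorem case_w_0_1 (ω : F) (hω : ω ^ 2 = ω + 1) (h2 : (2 : F) = 0)
    (A : Matrix (Fin 3) (Fin 3) F) (t s ζ : F) (ht : t = ω) (hs : s = 0)
    (hζ : ζ = 1)
    (hχ : aeval A (X ^ 3 + C t * X ^ 2 + C s * X + 1 : F[X]) = 0)
    (h15 : aeval A (X ^ 15 - C ζ : F[X]) = 0) : Concl A := by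
  have et : (C t : F[X]) = C ω := by rw [ht]
  have es : (C s : F[X]) = 0 := by rw [hs, map_zero]
  have ez : (C ζ : F[X]) = 1 := by rw [hζ, map_one]
  rw [et, es] at hχ
  rw [ez] at h15
  exact (fin_one A _ _ _ _ hχ h15 (cert_w_0_1 (C ω) (X : F[X]) (hWC ω hω) (h2C h2))).elim

theorem case_w_0_w (ω : F) (hω : ω ^ 2 = ω + 1) (h2 : (2 : F) = 0)
    (A : Matrix (Fin 3) (Fin 3) F) (t s ζ : F) (ht : t = ω) (hs : s = 0)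
    (hζ : ζ = ω)
    (hχ : aeval A (X ^ 3 + C t * X ^ 2 + C s * X + 1 : F[X]) = 0)
    (h15 : aeval A (X ^ 15 - C ζ : F[X]) = 0) : Concl A := by
  have et : (C t : F[X]) = C ω := by rw [ht]
  have es : (C s : F[X]) = 0 := by rw [hs, map_zero]
  have ez : (C ζ : F[X]) = C ω := by rw [hζ]
  rw [et, es] at hχ
  rw [ez] at h15
  exact (fin_one A _ _ _ _ hχ h15 (cert_w_0_w (C ω) (X : F[X]) (hWC ω hω) (h2C h2))).elim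

theorem case_w_0_v (ω : F) (hω : ω ^ 2 = ω + 1) (h2 : (2 : F) = 0)
    (A : Matrix (Fin 3) (Fin 3) F) (t s ζ : F) (ht : t = ω) (hs : s = 0)
    (hζ : ζ = (ω + 1))
    (hχ : aeval A (X ^ 3 + C t * X ^ 2 + C s * X + 1 : F[X]) = 0)
    (h15 : aeval A (X ^ 15 - C ζ : F[X]) = 0) : Concl A := by
  have et : (C t : F[X]) = C ω := by rw [ht]
  have es : (C s : F[X]) = 0 := by rw [hs, map_zero]
  have ez : (C ζ : F[X]) = (C ω + 1) := by rw [hζ, map_add, map_one]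
  rw [et, es] at hχ
  rw [ez] at h15
  exact (fin_one A _ _ _ _ hχ h15 (cert_w_0_v (C ω) (X : F[X]) (hWC ω hω) (h2C h2))).elim

theorem case_w_1_1 (ω : F) (hω : ω ^ 2 = ω + 1) (h2 : (2 : F) = 0)
    (A : Matrix (Fin 3) (Fin 3) F) (t s ζ : F) (ht : t = ω) (hs : s = 1)
    (hζ : ζ = 1)
    (hχ : aeval A (X ^ 3 + C t * X ^ 2 + C s * X + 1 : F[X]) = 0)
    (h15 : aeval A (X ^ 15 - C ζ : F[X]) = 0) : Concl A := by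
  have et : (C t : F[X]) = C ω := by rw [ht]
  have es : (C s : F[X]) = 1 := by rw [hs, map_one]
  have ez : (C ζ : F[X]) = 1 := by rw [hζ, map_one]
  rw [et, es] at hχ
  rw [ez] at h15
  exact Or.inl ⟨_, fin_pow A 5 _ _ (aeval_lit_w A ω) _ _ _ _ hχ h15 (cert_w_1_1 (C ω) (X : F[X]) (hWC ω hω) (h2C h2))⟩

theorem case_w_1_w (ω : F) (hω : ω ^ 2 = ω + 1) (h2 : (2 : F) = 0)
    (A : Matrix (Fin 3) (Fin 3) F) (t s ζ : F) (ht : t = ω) (hs : s = 1)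
    (hζ : ζ = ω)
    (hχ : aeval A (X ^ 3 + C t * X ^ 2 + C s * X + 1 : F[X]) = 0)
    (h15 : aeval A (X ^ 15 - C ζ : F[X]) = 0) : Concl A := by
  have et : (C t : F[X]) = C ω := by rw [ht]
  have es : (C s : F[X]) = 1 := by rw [hs, map_one]
  have ez : (C ζ : F[X]) = C ω := by rw [hζ]
  rw [et, es] at hχ
  rw [ez] at h15
  exact (fin_one A _ _ _ _ hχ h15 (cert_w_1_w (C ω) (X : F[X]) (hWC ω hω) (h2C h2))).elim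

theorem case_w_1_v (ω : F) (hω : ω ^ 2 = ω + 1) (h2 : (2 : F) = 0)
    (A : Matrix (Fin 3) (Fin 3) F) (t s ζ : F) (ht : t = ω) (hs : s = 1)
    (hζ : ζ = (ω + 1))
    (hχ : aeval A (X ^ 3 + C t * X ^ 2 + C s * X + 1 : F[X]) = 0)
    (h15 : aeval A (X ^ 15 - C ζ : F[X]) = 0) : Concl A := by
  have et : (C t : F[X]) = C ω := by rw [ht]
  have es : (C s : F[X]) = 1 := by rw [hs, map_one]
  have ez : (C ζ : F[X]) = (C ω + 1) := by rw [hζ, map_add, map_one]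
  rw [et, es] at hχ
  rw [ez] at h15
  exact (fin_one A _ _ _ _ hχ h15 (cert_w_1_v (C ω) (X : F[X]) (hWC ω hω) (h2C h2))).elim

theorem case_w_w_1 (ω : F) (hω : ω ^ 2 = ω + 1) (h2 : (2 : F) = 0)
    (A : Matrix (Fin 3) (Fin 3) F) (t s ζ : F) (ht : t = ω) (hs : s = ω)
    (hζ : ζ = 1)
    (hχ : aeval A (X ^ 3 + C t * X ^ 2 + C s * X + 1 : F[X]) = 0)
    (h15 : aeval A (X ^ 15 - C ζ : F[X]) = 0) : Concl A := by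
  have et : (C t : F[X]) = C ω := by rw [ht]
  have es : (C s : F[X]) = C ω := by rw [hs]
  have ez : (C ζ : F[X]) = 1 := by rw [hζ, map_one]
  rw [et, es] at hχ
  rw [ez] at h15
  exact Or.inl ⟨_, fin_pow A 5 _ _ (aeval_lit_one A) _ _ _ _ hχ h15 (cert_w_w_1 (C ω) (X : F[X]) (hWC ω hω) (h2C h2))⟩

theorem case_w_w_w (ω : F) (hω : ω ^ 2 = ω + 1) (h2 : (2 : F) = 0)
    (A : Matrix (Fin 3) (Fin 3) F) (t s ζ : F) (ht : t = ω) (hs : s = ω)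
    (hζ : ζ = ω)
    (hχ : aeval A (X ^ 3 + C t * X ^ 2 + C s * X + 1 : F[X]) = 0)
    (h15 : aeval A (X ^ 15 - C ζ : F[X]) = 0) : Concl A := by
  have et : (C t : F[X]) = C ω := by rw [ht]
  have es : (C s : F[X]) = C ω := by rw [hs]
  have ez : (C ζ : F[X]) = C ω := by rw [hζ]
  rw [et, es] at hχ
  rw [ez] at h15
  exact (fin_one A _ _ _ _ hχ h15 (cert_w_w_w (C ω) (X : F[X]) (hWC ω hω) (h2C h2))).elim

theorem case_w_w_v (ω : F) (hω : ω ^ 2 = ω + 1) (h2 : (2 : F) = 0)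
    (A : Matrix (Fin 3) (Fin 3) F) (t s ζ : F) (ht : t = ω) (hs : s = ω)
    (hζ : ζ = (ω + 1))
    (hχ : aeval A (X ^ 3 + C t * X ^ 2 + C s * X + 1 : F[X]) = 0)
    (h15 : aeval A (X ^ 15 - C ζ : F[X]) = 0) : Concl A := by
  have et : (C t : F[X]) = C ω := by rw [ht]
  have es : (C s : F[X]) = C ω := by rw [hs]
  have ez : (C ζ : F[X]) = (C ω + 1) := by rw [hζ, map_add, map_one]
  rw [et, es] at hχ
  rw [ez] at h15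
  exact (fin_one A _ _ _ _ hχ h15 (cert_w_w_v (C ω) (X : F[X]) (hWC ω hω) (h2C h2))).elim

theorem case_w_v_1 (ω : F) (hω : ω ^ 2 = ω + 1) (h2 : (2 : F) = 0)
    (A : Matrix (Fin 3) (Fin 3) F) (t s ζ : F) (ht : t = ω) (hs : s = (ω + 1))
    (hζ : ζ = 1)
    (hχ : aeval A (X ^ 3 + C t * X ^ 2 + C s * X + 1 : F[X]) = 0)
    (h15 : aeval A (X ^ 15 - C ζ : F[X]) = 0) : Concl A := by
  have et : (C t : F[X]) = C ω := by rw [ht]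
  have es : (C s : F[X]) = (C ω + 1) := by rw [hs, map_add, map_one]
  have ez : (C ζ : F[X]) = 1 := by rw [hζ, map_one]
  rw [et, es] at hχ
  rw [ez] at h15
  exact Or.inl ⟨_, fin_pow A 5 _ _ (aeval_lit_v A ω) _ _ _ _ hχ h15 (cert_w_v_1 (C ω) (X : F[X]) (hWC ω hω) (h2C h2))⟩

theorem case_w_v_w (ω : F) (hω : ω ^ 2 = ω + 1) (h2 : (2 : F) = 0)
    (A : Matrix (Fin 3) (Fin 3) F) (t s ζ : F) (ht : t = ω) (hs : s = (ω + 1))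
    (hζ : ζ = ω)
    (hχ : aeval A (X ^ 3 + C t * X ^ 2 + C s * X + 1 : F[X]) = 0)
    (h15 : aeval A (X ^ 15 - C ζ : F[X]) = 0) : Concl A := by
  have et : (C t : F[X]) = C ω := by rw [ht]
  have es : (C s : F[X]) = (C ω + 1) := by rw [hs, map_add, map_one]
  have ez : (C ζ : F[X]) = C ω := by rw [hζ]
  rw [et, es] at hχ
  rw [ez] at h15
  exact (fin_one A _ _ _ _ hχ h15 (cert_w_v_w (C ω) (X : F[X]) (hWC ω hω) (h2C h2))).elim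

theorem case_w_v_v (ω : F) (hω : ω ^ 2 = ω + 1) (h2 : (2 : F) = 0)
    (A : Matrix (Fin 3) (Fin 3) F) (t s ζ : F) (ht : t = ω) (hs : s = (ω + 1))
    (hζ : ζ = (ω + 1))
    (hχ : aeval A (X ^ 3 + C t * X ^ 2 + C s * X + 1 : F[X]) = 0)
    (h15 : aeval A (X ^ 15 - C ζ : F[X]) = 0) : Concl A := by
  have et : (C t : F[X]) = C ω := by rw [ht]
  have es : (C s : F[X]) = (C ω + 1) := by rw [hs, map_add, map_one]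
  have ez : (C ζ : F[X]) = (C ω + 1) := by rw [hζ, map_add, map_one]
  rw [et, es] at hχ
  rw [ez] at h15
  exact (fin_one A _ _ _ _ hχ h15 (cert_w_v_v (C ω) (X : F[X]) (hWC ω hω) (h2C h2))).elim

theorem case_v_0_1 (ω : F) (hω : ω ^ 2 = ω + 1) (h2 : (2 : F) = 0)
    (A : Matrix (Fin 3) (Fin 3) F) (t s ζ : F) (ht : t = (ω + 1)) (hs : s = 0)
    (hζ : ζ = 1)
    (hχ : aeval A (X ^ 3 + C t * X ^ 2 + C s * X + 1 : F[X]) = 0)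
    (h15 : aeval A (X ^ 15 - C ζ : F[X]) = 0) : Concl A := by
  have et : (C t : F[X]) = (C ω + 1) := by rw [ht, map_add, map_one]
  have es : (C s : F[X]) = 0 := by rw [hs, map_zero]
  have ez : (C ζ : F[X]) = 1 := by rw [hζ, map_one]
  rw [et, es] at hχ
  rw [ez] at h15
  exact (fin_one A _ _ _ _ hχ h15 (cert_v_0_1 (C ω) (X : F[X]) (hWC ω hω) (h2C h2))).elim

theorem case_v_0_w (ω : F) (hω : ω ^ 2 = ω + 1) (h2 : (2 : F) = 0)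
    (A : Matrix (Fin 3) (Fin 3) F) (t s ζ : F) (ht : t = (ω + 1)) (hs : s = 0)
    (hζ : ζ = ω)
    (hχ : aeval A (X ^ 3 + C t * X ^ 2 + C s * X + 1 : F[X]) = 0)
    (h15 : aeval A (X ^ 15 - C ζ : F[X]) = 0) : Concl A := by
  have et : (C t : F[X]) = (C ω + 1) := by rw [ht, map_add, map_one]
  have es : (C s : F[X]) = 0 := by rw [hs, map_zero]
  have ez : (C ζ : F[X]) = C ω := by rw [hζ]
  rw [et, es] at hχ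
  rw [ez] at h15
  exact (fin_one A _ _ _ _ hχ h15 (cert_v_0_w (C ω) (X : F[X]) (hWC ω hω) (h2C h2))).elim

theorem case_v_0_v (ω : F) (hω : ω ^ 2 = ω + 1) (h2 : (2 : F) = 0)
    (A : Matrix (Fin 3) (Fin 3) F) (t s ζ : F) (ht : t = (ω + 1)) (hs : s = 0)
    (hζ : ζ = (ω + 1))
    (hχ : aeval A (X ^ 3 + C t * X ^ 2 + C s * X + 1 : F[X]) = 0)
    (h15 : aeval A (X ^ 15 - C ζ : F[X]) = 0) : Concl A := by
  have et : (C t : F[X]) = (C ω + 1) := by rw [ht, map_add, map_one]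
  have es : (C s : F[X]) = 0 := by rw [hs, map_zero]
  have ez : (C ζ : F[X]) = (C ω + 1) := by rw [hζ, map_add, map_one]
  rw [et, es] at hχ
  rw [ez] at h15
  exact (fin_one A _ _ _ _ hχ h15 (cert_v_0_v (C ω) (X : F[X]) (hWC ω hω) (h2C h2))).elim

theorem case_v_1_1 (ω : F) (hω : ω ^ 2 = ω + 1) (h2 : (2 : F) = 0)
    (A : Matrix (Fin 3) (Fin 3) F) (t s ζ : F) (ht : t = (ω + 1)) (hs : s = 1)
    (hζ : ζ = 1)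
    (hχ : aeval A (X ^ 3 + C t * X ^ 2 + C s * X + 1 : F[X]) = 0)
    (h15 : aeval A (X ^ 15 - C ζ : F[X]) = 0) : Concl A := by
  have et : (C t : F[X]) = (C ω + 1) := by rw [ht, map_add, map_one]
  have es : (C s : F[X]) = 1 := by rw [hs, map_one]
  have ez : (C ζ : F[X]) = 1 := by rw [hζ, map_one]
  rw [et, es] at hχ
  rw [ez] at h15
  exact Or.inl ⟨_, fin_pow A 5 _ _ (aeval_lit_v A ω) _ _ _ _ hχ h15 (cert_v_1_1 (C ω) (X : F[X]) (hWC ω hω) (h2C h2))⟩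

theorem case_v_1_w (ω : F) (hω : ω ^ 2 = ω + 1) (h2 : (2 : F) = 0)
    (A : Matrix (Fin 3) (Fin 3) F) (t s ζ : F) (ht : t = (ω + 1)) (hs : s = 1)
    (hζ : ζ = ω)
    (hχ : aeval A (X ^ 3 + C t * X ^ 2 + C s * X + 1 : F[X]) = 0)
    (h15 : aeval A (X ^ 15 - C ζ : F[X]) = 0) : Concl A := by
  have et : (C t : F[X]) = (C ω + 1) := by rw [ht, map_add, map_one]
  have es : (C s : F[X]) = 1 := by rw [hs, map_one]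
  have ez : (C ζ : F[X]) = C ω := by rw [hζ]
  rw [et, es] at hχ
  rw [ez] at h15
  exact (fin_one A _ _ _ _ hχ h15 (cert_v_1_w (C ω) (X : F[X]) (hWC ω hω) (h2C h2))).elim

theorem case_v_1_v (ω : F) (hω : ω ^ 2 = ω + 1) (h2 : (2 : F) = 0)
    (A : Matrix (Fin 3) (Fin 3) F) (t s ζ : F) (ht : t = (ω + 1)) (hs : s = 1)
    (hζ : ζ = (ω + 1))
    (hχ : aeval A (X ^ 3 + C t * X ^ 2 + C s * X + 1 : F[X]) = 0)
    (h15 : aeval A (X ^ 15 - C ζ : F[X]) = 0) : Concl A := by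
  have et : (C t : F[X]) = (C ω + 1) := by rw [ht, map_add, map_one]
  have es : (C s : F[X]) = 1 := by rw [hs, map_one]
  have ez : (C ζ : F[X]) = (C ω + 1) := by rw [hζ, map_add, map_one]
  rw [et, es] at hχ
  rw [ez] at h15
  exact (fin_one A _ _ _ _ hχ h15 (cert_v_1_v (C ω) (X : F[X]) (hWC ω hω) (h2C h2))).elim

theorem case_v_w_1 (ω : F) (hω : ω ^ 2 = ω + 1) (h2 : (2 : F) = 0)
    (A : Matrix (Fin 3) (Fin 3) F) (t s ζ : F) (ht : t = (ω + 1)) (hs : s = ω)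
    (hζ : ζ = 1)
    (hχ : aeval A (X ^ 3 + C t * X ^ 2 + C s * X + 1 : F[X]) = 0)
    (h15 : aeval A (X ^ 15 - C ζ : F[X]) = 0) : Concl A := by
  have et : (C t : F[X]) = (C ω + 1) := by rw [ht, map_add, map_one]
  have es : (C s : F[X]) = C ω := by rw [hs]
  have ez : (C ζ : F[X]) = 1 := by rw [hζ, map_one]
  rw [et, es] at hχ
  rw [ez] at h15
  exact Or.inl ⟨_, fin_pow A 5 _ _ (aeval_lit_w A ω) _ _ _ _ hχ h15 (cert_v_w_1 (C ω) (X : F[X]) (hWC ω hω) (h2C h2))⟩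

theorem case_v_w_w (ω : F) (hω : ω ^ 2 = ω + 1) (h2 : (2 : F) = 0)
    (A : Matrix (Fin 3) (Fin 3) F) (t s ζ : F) (ht : t = (ω + 1)) (hs : s = ω)
    (hζ : ζ = ω)
    (hχ : aeval A (X ^ 3 + C t * X ^ 2 + C s * X + 1 : F[X]) = 0)
    (h15 : aeval A (X ^ 15 - C ζ : F[X]) = 0) : Concl A := by
  have et : (C t : F[X]) = (C ω + 1) := by rw [ht, map_add, map_one]
  have es : (C s : F[X]) = C ω := by rw [hs]
  have ez : (C ζ : F[X]) = C ω := by rw [hζ]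
  rw [et, es] at hχ
  rw [ez] at h15
  exact (fin_one A _ _ _ _ hχ h15 (cert_v_w_w (C ω) (X : F[X]) (hWC ω hω) (h2C h2))).elim

theorem case_v_w_v (ω : F) (hω : ω ^ 2 = ω + 1) (h2 : (2 : F) = 0)
    (A : Matrix (Fin 3) (Fin 3) F) (t s ζ : F) (ht : t = (ω + 1)) (hs : s = ω)
    (hζ : ζ = (ω + 1))
    (hχ : aeval A (X ^ 3 + C t * X ^ 2 + C s * X + 1 : F[X]) = 0)
    (h15 : aeval A (X ^ 15 - C ζ : F[X]) = 0) : Concl A := by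
  have et : (C t : F[X]) = (C ω + 1) := by rw [ht, map_add, map_one]
  have es : (C s : F[X]) = C ω := by rw [hs]
  have ez : (C ζ : F[X]) = (C ω + 1) := by rw [hζ, map_add, map_one]
  rw [et, es] at hχ
  rw [ez] at h15
  exact (fin_one A _ _ _ _ hχ h15 (cert_v_w_v (C ω) (X : F[X]) (hWC ω hω) (h2C h2))).elim

theorem case_v_v_1 (ω : F) (hω : ω ^ 2 = ω + 1) (h2 : (2 : F) = 0)
    (A : Matrix (Fin 3) (Fin 3) F) (t s ζ : F) (ht : t = (ω + 1)) (hs : s = (ω + 1))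
    (hζ : ζ = 1)
    (hχ : aeval A (X ^ 3 + C t * X ^ 2 + C s * X + 1 : F[X]) = 0)
    (h15 : aeval A (X ^ 15 - C ζ : F[X]) = 0) : Concl A := by
  have et : (C t : F[X]) = (C ω + 1) := by rw [ht, map_add, map_one]
  have es : (C s : F[X]) = (C ω + 1) := by rw [hs, map_add, map_one]
  have ez : (C ζ : F[X]) = 1 := by rw [hζ, map_one]
  rw [et, es] at hχ
  rw [ez] at h15
  exact Or.inl ⟨_, fin_pow A 5 _ _ (aeval_lit_one A) _ _ _ _ hχ h15 (cert_v_v_1 (C ω) (X : F[X]) (hWC ω hω) (h2C h2))⟩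

theorem case_v_v_w (ω : F) (hω : ω ^ 2 = ω + 1) (h2 : (2 : F) = 0)
    (A : Matrix (Fin 3) (Fin 3) F) (t s ζ : F) (ht : t = (ω + 1)) (hs : s = (ω + 1))
    (hζ : ζ = ω)
    (hχ : aeval A (X ^ 3 + C t * X ^ 2 + C s * X + 1 : F[X]) = 0)
    (h15 : aeval A (X ^ 15 - C ζ : F[X]) = 0) : Concl A := by
  have et : (C t : F[X]) = (C ω + 1) := by rw [ht, map_add, map_one]
  have es : (C s : F[X]) = (C ω + 1) := by rw [hs, map_add, map_one]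
  have ez : (C ζ : F[X]) = C ω := by rw [hζ]
  rw [et, es] at hχ
  rw [ez] at h15
  exact (fin_one A _ _ _ _ hχ h15 (cert_v_v_w (C ω) (X : F[X]) (hWC ω hω) (h2C h2))).elim

theorem case_v_v_v (ω : F) (hω : ω ^ 2 = ω + 1) (h2 : (2 : F) = 0)
    (A : Matrix (Fin 3) (Fin 3) F) (t s ζ : F) (ht : t = (ω + 1)) (hs : s = (ω + 1))
    (hζ : ζ = (ω + 1))
    (hχ : aeval A (X ^ 3 + C t * X ^ 2 + C s * X + 1 : F[X]) = 0)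
    (h15 : aeval A (X ^ 15 - C ζ : F[X]) = 0) : Concl A := by
  have et : (C t : F[X]) = (C ω + 1) := by rw [ht, map_add, map_one]
  have es : (C s : F[X]) = (C ω + 1) := by rw [hs, map_add, map_one]
  have ez : (C ζ : F[X]) = (C ω + 1) := by rw [hζ, map_add, map_one]
  rw [et, es] at hχ
  rw [ez] at h15
  exact (fin_one A _ _ _ _ hχ h15 (cert_v_v_v (C ω) (X : F[X]) (hWC ω hω) (h2C h2))).elim

theorem core (ω : F) (hω : ω ^ 2 = ω + 1) (h2 : (2 : F) = 0) (A : Matrix (Fin 3) (Fin 3) F)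
    (t s ζ : F) (ht : t = 0 ∨ t = 1 ∨ t = ω ∨ t = (ω + 1))
    (hs : s = 0 ∨ s = 1 ∨ s = ω ∨ s = (ω + 1)) (hζ : ζ = 1 ∨ ζ = ω ∨ ζ = (ω + 1))
    (hχ : aeval A (X ^ 3 + C t * X ^ 2 + C s * X + 1 : F[X]) = 0)
    (h15 : aeval A (X ^ 15 - C ζ : F[X]) = 0) : Concl A := by
  rcases ht with ht | ht | ht | ht <;> rcases hs with hs | hs | hs | hs <;>
    rcases hζ with hζ | hζ | hζ
  · exact case_0_0_1 ω hω h2 A t s ζ ht hs hζ hχ h15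
  · exact case_0_0_w ω hω h2 A t s ζ ht hs hζ hχ h15
  · exact case_0_0_v ω hω h2 A t s ζ ht hs hζ hχ h15
  · exact case_0_1_1 ω hω h2 A t s ζ ht hs hζ hχ h15
  · exact case_0_1_w ω hω h2 A t s ζ ht hs hζ hχ h15
  · exact case_0_1_v ω hω h2 A t s ζ ht hs hζ hχ h15
  · exact case_0_w_1 ω hω h2 A t s ζ ht hs hζ hχ h15
  · exact case_0_w_w ω hω h2 A t s ζ ht hs hζ hχ h15
  · exact case_0_w_v ω hω h2 A t s ζ ht hs hζ hχ h15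
  · exact case_0_v_1 ω hω h2 A t s ζ ht hs hζ hχ h15
  · exact case_0_v_w ω hω h2 A t s ζ ht hs hζ hχ h15
  · exact case_0_v_v ω hω h2 A t s ζ ht hs hζ hχ h15
  · exact case_1_0_1 ω hω h2 A t s ζ ht hs hζ hχ h15
  · exact case_1_0_w ω hω h2 A t s ζ ht hs hζ hχ h15
  · exact case_1_0_v ω hω h2 A t s ζ ht hs hζ hχ h15
  · exact case_1_1_1 ω hω h2 A t s ζ ht hs hζ hχ h15
  · exact case_1_1_w ω hω h2 A t s ζ ht hs hζ hχ h15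
  · exact case_1_1_v ω hω h2 A t s ζ ht hs hζ hχ h15
  · exact case_1_w_1 ω hω h2 A t s ζ ht hs hζ hχ h15
  · exact case_1_w_w ω hω h2 A t s ζ ht hs hζ hχ h15
  · exact case_1_w_v ω hω h2 A t s ζ ht hs hζ hχ h15
  · exact case_1_v_1 ω hω h2 A t s ζ ht hs hζ hχ h15
  · exact case_1_v_w ω hω h2 A t s ζ ht hs hζ hχ h15
  · exact case_1_v_v ω hω h2 A t s ζ ht hs hζ hχ h15
  · exact case_w_0_1 ω hω h2 A t s ζ ht hs hζ hχ h15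
  · exact case_w_0_w ω hω h2 A t s ζ ht hs hζ hχ h15
  · exact case_w_0_v ω hω h2 A t s ζ ht hs hζ hχ h15
  · exact case_w_1_1 ω hω h2 A t s ζ ht hs hζ hχ h15
  · exact case_w_1_w ω hω h2 A t s ζ ht hs hζ hχ h15
  · exact case_w_1_v ω hω h2 A t s ζ ht hs hζ hχ h15
  · exact case_w_w_1 ω hω h2 A t s ζ ht hs hζ hχ h15
  · exact case_w_w_w ω hω h2 A t s ζ ht hs hζ hχ h15
  · exact case_w_w_v ω hω h2 A t s ζ ht hs hζ hχ h15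
  · exact case_w_v_1 ω hω h2 A t s ζ ht hs hζ hχ h15
  · exact case_w_v_w ω hω h2 A t s ζ ht hs hζ hχ h15
  · exact case_w_v_v ω hω h2 A t s ζ ht hs hζ hχ h15
  · exact case_v_0_1 ω hω h2 A t s ζ ht hs hζ hχ h15
  · exact case_v_0_w ω hω h2 A t s ζ ht hs hζ hχ h15
  · exact case_v_0_v ω hω h2 A t s ζ ht hs hζ hχ h15
  · exact case_v_1_1 ω hω h2 A t s ζ ht hs hζ hχ h15
  · exact case_v_1_w ω hω h2 A t s ζ ht hs hζ hχ h15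
  · exact case_v_1_v ω hω h2 A t s ζ ht hs hζ hχ h15
  · exact case_v_w_1 ω hω h2 A t s ζ ht hs hζ hχ h15
  · exact case_v_w_w ω hω h2 A t s ζ ht hs hζ hχ h15
  · exact case_v_w_v ω hω h2 A t s ζ ht hs hζ hχ h15
  · exact case_v_v_1 ω hω h2 A t s ζ ht hs hζ hχ h15
  · exact case_v_v_w ω hω h2 A t s ζ ht hs hζ hχ h15
  · exact case_v_v_v ω hω h2 A t s ζ ht hs hζ hχ h15

theorem two0 [Fintype F] (hF : Fintype.card F = 4) : (2 : F) = 0 := by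
  have h : ((Fintype.card F : ℕ) : F) = 0 := Nat.cast_card_eq_zero F
  rw [hF] at h
  have h' : (2 : F) * 2 = 0 := by rw [← h]; norm_num
  exact mul_self_eq_zero.mp h'

theorem exists_omega [Fintype F] (hF : Fintype.card F = 4) :
    ∃ ω : F, ω ^ 2 = ω + 1 ∧ ∀ x : F, x = 0 ∨ x = 1 ∨ x = ω ∨ x = (ω + 1) := by
  classical
  have h2 : (2 : F) = 0 := two0 hF
  have hp4 : ∀ a : F, a ^ 4 = a := fun a => by
    have h := FiniteField.pow_card a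
    rwa [hF] at h
  have hquad : ∀ x : F, x = 0 ∨ x = 1 ∨ x ^ 2 + x + 1 = 0 := by
    intro x
    have h : x * (x - 1) * (x ^ 2 + x + 1) = 0 := by linear_combination hp4 x
    rcases mul_eq_zero.mp h with h | h
    · rcases mul_eq_zero.mp h with h | h
      · exact Or.inl h
      · exact Or.inr (Or.inl (sub_eq_zero.mp h))
    · exact Or.inr (Or.inr h)
  obtain ⟨ω, hω0, hω1⟩ : ∃ ω : F, ω ≠ 0 ∧ ω ≠ 1 := by
    by_contra hcon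
    push Not at hcon
    have hsub : (Finset.univ : Finset F) ⊆ {0, 1} := by
      intro x _
      by_cases hx : x = 0
      · simp [hx]
      · simp [hcon x hx]
    have hle := Finset.card_le_card hsub
    rw [Finset.card_univ, hF] at hle
    have h3 : ({0, 1} : Finset F).card ≤ 2 := Finset.card_le_two
    omega
  have hωq : ω ^ 2 + ω + 1 = 0 := by
    rcases hquad ω with h | h | h
    · exact absurd h hω0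
    · exact absurd h hω1
    · exact h
  refine ⟨ω, by linear_combination hωq - (ω + 1) * h2, ?_⟩
  intro x
  rcases hquad x with h | h | h
  · exact Or.inl h
  · exact Or.inr (Or.inl h)
  · have h' : (x - ω) * (x - (ω + 1)) = 0 := by
      linear_combination h - hωq + (-x - ω * x + ω ^ 2 + ω) * h2
    rcases mul_eq_zero.mp h' with h | h
    · exact Or.inr (Or.inr (Or.inl (sub_eq_zero.mp h)))
    · exact Or.inr (Or.inr (Or.inr (sub_eq_zero.mp h)))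

theorem charpoly_form (M : Matrix (Fin 3) (Fin 3) F) (hdet : M.det = 1) (h2 : (2 : F) = 0) :
    ∃ t s : F, aeval M (X ^ 3 + C t * X ^ 2 + C s * X + 1 : F[X]) = 0 := by
  refine ⟨M.charpoly.coeff 2, M.charpoly.coeff 1, ?_⟩
  have hCH := Matrix.aeval_self_charpoly M
  have hdeg : M.charpoly.natDegree = 3 := by simp [Matrix.charpoly_natDegree_eq_dim M]
  have hmonic : M.charpoly.Monic := Matrix.charpoly_monic M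
  have hc0 : M.charpoly.coeff 0 = 1 := by
    have h := Matrix.det_eq_sign_charpoly_coeff M
    rw [hdet] at h
    simp at h
    linear_combination -h + M.charpoly.coeff 0 * h2
  have hc3 : M.charpoly.coeff 3 = 1 := by
    have h := hmonic.coeff_natDegree
    rwa [hdeg] at h
  have hp : M.charpoly = X ^ 3 + C (M.charpoly.coeff 2) * X ^ 2 + C (M.charpoly.coeff 1) * X + 1 := by
    conv_lhs => rw [M.charpoly.as_sum_range_C_mul_X_pow, hdeg]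
    simp [Finset.sum_range_succ, hc0, hc3]
    ring
  rw [← hp]
  exact hCH

end Aux


/-- No element of PSL_3(4) has order 15. -/
theorem result {F : Type*} [Field F] [Fintype F] (hF : Fintype.card F = 4) (g : Matrix.ProjectiveSpecialLinearGroup (Fin 3) F) : orderOf g ≠ 15 := by
  intro hg
  obtain ⟨A, rfl⟩ := QuotientGroup.mk_surjective g
  have h2 : (2 : F) = 0 := two0 hF
  obtain ⟨ω, hω, hall⟩ := exists_omega hF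
  obtain ⟨M, hM⟩ : ∃ M : Matrix (Fin 3) (Fin 3) F, M = (A : Matrix (Fin 3) (Fin 3) F) := ⟨_, rfl⟩
  have hdet : M.det = 1 := by rw [hM]; exact A.2
  have h15 : (QuotientGroup.mk A : Matrix.ProjectiveSpecialLinearGroup (Fin 3) F) ^ 15 = 1 := by
    rw [← hg]
    exact pow_orderOf_eq_one _
  rw [← QuotientGroup.mk_pow, QuotientGroup.eq_one_iff,
    Matrix.SpecialLinearGroup.mem_center_iff] at h15
  obtain ⟨ζ, hζ3, hζ⟩ := h15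
  have hM15 : M ^ 15 = ζ • (1 : Matrix (Fin 3) (Fin 3) F) := by
    rw [Matrix.SpecialLinearGroup.coe_pow] at hζ
    rw [hM, ← hζ]
    simp [Matrix.smul_one_eq_diagonal]
  have hζ0 : ζ ≠ 0 := by
    rintro rfl
    simp at hζ3
  obtain ⟨t, s, hχ⟩ := charpoly_form M hdet h2
  have h15' : aeval M (X ^ 15 - C ζ : F[X]) = 0 := by
    rw [map_sub, map_pow, aeval_X, aeval_C, Algebra.algebraMap_eq_smul_one, hM15, sub_self]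
  have hζc : ζ = 1 ∨ ζ = ω ∨ ζ = (ω + 1) := by
    rcases hall ζ with h | h | h | h
    · exact absurd h hζ0
    · exact Or.inl h
    · exact Or.inr (Or.inl h)
    · exact Or.inr (Or.inr h)
  have hcon := core ω hω h2 M t s ζ (hall t) (hall s) hζc hχ h15'
  have hkey : ∀ k : ℕ, (∃ c : F, M ^ k = c • (1 : Matrix (Fin 3) (Fin 3) F)) →
      (QuotientGroup.mk A : Matrix.ProjectiveSpecialLinearGroup (Fin 3) F) ^ k = 1 := by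
    rintro k ⟨c, hc⟩
    rw [← QuotientGroup.mk_pow, QuotientGroup.eq_one_iff, Matrix.SpecialLinearGroup.mem_center_iff]
    refine ⟨c, ?_, ?_⟩
    · have hd : (M ^ k).det = 1 := by rw [Matrix.det_pow, hdet, one_pow]
      rw [hc, Matrix.det_smul, Matrix.det_one, mul_one] at hd
      exact hd
    · rw [Matrix.SpecialLinearGroup.coe_pow, ← hM, hc]
      simp [Matrix.smul_one_eq_diagonal]
  rcases hcon with h5 | h3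
  · have hdvd := orderOf_dvd_of_pow_eq_one (hkey 5 h5)
    rw [hg] at hdvd
    norm_num at hdvd
  · have hdvd := orderOf_dvd_of_pow_eq_one (hkey 3 h3)
    rw [hg] at hdvd
    norm_num at hdvd

end Cfsg.Agent.S0819
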