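import Cfsg.Statements.S0983
import Cfsg.Agent.Helper82.OrdChunk1
import Cfsg.Agent.Helper82.OrdChunk2
import Cfsg.Agent.Helper82.OrdChunk3
import Cfsg.Agent.Helper82.OrdChunk4
import Cfsg.Agent.Helper82.OrdChunk5
import Cfsg.Agent.Helper82.OrdChunk6
import Cfsg.Agent.Helper82.OrdChunk7
import Cfsg.Agent.Helper82.OrdChunk8
import Cfsg.Agent.Helper82.OrdChunk9
import Cfsg.Agent.Helper82.OrdChunk10

set_option autoImplicit false
open Cfsg

namespace Cfsg.Agent.S0983

/-- A non-abelian finite simple group of order greater than 3640 and at most 6232 has order 4080, 5616, 6048 or 6072. -/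
theorem result {G : Type*} [Group G] [Finite G] [IsSimpleGroup G] (hG : ¬ IsMulCommutative G) (h1 : 3640 < Nat.card G) (h2 : Nat.card G ≤ 6232) : Nat.card G = 4080 ∨ Nat.card G = 5616 ∨ Nat.card G = 6048 ∨ Nat.card G = 6072 := by
  by_contra hcon
  have e1 : Nat.card G ≠ 4080 := fun h => hcon (Or.inl h)
  have e2 : Nat.card G ≠ 5616 := fun h => hcon (Or.inr (Or.inl h))
  have e3 : Nat.card G ≠ 6048 := fun h => hcon (Or.inr (Or.inr (Or.inl h)))
  have e4 : Nat.card G ≠ 6072 := fun h => hcon (Or.inr (Or.inr (Or.inr h)))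
  rcases Nat.lt_or_ge (Nat.card G) 3901 with hlt | hge
  · exact Cfsg.Agent.Helper82.ord_chunk1 hG _ rfl (by omega) (by omega) e1 e2 e3 e4
  clear h1
  have h1 : 3900 < Nat.card G := hge
  clear hge
  rcases Nat.lt_or_ge (Nat.card G) 4161 with hlt | hge
  · exact Cfsg.Agent.Helper82.ord_chunk2 hG _ rfl (by omega) (by omega) e1 e2 e3 e4
  clear h1
  have h1 : 4160 < Nat.card G := hge
  clear hge
  rcases Nat.lt_or_ge (Nat.card G) 4421 with hlt | hge
  · exact Cfsg.Agent.Helper82.ord_chunk3 hG _ rfl (by omega) (by omega) e1 e2 e3 e4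
  clear h1
  have h1 : 4420 < Nat.card G := hge
  clear hge
  rcases Nat.lt_or_ge (Nat.card G) 4681 with hlt | hge
  · exact Cfsg.Agent.Helper82.ord_chunk4 hG _ rfl (by omega) (by omega) e1 e2 e3 e4
  clear h1
  have h1 : 4680 < Nat.card G := hge
  clear hge
  rcases Nat.lt_or_ge (Nat.card G) 4941 with hlt | hge
  · exact Cfsg.Agent.Helper82.ord_chunk5 hG _ rfl (by omega) (by omega) e1 e2 e3 e4
  clear h1
  have h1 : 4940 < Nat.card G := hge
  clear hge
  rcases Nat.lt_or_ge (Nat.card G) 5201 with hlt | hge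
  · exact Cfsg.Agent.Helper82.ord_chunk6 hG _ rfl (by omega) (by omega) e1 e2 e3 e4
  clear h1
  have h1 : 5200 < Nat.card G := hge
  clear hge
  rcases Nat.lt_or_ge (Nat.card G) 5461 with hlt | hge
  · exact Cfsg.Agent.Helper82.ord_chunk7 hG _ rfl (by omega) (by omega) e1 e2 e3 e4
  clear h1
  have h1 : 5460 < Nat.card G := hge
  clear hge
  rcases Nat.lt_or_ge (Nat.card G) 5721 with hlt | hge
  · exact Cfsg.Agent.Helper82.ord_chunk8 hG _ rfl (by omega) (by omega) e1 e2 e3 e4
  clear h1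
  have h1 : 5720 < Nat.card G := hge
  clear hge
  rcases Nat.lt_or_ge (Nat.card G) 5981 with hlt | hge
  · exact Cfsg.Agent.Helper82.ord_chunk9 hG _ rfl (by omega) (by omega) e1 e2 e3 e4
  clear h1
  have h1 : 5980 < Nat.card G := hge
  clear hge
  exact Cfsg.Agent.Helper82.ord_chunk10 hG _ rfl (by omega) (by omega) e1 e2 e3 e4

end Cfsg.Agent.S0983
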