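import Mathlib
import Cfsg.Statements.S0994
import Cfsg.Agent.Helper59.SmallSimple

set_option autoImplicit false
open Cfsg

namespace Cfsg.Agent.S0994

open Cfsg.Agent.Helper59

/-- There is no simple group of order 1188 = 2²·3³·11. -/
theorem result {G : Type*} [Group G] [Finite G] [IsSimpleGroup G] : Nat.card G ≠ 1188 := by
  intro h
  have : Fact (Nat.Prime 11) := ⟨by norm_num⟩
  let P : Sylow 11 G := default
  have hP : Nat.card ↥(P : Subgroup G) = 11 := by
    have := smallSimple_sylow_card 11 1 108 (by rw [h]; norm_num) (by norm_num) P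
    simpa using this
  have hidx : (P : Subgroup G).index = 108 := by
    have := (P : Subgroup G).card_mul_index
    rw [hP, h] at this
    omega
  have hn1 : Nat.card (Sylow 11 G) ≠ 1 :=
    smallSimple_sylow_ne_one 11 P (by rw [hP]; norm_num) (by rw [hP, h]; norm_num)
  have hn : Nat.card (Sylow 11 G) = 12 := by
    have h1 := P.card_dvd_index
    rw [hidx] at h1
    have h2 := card_sylow_modEq_one 11 G
    unfold Nat.ModEq at h2
    have h3 := Nat.le_of_dvd (by norm_num) h1
    have key : ∀ n < 109, n ∣ 108 → n % 11 = 1 % 11 → n ≠ 1 → n = 12 := by decide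
    exact key _ (by omega) h1 h2 hn1
  have hN := smallSimple_card_normalizer 11 P
  rw [hn, h] at hN
  have hN' : Nat.card ↥(Subgroup.normalizer ((P : Subgroup G) : Set G)) = 99 := by omega
  have hle := smallSimple_normalizer_le_centralizer 11 P hP (by rw [hN']; decide)
  exact smallSimple_burnside 11 P hle (by rw [hP]; norm_num) (by rw [hP, h]; norm_num)

end Cfsg.Agent.S0994
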