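import Cfsg.Statements.S1002
import Cfsg.Agent.Helper3.CNFinal

set_option autoImplicit false
open Cfsg

namespace Cfsg.Agent.S1002

open Subgroup

/-- In a finite simple group, a nontrivial proper Sylow `r`-subgroup gives a faithful action on the
set of Sylow `r`-subgroups, so the group order divides `(n_r)!`. -/
theorem card_dvd_factorial_sylow {G : Type*} [Group G] [Finite G] [IsSimpleGroup G] (r : ℕ)
    [Fact r.Prime] (P : Sylow r G) (h1 : (P : Subgroup G) ≠ ⊤) (h0 : (P : Subgroup G) ≠ ⊥) :
    Nat.card G ∣ (Nat.card (Sylow r G)).factorial := by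
  classical
  have hker : (MulAction.toPermHom G (Sylow r G)).ker = ⊥ := by
    rcases (MonoidHom.normal_ker (MulAction.toPermHom G (Sylow r G))).eq_bot_or_eq_top with h | h
    · exact h
    · exfalso
      have hN : normalizer ((P : Subgroup G) : Set G) = ⊤ := by
        rw [eq_top_iff]
        intro g _
        have hg : g ∈ (MulAction.toPermHom G (Sylow r G)).ker := by rw [h]; exact Subgroup.mem_top g
        rw [MonoidHom.mem_ker] at hg
        have hg' : g • P = P := by
          have := congrArg (fun σ : Equiv.Perm (Sylow r G) => σ P) hg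
          simpa using this
        exact Sylow.smul_eq_iff_mem_normalizer.1 hg'
      have hn : (P : Subgroup G).Normal := Subgroup.normalizer_eq_top_iff.1 hN
      rcases hn.eq_bot_or_eq_top with h' | h'
      · exact h0 h'
      · exact h1 h'
  have hinj : Function.Injective (MulAction.toPermHom G (Sylow r G)) :=
    (MonoidHom.ker_eq_bot_iff _).1 hker
  have := Subgroup.card_dvd_of_injective _ hinj
  rwa [Nat.card_perm] at this

/-- If `r` exactly divides the group order, Sylow `r`-subgroups have order `r`. -/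
theorem sylow_card_eq {G : Type*} [Group G] [Finite G] (r m : ℕ) [Fact r.Prime]
    (hG : Nat.card G = r * m) (hrm : ¬ r ∣ m) (P : Sylow r G) : Nat.card P = r := by
  have hr : r.Prime := Fact.out
  obtain ⟨k, hk⟩ := IsPGroup.iff_card.mp P.2
  have h1 := (P : Subgroup G).card_mul_index
  have h2 := P.not_dvd_index
  rcases k with _ | _ | k
  · exfalso
    apply h2
    rw [hk, pow_zero, one_mul] at h1
    rw [h1, hG]
    exact dvd_mul_right _ _
  · simpa using hk
  · exfalso
    apply hrm
    have h3 : r ^ (k + 2) ∣ r * m := by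
      rw [← hG, ← hk]
      exact Subgroup.card_subgroup_dvd_card _
    have h4 : r * r ∣ r * m := (Dvd.intro (r ^ k) (by ring)).trans h3
    exact Nat.dvd_of_mul_dvd_mul_left hr.pos h4

/-- The local Sylow argument: an element of prime order `r` (with `r ∥ |G|`) is self-centralizing,
provided the only admissible Sylow number is `m / 3`. -/
theorem card_centralizer_of_orderOf {G : Type*} [Group G] [Finite G] [IsSimpleGroup G]
    (r m q : ℕ) [Fact r.Prime] (hq : q.Prime) (hG : Nat.card G = r * m) (hrm : ¬ r ∣ m)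
    (hm1 : m ≠ 1) (hqG : q ∣ r * m)
    (henum : ∀ n, n ∣ m → n % r = 1 → q ≤ n → n * 3 = m) (y : G) (hy : orderOf y = r) :
    Nat.card (centralizer ({y} : Set G)) = r := by
  have hr : r.Prime := Fact.out
  have hzc : Nat.card (zpowers y) = r := by rw [Nat.card_zpowers, hy]
  obtain ⟨P, hP⟩ :=
    (IsPGroup.of_card (n := 1) (by rw [hzc, pow_one]) : IsPGroup r (zpowers y)).exists_le_sylow
  have hPc : Nat.card P = r := sylow_card_eq r m hG hrm P
  have hPeq : (P : Subgroup G) = zpowers y :=
    (Subgroup.eq_of_le_of_card_ge hP (by rw [hzc]; exact hPc.le)).symm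
  have hmpos : 0 < m := by
    rcases Nat.eq_zero_or_pos m with h | h
    · exfalso; rw [h, mul_zero] at hG; exact (Nat.card_pos (α := G)).ne' hG
    · exact h
  have hP1 : (P : Subgroup G) ≠ ⊤ := by
    intro h
    have h' : Nat.card (P : Subgroup G) = Nat.card G := by rw [h, Subgroup.card_top]
    rw [hG] at h'
    have h'' : r * 1 = r * m := by rw [mul_one]; exact hPc.symm.trans h'
    exact hm1 (Nat.eq_of_mul_eq_mul_left hr.pos h'').symm
  have hP0 : (P : Subgroup G) ≠ ⊥ := by
    intro h
    have h' : Nat.card (P : Subgroup G) = 1 := by rw [h, Subgroup.card_bot]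
    exact hr.one_lt.ne' (hPc.symm.trans h')
  have hfac := card_dvd_factorial_sylow r P hP1 hP0
  have hqn : q ≤ Nat.card (Sylow r G) := (hq.dvd_factorial).1 ((hG ▸ hqG).trans hfac)
  have hmod : Nat.card (Sylow r G) % r = 1 := by
    have := card_sylow_modEq_one r G
    unfold Nat.ModEq at this
    rw [this]
    exact Nat.mod_eq_of_lt hr.one_lt
  have hidx : (P : Subgroup G).index = m := by
    have h1 := (P : Subgroup G).card_mul_index
    rw [hG] at h1
    have h1' : r * (P : Subgroup G).index = r * m := by rw [← h1]; congr 1; exact hPc.symm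
    exact Nat.eq_of_mul_eq_mul_left hr.pos h1'
  have hnm : Nat.card (Sylow r G) ∣ m := hidx ▸ P.card_dvd_index
  have h3 : Nat.card (Sylow r G) * 3 = m := henum _ hnm hmod hqn
  have hNidx : (normalizer ((P : Subgroup G) : Set G)).index = Nat.card (Sylow r G) :=
    (P.card_eq_index_normalizer).symm
  have hNc : Nat.card (normalizer ((P : Subgroup G) : Set G)) = 3 * r := by
    have h1 := (normalizer ((P : Subgroup G) : Set G)).card_mul_index
    rw [hNidx, hG, ← h3] at h1
    have hnpos : 0 < Nat.card (Sylow r G) := Nat.card_pos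
    apply Nat.eq_of_mul_eq_mul_right hnpos
    rw [h1]; ring
  have hcomm : ∀ g ∈ centralizer ({y} : Set G), ∀ h ∈ zpowers y, h * g = g * h := by
    intro g hg h hh
    obtain ⟨k, rfl⟩ := Subgroup.mem_zpowers_iff.1 hh
    have hgy : g * y = y * g := Subgroup.mem_centralizer_singleton_iff.1 hg
    exact ((Commute.zpow_right (show Commute g y from hgy) k).eq).symm
  have hCN : centralizer ({y} : Set G) ≤ normalizer ((P : Subgroup G) : Set G) := by
    intro g hg
    apply Subgroup.centralizer_le_normalizer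
    rw [Subgroup.mem_centralizer_iff]
    intro h hh
    exact hcomm g hg h (hPeq ▸ hh)
  have hzC : zpowers y ≤ centralizer ({y} : Set G) := by
    rw [Subgroup.zpowers_le]; exact Subgroup.mem_centralizer_singleton_iff.2 rfl
  have hd1 : r ∣ Nat.card (centralizer ({y} : Set G)) := hzc ▸ Subgroup.card_dvd_of_le hzC
  have hd2 : Nat.card (centralizer ({y} : Set G)) ∣ 3 * r := hNc ▸ Subgroup.card_dvd_of_le hCN
  obtain ⟨j, hj⟩ := hd1
  rw [hj, mul_comm 3 r] at hd2
  have hj3 : j ∣ 3 := Nat.dvd_of_mul_dvd_mul_left hr.pos hd2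
  rcases (Nat.dvd_prime Nat.prime_three).1 hj3 with rfl | rfl
  · rw [hj, mul_one]
  · exfalso
    have hCeq : centralizer ({y} : Set G) = normalizer ((P : Subgroup G) : Set G) :=
      Subgroup.eq_of_le_of_card_ge hCN (by rw [hNc, hj, mul_comm])
    have hNC : normalizer ((P : Subgroup G) : Set G) ≤ centralizer ((P : Subgroup G) : Set G) := by
      rw [← hCeq]
      intro g hg
      rw [Subgroup.mem_centralizer_iff]
      intro h hh
      exact hcomm g hg h (hPeq ▸ hh)
    have hcompl := MonoidHom.ker_transferSylow_isComplement' P hNC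
    have hcard := hcompl.card_mul_card
    rcases (MonoidHom.normal_ker (MonoidHom.transferSylow P hNC)).eq_bot_or_eq_top with hb | ht
    · rw [hb, Subgroup.card_bot, one_mul] at hcard
      exact hP1 (Subgroup.eq_top_of_card_eq _ hcard)
    · rw [ht, Subgroup.card_top] at hcard
      have : Nat.card G * Nat.card (P : Subgroup G) = Nat.card G * 1 := by rw [mul_one]; exact hcard
      have h1 := Nat.eq_of_mul_eq_mul_left Nat.card_pos this
      exact hP0 ((Subgroup.card_eq_one).1 h1)

/-- If elements of order `r` are self-centralizing, any centralizer of order divisible by `r` has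
order `r`. -/
theorem card_centralizer_eq_of_dvd {G : Type*} [Group G] [Finite G] (r : ℕ) [Fact r.Prime]
    (hr : ∀ y : G, orderOf y = r → Nat.card (centralizer ({y} : Set G)) = r)
    (g : G) (hg : g ≠ 1) (hd : r ∣ Nat.card (centralizer ({g} : Set G))) :
    Nat.card (centralizer ({g} : Set G)) = r := by
  have hrp : r.Prime := Fact.out
  obtain ⟨y, hy⟩ := exists_prime_orderOf_dvd_card' r hd
  have hy' : orderOf (y : G) = r := by rw [Subgroup.orderOf_coe]; exact hy
  have hgy : (y : G) * g = g * (y : G) := Subgroup.mem_centralizer_singleton_iff.1 y.2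
  have hzc : Nat.card (zpowers (y : G)) = r := by rw [Nat.card_zpowers, hy']
  have hCy : centralizer ({(y : G)} : Set G) = zpowers (y : G) :=
    (Subgroup.eq_of_le_of_card_ge
      (by rw [Subgroup.zpowers_le]; exact Subgroup.mem_centralizer_singleton_iff.2 rfl)
      (by rw [hr _ hy', hzc])).symm
  have hgz : g ∈ zpowers (y : G) := by
    rw [← hCy]; exact Subgroup.mem_centralizer_singleton_iff.2 hgy.symm
  have hzg : zpowers g = zpowers (y : G) := by
    apply Subgroup.eq_of_le_of_card_ge (Subgroup.zpowers_le.2 hgz)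
    rw [hzc, Nat.card_zpowers]
    have h1 : orderOf g ∣ r := by
      rw [← hzc, ← Nat.card_zpowers g]
      exact Subgroup.card_dvd_of_le (Subgroup.zpowers_le.2 hgz)
    rcases (Nat.dvd_prime hrp).1 h1 with h | h
    · exact absurd (orderOf_eq_one_iff.1 h) hg
    · exact h.ge
  have hyg : (y : G) ∈ zpowers g := hzg ▸ Subgroup.mem_zpowers _
  have hle : centralizer ({g} : Set G) ≤ centralizer ({(y : G)} : Set G) := by
    intro h hh
    obtain ⟨k, hk⟩ := Subgroup.mem_zpowers_iff.1 hyg
    rw [Subgroup.mem_centralizer_singleton_iff, ← hk]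
    exact (Commute.zpow_right
      (show Commute h g from Subgroup.mem_centralizer_singleton_iff.1 hh) k).eq
  have h2 : Nat.card (centralizer ({g} : Set G)) ∣ r := hr _ hy' ▸ Subgroup.card_dvd_of_le hle
  exact Nat.dvd_antisymm h2 hd

/-- Divisors of `27 * a * b` for primes `a`, `b`. -/
theorem dvd_form (n a b : ℕ) (ha : a.Prime) (hb : b.Prime) (h : n ∣ 27 * a * b) :
    ∃ i ∈ Finset.range 4, ∃ j ∈ Finset.range 2, ∃ k ∈ Finset.range 2,
      n = 3 ^ i * a ^ j * b ^ k := by
  obtain ⟨u, w, hu, hw, rfl⟩ := (Nat.dvd_mul).1 h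
  obtain ⟨s, t, hs, ht, rfl⟩ := (Nat.dvd_mul).1 hu
  obtain ⟨i, hi, rfl⟩ := (Nat.dvd_prime_pow Nat.prime_three).1 (show s ∣ 3 ^ 3 from hs)
  have ht' : ∃ j ∈ Finset.range 2, t = a ^ j := by
    rcases (Nat.dvd_prime ha).1 ht with rfl | rfl
    · exact ⟨0, by simp, by simp⟩
    · exact ⟨1, by simp, by simp⟩
  have hw' : ∃ k ∈ Finset.range 2, w = b ^ k := by
    rcases (Nat.dvd_prime hb).1 hw with rfl | rfl
    · exact ⟨0, by simp, by simp⟩
    · exact ⟨1, by simp, by simp⟩
  obtain ⟨j, hj, rfl⟩ := ht'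
  obtain ⟨k, hk, rfl⟩ := hw'
  exact ⟨i, Finset.mem_range.2 (by omega), j, hj, k, hk, rfl⟩

theorem enum409 : ∀ n, n ∣ 2457 → n % 409 = 1 → 409 ≤ n → n * 3 = 2457 := by
  intro n hn h1 h2
  obtain ⟨i, hi, j, hj, k, hk, rfl⟩ :=
    dvd_form n 7 13 (by norm_num) (by norm_num) (by simpa using hn)
  have key : ∀ i ∈ Finset.range 4, ∀ j ∈ Finset.range 2, ∀ k ∈ Finset.range 2,
      (3 ^ i * 7 ^ j * 13 ^ k) % 409 = 1 → 409 ≤ 3 ^ i * 7 ^ j * 13 ^ k →
        3 ^ i * 7 ^ j * 13 ^ k * 3 = 2457 := by decide
  exact key i hi j hj k hk h1 h2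

theorem enum13 : ∀ n, n ∣ 77301 → n % 13 = 1 → 409 ≤ n → n * 3 = 77301 := by
  intro n hn h1 h2
  obtain ⟨i, hi, j, hj, k, hk, rfl⟩ :=
    dvd_form n 7 409 (by norm_num) (by norm_num) (by simpa using hn)
  have key : ∀ i ∈ Finset.range 4, ∀ j ∈ Finset.range 2, ∀ k ∈ Finset.range 2,
      (3 ^ i * 7 ^ j * 409 ^ k) % 13 = 1 → 409 ≤ 3 ^ i * 7 ^ j * 409 ^ k →
        3 ^ i * 7 ^ j * 409 ^ k * 3 = 77301 := by decide
  exact key i hi j hj k hk h1 h2

theorem enum7 : ∀ n, n ∣ 143559 → n % 7 = 1 → 409 ≤ n → n * 3 = 143559 := by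
  intro n hn h1 h2
  obtain ⟨i, hi, j, hj, k, hk, rfl⟩ :=
    dvd_form n 13 409 (by norm_num) (by norm_num) (by simpa using hn)
  have key : ∀ i ∈ Finset.range 4, ∀ j ∈ Finset.range 2, ∀ k ∈ Finset.range 2,
      (3 ^ i * 13 ^ j * 409 ^ k) % 7 = 1 → 409 ≤ 3 ^ i * 13 ^ j * 409 ^ k →
        3 ^ i * 13 ^ j * 409 ^ k * 3 = 143559 := by decide
  exact key i hi j hj k hk h1 h2

/-- There is no simple group of order 3³·7·13·409 = 1004913. -/
theorem result {G : Type*} [Group G] [Finite G] [IsSimpleGroup G] : Nat.card G ≠ 1004913 := by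
  intro hG
  have p409 : Nat.Prime 409 := by norm_num
  have p13 : Nat.Prime 13 := by norm_num
  have p7 : Nat.Prime 7 := by norm_num
  have : Fact (Nat.Prime 409) := ⟨p409⟩
  have : Fact (Nat.Prime 13) := ⟨p13⟩
  have : Fact (Nat.Prime 7) := ⟨p7⟩
  have : Fact (Nat.Prime 3) := ⟨Nat.prime_three⟩
  have h409 : ∀ y : G, orderOf y = 409 → Nat.card (centralizer ({y} : Set G)) = 409 :=
    card_centralizer_of_orderOf 409 2457 409 p409 (by rw [hG]) (by norm_num) (by norm_num)
      (by norm_num) enum409
  have h13 : ∀ y : G, orderOf y = 13 → Nat.card (centralizer ({y} : Set G)) = 13 :=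
    card_centralizer_of_orderOf 13 77301 409 p409 (by rw [hG]) (by norm_num) (by norm_num)
      (by norm_num) enum13
  have h7 : ∀ y : G, orderOf y = 7 → Nat.card (centralizer ({y} : Set G)) = 7 :=
    card_centralizer_of_orderOf 7 143559 409 p409 (by rw [hG]) (by norm_num) (by norm_num)
      (by norm_num) enum7
  have hCN : Cfsg.IsCNGroup G := by
    intro g hg
    have hcd : Nat.card (centralizer ({g} : Set G)) ∣ 1004913 :=
      hG ▸ Subgroup.card_subgroup_dvd_card _
    by_cases d409 : 409 ∣ Nat.card (centralizer ({g} : Set G))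
    · have hc := card_centralizer_eq_of_dvd 409 h409 g hg d409
      exact (IsPGroup.of_card (p := 409) (n := 1) (by rw [pow_one]; exact hc)).isNilpotent
    by_cases d13 : 13 ∣ Nat.card (centralizer ({g} : Set G))
    · have hc := card_centralizer_eq_of_dvd 13 h13 g hg d13
      exact (IsPGroup.of_card (p := 13) (n := 1) (by rw [pow_one]; exact hc)).isNilpotent
    by_cases d7 : 7 ∣ Nat.card (centralizer ({g} : Set G))
    · have hc := card_centralizer_eq_of_dvd 7 h7 g hg d7
      exact (IsPGroup.of_card (p := 7) (n := 1) (by rw [pow_one]; exact hc)).isNilpotent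
    have h27 : Nat.card (centralizer ({g} : Set G)) ∣ 27 := by
      have c1 : Nat.Coprime (Nat.card (centralizer ({g} : Set G))) 7 :=
        ((Nat.Prime.coprime_iff_not_dvd p7).2 d7).symm
      have c2 : Nat.Coprime (Nat.card (centralizer ({g} : Set G))) 13 :=
        ((Nat.Prime.coprime_iff_not_dvd p13).2 d13).symm
      have c3 : Nat.Coprime (Nat.card (centralizer ({g} : Set G))) 409 :=
        ((Nat.Prime.coprime_iff_not_dvd p409).2 d409).symm
      have hcop : Nat.Coprime (Nat.card (centralizer ({g} : Set G))) (7 * 13 * 409) :=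
        Nat.Coprime.mul_right (Nat.Coprime.mul_right c1 c2) c3
      exact hcop.dvd_of_dvd_mul_right (by
        have : (27 : ℕ) * (7 * 13 * 409) = 1004913 := by norm_num
        rw [this]; exact hcd)
    obtain ⟨j, -, hj⟩ := (Nat.dvd_prime_pow Nat.prime_three).1
      (show Nat.card (centralizer ({g} : Set G)) ∣ 3 ^ 3 from h27)
    exact (IsPGroup.of_card hj).isNilpotent
  have hsolv : Group.IsSolvable G :=
    Cfsg.Agent.Helper3.cn_solvable (by rw [hG]; decide) hCN
  have hcomm : ∀ a b : G, a * b = b * a := IsSimpleGroup.comm_iff_isSolvable.2 hsolv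
  obtain ⟨y, hy⟩ := exists_prime_orderOf_dvd_card' (G := G) 409 (by rw [hG]; norm_num)
  have htop : centralizer ({y} : Set G) = ⊤ := by
    rw [eq_top_iff]
    intro g _
    exact Subgroup.mem_centralizer_singleton_iff.2 (hcomm g y)
  have h := h409 y hy
  rw [htop, Subgroup.card_top, hG] at h
  norm_num at h

end Cfsg.Agent.S1002
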