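import Cfsg.Statements.S1137
-- import your own Cfsg.Agent.* helpers here
import Cfsg.Agent.Helper50.Suzuki

set_option autoImplicit false
open Cfsg

namespace Cfsg.Agent.S1137

/-- In a Suzuki 2-group `P` (a finite non-abelian 2-group with more than one involution admitting a cyclic group of automorphisms regular on its involutions) the involutions are exactly the non-identity central elements, and `Z(P)` is elementary abelian. -/
theorem result {P : Type*} [Group P] (hP : Cfsg.IsSuzukiTwoGroup P) :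
    (∀ x : P, (x ≠ 1 ∧ x * x = 1) ↔ (x ∈ Subgroup.center P ∧ x ≠ 1)) ∧
      ∀ z ∈ Subgroup.center P, z * z = 1 := by
  obtain ⟨hfin, hp, hna, htwo, K, hcyc, hreg⟩ := hP
  have := hfin
  obtain ⟨ξ, htr⟩ := Cfsg.Agent.Helper50.suzTrans_of_cyclic K hcyc
    (fun x y hx1 hx2 hy1 hy2 => (hreg x y hx1 hx2 hy1 hy2).exists)
  have key := Cfsg.Agent.Helper50.suz_center hp hna htwo ξ htr
  exact ⟨fun x => ⟨fun h => ⟨(key x).2 h.2, h.1⟩, fun h => ⟨h.2, (key x).1 h.1⟩⟩,
    fun z hz => (key z).1 hz⟩

end Cfsg.Agent.S1137
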