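import Cfsg.Statements.S1250
import Cfsg.Agent.Helper21.Basic

set_option autoImplicit false
open Cfsg

namespace Cfsg.Agent.S1250

/-- Let S be a Sylow p-subgroup of the finite group G, A ≤ S strongly closed in S, and N a normal subgroup. Then the image of A in G ⧸ N is strongly closed in the image of S (which is a Sylow p-subgroup of G ⧸ N). -/
theorem result {G : Type*} [Group G] [Finite G] {p : ℕ} [Fact p.Prime] (S : Sylow p G) (A : Subgroup G) (hA : Cfsg.IsStronglyClosed A (S : Subgroup G)) (N : Subgroup G) [N.Normal] : Cfsg.IsStronglyClosed (A.map (QuotientGroup.mk' N)) ((S : Subgroup G).map (QuotientGroup.mk' N)) := by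
  obtain ⟨hAS, hcl⟩ := hA
  refine ⟨Subgroup.map_mono hAS, ?_⟩
  rintro _ ⟨x, hx, rfl⟩ gbar hg
  obtain ⟨g, rfl⟩ := QuotientGroup.mk'_surjective N gbar
  obtain ⟨s, hs, hse⟩ := hg
  set M : Subgroup G := (S : Subgroup G) ⊔ N with hM
  have hSM : (S : Subgroup G) ≤ M := le_sup_left
  have hNM : N ≤ M := le_sup_right
  set y := g * x * g⁻¹ with hy
  -- y ∈ s N ⊆ M
  have hyM : y ∈ M := by
    have h0 : (QuotientGroup.mk' N) y = (QuotientGroup.mk' N) s := by
      rw [hse, hy]; simp only [map_mul, map_inv]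
    have h1 : (QuotientGroup.mk' N) (s⁻¹ * y) = 1 := by
      rw [map_mul, map_inv, h0, inv_mul_cancel]
    have h2 : s⁻¹ * y ∈ N := by
      rw [← QuotientGroup.ker_mk' N]; exact h1
    have : y = s * (s⁻¹ * y) := by group
    rw [this]
    exact M.mul_mem (hSM hs) (hNM h2)
  -- the cyclic group generated by y is a p-subgroup of M
  set R : Subgroup G := (Subgroup.zpowers x).map (MulAut.conj g).toMonoidHom with hR
  have hRp : IsPGroup p R :=
    (S.2.to_le ((Subgroup.zpowers_le).mpr (hAS hx))).map _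
  have hRM : R ≤ M := by
    rintro _ ⟨z, hz, rfl⟩
    obtain ⟨k, rfl⟩ := Subgroup.mem_zpowers_iff.mp hz
    have : (MulAut.conj g).toMonoidHom (x ^ k) = y ^ k := by
      simp [MulAut.conj_apply, hy, conj_zpow]
    rw [this]
    exact M.zpow_mem hyM k
  have hyR : y ∈ R := ⟨x, Subgroup.mem_zpowers x, by simp [MulAut.conj_apply, hy]⟩
  obtain ⟨h, hhM, hh⟩ := Cfsg.Agent.Helper21.exists_conj_mem_sylow_of_le (S.subtype hSM) hRp hRM
  have hh' : h * y * h⁻¹ ∈ (S : Subgroup G) := by
    have := hh y hyR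
    rwa [Sylow.coe_subtype, Subgroup.map_subgroupOf_eq_of_le hSM] at this
  obtain ⟨s', hs', n, hn, rfl⟩ := Subgroup.mem_sup_of_normal_right.mp hhM
  have hny : n * y * n⁻¹ ∈ (S : Subgroup G) := by
    have : n * y * n⁻¹ = s'⁻¹ * (s' * n * y * (s' * n)⁻¹) * s' := by group
    rw [this]
    exact Subgroup.mul_mem _ (Subgroup.mul_mem _ (Subgroup.inv_mem _ hs') hh') hs'
  have hA' : (n * g) * x * (n * g)⁻¹ ∈ A := by
    apply hcl x hx (n * g)
    have : n * g * x * (n * g)⁻¹ = n * y * n⁻¹ := by rw [hy]; group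
    rw [this]; exact hny
  refine ⟨(n * g) * x * (n * g)⁻¹, hA', ?_⟩
  have hn1 : (QuotientGroup.mk' N) n = 1 := by
    rw [← MonoidHom.mem_ker, QuotientGroup.ker_mk']; exact hn
  simp only [map_mul, map_inv, hn1, one_mul]

end Cfsg.Agent.S1250
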