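import Cfsg.Statements.S1251
import Cfsg.Agent.S0215
import Cfsg.Agent.Helper53.FusCenter

set_option autoImplicit false
universe u v w
open Cfsg

namespace Cfsg.Agent.S1251

open Cfsg.Agent.Helper53

/-- Elements of `H ⊔ ⟨a⟩` commute with `a` modulo `H` when `a` normalizes `H`. -/
theorem comm_mem_of_mem_sup {G : Type*} [Group G] (H : Subgroup G) (a : G)
    (ha : a ∈ Subgroup.normalizer (H : Set G)) {k : G} (hk : k ∈ H ⊔ Subgroup.zpowers a) :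
    k * a * k⁻¹ * a⁻¹ ∈ H := by
  let T : Subgroup G :=
    { carrier := {k | k ∈ Subgroup.normalizer (H : Set G) ∧ k * a * k⁻¹ * a⁻¹ ∈ H}
      one_mem' := ⟨Subgroup.one_mem _, by simp⟩
      mul_mem' := by
        rintro k₁ k₂ ⟨h1, h1'⟩ ⟨h2, h2'⟩
        refine ⟨Subgroup.mul_mem _ h1 h2, ?_⟩
        have e : k₁ * k₂ * a * (k₁ * k₂)⁻¹ * a⁻¹ =
            k₁ * (k₂ * a * k₂⁻¹ * a⁻¹) * k₁⁻¹ * (k₁ * a * k₁⁻¹ * a⁻¹) := by group
        rw [e]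
        exact H.mul_mem ((Subgroup.mem_normalizer_iff.mp h1 _).mp h2') h1'
      inv_mem' := by
        rintro k ⟨h1, h1'⟩
        refine ⟨Subgroup.inv_mem _ h1, ?_⟩
        have e : k⁻¹ * a * k⁻¹⁻¹ * a⁻¹ = k⁻¹ * (k * a * k⁻¹ * a⁻¹)⁻¹ * k := by group
        rw [e]
        exact (Subgroup.mem_normalizer_iff''.mp h1 _).mp (H.inv_mem h1') }
  have hHT : H ≤ T := by
    intro h hh
    refine ⟨Subgroup.le_normalizer hh, ?_⟩
    have e : h * a * h⁻¹ * a⁻¹ = h * (a * h⁻¹ * a⁻¹) := by group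
    rw [e]
    exact H.mul_mem hh ((Subgroup.mem_normalizer_iff.mp ha _).mp (H.inv_mem hh))
  have haT : Subgroup.zpowers a ≤ T := by
    rw [Subgroup.zpowers_le]
    exact ⟨ha, by simp⟩
  exact ((sup_le hHT haT) hk).2

/-- Let S be a Sylow 2-subgroup of the finite group G and A ≤ S strongly closed in S. If H is a subgroup normalized by A with no nontrivial normal subgroup of odd order and A ∩ H = 1, then A ≤ C_G(H). -/
theorem result {G : Type*} [Group G] [Finite G] (S : Sylow 2 G) (A : Subgroup G) (hA : Cfsg.IsStronglyClosed A (S : Subgroup G)) (H : Subgroup G) (hAH : A ≤ Subgroup.normalizer (H : Set G)) (hO : Cfsg.oddCore ↥H = ⊥) (hdisj : A ⊓ H = ⊥) : A ≤ Subgroup.centralizer (H : Set G) := by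
  have hF : Fact (Nat.Prime 2) := ⟨Nat.prime_two⟩
  obtain ⟨hAS, hcl⟩ := hA
  have hA2 : IsPGroup 2 A := S.isPGroup'.to_le hAS
  -- the big group `K₁ = H A`
  obtain ⟨K₁, hK₁⟩ : ∃ K₁ : Subgroup G, K₁ = H ⊔ A := ⟨_, rfl⟩
  have hHK₁ : H ≤ K₁ := hK₁ ▸ le_sup_left
  have hAK₁ : A ≤ K₁ := hK₁ ▸ le_sup_right
  have hK₁N : K₁ ≤ Subgroup.normalizer (H : Set G) := hK₁ ▸ sup_le Subgroup.le_normalizer hAH
  obtain ⟨P₁, hP₁⟩ := (hA2.comap_of_injective K₁.subtype Subtype.val_injective).exists_le_sylow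
  have hAP₁ : ∀ x (hx : x ∈ A), (⟨x, hAK₁ hx⟩ : ↥K₁) ∈ P₁ := fun x hx => hP₁ hx
  -- `A` is strongly closed in `P₁`
  have hC1 : ∀ x ∈ A, ∀ g : G, ∀ hg : g * x * g⁻¹ ∈ K₁, (⟨g * x * g⁻¹, hg⟩ : ↥K₁) ∈ P₁ →
      g * x * g⁻¹ ∈ A := by
    have hR : IsPGroup 2 ((P₁ : Subgroup ↥K₁).map K₁.subtype) := P₁.isPGroup'.map _
    obtain ⟨c, hc⟩ := exists_map_conj_le_sylow S hR
    have hcS : ∀ y (hy : y ∈ K₁), (⟨y, hy⟩ : ↥K₁) ∈ P₁ → c * y * c⁻¹ ∈ (S : Subgroup G) := by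
      intro y hy hyP
      exact hc (conj_mem_map_conj (Subgroup.mem_map.mpr ⟨⟨y, hy⟩, hyP, rfl⟩))
    have hcA : A.map (MulAut.conj c).toMonoidHom ≤ A := by
      rintro _ ⟨x, hx, rfl⟩
      show c * x * c⁻¹ ∈ A
      exact hcl x hx c (hcS x (hAK₁ hx) (hAP₁ x hx))
    have hcA' : A.map (MulAut.conj c).toMonoidHom = A := by
      apply Subgroup.eq_of_le_of_card_ge hcA
      rw [Subgroup.card_map_of_injective (MulAut.conj c).injective]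
    intro x hx g hg hgP
    have h1 : c * (g * x * g⁻¹) * c⁻¹ ∈ A := by
      have e : c * (g * x * g⁻¹) * c⁻¹ = (c * g) * x * (c * g)⁻¹ := by group
      have h2 := hcS _ hg hgP
      rw [e] at h2 ⊢
      exact hcl x hx (c * g) h2
    rw [← hcA'] at h1
    obtain ⟨y, hy, hy'⟩ := h1
    have hy'' : c * y * c⁻¹ = c * (g * x * g⁻¹) * c⁻¹ := hy'
    have : y = g * x * g⁻¹ := mul_left_cancel (mul_right_cancel hy'')
    rw [← this]; exact hy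
  -- now fix `a ∈ A`
  intro a ha
  obtain ⟨K, hK⟩ : ∃ K : Subgroup G, K = H ⊔ Subgroup.zpowers a := ⟨_, rfl⟩
  have hHK : H ≤ K := hK ▸ le_sup_left
  have haK : a ∈ K := hK ▸ (le_sup_right : Subgroup.zpowers a ≤ _) (Subgroup.mem_zpowers a)
  have hKK₁ : K ≤ K₁ := by
    rw [hK, hK₁]
    exact sup_le_sup_left (Subgroup.zpowers_le.mpr ha) H
  have haN : a ∈ Subgroup.normalizer (H : Set G) := hAH ha
  obtain ⟨n, hn⟩ := (IsPGroup.iff_orderOf.mp hA2) ⟨a, ha⟩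
  have han : a ^ 2 ^ n = 1 := by
    have h1 : (⟨a, ha⟩ : ↥A) ^ 2 ^ n = 1 := by rw [← hn]; exact pow_orderOf_eq_one _
    exact congrArg Subtype.val h1
  obtain ⟨x, hx⟩ : ∃ x : ↥K, x = ⟨a, haK⟩ := ⟨_, rfl⟩
  have hxn : x ^ 2 ^ n = 1 := by
    apply Subtype.ext
    rw [hx]
    simpa using han
  have hx2 : IsPGroup 2 (Subgroup.zpowers x) := by
    intro g
    obtain ⟨i, hi⟩ := Subgroup.mem_zpowers_iff.mp g.2
    refine ⟨n, Subtype.ext ?_⟩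
    simp only [Subgroup.coe_pow, Subgroup.coe_one]
    rw [← hi, ← zpow_natCast, ← zpow_mul, mul_comm, zpow_mul, zpow_natCast, hxn, one_zpow]
  obtain ⟨P, hP⟩ := hx2.exists_le_sylow
  have hxP : x ∈ (P : Subgroup ↥K) := hP (Subgroup.mem_zpowers x)
  have hwc : ∀ k : ↥K, k * x * k⁻¹ ∈ (P : Subgroup ↥K) → k * x * k⁻¹ = x := by
    intro k hk
    have hQ₂ : IsPGroup 2 (((P : Subgroup ↥K).map K.subtype).comap K₁.subtype) :=
      (P.isPGroup'.map _).comap_of_injective K₁.subtype Subtype.val_injective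
    obtain ⟨k₀, hk₀⟩ := exists_map_conj_le_sylow P₁ hQ₂
    have hmove : ∀ y : ↥K, y ∈ (P : Subgroup ↥K) → ∀ hy : (y : G) ∈ K₁,
        k₀ * ⟨(y : G), hy⟩ * k₀⁻¹ ∈ (P₁ : Subgroup ↥K₁) := by
      intro y hyP hy
      apply hk₀
      apply conj_mem_map_conj
      show K₁.subtype ⟨(y : G), hy⟩ ∈ (P : Subgroup ↥K).map K.subtype
      exact Subgroup.mem_map.mpr ⟨y, hyP, rfl⟩
    have h1 := hmove x hxP (hKK₁ x.2)
    have h2 := hmove (k * x * k⁻¹) hk (hKK₁ (k * x * k⁻¹).2)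
    have hxa : (x : G) = a := by rw [hx]
    have hkx : ((k * x * k⁻¹ : ↥K) : G) = (k : G) * a * (k : G)⁻¹ := by
      rw [← hxa]; rfl
    have ha₁ : (k₀ : G) * a * (k₀ : G)⁻¹ ∈ A := by
      refine hC1 a ha (k₀ : G) ?_ ?_
      · exact K₁.mul_mem (K₁.mul_mem k₀.2 (hAK₁ ha)) (K₁.inv_mem k₀.2)
      · have e : (⟨(k₀ : G) * a * (k₀ : G)⁻¹, K₁.mul_mem (K₁.mul_mem k₀.2 (hAK₁ ha)) (K₁.inv_mem k₀.2)⟩ : ↥K₁) =
            k₀ * ⟨(x : G), hKK₁ x.2⟩ * k₀⁻¹ := by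
          apply Subtype.ext
          simp [hxa]
        rw [e]; exact h1
    have ha₂ : ((k₀ : G) * (k : G)) * a * ((k₀ : G) * (k : G))⁻¹ ∈ A := by
      have hmem : ((k₀ : G) * (k : G)) * a * ((k₀ : G) * (k : G))⁻¹ ∈ K₁ :=
        K₁.mul_mem (K₁.mul_mem (K₁.mul_mem k₀.2 (hKK₁ k.2)) (hAK₁ ha))
          (K₁.inv_mem (K₁.mul_mem k₀.2 (hKK₁ k.2)))
      refine hC1 a ha ((k₀ : G) * (k : G)) hmem ?_
      have e : (⟨((k₀ : G) * (k : G)) * a * ((k₀ : G) * (k : G))⁻¹, hmem⟩ : ↥K₁) =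
          k₀ * ⟨((k * x * k⁻¹ : ↥K) : G), hKK₁ (k * x * k⁻¹).2⟩ * k₀⁻¹ := by
        apply Subtype.ext
        simp only [Subgroup.coe_mul, Subgroup.coe_inv, hkx]
        group
      rw [e]; exact h2
    have hd : (k : G) * a * (k : G)⁻¹ * a⁻¹ ∈ H :=
      comm_mem_of_mem_sup H a haN (by rw [← hK]; exact k.2)
    have hd' : (k₀ : G) * ((k : G) * a * (k : G)⁻¹ * a⁻¹) * (k₀ : G)⁻¹ ∈ H :=
      (Subgroup.mem_normalizer_iff.mp (hK₁N k₀.2) _).mp hd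
    have hmem : (k₀ : G) * ((k : G) * a * (k : G)⁻¹ * a⁻¹) * (k₀ : G)⁻¹ ∈ A ⊓ H := by
      refine ⟨?_, hd'⟩
      have e : (k₀ : G) * ((k : G) * a * (k : G)⁻¹ * a⁻¹) * (k₀ : G)⁻¹ =
          (((k₀ : G) * (k : G)) * a * ((k₀ : G) * (k : G))⁻¹) * ((k₀ : G) * a * (k₀ : G)⁻¹)⁻¹ := by
        group
      rw [e]
      exact A.mul_mem ha₂ (A.inv_mem ha₁)
    rw [hdisj, Subgroup.mem_bot] at hmem
    have h3 : (k : G) * a * (k : G)⁻¹ * a⁻¹ = 1 := by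
      have e : (k : G) * a * (k : G)⁻¹ * a⁻¹ =
          (k₀ : G)⁻¹ * ((k₀ : G) * ((k : G) * a * (k : G)⁻¹ * a⁻¹) * (k₀ : G)⁻¹) * (k₀ : G) := by group
      rw [e, hmem]; group
    apply Subtype.ext
    rw [hkx, hxa]
    exact mul_inv_eq_one.mp h3
  have hiso : IsIsolated x := isIsolated_of_weakly_closed P x hxP hwc
  have hz : InZStar 2 x :=
    inZStar_of_isolated_two_element
      (fun H' _ _ P' t ht htP hiso' => Cfsg.Agent.S0215.result P' t ht htP hiso') n ↥K x hxn hiso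
  rw [Subgroup.mem_centralizer_iff]
  intro h hh
  obtain ⟨N, hNdef⟩ : ∃ N : Subgroup ↥H, N = (pPrimeCore 2 ↥K).comap (Subgroup.inclusion hHK) :=
    ⟨_, rfl⟩
  have hNn : N.Normal := by
    rw [hNdef]
    exact (Cfsg.Agent.Helper49.pPrimeCore_normal' 2 ↥K).comap _
  have hNc : (Nat.card N).Coprime 2 := by
    rw [hNdef]
    exact Nat.Coprime.coprime_dvd_left
      (Subgroup.card_comap_dvd_of_injective _ _ (Subgroup.inclusion_injective hHK))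
      (Cfsg.Agent.Helper49.pPrimeCore_coprime' 2)
  have hN : N = ⊥ := by
    have h1 := Cfsg.Agent.Helper49.le_pPrimeCore' hNn hNc
    have h2 : pPrimeCore 2 ↥H = ⊥ := hO
    rw [h2] at h1
    exact le_bot_iff.mp h1
  have hmemH : h * a * h⁻¹ * a⁻¹ ∈ H := by
    have e : h * a * h⁻¹ * a⁻¹ = h * (a * h⁻¹ * a⁻¹) := by group
    rw [e]
    exact H.mul_mem hh ((Subgroup.mem_normalizer_iff.mp haN _).mp (H.inv_mem hh))
  have heN : (⟨h * a * h⁻¹ * a⁻¹, hmemH⟩ : ↥H) ∈ N := by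
    rw [hNdef]
    show Subgroup.inclusion hHK ⟨h * a * h⁻¹ * a⁻¹, hmemH⟩ ∈ pPrimeCore 2 ↥K
    have h1 := hz ⟨h, hHK hh⟩
    have e : Subgroup.inclusion hHK ⟨h * a * h⁻¹ * a⁻¹, hmemH⟩ =
        (⟨h, hHK hh⟩ : ↥K) * x * (⟨h, hHK hh⟩ : ↥K)⁻¹ * x⁻¹ := by
      apply Subtype.ext
      rw [hx]
      rfl
    rw [e]; exact h1
  rw [hN, Subgroup.mem_bot] at heN
  have h4 : h * a * h⁻¹ * a⁻¹ = 1 := congrArg Subtype.val heN
  have h5 : h * a * h⁻¹ = a := mul_inv_eq_one.mp h4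
  calc h * a = h * a * h⁻¹ * h := by group
    _ = a * h := by rw [h5]

end Cfsg.Agent.S1251
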