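import Cfsg.Statements.S1336
import Cfsg.Agent.Helper22.Transitivity

set_option autoImplicit false
open Cfsg

namespace Cfsg.Agent.S1336

open Subgroup
open scoped Pointwise

variable {G : Type*} [Group G]

/-- Vertices of the commuting graph. -/
def Vtx (p : ℕ) (A : Subgroup G) : Prop := Cfsg.IsElementaryAbelian p A ∧ p ^ 1 ≤ Nat.card ↥A

/-- Edges of the commuting graph. -/
def Adj (p : ℕ) (A B : Subgroup G) : Prop :=
  Cfsg.IsElementaryAbelian p A ∧ p ^ 1 ≤ Nat.card ↥A ∧ Cfsg.IsElementaryAbelian p B ∧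
    p ^ 1 ≤ Nat.card ↥B ∧ ∀ a ∈ A, ∀ b ∈ B, a * b = b * a

theorem adj_symm {p : ℕ} {A B : Subgroup G} (h : Adj p A B) : Adj p B A := by
  obtain ⟨h1, h2, h3, h4, h5⟩ := h
  exact ⟨h3, h4, h1, h2, fun b hb a ha => (h5 a ha b hb).symm⟩

theorem vtx_conj {p : ℕ} {A : Subgroup G} (hA : Vtx p A) (g : G) :
    Vtx p (A.map (MulAut.conj g).toMonoidHom) := by
  refine ⟨⟨⟨⟨?_⟩⟩, ?_⟩, ?_⟩
  · rintro ⟨_, a, ha, rfl⟩ ⟨_, b, hb, rfl⟩
    apply Subtype.ext
    show (MulAut.conj g).toMonoidHom a * (MulAut.conj g).toMonoidHom b =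
      (MulAut.conj g).toMonoidHom b * (MulAut.conj g).toMonoidHom a
    rw [← map_mul, ← map_mul, Helper22.IsElementaryAbelian.comm' hA.1 ha hb]
  · rintro _ ⟨a, ha, rfl⟩
    rw [← map_pow, hA.1.2 a ha, map_one]
  · rw [Subgroup.card_map_of_injective (MulAut.conj g).injective]
    exact hA.2

theorem adj_conj {p : ℕ} {A B : Subgroup G} (h : Adj p A B) (g : G) :
    Adj p (A.map (MulAut.conj g).toMonoidHom) (B.map (MulAut.conj g).toMonoidHom) := by
  obtain ⟨h1, h2, h3, h4, h5⟩ := h
  have hA := vtx_conj (p := p) (A := A) ⟨h1, h2⟩ g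
  have hB := vtx_conj (p := p) (A := B) ⟨h3, h4⟩ g
  refine ⟨hA.1, hA.2, hB.1, hB.2, ?_⟩
  rintro _ ⟨a, ha, rfl⟩ _ ⟨b, hb, rfl⟩
  show (MulAut.conj g).toMonoidHom a * (MulAut.conj g).toMonoidHom b =
    (MulAut.conj g).toMonoidHom b * (MulAut.conj g).toMonoidHom a
  rw [← map_mul, ← map_mul, h5 a ha b hb]

theorem reach_conj {p : ℕ} {A B : Subgroup G} (h : Relation.ReflTransGen (Adj p) A B) (g : G) :
    Relation.ReflTransGen (Adj p) (A.map (MulAut.conj g).toMonoidHom)
      (B.map (MulAut.conj g).toMonoidHom) :=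
  Relation.ReflTransGen.lift (fun A : Subgroup G => A.map (MulAut.conj g).toMonoidHom)
    (fun _ _ hab => adj_conj hab g) _ _ h

theorem reach_symm {p : ℕ} {A B : Subgroup G} (h : Relation.ReflTransGen (Adj p) A B) :
    Relation.ReflTransGen (Adj p) B A := by
  induction h with
  | refl => exact Relation.ReflTransGen.refl
  | tail _ hbc ih => exact Relation.ReflTransGen.head (adj_symm hbc) ih

theorem map_conj_one (A : Subgroup G) : A.map (MulAut.conj (1 : G)).toMonoidHom = A := by
  have : (MulAut.conj (1 : G)).toMonoidHom = MonoidHom.id G := by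
    ext x
    simp
  rw [this, Subgroup.map_id]

theorem vtx_zpowers {p : ℕ} [Fact p.Prime] {x : G} (hx : orderOf x = p) : Vtx p (zpowers x) := by
  refine ⟨⟨inferInstance, ?_⟩, ?_⟩
  · rintro a ⟨k, rfl⟩
    show (x ^ k) ^ p = 1
    rw [← zpow_natCast, ← zpow_mul, mul_comm, zpow_mul, zpow_natCast, ← hx, pow_orderOf_eq_one,
      one_zpow]
  · rw [Nat.card_zpowers, hx, pow_one]

theorem vtx_dvd_card [Finite G] {p : ℕ} [Fact p.Prime] {A : Subgroup G} (hA : Vtx p A) :
    p ∣ Nat.card A := by
  have hp : p.Prime := Fact.out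
  obtain ⟨k, hk⟩ := (Helper22.IsElementaryAbelian.isPGroup' hA.1).exists_card_eq
  have h2 := hA.2
  rw [hk] at h2 ⊢
  have hk0 : k ≠ 0 := by
    rintro rfl
    rw [pow_zero, pow_one] at h2
    have := hp.one_lt
    omega
  exact dvd_pow_self p hk0

theorem exists_mem_orderOf_eq [Finite G] {p : ℕ} [Fact p.Prime] {K : Subgroup G}
    (h : p ∣ Nat.card K) : ∃ x ∈ K, orderOf x = p := by
  obtain ⟨x, hx⟩ := exists_prime_orderOf_dvd_card' (G := ↥K) p h
  exact ⟨x, x.2, by rw [Subgroup.orderOf_coe]; exact hx⟩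

/-- A nontrivial `p`-subgroup has a central element of order `p`. -/
theorem exists_central_order_p [Finite G] {p : ℕ} [Fact p.Prime] {P : Subgroup G}
    (hP : IsPGroup p P) (hne : P ≠ ⊥) :
    ∃ z ∈ P, orderOf z = p ∧ ∀ x ∈ P, x * z = z * x := by
  have : Nontrivial ↥P := (Subgroup.nontrivial_iff_ne_bot P).mpr hne
  have hc : Nontrivial (center ↥P) := hP.center_nontrivial
  have hcp : IsPGroup p (center ↥P) := hP.to_subgroup _
  have hdvd : p ∣ Nat.card (center ↥P) := by
    obtain ⟨k, hk⟩ := hcp.exists_card_eq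
    rw [hk]
    have hk0 : k ≠ 0 := by
      rintro rfl
      rw [pow_zero] at hk
      have : Subsingleton (center ↥P) := (Nat.card_eq_one_iff_unique.mp hk).1
      exact not_subsingleton _ this
    exact dvd_pow_self p hk0
  obtain ⟨z, hz⟩ := exists_prime_orderOf_dvd_card' (G := ↥(center ↥P)) p hdvd
  refine ⟨((z : ↥P) : G), (z : ↥P).2, ?_, ?_⟩
  · rw [Subgroup.orderOf_coe, Subgroup.orderOf_coe]; exact hz
  · intro x hx
    have := (Subgroup.mem_center_iff.mp z.2) ⟨x, hx⟩
    exact congrArg Subtype.val this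

theorem exists_mem_sylowSet_ge [Finite G] {p : ℕ} [Fact p.Prime] {K U : Subgroup G}
    (hUK : U ≤ K) (hU : IsPGroup p U) : ∃ P ∈ Helper35.sylowSet p K, U ≤ P := by
  obtain ⟨Q', hQ'⟩ := IsPGroup.exists_le_sylow
    (hU.of_equiv (Subgroup.subgroupOfEquivOfLe hUK).symm : IsPGroup p (U.subgroupOf K))
  refine ⟨_, Helper35.sylow_map_mem_sylowSet Q', ?_⟩
  intro v hv
  exact ⟨⟨v, hUK hv⟩, hQ' (show (⟨v, hUK hv⟩ : K) ∈ U.subgroupOf K from hv), rfl⟩

/-- The stabilizer of the connected component of `E`. -/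
def compStab [Finite G] (p : ℕ) (E : Subgroup G) : Subgroup G where
  carrier := {g | Relation.ReflTransGen (Adj p) E (E.map (MulAut.conj g).toMonoidHom)}
  one_mem' := by
    show Relation.ReflTransGen (Adj p) E (E.map (MulAut.conj (1 : G)).toMonoidHom)
    rw [map_conj_one]
  mul_mem' := by
    intro g h hg hh
    show Relation.ReflTransGen (Adj p) E (E.map (MulAut.conj (g * h)).toMonoidHom)
    have h1 := reach_conj hh g
    rw [Helper22.map_conj_mul] at h1
    exact Relation.ReflTransGen.trans hg h1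
  inv_mem' := by
    intro g hg
    show Relation.ReflTransGen (Adj p) E (E.map (MulAut.conj g⁻¹).toMonoidHom)
    have h1 := reach_conj hg g⁻¹
    rw [Helper22.map_conj_inv_map_conj] at h1
    exact reach_symm h1

theorem mem_compStab [Finite G] {p : ℕ} {E : Subgroup G} {g : G} : g ∈ compStab p E ↔
    Relation.ReflTransGen (Adj p) E (E.map (MulAut.conj g).toMonoidHom) := Iff.rfl

/-- Let G be finite and p prime. Then G has a proper subgroup H with p ∣ |H| and p ∤ |H ∩ gHg⁻¹| for every g ∉ H (a strongly p-embedded subgroup) if and only if G is not 1-connected for p. -/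
theorem result {G : Type*} [Group G] [Finite G] (p : ℕ) [Fact p.Prime] : (∃ H : Subgroup G, H ≠ ⊤ ∧ p ∣ Nat.card ↥H ∧ ∀ g : G, g ∉ H → ¬ p ∣ Nat.card ↥(H ⊓ H.map (MulAut.conj g).toMonoidHom)) ↔ ¬ Cfsg.IsKConnected p 1 G := by
  have hp : p.Prime := Fact.out
  constructor
  · rintro ⟨H, hH, hpH, hse⟩ hconn
    obtain ⟨x, hxH, hx⟩ := exists_mem_orderOf_eq hpH
    have hE : Vtx p (zpowers x) := vtx_zpowers hx
    have hEH : zpowers x ≤ H := zpowers_le.mpr hxH
    obtain ⟨g, hg⟩ : ∃ g : G, g ∉ H := by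
      by_contra hall
      push Not at hall
      exact hH (eq_top_iff.mpr (fun g _ => hall g))
    have hE' := vtx_conj hE g
    have hreach := hconn (zpowers x) ((zpowers x).map (MulAut.conj g).toMonoidHom)
      hE.1 hE.2 hE'.1 hE'.2
    have hmem : ∀ y : G, ∀ b : Subgroup G, Vtx p b → b ≤ H →
        b ≤ H.map (MulAut.conj y).toMonoidHom → y ∈ H := by
      intro y b hb hbH hbHy
      by_contra hy
      exact hse y hy ((vtx_dvd_card hb).trans (Subgroup.card_dvd_of_le (le_inf hbH hbHy)))
    have hall : ∀ F : Subgroup G, Relation.ReflTransGen (Adj p) (zpowers x) F → F ≤ H := by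
      intro F hF
      induction hF with
      | refl => exact hEH
      | @tail b c _ hbc ih =>
        intro y hy
        apply hmem y b ⟨hbc.1, hbc.2.1⟩ ih
        intro u hu
        refine ⟨u, ih hu, ?_⟩
        show y * u * y⁻¹ = u
        have := hbc.2.2.2.2 u hu y hy
        rw [← this]; group
    have hE'H := hall _ hreach
    exact hg (hmem g _ hE' hE'H (Subgroup.map_mono hEH))
  · intro hnc
    unfold Cfsg.IsKConnected at hnc
    push Not at hnc
    obtain ⟨E, E', hE1, hE2, hE'1, hE'2, hnr⟩ := hnc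
    have hE : Vtx p E := ⟨hE1, hE2⟩
    have hE' : Vtx p E' := ⟨hE'1, hE'2⟩
    have hnr' : ¬ Relation.ReflTransGen (Adj p) E E' := hnr
    have hEH : E ≤ compStab p E := by
      intro e he
      rw [mem_compStab]
      have : E.map (MulAut.conj e).toMonoidHom = E := Helper35.conj_smul_eq_self_of_mem he
      rw [this]
    have hEne : E ≠ ⊥ := by
      rintro rfl
      have := vtx_dvd_card hE
      rw [Subgroup.card_bot] at this
      exact hp.one_lt.ne' (Nat.dvd_one.mp this)
    -- every vertex inside the stabilizer lies in the component of `E`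
    have key : ∀ D : Subgroup G, Vtx p D → D ≤ compStab p E →
        Relation.ReflTransGen (Adj p) E D := by
      intro D hD hDH
      obtain ⟨PD, hPD, hDP⟩ := exists_mem_sylowSet_ge hDH
        (Helper22.IsElementaryAbelian.isPGroup' hD.1)
      obtain ⟨PE, hPE, hEP⟩ := exists_mem_sylowSet_ge hEH
        (Helper22.IsElementaryAbelian.isPGroup' hE.1)
      obtain ⟨h, hh, hconj⟩ := Helper35.sylowSet_trans hPE hPD
      have hconj' : PE.map (MulAut.conj h).toMonoidHom = PD := hconj
      have hPEne : PE ≠ ⊥ := fun hb => hEne (le_bot_iff.mp (hb ▸ hEP))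
      obtain ⟨z, hzP, hz, hzc⟩ := exists_central_order_p (Helper35.isPGroup_of_mem_sylowSet hPE)
        hPEne
      have hZ : Vtx p (zpowers z) := vtx_zpowers hz
      have h1 : Adj p E (zpowers z) := by
        refine ⟨hE.1, hE.2, hZ.1, hZ.2, ?_⟩
        intro a ha b hb
        have hle : zpowers z ≤ centralizer {a} := by
          rw [zpowers_le, mem_centralizer_singleton_iff]
          exact (hzc a (hEP ha)).symm
        exact (mem_centralizer_singleton_iff.mp (hle hb)).symm
      have hZh := vtx_conj hZ h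
      have h2 : Relation.ReflTransGen (Adj p) E ((zpowers z).map (MulAut.conj h).toMonoidHom) :=
        Relation.ReflTransGen.trans (mem_compStab.mp hh)
          (reach_conj (Relation.ReflTransGen.single h1) h)
      have h3 : Adj p ((zpowers z).map (MulAut.conj h).toMonoidHom) D := by
        refine ⟨hZh.1, hZh.2, hD.1, hD.2, ?_⟩
        rintro _ ⟨b, hb, rfl⟩ d hd
        -- `d ∈ PD = h PE h⁻¹`
        have hdP : d ∈ PE.map (MulAut.conj h).toMonoidHom := by rw [hconj']; exact hDP hd
        obtain ⟨d', hd', rfl⟩ := hdP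
        show (MulAut.conj h).toMonoidHom b * (MulAut.conj h).toMonoidHom d' =
          (MulAut.conj h).toMonoidHom d' * (MulAut.conj h).toMonoidHom b
        rw [← map_mul, ← map_mul]
        congr 1
        have hle : zpowers z ≤ centralizer {d'} := by
          rw [zpowers_le, mem_centralizer_singleton_iff]
          exact (hzc d' hd').symm
        exact mem_centralizer_singleton_iff.mp (hle hb)
      exact Relation.ReflTransGen.tail h2 h3
    refine ⟨compStab p E, ?_, (vtx_dvd_card hE).trans (Subgroup.card_dvd_of_le hEH), ?_⟩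
    · intro htop
      exact hnr' (key E' hE' (by rw [htop]; exact le_top))
    · intro g hg hdvd
      obtain ⟨x, hx, hxo⟩ := exists_mem_orderOf_eq hdvd
      have hD : Vtx p (zpowers x) := vtx_zpowers hxo
      have hDH : zpowers x ≤ compStab p E := zpowers_le.mpr hx.1
      have hDHg : zpowers x ≤ (compStab p E).map (MulAut.conj g).toMonoidHom :=
        zpowers_le.mpr hx.2
      have h1 := key _ hD hDH
      have hD' := vtx_conj hD g⁻¹
      have hD'H : (zpowers x).map (MulAut.conj g⁻¹).toMonoidHom ≤ compStab p E := by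
        have := Subgroup.map_mono (f := (MulAut.conj g⁻¹).toMonoidHom) hDHg
        rwa [Helper22.map_conj_inv_map_conj] at this
      have h2 := reach_conj (key _ hD' hD'H) g
      rw [Helper22.map_conj_map_conj_inv] at h2
      exact hg (mem_compStab.mpr (Relation.ReflTransGen.trans h1 (reach_symm h2)))

end Cfsg.Agent.S1336
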