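-- Statement S1292: two-locals have characteristic 2 if involution centralizers do.
import Cfsg.Statements.S1292
import Cfsg.Agent.Helper34.PCons2
import Cfsg.Agent.Helper49.PCore
import Cfsg.Agent.Helper49.PPrimeCore
import Cfsg.Agent.S1336

set_option autoImplicit false
open Cfsg

namespace Cfsg.Agent.S1292

/-- Key claim: if `C = C_G(t)` has `C_C(O_2(C)) ≤ O_2(C)`, `t ∈ Z(T)` for the `2`-subgroup `T`,
then an element of odd order centralizing `T` and `C_{O_2(C)}(T)` is trivial. -/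
theorem key {G : Type*} [Group G] [Finite G] {t : G}
    (hC : Subgroup.centralizer
        (pCore 2 ↥(Subgroup.centralizer ({t} : Set G)) : Set ↥(Subgroup.centralizer ({t} : Set G)))
      ≤ pCore 2 ↥(Subgroup.centralizer ({t} : Set G)))
    (T : Subgroup G) (hT : IsPGroup 2 ↥T) (ht : t ∈ T) (htT : ∀ s ∈ T, s * t = t * s)
    (x : G) (hx : (orderOf x).Coprime 2) (hxT : ∀ s ∈ T, Commute x s)
    (hxV : ∀ v : G, ∀ hv : v ∈ Subgroup.centralizer ({t} : Set G),
      (⟨v, hv⟩ : ↥(Subgroup.centralizer ({t} : Set G))) ∈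
        pCore 2 ↥(Subgroup.centralizer ({t} : Set G)) →
      (∀ s ∈ T, Commute s v) → Commute x v) : x = 1 := by
  have : Fact (Nat.Prime 2) := ⟨Nat.prime_two⟩
  have hxC : x ∈ Subgroup.centralizer ({t} : Set G) := by
    rw [Subgroup.mem_centralizer_singleton_iff]
    exact (hxT t ht).eq
  have hTC : ∀ s ∈ T, s ∈ Subgroup.centralizer ({t} : Set G) := by
    intro s hs
    rw [Subgroup.mem_centralizer_singleton_iff]
    exact htT s hs
  have h1 := Cfsg.Agent.Helper54.eq_one_of_centralizes hC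
    (T.subgroupOf (Subgroup.centralizer ({t} : Set G))) (hT.comap_subtype)
    (⟨x, hxC⟩ : ↥(Subgroup.centralizer ({t} : Set G)))
    (by
      have := Subgroup.orderOf_coe (⟨x, hxC⟩ : ↥(Subgroup.centralizer ({t} : Set G)))
      rw [← this]; exact hx)
    (by
      intro s hs
      have hs' : (s : G) ∈ T := Subgroup.mem_subgroupOf.mp hs
      have := hxT _ hs'
      exact Subtype.ext this.eq)
    (by
      intro q hq hTq
      have := hxV (q : G) q.2 hq (by
        intro s hs
        have := hTq ⟨s, hTC s hs⟩ (Subgroup.mem_subgroupOf.mpr hs)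
        exact congrArg Subtype.val this.eq)
      exact Subtype.ext this.eq)
  exact congrArg Subtype.val h1

/-- Let G be a finite group such that F*(C_G(t)) = O_2(C_G(t)) for every involution t. Then F*(N_G(T)) = O_2(N_G(T)) for every nontrivial 2-subgroup T of G. -/
theorem result {G : Type*} [Group G] [Finite G] (h : ∀ t : G, orderOf t = 2 → Cfsg.generalizedFittingSubgroup ↥(Subgroup.centralizer ({t} : Set G)) = Cfsg.pCore 2 ↥(Subgroup.centralizer ({t} : Set G))) (T : Subgroup G) (hT : IsPGroup 2 ↥T) (hT1 : T ≠ ⊥) : Cfsg.generalizedFittingSubgroup ↥(Subgroup.normalizer (T : Set G)) = Cfsg.pCore 2 ↥(Subgroup.normalizer (T : Set G)) := by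
  have : Fact (Nat.Prime 2) := ⟨Nat.prime_two⟩
  obtain ⟨t, ht, hto, htT⟩ := Cfsg.Agent.S1336.exists_central_order_p hT hT1
  have hC := (Cfsg.Agent.Helper34.pPrimeCore_eq_bot_and_centralizer_le_of_isPGroup (p := 2)
    (Y := ↥(Subgroup.centralizer ({t} : Set G))) (by
      rw [h t hto]; exact Cfsg.Agent.Helper22.pCore_isPGroup 2 _)).2
  have hkey := key hC T hT ht htT
  -- notation
  obtain ⟨H, hH⟩ : ∃ H : Subgroup G, H = Subgroup.normalizer (T : Set G) := ⟨_, rfl⟩
  rw [← hH]
  have hTH : T ≤ H := by rw [hH]; exact Subgroup.le_normalizer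
  have hCTH : Subgroup.centralizer (T : Set G) ≤ H := by
    rw [hH]; exact Subgroup.centralizer_le_normalizer _
  have hCt : Subgroup.centralizer (T : Set G) ≤ Subgroup.centralizer ({t} : Set G) :=
    Subgroup.centralizer_le (by simpa using ht)
  -- `T` is a normal `2`-subgroup of `H`
  have hTn : (T.subgroupOf H).Normal := by
    rw [hH]; exact Subgroup.normal_in_normalizer
  have hTp : IsPGroup 2 ↥(T.subgroupOf H) := hT.comap_subtype
  have hTO : T.subgroupOf H ≤ pCore 2 ↥H := le_sSup ⟨hTn, hTp⟩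
  -- the subgroup `V = O_2(C) ∩ C_G(T)`
  obtain ⟨V, hV⟩ : ∃ V : Subgroup G,
      V = (pCore 2 ↥(Subgroup.centralizer ({t} : Set G))).map (Subgroup.subtype _) ⊓
        Subgroup.centralizer (T : Set G) := ⟨_, rfl⟩
  have hVp : IsPGroup 2 ↥V := by
    have h1 : IsPGroup 2 ↥((pCore 2 ↥(Subgroup.centralizer ({t} : Set G))).map
        (Subgroup.subtype _)) :=
      (Cfsg.Agent.Helper22.pCore_isPGroup 2 _).map _
    exact h1.to_le (by rw [hV]; exact inf_le_left)
  have hVC : V ≤ Subgroup.centralizer (T : Set G) := by rw [hV]; exact inf_le_right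
  have hVmem : ∀ v : G, ∀ hv : v ∈ Subgroup.centralizer ({t} : Set G),
      (⟨v, hv⟩ : ↥(Subgroup.centralizer ({t} : Set G))) ∈
        pCore 2 ↥(Subgroup.centralizer ({t} : Set G)) →
      (∀ s ∈ T, Commute s v) → v ∈ V := by
    intro v hv hvO hvT
    rw [hV]
    refine Subgroup.mem_inf.mpr ⟨⟨⟨v, hv⟩, hvO, rfl⟩, ?_⟩
    rw [Subgroup.mem_centralizer_iff]
    intro s hs
    exact (hvT s hs).eq
  -- `V` is normalized by `C_G(T)`
  have hVconj : ∀ c ∈ Subgroup.centralizer (T : Set G), ∀ v ∈ V, c * v * c⁻¹ ∈ V := by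
    intro c hc v hv
    rw [hV] at hv ⊢
    obtain ⟨hv1, hv2⟩ := Subgroup.mem_inf.mp hv
    obtain ⟨v', hv', rfl⟩ := hv1
    refine Subgroup.mem_inf.mpr ⟨?_, ?_⟩
    · refine ⟨⟨c, hCt hc⟩ * v' * ⟨c, hCt hc⟩⁻¹, ?_, rfl⟩
      exact (Cfsg.Agent.Helper34.pCore_normal' 2 _).conj_mem v' hv' _
    · exact Subgroup.mul_mem _ (Subgroup.mul_mem _ hc hv2) (Subgroup.inv_mem _ hc)
  -- `V` is a subnormal `2`-subgroup of `H`, so it lies in `O_2(H)`
  have hVO : V.subgroupOf H ≤ pCore 2 ↥H := by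
    apply Cfsg.Agent.Helper22.le_pCore_of_isSubnormal 2 _ hVp.comap_subtype
    have hKn : ((Subgroup.centralizer (T : Set G)).subgroupOf H).Normal := by
      rw [hH]; infer_instance
    refine Subgroup.IsSubnormal.step _ ((Subgroup.centralizer (T : Set G)).subgroupOf H) ?_
      hKn.isSubnormal ?_
    · intro z hz
      exact Subgroup.mem_subgroupOf.mpr (hVC (Subgroup.mem_subgroupOf.mp hz))
    · constructor
      intro n hn g
      have hn' : ((n : ↥H) : G) ∈ V := hn
      have hg' : ((g : ↥H) : G) ∈ Subgroup.centralizer (T : Set G) := g.2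
      exact hVconj _ hg' _ hn'
  -- `O_{2'}(H) = 1`
  have h1 : pPrimeCore 2 ↥H = ⊥ := by
    rw [eq_bot_iff]
    intro y hy
    have hcop := Cfsg.Agent.Helper22.card_pPrimeCore_coprime 2 ↥H
    have hyT : ∀ s ∈ T, Commute (y : G) s := by
      intro s hs
      have := Cfsg.Agent.Helper54.commute_of_normal_coprime
        (Cfsg.Agent.Helper49.pPrimeCore_normal' 2 ↥H) hTn hTp hcop hy
        (show (⟨s, hTH hs⟩ : ↥H) ∈ T.subgroupOf H from Subgroup.mem_subgroupOf.mpr hs)
      exact congrArg Subtype.val this.eq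
    have hyC : (y : G) ∈ Subgroup.centralizer (T : Set G) := by
      rw [Subgroup.mem_centralizer_iff]
      intro s hs
      exact (hyT s hs).eq.symm
    have hy1 : (y : G) = 1 := by
      apply hkey (y : G) _ hyT
      · intro v hv hvO hvT
        have hvV : v ∈ V := hVmem v hv hvO hvT
        have hvH : v ∈ H := hCTH (hVC hvV)
        have hc1 : y * ⟨v, hvH⟩ * y⁻¹ * (⟨v, hvH⟩ : ↥H)⁻¹ ∈ V.subgroupOf H := by
          rw [Subgroup.mem_subgroupOf]
          exact V.mul_mem (hVconj _ hyC v hvV) (V.inv_mem hvV)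
        have hc2 : y * ⟨v, hvH⟩ * y⁻¹ * (⟨v, hvH⟩ : ↥H)⁻¹ ∈ pPrimeCore 2 ↥H := by
          have h0 := (Cfsg.Agent.Helper49.pPrimeCore_normal' 2 ↥H).conj_mem _
            (Subgroup.inv_mem _ hy) (⟨v, hvH⟩ : ↥H)
          have h00 := Subgroup.mul_mem _ hy h0
          simpa [mul_assoc] using h00
        have hc3 := Cfsg.Agent.Helper54.eq_one_of_mem_pgroup_of_mem_coprime hVp.comap_subtype hcop
          hc1 hc2
        have hc4 : y * ⟨v, hvH⟩ * y⁻¹ = (⟨v, hvH⟩ : ↥H) := mul_inv_eq_one.mp hc3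
        have hc5 : y * ⟨v, hvH⟩ = ⟨v, hvH⟩ * y := by
          calc y * ⟨v, hvH⟩ = y * ⟨v, hvH⟩ * y⁻¹ * y := by group
            _ = ⟨v, hvH⟩ * y := by rw [hc4]
        exact congrArg Subtype.val hc5
      · rw [Subgroup.orderOf_coe]
        exact Nat.Coprime.coprime_dvd_left (Subgroup.orderOf_dvd_natCard _ hy) hcop
    exact Subgroup.mem_bot.mpr (Subtype.ext hy1)
  -- `C_H(O_2(H)) ≤ O_2(H)`
  have h2 : Subgroup.centralizer (pCore 2 ↥H : Set ↥H) ≤ pCore 2 ↥H := by
    have := Cfsg.Agent.Helper34.pCore_normal' 2 ↥H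
    refine le_sSup ⟨inferInstance, ?_⟩
    apply Cfsg.Agent.Helper49.isPGroup_of_coprime_order_trivial _
      (fun g _ => isOfFinOrder_of_finite g)
    intro y hy hyo
    rw [Subgroup.mem_centralizer_iff] at hy
    have hy1 : (y : G) = 1 := by
      apply hkey (y : G) _ _
      · intro v hv hvO hvT
        have hvV : v ∈ V := hVmem v hv hvO hvT
        have hvH : v ∈ H := hCTH (hVC hvV)
        have := hy ⟨v, hvH⟩ (hVO (Subgroup.mem_subgroupOf.mpr hvV))
        exact (congrArg Subtype.val this).symm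
      · rw [Subgroup.orderOf_coe]
        exact hyo
      · intro s hs
        have := hy ⟨s, hTH hs⟩ (hTO (Subgroup.mem_subgroupOf.mpr hs))
        exact (congrArg Subtype.val this).symm
    exact Subtype.ext hy1
  exact Cfsg.Agent.Helper34.generalizedFittingSubgroup_eq_pCore_of h1 h2

end Cfsg.Agent.S1292
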