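import Cfsg.Statements.S1293
import Cfsg.Agent.Helper54.PConstrained
import Cfsg.Agent.Helper34.PCons1

set_option autoImplicit false
open Cfsg

namespace Cfsg.Agent.S1293

open Cfsg.Agent.Helper34

/-- Let G be finite with L_{p'}(G) = 1, and H = N_G(P) for a nontrivial p-subgroup P. Then L_{p'}(H) = 1 and O_{p'}(H) ≤ O_{p'}(G). -/
theorem result {G : Type*} [Group G] [Finite G] (p : ℕ) [Fact p.Prime] (hL : Cfsg.pLayer p G = ⊥) (P : Subgroup G) (hP : IsPGroup p ↥P) (hP1 : P ≠ ⊥) : Cfsg.pLayer p ↥(Subgroup.normalizer (P : Set G)) = ⊥ ∧ (Cfsg.pPrimeCore p ↥(Subgroup.normalizer (P : Set G))).map (Subgroup.normalizer (P : Set G)).subtype ≤ Cfsg.pPrimeCore p G := by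
  have hcon : IsPConstrained p G := (isPConstrained_iff_pLayer_eq_bot p G).mpr hL
  constructor
  · apply (isPConstrained_iff_pLayer_eq_bot p _).mp
    exact Cfsg.Agent.Helper54.isPConstrained_local hcon P hP _
      (Subgroup.centralizer_le_normalizer _) le_rfl (Or.inl Subgroup.le_normalizer)
  · have hc := card_pPrimeCore_coprime p G
    have hQ := (pLayer_eq_bot_iff_centralizer_pCore_le p G).mp hL
    obtain ⟨hN, hC⟩ := Cfsg.Agent.S3800.result (pPrimeCore p G) hc P hP
    have hloc := Cfsg.Agent.Helper54.local_core_aux hQ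
      (P.map (QuotientGroup.mk' (pPrimeCore p G))) (hP.map _)
      ((Subgroup.normalizer (P : Set G)).map (QuotientGroup.mk' (pPrimeCore p G)))
      (by rw [hC]; exact Subgroup.map_mono (Subgroup.centralizer_le_normalizer _))
      (by rw [hN])
      (Or.inl (Subgroup.map_mono Subgroup.le_normalizer))
    have hsurj : Function.Surjective ((QuotientGroup.mk' (pPrimeCore p G)).subgroupMap
        (Subgroup.normalizer (P : Set G))) :=
      (QuotientGroup.mk' (pPrimeCore p G)).subgroupMap_surjective _
    have hle : (pPrimeCore p ↥(Subgroup.normalizer (P : Set G))).map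
        ((QuotientGroup.mk' (pPrimeCore p G)).subgroupMap (Subgroup.normalizer (P : Set G))) ≤
        pPrimeCore p ↥((Subgroup.normalizer (P : Set G)).map
          (QuotientGroup.mk' (pPrimeCore p G))) := by
      apply le_pPrimeCore ((pPrimeCore_normal p ↥(Subgroup.normalizer (P : Set G))).map _ hsurj)
      exact Nat.Coprime.coprime_dvd_left (Subgroup.card_map_dvd _ _)
        (card_pPrimeCore_coprime p ↥(Subgroup.normalizer (P : Set G)))
    rw [hloc.1, le_bot_iff, Subgroup.map_eq_bot_iff] at hle
    rintro _ ⟨w, hw, rfl⟩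
    have h1 : ((QuotientGroup.mk' (pPrimeCore p G)).subgroupMap
        (Subgroup.normalizer (P : Set G))) w = 1 := hle hw
    have h2 : QuotientGroup.mk' (pPrimeCore p G) (w : G) = 1 := congrArg Subtype.val h1
    exact (QuotientGroup.eq_one_iff _).mp h2

end Cfsg.Agent.S1293
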