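import Cfsg.Statements.S1340
import Cfsg.Agent.Helper39.GLComp

set_option autoImplicit false
open Cfsg

namespace Cfsg.Agent.S1340

/-- Let F be a finite field of odd order and n ≥ 3 with (n, |F|) ≠ (3, 3). Then GL(n, F) has a non-central involution t such that C(t) / O(C(t)) has a component. -/
theorem result {F : Type*} [Field F] [Fintype F] [DecidableEq F] (hF : Odd (Fintype.card F)) (n : ℕ) (hn : 3 ≤ n) (h33 : ¬ (n = 3 ∧ Fintype.card F = 3)) : ∃ t : Matrix.GeneralLinearGroup (Fin n) F, orderOf t = 2 ∧ t ∉ Subgroup.center (Matrix.GeneralLinearGroup (Fin n) F) ∧ Cfsg.HasComponent (↥(Subgroup.centralizer ({t} : Set (Matrix.GeneralLinearGroup (Fin n) F))) ⧸ Cfsg.oddCore ↥(Subgroup.centralizer ({t} : Set (Matrix.GeneralLinearGroup (Fin n) F)))) := by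
  classical
  have h2 : (2 : F) ≠ 0 := by
    have hc : ringChar F ≠ 2 := by
      intro h
      have h1 := FiniteField.even_card_iff_char_two.mp h
      have h3 := Nat.odd_iff.mp hF
      omega
    exact Ring.two_ne_zero hc
  obtain ⟨o, i, j, hi, hj, hij⟩ : ∃ o i j : Fin n, i ≠ o ∧ j ≠ o ∧ i ≠ j :=
    ⟨⟨0, by omega⟩, ⟨1, by omega⟩, ⟨2, by omega⟩, by simp [Fin.ext_iff], by simp [Fin.ext_iff],
      by simp [Fin.ext_iff]⟩
  have hκ : Cfsg.IsQuasisimple (Matrix.SpecialLinearGroup {i : Fin n // i ≠ o} F) := by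
    have hcard : Fintype.card {i : Fin n // i ≠ o} = n - 1 := by
      rw [Cfsg.Agent.Helper38.card_ne_o, Fintype.card_fin]
    by_cases h4 : 4 ≤ n
    · exact Cfsg.Agent.Helper38.isQuasisimple_SL38 (by rw [hcard]; omega)
    · have hn3 : n = 3 := by omega
      have hF3 : Fintype.card F ≠ 3 := fun h => h33 ⟨hn3, h⟩
      have hF1 : 1 < Fintype.card F := Fintype.one_lt_card
      have hFodd := Nat.odd_iff.mp hF
      exact Cfsg.Agent.Helper39.isQuasisimple_SL_of_card_two (by rw [hcard]; omega) (by omega)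
  exact ⟨Cfsg.Agent.Helper39.tGL o, Cfsg.Agent.Helper39.orderOf_tGL o h2 i hi,
    Cfsg.Agent.Helper39.tGL_not_mem_center o h2 i hi,
    Cfsg.Agent.Helper39.gl_hasComponent o h2 i j hi hj hij hκ⟩

end Cfsg.Agent.S1340
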