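import Cfsg.Statements.S1371
import Cfsg.Agent.Helper23.BG14U1
import Cfsg.Agent.Helper23.BG14ZhatConj

set_option autoImplicit false
open Cfsg

namespace Cfsg.Agent.S1371

/-- Let G be a minimal simple group of odd order, M a maximal subgroup with standard factorisation M = K U M_σ, K ≠ 1, K* = M_σ ∩ C_G(K), and Ẑ the set of elements of K K* outside K ∪ K*. Then the union of the M-conjugates of Ẑ equals A₀(M) with A(M) removed, and it is a TI-subset of G. -/
theorem result {G : Type*} [Group G] [Finite G] (hG : Cfsg.IsMinSimpleOddOrder G)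
    (M : Subgroup G) (hM : IsCoatom M) (K U : Subgroup G) (hKU : Cfsg.IsSigmaDecomposition M K U) (hK1 : K ≠ ⊥) :
    {a : G | ∃ m ∈ M, ∃ z ∈ ((↑(K ⊔ (Cfsg.sigmaCore M ⊓ Subgroup.centralizer (K : Set G))) : Set G) \ ((K : Set G) ∪ ↑(Cfsg.sigmaCore M ⊓ Subgroup.centralizer (K : Set G)))), a = m * z * m⁻¹} = Cfsg.sigmaA0 M K \ Cfsg.sigmaA M U ∧
      Cfsg.IsTISubset (Cfsg.sigmaA0 M K \ Cfsg.sigmaA M U) := by
  obtain ⟨h65, hcop, hprod, -, hcent, hu1⟩ := Cfsg.Agent.Helper23.bg14_pkg hG hM hKU hK1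
  have hKM : K ≤ M := hKU.hall.1
  have hM1 : M ≠ ⊥ := fun h => hK1 (le_bot_iff.mp (h ▸ hKM))
  have hNM : Subgroup.normalizer (M : Set G) ≤ M :=
    (Cfsg.Agent.Helper23.uq_normalizer_eq hG hM hM1 le_rfl Subgroup.le_normalizer).le
  exact Cfsg.Agent.Helper23.bg14_zhat_conj hM (Cfsg.Agent.Helper23.uq_isSolvable hG hM.1) hKM h65
    (Cfsg.Agent.Helper23.le_normalizer_piCoreOf (Cfsg.sigma M) M) inf_le_left inf_le_right hcop
    hprod hcent hNM hu1

end Cfsg.Agent.S1371
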