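import Cfsg.Statements.S1389
import Cfsg.Agent.Helper25.BG16HM
import Cfsg.Agent.Helper4.BG16HG
import Cfsg.Agent.Helper53.BG16SN
import Cfsg.Agent.Helper20.BG16KAP
import Cfsg.Agent.Helper61.BG16U0
import Cfsg.Agent.Helper54.BG14T2
import Cfsg.Agent.S1351
import Cfsg.Agent.S1352
import Cfsg.Agent.S1365

set_option autoImplicit false
open Cfsg

namespace Cfsg.Agent.S1389

/-- Let G be a minimal simple group of odd order and M a maximal subgroup, and let M_s be M' if M is of Type III or IV and M_F otherwise. Then N_G(P) ≤ M for every nontrivial Sylow subgroup P of M_s, and both M_F and M_s have order coprime to their index in G. -/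
theorem result {G : Type*} [Group G] [Finite G] (hG : Cfsg.IsMinSimpleOddOrder G)
    (M : Subgroup G) (hM : IsCoatom M) :
    (∀ (p : ℕ), p.Prime → ∀ (P : Sylow p ↥(Cfsg.typeCore M)), (P : Subgroup ↥(Cfsg.typeCore M)) ≠ ⊥ →
        Subgroup.normalizer ((((P : Subgroup ↥(Cfsg.typeCore M)).map (Cfsg.typeCore M).subtype : Subgroup G)) : Set G) ≤ M) ∧
      (Nat.card (Cfsg.fittingHallOf M)).Coprime (Cfsg.fittingHallOf M).index ∧
      (Nat.card (Cfsg.typeCore M)).Coprime (Cfsg.typeCore M).index := by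
  classical
  obtain ⟨hσH, hFH⟩ := Cfsg.Agent.Helper25.bg16_hall_facts hG M hM
  have hFσ : Cfsg.fittingHallOf M ≤ Cfsg.sigmaCore M :=
    Cfsg.Agent.Helper54.bg14t_fittingHall_le hG hM
  have hb := Cfsg.Agent.Helper4.bg16_hall_in_G hG M hM (Cfsg.fittingHallOf M) hFσ hFH
  have key : Cfsg.typeCore M ≤ Cfsg.sigmaCore M ∧
      (Nat.card (Cfsg.typeCore M)).Coprime ((Cfsg.typeCore M).relIndex M) := by
    by_cases h : Cfsg.IsOfTypeIII M ∨ Cfsg.IsOfTypeIV M
    · have hT : Cfsg.typeCore M = ⁅M, M⁆ := by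
        unfold Cfsg.typeCore
        exact if_pos h
      have hcomm : ⁅M, M⁆ = Cfsg.sigmaCore M := by
        obtain ⟨W₁, U, W₂, hP, hW₁p, hN⟩ : ∃ W₁ U W₂ : Subgroup G,
            Cfsg.IsTypePWith M W₁ U W₂ ∧ (Nat.card W₁).Prime ∧
              Subgroup.normalizer (U : Set G) ≤ M := by
          rcases h with ⟨W₁, U, W₂, h1, -, h3, -, -, h6⟩ | ⟨W₁, U, W₂, h1, -, h3, -, -, h6⟩
          · exact ⟨W₁, U, W₂, h1, h3, h6⟩
          · exact ⟨W₁, U, W₂, h1, h3, h6⟩
        have hκ := Cfsg.Agent.Helper20.bg16_mem_kappa hG M hM W₁ U W₂ hP hW₁p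
        obtain ⟨⟨K, hK⟩, hcyc⟩ := Cfsg.Agent.S1351.result hG M hM
        have hKc := hcyc K hK
        have hK1 : K ≠ ⊥ := by
          intro hbot
          have h1 : ¬ Nat.card W₁ ∣ K.relIndex M := hK.2.2 _ hκ.1 hκ
          rw [hbot, Subgroup.relIndex_bot_left] at h1
          exact h1 hκ.2.1
        obtain ⟨⟨U₀, hKU⟩, -⟩ := Cfsg.Agent.S1352.result hG M hM K hKc hK
        have hU0 := Cfsg.Agent.Helper61.bg16_U_eq_bot hG M hM K U₀ hKU hK1 U hP.U_compl hN
        have h65 := (Cfsg.Agent.S1365.result hG M hM K U₀ hKU hK1).1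
        rw [h65, hU0, bot_sup_eq]
      rw [hT, hcomm]
      exact ⟨le_rfl, hσH⟩
    · have hT : Cfsg.typeCore M = Cfsg.fittingHallOf M := by
        unfold Cfsg.typeCore
        exact if_neg h
      rw [hT]
      exact ⟨hFσ, hFH⟩
  refine ⟨?_, hb, Cfsg.Agent.Helper4.bg16_hall_in_G hG M hM _ key.1 key.2⟩
  intro p hp P hP
  exact Cfsg.Agent.Helper53.bg16_sylow_norm hG M hM _ key.1 key.2 p hp P hP

end Cfsg.Agent.S1389
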