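import Cfsg.Statements.S1397
import Cfsg.Agent.Helper23.Fit81e

set_option autoImplicit false
open Cfsg

namespace Cfsg.Agent.S1397

/-- Let G be a minimal simple group of odd order, M a maximal subgroup, p a prime and A₀ an elementary abelian p-subgroup of F(M) of order at least p ^ 3 that is maximal among elementary abelian p-subgroups of F(M). (a) If F(M) is not a p-group, then F(M) ∩ C_G(A₀) lies in exactly one maximal subgroup of G. (b) If F(M) is a p-group and P is a Sylow p-subgroup of M, then p does not divide the index of P in G, and every normal self-centralizing subgroup A of P containing an elementary abelian subgroup of order p ^ 3 is contained in F(M) and lies in exactly one maximal subgroup of G. -/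
theorem result {G : Type*} [Group G] [Finite G] (hG : Cfsg.IsMinSimpleOddOrder G)
    (M : Subgroup G) (hM : IsCoatom M) (p : ℕ) [Fact p.Prime] (A₀ : Subgroup G)
    (hA₀ : A₀ ≤ Cfsg.fittingOf M) (hA₀e : Cfsg.IsElementaryAbelian p A₀) (hA₀3 : p ^ 3 ≤ Nat.card A₀)
    (hA₀max : ∀ B : Subgroup G, B ≤ Cfsg.fittingOf M → Cfsg.IsElementaryAbelian p B → A₀ ≤ B → B = A₀) :
    (¬ IsPGroup p ↥(Cfsg.fittingOf M) → Cfsg.InUniqueMaximal (Cfsg.fittingOf M ⊓ Subgroup.centralizer (A₀ : Set G))) ∧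
      (IsPGroup p ↥(Cfsg.fittingOf M) → ∀ P : Sylow p M,
        ¬ p ∣ ((P : Subgroup M).map M.subtype).index ∧
        ∀ A : Subgroup G, Cfsg.IsSCN ((P : Subgroup M).map M.subtype) A → ¬ Cfsg.PRankLE p 2 ↥A →
          A ≤ Cfsg.fittingOf M ∧ Cfsg.InUniqueMaximal A) := by
  classical
  have hpp : p.Prime := Fact.out
  refine ⟨fun hFnp => ?_, fun hF P => ?_⟩
  · have h : Cfsg.Agent.Helper23.F81 M A₀ p := ⟨hG, hM, hA₀, hA₀e.1, hA₀e.2, hA₀3, hFnp⟩
    exact ⟨M, ⟨hM, Cfsg.Agent.Helper23.f81A_le_M M A₀⟩, fun H hH => h.unique H hH.1 hH.2⟩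
  · have hPS := Cfsg.Agent.Helper23.isSylowOf_map P
    have hA₀1 : A₀ ≠ ⊥ := by
      intro e
      have h1 := hA₀3
      rw [e, Subgroup.card_bot] at h1
      have := Nat.one_lt_pow (n := 3) (by norm_num) hpp.one_lt
      omega
    have hFP : Cfsg.fittingOf M ≤ (P : Subgroup M).map M.subtype :=
      Cfsg.Agent.Helper23.f81_le_of_isSylowOf hPS (Cfsg.Agent.Helper23.f81_fittingOf_le M) hF
        (Cfsg.Agent.Helper23.f81_le_normalizer_fittingOf M)
    have hP1 : (P : Subgroup M).map M.subtype ≠ ⊥ :=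
      fun e => hA₀1 (le_bot_iff.mp (e ▸ hA₀.trans hFP))
    have hcore := Cfsg.Agent.Helper23.f81_coreIn_eq_bot
      (Cfsg.Agent.Helper23.uq_isSolvable hG hM.1) hF
    have hNP := Cfsg.Agent.Helper23.f81_normalizer_le hG hM hcore hPS hP1
    have hST : Cfsg.Agent.Helper23.IsSylowOf p ((P : Subgroup M).map M.subtype) ⊤ :=
      hPS.of_normalizer_inf_le le_top (inf_le_left.trans hNP)
    refine ⟨?_, fun A hSCN hA3 => ?_⟩
    · obtain ⟨Q, hQ⟩ := hST.exists_sylow_top
      rw [← hQ]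
      exact Q.not_dvd_index
    · obtain ⟨hAF, huniq⟩ := Cfsg.Agent.Helper23.f81_part_b hG hM hF hPS hSCN hA3
      exact ⟨hAF, M, ⟨hM, hAF.trans (Cfsg.Agent.Helper23.f81_fittingOf_le M)⟩,
        fun H hH => huniq H hH.1 hH.2⟩

end Cfsg.Agent.S1397
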