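import Mathlib
import Cfsg.Statements.S1413
import Cfsg.Agent.S1410
import Cfsg.Agent.Helper52.BG107

set_option autoImplicit false

open Cfsg

namespace Cfsg.Agent.S1413

theorem result {G : Type*} [Group G] [Finite G] (hG : Cfsg.IsMinSimpleOddOrder G) (p : ℕ) [Fact p.Prime] (P : Sylow p G) :
    (∀ (Q : Subgroup G) (x : G), Q ≤ (P : Subgroup G) → Q.map (MulAut.conj x).toMonoidHom ≤ (P : Subgroup G) →
        ∃ y ∈ Subgroup.normalizer ((P : Subgroup G) : Set G), Q.map (MulAut.conj x).toMonoidHom = Q.map (MulAut.conj y).toMonoidHom) ∧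
      (∀ Q : Subgroup G, Q ≤ (P : Subgroup G) →
        ¬ p ∣ ((P : Subgroup G) ⊓ Subgroup.normalizer (Q : Set G)).relIndex (Subgroup.normalizer (Q : Set G))) ∧
      (∀ (R Q : Subgroup G), IsPGroup p R → Q ≤ (P : Subgroup G) ⊓ R →
        Subgroup.normalizer ((P : Subgroup G) : Set G) ≤ Subgroup.normalizer (Q : Set G) →
        Subgroup.normalizer (R : Set G) ≤ Subgroup.normalizer (Q : Set G)) := by
  have hpl : ∀ H : Subgroup G, H ≠ ⊤ → PLengthLE p 1 H :=
    fun H hH => Cfsg.Agent.S1410.result hG p H hH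
  exact ⟨fun Q x hQ hQx => Cfsg.Agent.Helper52.BG107.bg107_c hG hpl P Q x hQ hQx,
    fun Q hQ => Cfsg.Agent.Helper52.BG107.bg107_d hG hpl P Q hQ,
    fun R Q hR hQ hN => Cfsg.Agent.Helper52.BG107.bg107_e hG hpl P R Q hR hQ hN⟩

end Cfsg.Agent.S1413
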