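import Mathlib
import Cfsg.Statements.S1456
import Cfsg.Agent.Helper23.Rank2Fit
import Cfsg.Agent.Helper62.Narrow
import Cfsg.Agent.S1454

set_option autoImplicit false
open Cfsg

namespace Cfsg.Agent.S1456

open Subgroup
open scoped commutatorElement

/-- Generalization of `Cfsg.Agent.Helper23.commutator_le_fittingSubgroup_of_rank2` (same proof):
if for every prime `q` every `q'`-subgroup of `G'` centralizes `O_q(G)` then `G' ≤ F(G)`. -/
theorem commutator_le_fitting_of_cent {G : Type*} [Group G] [Finite G] [Group.IsSolvable G]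
    (hcent : ∀ (q : ℕ) [Fact q.Prime] (X : Subgroup G), X ≤ commutator G →
      (Nat.card X).Coprime q → X ≤ centralizer (pCore q G : Set G)) :
    commutator G ≤ fittingSubgroup G := by
  have hFeq : fittingSubgroup G = ⨆ p : Nat.Primes, pCore (p : ℕ) G :=
    Cfsg.Agent.Helper22.fittingSubgroup_eq_iSup_pCore G
  have key : ∀ (q : ℕ) [Fact q.Prime], commutator G ⊓
      (⨅ (r : Nat.Primes) (_ : (r : ℕ) ≠ q), centralizer (pCore (r : ℕ) G : Set G)) ≤
        fittingSubgroup G := by
    intro q _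
    have hq : q.Prime := Fact.out
    set C : Subgroup G := ⨅ (r : Nat.Primes) (_ : (r : ℕ) ≠ q),
      centralizer (pCore (r : ℕ) G : Set G) with hC
    set X : Subgroup G := commutator G ⊓ C with hX
    have hCn : C.Normal :=
      Subgroup.normal_iInf_normal (fun r => Subgroup.normal_iInf_normal (fun _ => inferInstance))
    have hXn : X.Normal := inferInstance
    have hXnil : Group.IsNilpotent ↥X := by
      apply Group.of_quotient_center_nilpotent
      have hcard : ∀ t : ℕ, t.Prime → t ∣ Nat.card (↥X ⧸ center ↥X) → t = q := by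
        intro t ht hdvd
        by_contra hne
        have : Fact t.Prime := ⟨ht⟩
        let T : Sylow t ↥X := default
        have hT₀p : IsPGroup t ((T : Subgroup ↥X).map X.subtype) := T.2.map _
        have hT₀X : (T : Subgroup ↥X).map X.subtype ≤ X := Subgroup.map_subtype_le _
        have hT₀cop : (Nat.card ((T : Subgroup ↥X).map X.subtype)).Coprime q := by
          obtain ⟨n, hn⟩ := IsPGroup.iff_card.mp hT₀p
          rw [hn]
          exact ((Nat.coprime_primes ht hq).mpr hne).pow_left n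
        have h1 : (T : Subgroup ↥X).map X.subtype ≤ centralizer (pCore q G : Set G) :=
          hcent q _ (hT₀X.trans inf_le_left) hT₀cop
        have h2 : ∀ r : Nat.Primes,
            (T : Subgroup ↥X).map X.subtype ≤ centralizer (pCore (r : ℕ) G : Set G) := by
          intro r
          by_cases hrq : (r : ℕ) = q
          · rw [hrq]; exact h1
          · exact (hT₀X.trans inf_le_right).trans (iInf₂_le r hrq)
        have h3 : (T : Subgroup ↥X).map X.subtype ≤ centralizer (fittingSubgroup G : Set G) := by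
          rw [Subgroup.le_centralizer_iff, hFeq]
          exact iSup_le (fun r => Subgroup.le_centralizer_iff.mp (h2 r))
        have h4 : (T : Subgroup ↥X).map X.subtype ≤ fittingSubgroup G :=
          h3.trans Cfsg.Agent.Helper22.centralizer_fittingSubgroup_le_of_isSolvable
        have h5 : (T : Subgroup ↥X).map X.subtype ≤ pCore t G :=
          Cfsg.Agent.Helper23.le_pCore_of_le_fittingSubgroup t h4 hT₀p
        have h6 : X ≤ centralizer (pCore t G : Set G) :=
          inf_le_right.trans (iInf₂_le (⟨t, ht⟩ : Nat.Primes) hne)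
        have h7 : (T : Subgroup ↥X) ≤ center ↥X := by
          intro z hz
          rw [Subgroup.mem_center_iff]
          intro g
          have hz' : (z : G) ∈ pCore t G := h5 ⟨z, hz, rfl⟩
          have := Subgroup.mem_centralizer_iff.mp (h6 g.2) (z : G) hz'
          exact Subtype.ext this.symm
        have h8 : ¬ t ∣ (center ↥X).index := fun hd =>
          T.not_dvd_index (hd.trans (Subgroup.index_dvd_of_le h7))
        exact h8 (by rwa [Subgroup.index_eq_card])
      have hpow := Nat.eq_prime_pow_of_unique_prime_dvd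
        (Nat.card_pos (α := ↥X ⧸ center ↥X)).ne' (fun {d} hd hdvd => hcard d hd hdvd)
      exact (IsPGroup.of_card hpow).isNilpotent
    exact le_sSup ⟨hXn, hXnil⟩
  have htop : (fittingSubgroup G).subgroupOf (commutator G) = ⊤ := by
    apply Cfsg.Agent.Helper22.eq_top_of_forall_sylow_le
    intro q _ Q z hz
    have hq : q.Prime := Fact.out
    rw [Subgroup.mem_subgroupOf]
    have hQ₀p : IsPGroup q ((Q : Subgroup ↥(commutator G)).map (commutator G).subtype) :=
      Q.2.map _
    have hQ₀K : (Q : Subgroup ↥(commutator G)).map (commutator G).subtype ≤ commutator G :=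
      Subgroup.map_subtype_le _
    have h1 : (Q : Subgroup ↥(commutator G)).map (commutator G).subtype ≤
        ⨅ (r : Nat.Primes) (_ : (r : ℕ) ≠ q), centralizer (pCore (r : ℕ) G : Set G) := by
      refine le_iInf₂ (fun r hrq => ?_)
      have : Fact (r : ℕ).Prime := ⟨r.2⟩
      have hcop : (Nat.card ((Q : Subgroup ↥(commutator G)).map
          (commutator G).subtype)).Coprime r := by
        obtain ⟨n, hn⟩ := IsPGroup.iff_card.mp hQ₀p
        rw [hn]
        exact ((Nat.coprime_primes hq r.2).mpr (Ne.symm hrq)).pow_left n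
      exact hcent r _ hQ₀K hcop
    exact key q (Subgroup.mem_inf.mpr ⟨hQ₀K ⟨z, hz, rfl⟩, h1 ⟨z, hz, rfl⟩⟩)
  exact Subgroup.subgroupOf_eq_top.mp htop

/-- The join of an elementary abelian subgroup with a commuting element of order dividing `p`. -/
theorem elemAb_sup_zpowers {G : Type*} [Group G] (p : ℕ) (B : Subgroup G) (y : G)
    (hB : ∀ a ∈ B, ∀ b ∈ B, a * b = b * a) (hBp : ∀ b ∈ B, b ^ p = 1)
    (hy : ∀ b ∈ B, b * y = y * b) (hyp : y ^ p = 1) :
    (∀ a ∈ B ⊔ zpowers y, ∀ b ∈ B ⊔ zpowers y, a * b = b * a) ∧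
      ∀ b ∈ B ⊔ zpowers y, b ^ p = 1 := by
  have hc : ∀ a ∈ B, ∀ c ∈ zpowers y, a * c = c * a := by
    intro a ha c hc
    obtain ⟨k, rfl⟩ := Subgroup.mem_zpowers_iff.mp hc
    exact ((show Commute a y from hy a ha).zpow_right k).eq
  have hzz : ∀ c ∈ zpowers y, ∀ d ∈ zpowers y, c * d = d * c := by
    intro c hc d hd
    obtain ⟨k, rfl⟩ := Subgroup.mem_zpowers_iff.mp hc
    obtain ⟨l, rfl⟩ := Subgroup.mem_zpowers_iff.mp hd
    exact (((Commute.refl y).zpow_right l).zpow_left k).eq
  have hzp : ∀ c ∈ zpowers y, c ^ p = 1 := by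
    intro c hc
    obtain ⟨k, rfl⟩ := Subgroup.mem_zpowers_iff.mp hc
    rw [← zpow_natCast, ← zpow_mul, mul_comm, zpow_mul, zpow_natCast, hyp, one_zpow]
  constructor
  · intro a ha b hb
    obtain ⟨a₁, ha₁, a₂, ha₂, rfl⟩ := Cfsg.Agent.S1454.exists_mul_of_mem_sup B (zpowers y) hc ha
    obtain ⟨b₁, hb₁, b₂, hb₂, rfl⟩ := Cfsg.Agent.S1454.exists_mul_of_mem_sup B (zpowers y) hc hb
    have h1 : Commute a₁ b₁ := hB a₁ ha₁ b₁ hb₁
    have h2 : Commute a₁ b₂ := hc a₁ ha₁ b₂ hb₂
    have h3 : Commute a₂ b₁ := (hc b₁ hb₁ a₂ ha₂).symm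
    have h4 : Commute a₂ b₂ := hzz a₂ ha₂ b₂ hb₂
    exact ((h1.mul_right h2).mul_left (h3.mul_right h4)).eq
  · intro b hb
    obtain ⟨b₁, hb₁, b₂, hb₂, rfl⟩ := Cfsg.Agent.S1454.exists_mul_of_mem_sup B (zpowers y) hc hb
    rw [(show Commute b₁ b₂ from hc b₁ hb₁ b₂ hb₂).mul_pow, hBp b₁ hb₁, hzp b₂ hb₂, one_mul]

/-- If `E ≤ P` is elementary abelian, `C_P(E)` has rank at most two and `P` has rank at least
three, then `P` carries the data of a narrow group: `x ∈ E'`, `E'` elementary abelian of order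
`p ^ 2` containing all elements of order dividing `p` of `C_P(x)`. -/
theorem exists_narrow_data {G : Type*} [Group G] [Finite G] (p : ℕ) [Fact p.Prime]
    (P E : Subgroup G) (hP : IsPGroup p P) (hEP : E ≤ P)
    (hEc : ∀ a ∈ E, ∀ b ∈ E, a * b = b * a) (hEp : ∀ a ∈ E, a ^ p = 1)
    (hrank : ∀ B : Subgroup G, B ≤ P → (∀ b ∈ B, ∀ e ∈ E, b * e = e * b) →
      (∀ a ∈ B, ∀ b ∈ B, a * b = b * a) → (∀ b ∈ B, b ^ p = 1) → Nat.card B ≤ p ^ 2)
    (hr : ¬ PRankLE p 2 ↥P) :
    ∃ (x : G) (E' : Subgroup G), E' ≤ P ∧ x ∈ E' ∧ Nat.card E' = p ^ 2 ∧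
      (∀ e ∈ E', e ^ p = 1) ∧ ∀ y ∈ P, y ^ p = 1 → y * x = x * y → y ∈ E' := by
  classical
  have hpp : p.Prime := Fact.out
  obtain ⟨x, hxE, g, hgP, hxg⟩ : ∃ x ∈ E, ∃ g ∈ P, x * g ≠ g * x := by
    by_contra hcon
    push Not at hcon
    apply hr
    intro B hBc hBp
    have hinj : Function.Injective P.subtype := Subgroup.subtype_injective P
    have h := hrank (B.map P.subtype) (Subgroup.map_subtype_le B) ?_ ?_ ?_
    · rwa [Subgroup.card_map_of_injective hinj] at h
    · rintro _ ⟨b, hb, rfl⟩ e he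
      exact (hcon e he b.1 b.2).symm
    · rintro _ ⟨a, ha, rfl⟩ _ ⟨b, hb, rfl⟩
      have h1 := mul_comm' (⟨a, ha⟩ : ↥B) ⟨b, hb⟩
      have h2 : a * b = b * a := congrArg Subtype.val h1
      rw [← map_mul, ← map_mul, h2]
    · rintro _ ⟨b, hb, rfl⟩
      rw [← map_pow, hBp b hb, map_one]
  have hxP : x ∈ P := hEP hxE
  have : Nontrivial ↥P := ⟨⟨⟨x, hxP⟩, ⟨g, hgP⟩, fun h => hxg (by
      have : x = g := congrArg Subtype.val h
      rw [this])⟩⟩
  have : Nontrivial ↥(Subgroup.center ↥P) := hP.center_nontrivial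
  obtain ⟨z', hz'⟩ := exists_prime_orderOf_dvd_card' (G := ↥(Subgroup.center ↥P)) p (by
    obtain ⟨n, hn⟩ := IsPGroup.iff_card.mp (hP.to_subgroup (Subgroup.center ↥P))
    rw [hn]
    have hn0 : n ≠ 0 := by
      rintro rfl
      rw [pow_zero] at hn
      have := Finite.one_lt_card (α := ↥(Subgroup.center ↥P))
      omega
    exact dvd_pow_self p hn0)
  obtain ⟨z, hzdef⟩ : ∃ z : G, z = ((z' : ↥P) : G) := ⟨_, rfl⟩
  have hzP : z ∈ P := by rw [hzdef]; exact (z' : ↥P).2
  have hzc : ∀ g ∈ P, g * z = z * g := by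
    intro g hg
    have := Subgroup.mem_center_iff.mp z'.2 ⟨g, hg⟩
    rw [hzdef]
    exact congrArg Subtype.val this
  have hzo : orderOf z = p := by
    rw [hzdef, Subgroup.orderOf_coe, Subgroup.orderOf_coe]; exact hz'
  have hzp : z ^ p = 1 := by rw [← hzo]; exact pow_orderOf_eq_one z
  obtain ⟨hE'c, hE'p⟩ := elemAb_sup_zpowers p E z hEc hEp (fun b hb => hzc b (hEP hb)) hzp
  have hE'P : E ⊔ zpowers z ≤ P := sup_le hEP ((Subgroup.zpowers_le).mpr hzP)
  have hxE' : x ∈ E ⊔ zpowers z := Subgroup.mem_sup_left hxE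
  have hzE' : z ∈ E ⊔ zpowers z := Subgroup.mem_sup_right (Subgroup.mem_zpowers z)
  have hE'card : Nat.card ↥(E ⊔ zpowers z) ≤ p ^ 2 :=
    hrank _ hE'P (fun b hb e he => hE'c b hb e (Subgroup.mem_sup_left he)) hE'c hE'p
  have hxz : x ∉ zpowers z := by
    intro h
    obtain ⟨k, rfl⟩ := Subgroup.mem_zpowers_iff.mp h
    exact hxg (((show Commute g z from hzc g hgP).zpow_right k).eq).symm
  have hzcard : Nat.card (zpowers z) = p := by rw [Nat.card_zpowers, hzo]
  have key : ∀ D : Subgroup G, D ≤ E ⊔ zpowers z → z ∈ D → x ∈ D → Nat.card D = p ^ 2 := by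
    intro D hDE hzD hxD
    have hDp : IsPGroup p D := hP.to_le (hDE.trans hE'P)
    obtain ⟨m, hm⟩ := IsPGroup.iff_card.mp hDp
    have hzD' : zpowers z ≤ D := (Subgroup.zpowers_le).mpr hzD
    have hm2 : m ≤ 2 := by
      have h1 := (Subgroup.card_le_of_le hDE).trans hE'card
      rw [hm] at h1
      exact (Nat.pow_le_pow_iff_right hpp.one_lt).mp h1
    have hm0 : m ≠ 0 := by
      rintro rfl
      have := Subgroup.card_le_of_le hzD'
      rw [hzcard, hm, pow_zero] at this
      exact absurd this (by have := hpp.one_lt; omega)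
    have hm1 : m ≠ 1 := by
      rintro rfl
      have : zpowers z = D := Subgroup.eq_of_le_of_card_ge hzD' (by rw [hzcard, hm, pow_one])
      exact hxz (this ▸ hxD)
    have hm' : m = 2 := by omega
    rw [hm, hm']
  have hE'2 : Nat.card ↥(E ⊔ zpowers z) = p ^ 2 := key _ le_rfl hzE' hxE'
  refine ⟨x, E ⊔ zpowers z, hE'P, hxE', hE'2, hE'p, ?_⟩
  intro y hyP hyp hyx
  have hD : (E ⊔ zpowers z) ⊓ centralizer {y} = E ⊔ zpowers z := by
    have h1 : Nat.card ↥((E ⊔ zpowers z) ⊓ centralizer {y}) = p ^ 2 := key _ inf_le_left ?_ ?_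
    · exact Subgroup.eq_of_le_of_card_ge inf_le_left (by rw [h1, hE'2])
    · refine Subgroup.mem_inf.mpr ⟨hzE', ?_⟩
      rw [Subgroup.mem_centralizer_iff]
      rintro _ rfl
      exact hzc _ hyP
    · refine Subgroup.mem_inf.mpr ⟨hxE', ?_⟩
      rw [Subgroup.mem_centralizer_iff]
      rintro _ rfl
      exact hyx
  have hyE' : ∀ b ∈ E ⊔ zpowers z, b * y = y * b := by
    intro b hb
    rw [← hD] at hb
    exact (Subgroup.mem_centralizer_iff.mp (Subgroup.mem_inf.mp hb).2 y rfl).symm
  obtain ⟨hTc, hTp⟩ := elemAb_sup_zpowers p (E ⊔ zpowers z) y hE'c hE'p hyE' hyp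
  have hTP : E ⊔ zpowers z ⊔ zpowers y ≤ P := sup_le hE'P ((Subgroup.zpowers_le).mpr hyP)
  have hTcard : Nat.card ↥(E ⊔ zpowers z ⊔ zpowers y) ≤ p ^ 2 :=
    hrank _ hTP
      (fun b hb e he => hTc b hb e (Subgroup.mem_sup_left (Subgroup.mem_sup_left he))) hTc hTp
  have hT : E ⊔ zpowers z = E ⊔ zpowers z ⊔ zpowers y :=
    Subgroup.eq_of_le_of_card_ge le_sup_left (by rw [hE'2]; exact hTcard)
  rw [hT]
  exact Subgroup.mem_sup_right (Subgroup.mem_zpowers y)

/-- Let G be a solvable group of odd order, p a prime, and E an elementary abelian p-subgroup of the Fitting subgroup F(G) such that F(G) ∩ C_G(E) has no elementary abelian subgroup of order q ^ 3 for any prime q. Then the derived subgroup of G is contained in F(G). -/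
theorem result {G : Type*} [Group G] [Finite G] [Group.IsSolvable G] (hodd : Odd (Nat.card G)) (p : ℕ) [Fact p.Prime] (E : Subgroup G) (hE : E ≤ Cfsg.fittingSubgroup G) (hEe : Cfsg.IsElementaryAbelian p E)
    (hr : Cfsg.RankLE 2 ↥(Cfsg.fittingSubgroup G ⊓ Subgroup.centralizer (E : Set G))) :
    commutator G ≤ Cfsg.fittingSubgroup G := by
  classical
  apply commutator_le_fitting_of_cent
  intro q _ X hX hcop
  have hcoreF : pCore q G ≤ fittingSubgroup G :=
    le_sSup ⟨inferInstance, (Cfsg.Agent.Helper24.isPGroup_pCore q G).isNilpotent⟩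
  by_cases hr2 : PRankLE q 2 ↥(pCore q G)
  · exact Cfsg.Agent.Helper23.le_centralizer_pCore_of_le_commutator hodd q hr2 hX hcop
  · have hEpg : IsPGroup p E := fun g => ⟨1, by
      rw [pow_one]; exact Subtype.ext (by simpa using hEe.2 g.1 g.2)⟩
    have hEP : E ≤ pCore p G := Cfsg.Agent.Helper23.le_pCore_of_le_fittingSubgroup p hE hEpg
    have hqp : q = p := by
      by_contra hne
      apply hr2
      have h1 : pCore q G ≤ fittingSubgroup G ⊓ centralizer (E : Set G) :=
        le_inf hcoreF ((Cfsg.Agent.Helper23.pCore_le_centralizer_pCore hne).trans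
          (Subgroup.centralizer_le hEP))
      exact Cfsg.Agent.Helper23.pRankLE_of_le h1 (hr q Fact.out)
    subst hqp
    have hPp : IsPGroup q (pCore q G) := Cfsg.Agent.Helper24.isPGroup_pCore q G
    have hq2 : q ≠ 2 := by
      rintro rfl
      apply hr2
      have hbot := Cfsg.Agent.Helper23.eq_bot_of_isPGroup_two_of_odd hodd hPp
      have hss : Subsingleton ↥(pCore 2 G) := by rw [hbot]; infer_instance
      intro B _ _
      exact (Finite.card_le_one_iff_subsingleton.mpr inferInstance).trans (by norm_num)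
    have hrankC := hr q Fact.out
    have := hEe.1
    obtain ⟨x, E', hE'P, hxE', hE'2, hE'p, hmax⟩ := exists_narrow_data q (pCore q G) E hPp hEP
      (fun a ha b hb => congrArg Subtype.val (mul_comm' (⟨a, ha⟩ : ↥E) ⟨b, hb⟩))
      hEe.2
      (fun B hBP hBE hBc hBp => Cfsg.Agent.Helper23.pRank_internal hrankC B
        (le_inf (hBP.trans hcoreF) (fun b hb => Subgroup.mem_centralizer_iff.mpr
          (fun e he => (hBE b hb e he).symm))) hBc hBp)
      hr2
    have hA : (⊤ : Subgroup G) ≤ normalizer ((pCore q G : Subgroup G) : Set G) := by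
      rw [Subgroup.normalizer_eq_top_iff.mpr inferInstance]
    obtain ⟨h1, -⟩ := Cfsg.Agent.Helper62.Narrow.narrow_core_data q hq2 (pCore q G) ⊤ hPp x E'
      hE'P hxE' hE'2 hE'p hmax hr2 hA
    exact h1 X (by rw [← commutator_def]; exact hX) hcop

end Cfsg.Agent.S1456
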