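import Cfsg.Statements.S1458
import Cfsg.Agent.Helper2.ZJe
import Cfsg.Agent.Helper32.HallHigman
import Cfsg.Agent.Helper63.PSolv
import Cfsg.Agent.Helper1.PPrimeCore
import Cfsg.Agent.Helper11.SL2Facts

set_option autoImplicit false
open Cfsg

namespace Cfsg.Agent.S1458

/-- The centre of a subgroup `J` is transported by homomorphisms injective on `J`. -/
theorem center_map_injOn {G G' : Type*} [Group G] [Group G'] (f : G →* G') (J : Subgroup G)
    (hf : Set.InjOn f (J : Set G)) :
    (J ⊓ Subgroup.centralizer (J : Set G)).map f =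
      J.map f ⊓ Subgroup.centralizer ((J.map f : Subgroup G') : Set G') := by
  ext y
  constructor
  · rintro ⟨z, hz, rfl⟩
    rw [SetLike.mem_coe, Subgroup.mem_inf] at hz
    refine Subgroup.mem_inf.mpr ⟨Subgroup.mem_map_of_mem f hz.1, ?_⟩
    rw [Subgroup.mem_centralizer_iff]
    rintro _ ⟨j, hj, rfl⟩
    rw [← map_mul, ← map_mul, Subgroup.mem_centralizer_iff.mp hz.2 j hj]
  · intro hy
    rw [Subgroup.mem_inf] at hy
    obtain ⟨⟨z, hzJ, rfl⟩, hc⟩ := hy
    refine ⟨z, Subgroup.mem_inf.mpr ⟨hzJ, ?_⟩, rfl⟩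
    rw [Subgroup.mem_centralizer_iff]
    intro j hj
    apply hf (J.mul_mem hj hzJ) (J.mul_mem hzJ hj)
    rw [map_mul, map_mul]
    exact Subgroup.mem_centralizer_iff.mp hc (f j) (Subgroup.mem_map_of_mem f hj)

/-- Sylow `2`-subgroups of a group of odd order are trivial. -/
theorem sylow_two_eq_bot_of_odd {X : Type*} [Group X] [Finite X] (hodd : Odd (Nat.card X))
    (T : Sylow 2 X) : (T : Subgroup X) = ⊥ := by
  have : Fact (Nat.Prime 2) := ⟨Nat.prime_two⟩
  have h1 : Nat.card T = 2 ^ (Nat.card X).factorization 2 := Sylow.card_eq_multiplicity T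
  have h2 : (Nat.card X).factorization 2 = 0 :=
    Nat.factorization_eq_zero_of_not_dvd (fun h => by
      rw [Nat.odd_iff] at hodd
      omega)
  rw [h2, pow_zero] at h1
  exact Subgroup.card_eq_one.mp h1

/-- Let G be a solvable group of odd order, p a prime and S a Sylow p-subgroup of G. Then the subgroup generated by the centre of the Thompson subgroup of S and O_{p'}(G) is normal in G. -/
theorem result {G : Type*} [Group G] [Finite G] [Group.IsSolvable G] (hodd : Odd (Nat.card G)) (p : ℕ) [Fact p.Prime] (S : Sylow p G) :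
    (Cfsg.centerThompsonOf p (S : Subgroup G) ⊔ Cfsg.pPrimeCore p G).Normal := by
  have hKn : (Cfsg.pPrimeCore p G).Normal := Cfsg.Agent.Helper1.pPrimeCore_normal p
  by_cases hp : p = 2
  · subst hp
    have hS : (S : Subgroup G) = ⊥ := sylow_two_eq_bot_of_odd hodd S
    have h0 : Cfsg.centerThompsonOf 2 (S : Subgroup G) = ⊥ := by
      rw [Cfsg.Agent.Helper2.zje_centerThompsonOf_eq, eq_bot_iff]
      exact inf_le_left.trans ((Cfsg.Agent.Helper19.JJ_le 2 _).trans hS.le)
    rw [h0, bot_sup_eq]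
    exact hKn
  · have hπ : Function.Surjective (QuotientGroup.mk' (Cfsg.pPrimeCore p G)) :=
      QuotientGroup.mk'_surjective _
    have hodd' : Odd (Nat.card (G ⧸ Cfsg.pPrimeCore p G)) := by
      have hd := Subgroup.card_quotient_dvd_card (Cfsg.pPrimeCore p G)
      rw [Nat.odd_iff] at hodd ⊢
      by_contra h
      have h2 : 2 ∣ Nat.card (G ⧸ Cfsg.pPrimeCore p G) := by omega
      have h3 := h2.trans hd
      omega
    have hsolv : Group.IsSolvable (G ⧸ Cfsg.pPrimeCore p G) := inferInstance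
    have hps : Cfsg.IsPSolvable p (G ⧸ Cfsg.pPrimeCore p G) :=
      Cfsg.Agent.Helper63.PSolv.isPSolvable_of_isSolvable p _ hsolv
    have hred : Cfsg.pPrimeCore p (G ⧸ Cfsg.pPrimeCore p G) = ⊥ :=
      Cfsg.Agent.Helper1.pPrimeCore_quotient_eq_bot p
    have hc := Cfsg.Agent.Helper32.centralizer_pCore_le_of_isPSolvable hps hred
    have hno : ¬ Cfsg.Agent.Helper33.IsSectionOf (G ⧸ Cfsg.pPrimeCore p G)
        (Matrix.SpecialLinearGroup (Fin 2) (ZMod p)) :=
      Cfsg.Agent.Helper11.not_isSectionOf_sl2_of_abelian_sylow_two hp (fun T => by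
        have h := sylow_two_eq_bot_of_odd hodd' T
        refine isMulCommutative_iff_of_setLike.mpr (fun x hx y hy => ?_)
        have hx' : x ∈ (T : Subgroup (G ⧸ Cfsg.pPrimeCore p G)) := hx
        have hy' : y ∈ (T : Subgroup (G ⧸ Cfsg.pPrimeCore p G)) := hy
        rw [h, Subgroup.mem_bot] at hx' hy'
        rw [hx', hy'])
    have hn := Cfsg.Agent.Helper2.zje_normal hp hno hc (S.mapSurjective hπ)
    rw [Sylow.coe_mapSurjective] at hn
    have hinj : Set.InjOn (QuotientGroup.mk' (Cfsg.pPrimeCore p G)) ((S : Subgroup G) : Set G) := by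
      intro x hx y hy hxy
      have h1 : x⁻¹ * y ∈ Cfsg.pPrimeCore p G := QuotientGroup.eq.mp hxy
      have h2 : x⁻¹ * y ∈ (S : Subgroup G) :=
        (S : Subgroup G).mul_mem ((S : Subgroup G).inv_mem hx) hy
      have h3 := Cfsg.Agent.Helper32.eq_one_of_mem_pGroup_of_mem_pPrimeCore S.isPGroup' h2 h1
      exact inv_mul_eq_one.mp h3
    have h1 : Cfsg.centerThompsonOf p ((S : Subgroup G).map (QuotientGroup.mk' (Cfsg.pPrimeCore p G))) =
        (Cfsg.centerThompsonOf p (S : Subgroup G)).map (QuotientGroup.mk' (Cfsg.pPrimeCore p G)) := by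
      rw [Cfsg.Agent.Helper2.zje_centerThompsonOf_eq, Cfsg.Agent.Helper2.zje_centerThompsonOf_eq,
        Cfsg.Agent.Helper19.JJ_map _ hinj,
        center_map_injOn _ _ (hinj.mono (Cfsg.Agent.Helper19.JJ_le p _))]
    have h2 : Cfsg.centerThompsonOf p (S : Subgroup G) ⊔ Cfsg.pPrimeCore p G =
        ((Cfsg.centerThompsonOf p (S : Subgroup G)).map
          (QuotientGroup.mk' (Cfsg.pPrimeCore p G))).comap
            (QuotientGroup.mk' (Cfsg.pPrimeCore p G)) := by
      rw [QuotientGroup.comap_map_mk', sup_comm]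
    rw [h2, ← h1]
    exact hn.comap _

end Cfsg.Agent.S1458
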