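import Cfsg.Statements.S1552
import Cfsg.Agent.Helper91.MaxOrb

set_option autoImplicit false
open scoped Pointwise
open Cfsg

namespace Cfsg.Agent.S1552

open Cfsg.Agent.Helper91

set_option maxRecDepth 100000

/-- The tetrads of the sextet of the points 0, 1, 2, 3. -/
def sZ : List Nat := [15, 5264, 622848, 3416064, 4196928, 8536096]

theorem sZ_eq : sextDec 15 = famOf sZ := sextDec_eq_famOf tetValid_15 (by decide +kernel)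

/-- Generators of the stabilizer of the sextet `sZ`. -/
def sGens : List (List Nat) :=
  [[19, 8, 16, 15, 13, 11, 17, 20, 10, 23, 18, 14, 21, 3, 22, 4, 12, 9, 1, 7, 0, 2, 5, 6],
   [15, 16, 19, 8, 3, 20, 22, 2, 10, 6, 1, 9, 0, 23, 21, 7, 12, 13, 14, 4, 5, 17, 11, 18]]

theorem sGens_ok : sGens.all (genFamOK sZ) = true := by decide +kernel

def so1I : List Nat :=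
  [1, 1, 2, 1, 1, 1, 2, 2, 0, 0, 0, 2, 2, 1, 0, 2, 0, 0, 0, 0, 2, 2, 1, 1, 0, 0, 2, 1, 0, 0, 0, 0, 0, 2, 1, 2,
   1, 0, 0, 0, 0, 0, 0, 2, 2, 1, 0, 2, 1, 2, 0, 0, 0, 0, 0, 0, 2, 1, 1, 1, 2, 1, 0, 2, 1, 0, 2, 2, 0, 0, 0, 0,
   0, 2, 1, 2, 1, 0, 0, 0, 0, 0, 2, 1, 1, 1, 2, 2, 0, 0, 0, 2, 0, 0, 2, 1, 2, 0, 0, 2, 1, 0, 2, 1, 0, 0, 0, 0,
   0, 2, 1, 2, 0, 0, 2, 2, 0, 0, 0, 0, 0, 2, 1, 1, 1, 0, 2, 1, 1, 0, 0, 2, 2, 0, 0, 0, 0, 2, 1, 1, 0, 0, 2, 2,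
   2, 0, 0, 0, 0, 0, 2, 1, 2, 1, 2, 0, 0, 2, 2, 0, 0, 0, 0, 2, 1, 2, 2, 0, 0, 0, 2, 1]

theorem so1_run : orbCount pullMask syn sGens so1I [147]
    (Nat.shiftLeft 1 (syn 147)) 1 = 90 := by
  decide +kernel

theorem so1_v : tetValid 147 := (tetValid_iff _).2 (by decide +kernel)

theorem so1_le : 90 ≤ (MulAction.orbit ↥(MulAction.stabilizer ↥M24 (famOf sZ)) (sextDec 147)).ncard :=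
  sext_orbit_le _ (gens_of_famOK sGens_ok) so1_v so1_run (by norm_num)

theorem so1_e : sextDec 147 = famOf [147, 5132, 272448, 737280, 7340544, 8421664] :=
  sextDec_eq_famOf so1_v (by decide +kernel)

def so2I : List Nat :=
  [1, 2, 1, 1, 1, 0, 0, 2, 1, 1, 1, 2, 1, 0, 2, 0, 0, 0, 2, 1, 1, 0, 0, 0, 0, 2, 1, 1, 1, 2, 0, 0, 2, 0, 0, 2,
   0, 0, 2, 1, 1, 2, 0, 0, 0, 2, 2, 0, 0, 0, 0, 0, 2, 1, 1, 1, 2, 2, 1, 0, 0, 0, 0, 2, 1, 2, 0, 0, 0, 0, 2, 1,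
   1, 0, 2, 0, 0, 2, 1, 0, 0, 0, 0, 2, 1, 1, 1, 0, 0, 2, 0, 0, 0, 0, 0, 0, 2, 1, 1, 1, 2, 1, 0, 2, 1, 0, 2, 2,
   0, 0, 0, 0, 0, 2, 1, 2, 1, 0, 0, 0, 2, 1, 1, 0, 0, 2, 0, 0, 0, 0, 2, 1, 1, 1, 0, 2, 0, 0, 0, 2, 1, 2, 2, 0,
   0, 0, 2, 1, 0, 0, 0, 0, 0, 2, 1, 1, 1, 2, 0, 0, 2, 1, 0, 2, 1, 0, 0, 0, 0, 2, 1, 1, 1, 0, 0, 0, 2, 2, 1, 0,
   0, 0, 0, 0, 2, 1, 2, 1, 1, 0, 0, 2, 2, 0, 0, 0, 0, 2, 1, 1, 0, 2, 2, 1, 0, 2, 0, 0, 0, 0, 2, 1, 0, 2, 1, 0,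
   2, 0, 0, 0, 0, 0, 0, 0, 0, 0, 2, 1, 1, 1, 2, 1, 1, 2, 1, 0, 2, 1, 0, 0, 0, 0, 2, 0, 0, 0, 0, 2, 1, 1, 1, 0,
   2, 2, 2, 2, 0, 0, 0, 0, 0, 2, 1, 1, 1, 0, 2, 0, 0, 2, 0, 0, 2, 1, 2, 0, 0, 0, 0, 0, 2, 1, 2, 1, 0, 2, 1, 0,
   0, 0, 0, 2, 1, 0, 2, 2, 1, 0, 2, 0, 0, 0, 0, 0, 0, 0, 2, 1, 2, 1, 1, 1, 0, 0, 2, 1, 1, 0, 0, 2, 0, 0, 0, 2,
   1, 1, 1, 0, 0, 2, 2, 2, 0, 0, 0, 0, 2, 0, 0, 0, 0, 0, 0, 2, 1, 1, 1, 2, 1, 2, 0, 0, 2, 1, 2, 0, 0, 0, 0, 0,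
   2, 1, 1, 1, 0, 0, 2, 2, 0, 0, 0, 2, 2, 1, 1, 0, 0, 0, 0, 0, 0, 2, 1, 2, 1, 1, 0, 2, 1, 0, 0, 0, 2, 0, 0, 0,
   2, 1, 1, 1, 2, 0, 0, 0, 0, 2, 2, 1, 0, 2, 1, 0, 2, 0, 0, 0, 0, 0, 0, 0, 2, 1, 2, 1, 1, 1, 0, 0, 0, 2, 1, 2,
   0, 0, 2, 1, 2, 0, 0, 0, 0, 0, 0, 2, 1, 1, 1, 2, 1, 0, 0, 0, 2, 2, 1, 0, 0, 0, 0, 2, 1, 1, 2, 0, 0, 0, 2, 1,
   0, 2]

theorem so2_run : orbCount pullMask syn sGens so2I [23]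
    (Nat.shiftLeft 1 (syn 23)) 1 = 240 := by
  decide +kernel

theorem so2_v : tetValid 23 := (tetValid_iff _).2 (by decide +kernel)

theorem so2_le : 240 ≤ (MulAction.orbit ↥(MulAction.stabilizer ↥M24 (famOf sZ)) (sextDec 23)).ncard :=
  sext_orbit_le _ (gens_of_famOK sGens_ok) so2_v so2_run (by norm_num)

theorem so2_e : sextDec 23 = famOf [23, 5256, 786976, 1065280, 2263040, 12656640] :=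
  sextDec_eq_famOf so2_v (by decide +kernel)

def so3I : List Nat :=
  [1, 1, 1, 2, 1, 2, 1, 1, 1, 2, 0, 0, 2, 1, 1, 0, 2, 1, 2, 0, 0, 0, 0, 2, 0, 0, 0, 2, 1, 1, 1, 0, 0, 0, 2, 1,
   1, 0, 0, 2, 0, 0, 0, 0, 2, 1, 1, 1, 0, 2, 1, 0, 2, 2, 0, 0, 0, 0, 2, 1, 2, 1, 0, 0, 0, 2, 0, 0, 0, 2, 2, 2,
   2, 0, 0, 0, 0, 0, 0, 0, 2, 1, 1, 1, 2, 1, 1, 2, 0, 0, 0, 2, 1, 1, 2, 0, 0, 2, 0, 0, 0, 0, 0, 2, 1, 1, 0, 0,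
   2, 2, 2, 0, 0, 0, 0, 0, 2, 1, 1, 0, 0, 2, 1, 2, 1, 1, 0, 0, 2, 1, 0, 0, 0, 0, 2, 1, 2, 2, 0, 0, 0, 2, 1, 0,
   2, 0, 0, 0, 0, 0, 0, 2, 1, 1, 1, 2, 1, 1, 0, 0, 2, 0, 0, 0, 0, 2, 2, 1, 2, 2, 0, 0, 0, 0, 0, 0, 2, 1, 1, 1,
   2, 0, 0, 0, 2, 1, 2, 1, 0, 0, 0, 0, 0, 2, 1, 1, 2, 2, 0, 0, 0, 2, 1, 1, 1, 0, 0, 2, 0, 0, 2, 2, 1, 0, 0, 0,
   0, 0, 2, 1, 2, 2, 0, 0, 0, 2, 1, 0, 2, 0, 0, 0, 0, 0, 0, 0, 0, 0, 2, 1, 1, 1, 2, 2, 1, 1, 1, 2, 0, 0, 2, 2,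
   0, 0, 0, 2, 1, 0, 0, 0, 2, 0, 0, 0, 0, 2, 1, 2, 1, 2, 1, 2, 2, 0, 0, 0, 2, 1, 0, 2, 0, 0, 0, 0, 2, 1, 0, 2,
   2, 1, 0, 0, 0, 0, 0, 0, 2, 1, 1, 0, 2, 1, 0, 2, 0, 0, 0, 2, 1, 1, 2, 2, 0, 0, 0, 2, 0, 0, 2, 1, 2, 0, 0, 2,
   2, 1, 0, 0, 0, 0, 0, 0, 0, 0, 2, 1, 1, 1, 0, 2, 1, 1, 2, 0, 0, 2, 1, 0, 0, 0, 0, 0, 2, 1, 1, 1, 2, 0, 0, 2,
   1, 0, 2, 2, 1, 0, 0, 0, 0, 0, 2, 2, 1, 1, 1, 0, 2, 0, 0, 0, 2, 1, 0, 2, 0, 0, 0, 0, 0, 2, 0, 0, 0, 2, 1, 2,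
   1, 1, 1, 2, 0, 0, 0, 2, 1, 1, 0, 2, 0, 0, 2, 1, 0, 2, 2, 0, 0, 0, 0, 0, 0, 0, 2, 1, 1, 1, 0, 2, 1, 0, 2, 0,
   0, 0, 2, 1, 2, 1, 0, 0, 0, 2, 0, 0, 0, 2, 1, 2, 2, 1, 1, 0, 0, 0, 0, 0, 2, 2, 1, 0, 2, 0, 0, 0, 0, 0, 0, 0,
   0, 2, 1, 1, 1, 2, 1, 1, 1, 0, 2, 0, 0, 2, 0, 0, 2, 1, 0, 2, 0, 0, 0, 0, 2, 1, 1, 1, 0, 0, 2, 2, 1, 1, 0, 0,
   2, 0, 0, 0, 0, 2, 2, 0, 0, 0, 0, 2, 1, 1, 1, 2, 1, 0, 0, 0, 2, 1, 0, 2, 1, 1, 0, 2, 0, 0, 2, 2, 0, 0, 0, 0,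
   0, 2, 1, 1, 0, 0, 2, 1, 0, 0, 0, 0, 2, 1, 1, 1, 2, 0, 0, 0, 2, 1, 0, 2, 1, 0, 0, 0, 0, 0, 0, 0, 2, 1, 1, 1,
   2, 1, 2, 1, 0, 0, 0, 2, 2, 0, 0, 0, 0, 2, 2, 1, 1, 0, 2, 0, 0, 2, 2, 2, 0, 0, 0, 0, 0, 0, 0, 2, 1, 1, 1, 2,
   2, 2, 0, 0, 0, 0, 2, 1, 1, 0, 2, 0, 0, 2, 2, 1, 0, 0, 0, 0, 0, 2, 2, 1, 2, 2, 2, 0, 0, 0, 0, 2, 1, 2, 0, 0,
   0, 0, 0, 0, 2, 1, 1, 1, 0, 0, 2, 1, 1, 0, 2, 1, 0, 0, 0, 2, 1, 0, 0, 0, 0, 2, 1, 1, 1, 0, 0, 2, 1, 0, 2, 2,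
   0, 0, 0, 0, 2, 1, 2, 0, 0, 2, 1, 0, 0, 0, 0, 0, 0, 0, 0, 0, 0, 2, 1, 1, 1, 2, 1, 1, 1, 2, 1, 0, 2, 0, 0, 0,
   2, 1, 2, 1, 1, 0, 0, 0, 0, 2, 0, 0, 0, 2, 2, 1, 1, 0, 0, 0, 0, 0, 2, 1, 1, 1, 0, 2, 2, 2, 0, 0, 0, 0, 0, 2,
   1, 1, 1, 2, 0, 0, 2, 1, 0, 2, 0, 0, 0, 2, 1, 0, 0, 0, 2, 1, 1, 2, 0, 0, 0, 2, 0, 0, 0, 0, 0, 0, 2, 1, 1, 1,
   2, 1, 0, 0, 0, 2, 1, 2, 2, 0, 0, 0, 2, 1, 2, 0, 0, 2, 1, 0, 2, 2, 0, 0, 0, 0, 0, 0, 2, 1, 1, 1, 2, 0, 0, 2,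
   1, 2, 0, 0, 0, 0, 2, 2, 2, 1, 2, 1, 0, 0, 0, 0, 0, 0, 0, 2, 1, 1, 1, 2, 0, 0, 0, 2, 1, 2, 1, 0, 0, 0, 0, 0,
   0, 0, 0, 2, 1, 1, 1, 2, 1, 1, 0, 0, 0, 0, 2, 2, 1, 0, 2, 1, 0, 2, 0, 0, 0, 0, 0, 2, 1, 1, 1, 0, 2, 2, 2, 0,
   0, 0, 0, 2, 1, 0, 2, 1, 2, 0, 0, 0, 0, 0, 2, 1, 0, 2, 1, 1, 0, 0, 2, 0, 0, 0, 0, 0, 2, 1, 1, 1, 0, 2, 2, 1,
   0, 0, 0, 0, 2, 1, 2, 0, 0, 2, 2, 0, 0, 0, 0, 2, 1, 1, 1, 0, 2, 1, 0, 2, 0, 0, 0, 2, 2, 2, 0, 0, 0, 0, 0, 0,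
   0, 0, 0, 2, 1, 1, 1, 2, 1, 2, 2, 0, 0, 0, 2, 2, 0, 0, 0, 0, 2, 1, 1, 0, 2, 2, 2, 0, 0, 0, 0, 0, 0, 2, 1, 1,
   1, 2, 1, 0, 0, 0, 2, 0, 0, 2, 1, 2, 2, 2, 0, 0, 0, 0, 2, 1, 1, 2, 0, 0, 2, 0, 0, 2, 0, 0, 0, 0, 2, 1, 1, 1,
   0, 2, 1, 1, 2, 0, 0, 0, 0, 0, 2, 1, 1, 0, 0, 2, 1, 2, 0, 0, 0, 0, 0, 2, 1, 2, 0, 0, 0, 0, 0, 0, 2, 1, 1, 1,
   2, 1, 1, 1, 0, 2, 1, 0, 0, 0, 2, 1, 0, 2, 0, 0, 0, 2, 0, 0, 0, 2, 1, 1, 2, 0, 0, 0, 2, 1, 0, 2, 2, 1, 0, 0,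
   0, 0, 0, 0, 2, 1, 1, 2, 2, 1, 0, 2, 0, 0, 0, 0, 2, 2, 1, 1, 0, 2, 0, 0, 0, 0, 0, 2, 1, 1, 1, 2, 0, 0, 0, 0,
   2, 1, 1, 1, 0, 0, 2, 0, 0, 2, 1, 0, 0, 0, 0, 0, 0, 2, 2, 2, 1, 1, 1, 2, 0, 0, 2, 2, 0, 0, 0, 2, 1, 0, 0, 0,
   0, 0, 0, 0, 0, 0, 2, 1, 1, 1, 2, 1, 1, 1, 2, 1, 0, 0, 0, 2, 1, 0, 0, 0, 2, 1, 1, 0, 0, 2, 0, 0, 0, 2, 1, 1,
   1, 2, 1, 0, 0, 0, 2, 2, 0, 0, 0, 0, 2, 1, 1, 0, 0, 0, 0, 0, 0, 2, 1, 2, 2, 1, 1, 2, 0, 0, 2, 0, 0, 0, 0, 0,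
   2, 1, 2, 1, 1, 1, 0, 0, 0, 0, 0, 2, 1, 1, 2, 2, 0, 0, 0, 2, 1, 0, 0, 0, 2, 1, 1, 0, 0, 2, 2, 1, 0, 2, 0, 0,
   0, 0, 0, 0, 0, 0, 2, 1, 1, 1, 2, 1, 2, 0, 0, 2, 2, 0, 0, 0, 0, 2, 1, 1, 1, 0, 0, 2, 1, 1, 0, 2, 0, 0, 2, 1,
   0, 0, 0, 0, 2, 1, 0, 2, 0, 0, 0, 0, 2, 1, 1, 0, 2, 2, 2, 0, 0, 0, 0, 2, 1, 1, 1, 0, 0, 2, 1, 2, 0, 0, 0, 0,
   2, 0, 0, 0, 0, 2, 1, 1, 1, 2, 1, 1, 0, 0, 0, 0, 2, 0, 0, 2, 1, 1, 0, 0, 2, 2, 1, 0, 2, 1, 0, 0, 0, 0, 0, 0,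
   2, 1, 1, 2, 2, 1, 0, 0, 0, 0, 2, 1, 1, 2, 0, 0, 2, 0, 0, 0, 0, 2, 1, 1, 1, 0, 0, 0, 2, 1, 1, 1, 0, 0, 0, 2,
   0, 0, 0, 0, 0, 0, 0, 2, 1, 1, 1, 2, 1, 1, 1, 0, 0, 2, 0, 0, 2, 1, 1, 1, 0, 0, 2, 0, 0, 0, 0, 0, 2, 1, 1, 2,
   2, 0, 0, 0, 0, 0, 0, 2, 1, 1, 1, 2, 1, 0, 2, 0, 0, 0, 2, 1, 2, 0, 0, 2, 0, 0, 0, 0, 2, 1, 0, 2, 1, 0, 2, 2,
   1, 2, 0, 0, 2, 0, 0, 0, 0, 0, 0, 0, 2, 1, 1, 1, 0, 2, 1, 1, 2, 1, 0, 0, 0, 0, 2, 1, 0, 0, 0, 0, 2, 1, 2, 2,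
   2, 0, 0, 0, 0, 2, 1, 0, 0, 0, 0, 2, 1, 1, 1, 0, 2, 1, 1, 0, 2, 0, 0, 2, 1, 0, 0, 0, 0, 2, 2, 1, 0, 0, 0, 0,
   2, 1, 1, 2, 1, 0, 2, 1, 0, 0, 0, 0, 2, 2, 2, 1, 0, 0, 0, 0, 0, 2, 1, 1, 2, 0, 0, 2, 1, 0, 2, 2, 0, 0, 0, 0,
   2, 1, 1, 2, 0, 0, 0, 2, 2, 0, 0, 0, 0, 0, 0, 0, 0, 0, 0, 0, 2, 1, 1, 1, 2, 1, 1, 1, 2, 1, 0, 2, 2, 0, 0, 0,
   0, 2, 1, 1, 2, 0, 0, 0, 2, 1, 2, 0, 0, 0, 0, 0, 2, 1, 0, 2, 1, 1, 2, 0, 0, 2, 1, 2, 0, 0, 0, 0, 2, 2, 1, 1,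
   0, 0, 0, 0, 0, 0, 0, 2, 1, 1, 1, 2, 1, 1, 0, 0, 0, 0, 2, 0, 0, 2, 0, 0, 2, 1, 1, 0, 2, 1, 2, 2, 1, 0, 0, 0,
   0, 2, 2, 1, 1, 0, 0, 0, 0, 0, 0, 2, 1, 1, 0, 0, 2, 2, 2, 0, 0, 0, 0, 0, 0, 0, 0, 2, 1, 1, 1, 2, 1, 0, 2, 2,
   2, 0, 0, 0, 0, 0, 2, 1, 1, 0, 2, 2, 0, 0, 0, 2, 1, 0, 2, 1, 1, 0, 2, 0, 0, 2, 2, 1, 0, 2, 0, 0, 0, 0, 0, 0,
   0, 0, 2, 1, 1, 1, 2, 1, 0, 2, 1, 2, 0, 0, 0, 0, 0, 2, 2, 1, 1, 0, 2, 0, 0, 2, 2, 0, 0, 0, 0, 0, 2, 1, 1, 2,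
   2, 0, 0, 0, 2, 1, 2, 1, 0, 0, 0, 0, 0, 2, 0, 0, 0, 2, 1, 2, 1, 1, 1, 2, 0, 0, 0, 2, 1, 1, 0, 0, 0, 0, 2, 1,
   1, 2, 0, 0, 2, 1, 1, 0, 0, 0, 0, 2, 1, 0, 2, 0, 0, 0, 0, 0, 2, 1, 1, 1, 2, 0, 0, 2, 1, 0, 2, 1, 0, 0, 0, 0,
   2, 0, 0, 2, 2, 0, 0, 0, 0, 0, 0, 0, 2, 1, 1, 1, 2, 1, 1, 1, 2, 2, 1, 0, 0, 0, 0, 2, 1, 0, 0, 0, 0, 2, 2, 1,
   2, 1, 0, 0, 0, 2, 2, 2, 0, 0, 0, 0, 0, 0, 0, 2, 1, 1, 1, 0, 2, 1, 1, 0, 2, 2, 0, 0, 0, 2, 2, 1, 0, 0, 0, 0,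
   0, 2, 1, 1, 1, 0, 0, 2, 1, 1, 0, 2, 0, 0, 2, 0, 0, 0, 2, 2, 0, 0, 0, 0, 2, 1, 2, 1, 2, 1, 0, 0, 0, 2, 1, 0,
   0, 0, 0, 2, 2, 2, 2, 0, 0, 0, 0, 0, 0, 0, 2, 1, 1, 1, 2, 1, 1, 1, 0, 2, 0, 0, 0, 2, 0, 0, 0, 2, 1, 0, 2, 1,
   0, 2, 0, 0, 0, 0, 2, 1, 1, 2, 2, 2, 0, 0, 0, 0, 2, 2, 1, 2, 0, 0, 2, 0, 0, 0, 0, 2, 1, 1, 1, 2, 0, 0, 0, 2,
   1, 1, 0, 0, 0, 0, 2, 0, 0, 0, 0, 2, 1, 1, 2, 1, 1, 2, 0, 0, 2, 0, 0, 2, 0, 0, 0, 2, 2, 1, 0, 2, 2, 1, 0, 2,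
   0, 0, 0, 0, 0, 0, 2, 1, 1, 1, 0, 2, 1, 0, 0, 0, 2, 1, 0, 2, 2, 0, 0, 0, 0, 2, 1, 1, 0, 2, 1, 2, 0, 0, 0, 0,
   2, 1, 0, 0, 0, 0, 0, 0, 0, 2, 1, 1, 1, 0, 2, 1, 1, 1, 2, 1, 0, 0, 0, 2, 0, 0, 2, 2, 1, 0, 0, 0, 0, 2, 1, 0,
   2, 1, 0, 2, 2, 0, 0, 0, 0, 0, 0, 2, 1, 2, 1, 1, 2, 0, 0, 0, 2, 1, 1, 0, 2, 0, 0, 2, 1, 0, 0, 0, 0, 0, 0, 0,
   2, 1, 2, 1, 2, 2, 0, 0, 0, 2, 1, 1, 2, 1, 0, 0, 0, 0, 2, 1, 2, 1, 0, 2, 0, 0, 0, 0, 0, 0, 0, 2, 1, 1, 1, 2,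
   0, 0, 2, 1, 1, 0, 0, 2, 1, 0, 0, 0, 0, 2, 1, 2, 1, 0, 2, 0, 0, 0, 2, 1, 0, 0, 0, 0, 2, 1, 1, 2, 2, 0, 0, 0,
   2, 0, 0, 2, 2, 1, 0, 2, 0, 0, 0, 0, 0, 0, 0, 0, 0, 2, 1, 1, 1, 2, 2, 1, 1, 1, 0, 0, 2, 0, 0, 2, 1, 2, 1, 1,
   0, 0, 0, 0, 2, 0, 0, 0, 0, 0, 0, 2, 1, 2, 1, 1, 1, 0, 2, 0, 0, 2, 1, 2, 1, 1, 0, 0, 0, 0, 2, 1, 0, 2, 1, 2,
   0, 0, 0, 0, 0, 0, 2, 1, 1, 1, 2, 0, 0, 2, 2, 0, 0, 0, 2, 1, 0, 2, 2, 2, 0, 0, 0, 0, 0, 2, 1, 2, 1, 0, 0, 0,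
   0, 0, 0, 0, 2, 1, 1, 1, 2, 1, 1, 2, 0, 0, 0, 0, 0, 2, 2, 1, 1, 0, 2, 0, 0, 2, 0, 0, 0, 0, 2, 1, 1, 1, 0, 0,
   2, 1, 2, 2, 0, 0, 0, 0, 0, 2, 1, 1, 2, 0, 0, 2, 1, 1, 0, 0, 2, 0, 0, 0, 2, 1, 1, 2, 0, 0, 0, 2, 2, 2, 0, 0,
   0, 0, 0, 0, 0, 2, 1, 1, 1, 2, 0, 0, 0, 2, 1, 1, 0, 2, 1, 0, 2, 0, 0, 0, 2, 2, 2, 0, 0, 0, 0, 0, 2, 1, 1, 2,
   1, 0, 0, 0, 2, 1, 0, 2, 1, 0, 0, 0, 0, 2, 1, 1, 0, 2, 1, 0, 2, 0, 0, 0, 0, 0, 0, 0, 0, 0, 2, 1, 1, 1, 2, 1,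
   2, 1, 2, 0, 0, 0, 0, 2, 2, 1, 1, 0, 0, 2, 0, 0, 0, 0, 0, 2, 1, 1, 1, 0, 2, 1, 1, 0, 2, 1, 0, 0, 0, 2, 0, 0,
   0, 2, 2, 0, 0, 0, 2, 1, 2, 0, 0, 2, 1, 2, 2, 1, 0, 2, 0, 0, 0, 0, 2, 0, 0, 0, 0, 0, 2, 1, 1, 1, 2, 2, 0, 0,
   0, 2, 1, 1, 0, 0, 2, 1, 2, 0, 0, 2, 0, 0, 0, 0, 2, 1, 1, 0, 2, 2, 1, 1, 0, 0, 0, 0, 0, 0, 0, 2, 1, 1, 1, 2,
   0, 0, 2, 1, 0, 0, 0, 2, 1, 1, 1, 0, 2, 0, 0, 0, 2, 1, 2, 1, 0, 0, 0, 0, 0, 0, 2, 1, 2, 1, 2, 1, 0, 0, 0, 2,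
   0, 0, 0, 2, 1, 1, 1, 0, 2, 0, 0, 0, 2, 2, 0, 0, 0, 0, 0, 0, 0, 2, 1, 1, 1, 2, 1, 2, 0, 0, 0, 0, 2, 1, 1, 2,
   0, 0, 2, 2, 2, 2, 0, 0, 0, 0, 0, 2, 1, 0, 2, 2, 2, 0, 0, 0, 0, 0, 0, 2, 1, 1, 1, 2, 1, 0, 0, 0, 0, 0, 2, 1,
   1, 1, 0, 0, 2, 2, 1, 1, 0, 0, 2, 0, 0, 0, 0, 0, 0, 0, 2, 1, 2, 1, 1, 1, 0, 2, 1, 1, 0, 0, 0, 0, 2, 1, 0, 0,
   0, 2, 2, 2, 0, 0, 0, 0, 0, 2, 1, 1, 1, 2, 2, 0, 0, 0, 2, 1, 1, 0, 0, 2, 0, 0, 0, 2, 1, 2, 1, 0, 2, 2, 0, 0,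
   0, 0, 2, 1, 1, 0, 0, 2, 0, 0, 0, 0, 2, 1, 1, 0, 0, 2, 2, 1, 1, 0, 2]

theorem so3_run : orbCount pullMask syn sGens so3I [51]
    (Nat.shiftLeft 1 (syn 51)) 1 = 1440 := by
  decide +kernel

theorem so3_v : tetValid 51 := (tetValid_iff _).2 (by decide +kernel)

theorem so3_le : 1440 ≤ (MulAction.orbit ↥(MulAction.stabilizer ↥M24 (famOf sZ)) (sextDec 51)).ncard :=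
  sext_orbit_le _ (gens_of_famOK sGens_ok) so3_v so3_run (by norm_num)

theorem so3_e : sextDec 51 = famOf [51, 786948, 1188864, 2162760, 4216832, 8421760] :=
  sextDec_eq_famOf so3_v (by decide +kernel)

theorem s_orbits : MaxOrbits3 (famOf sZ) sextets 90 240 1440 := by
  refine maxOrbits3_of_lower (famOf sZ) sextets (fun g hg x hx => smul_mem_sextets hg hx)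
    (fun y hy => by rw [← sZ_eq]; exact exists_m24_sextet hy) (by rw [← sZ_eq]; exact sextDec_mem tetValid_15)
    (sextDec_mem so1_v) (sextDec_mem so2_v) (sextDec_mem so3_v)
    so1_le so2_le so3_le
    (by rw [Helper26.sextets_ncard]) ?_ ?_ ?_ ?_ ?_ ?_ arith_sextets
  · exact ne_of_not_mem_orbit (not_orbit_of_interB (zs := sZ) (xs := sZ) (xs' := [147, 5132, 272448, 737280, 7340544, 8421664])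
      (fun g h => h) (fam_of_eq rfl so1_e)
      (by decide +kernel) (by decide +kernel) (by decide +kernel) 2 (by decide +kernel))
  · exact ne_of_not_mem_orbit (not_orbit_of_interB (zs := sZ) (xs := sZ) (xs' := [23, 5256, 786976, 1065280, 2263040, 12656640])
      (fun g h => h) (fam_of_eq rfl so2_e)
      (by decide +kernel) (by decide +kernel) (by decide +kernel) 1 (by decide +kernel))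
  · exact ne_of_not_mem_orbit (not_orbit_of_interB (zs := sZ) (xs := sZ) (xs' := [51, 786948, 1188864, 2162760, 4216832, 8421760])
      (fun g h => h) (fam_of_eq rfl so3_e)
      (by decide +kernel) (by decide +kernel) (by decide +kernel) 1 (by decide +kernel))
  · exact not_orbit_of_interB (zs := sZ) (xs := [147, 5132, 272448, 737280, 7340544, 8421664]) (xs' := [23, 5256, 786976, 1065280, 2263040, 12656640])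
      (fun g h => h) (fam_of_eq so1_e so2_e)
      (by decide +kernel) (by decide +kernel) (by decide +kernel) 1 (by decide +kernel)
  · exact not_orbit_of_interB (zs := sZ) (xs := [147, 5132, 272448, 737280, 7340544, 8421664]) (xs' := [51, 786948, 1188864, 2162760, 4216832, 8421760])
      (fun g h => h) (fam_of_eq so1_e so3_e)
      (by decide +kernel) (by decide +kernel) (by decide +kernel) 1 (by decide +kernel)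
  · exact not_orbit_of_interB (zs := sZ) (xs := [23, 5256, 786976, 1065280, 2263040, 12656640]) (xs' := [51, 786948, 1188864, 2162760, 4216832, 8421760])
      (fun g h => h) (fam_of_eq so2_e so3_e)
      (by decide +kernel) (by decide +kernel) (by decide +kernel) 2 (by decide +kernel)

/-- A sextet stabiliser has four orbits on the 1771 sextets, of sizes 1, 90, 240, 1440; and the stabiliser is a maximal proper subgroup. -/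
theorem result (S : Finset (Finset Cfsg.GolayPt)) (hS : S ∈ Cfsg.sextets) : ∃ X₁ ∈ Cfsg.sextets, ∃ X₂ ∈ Cfsg.sextets, ∃ X₃ ∈ Cfsg.sextets, (MulAction.orbit ↥(MulAction.stabilizer Cfsg.M24 S) X₁).ncard = 90 ∧ (MulAction.orbit ↥(MulAction.stabilizer Cfsg.M24 S) X₂).ncard = 240 ∧ (MulAction.orbit ↥(MulAction.stabilizer Cfsg.M24 S) X₃).ncard = 1440 ∧ Cfsg.sextets = {S} ∪ MulAction.orbit ↥(MulAction.stabilizer Cfsg.M24 S) X₁ ∪ MulAction.orbit ↥(MulAction.stabilizer Cfsg.M24 S) X₂ ∪ MulAction.orbit ↥(MulAction.stabilizer Cfsg.M24 S) X₃ ∧ IsCoatom (MulAction.stabilizer Cfsg.M24 S) := by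
  obtain ⟨u, hu, rfl⟩ := exists_m24_sextet hS
  rw [sZ_eq]
  exact s_orbits.smul hu (fun g hg x hx => smul_mem_sextets hg hx)

end Cfsg.Agent.S1552
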