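import Cfsg.Statements.S1559
import Cfsg.Agent.Helper91.MaxOrb

set_option autoImplicit false
open scoped Pointwise
open Cfsg

namespace Cfsg.Agent.S1559

open Cfsg.Agent.Helper91

set_option maxRecDepth 100000

/-- The octads of a trio. -/
def sZ : List Nat := [8536111, 337856, 7903248]

theorem sZ_v : trioValid 5668291625007 := (trioValid_iff _).2 (by decide +kernel)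

theorem sZ_eq : trioDec 5668291625007 = famOf sZ := trioDec_eq_famOf sZ_v

/-- Generators of the stabilizer of the trio `sZ`. -/
def sGens : List (List Nat) :=
  [[2, 23, 0, 5, 10, 3, 12, 11, 21, 22, 4, 7, 6, 20, 17, 16, 15, 14, 19, 18, 13, 8, 9, 1],
   [7, 8, 16, 6, 22, 13, 17, 0, 23, 2, 1, 20, 12, 14, 9, 21, 3, 10, 5, 15, 4, 11, 19, 18]]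

theorem sGens_ok : sGens.all (genFamOK sZ) = true := by decide +kernel

def so1I : List Nat :=
  [1, 2, 1, 2, 1, 0, 2, 1, 0, 0, 0, 0, 2, 2, 2, 1, 2, 2, 1, 0, 2, 0, 0, 0, 0, 0, 0, 0, 0, 0, 2, 1, 2, 1, 2, 1,
   0, 2, 2, 2, 0, 0, 0, 0, 0, 2, 1, 2, 0, 0, 2, 0, 0, 0, 0, 2, 2, 1, 2, 2, 0, 0, 0, 2, 1, 2, 0, 0, 2, 1, 2, 2,
   2]

theorem so1_run : orbCount trioAct (trioKey 353) sGens so1I [132594498815715]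
    (Nat.shiftLeft 1 (trioKey 353 132594498815715)) 1 = 42 := by
  decide +kernel

theorem so1_v : trioValid 132594498815715 := (trioValid_iff _).2 (by decide +kernel)

theorem so1_le : 42 ≤ (MulAction.orbit ↥(MulAction.stabilizer ↥M24 (famOf sZ)) (trioDec 132594498815715)).ncard :=
  trio_orbit_le _ 353 (gens_of_famOK sGens_ok) so1_v so1_run (by norm_num)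

theorem so1_e : trioDec 132594498815715 = famOf [18147, 7903248, 8855820] := trioDec_eq_famOf so1_v

def so2I : List Nat :=
  [2, 1, 2, 1, 2, 1, 2, 1, 0, 2, 2, 1, 0, 0, 0, 0, 0, 2, 1, 2, 1, 2, 0, 0, 0, 0, 2, 2, 2, 1, 2, 0, 0, 0, 0, 0,
   0, 0, 0, 2, 1, 2, 0, 0, 0, 0, 0, 2, 2, 1, 2, 1, 2, 2, 1, 0, 2, 2, 1, 2, 0, 0, 0, 0, 0, 0, 0, 2, 0, 0, 0, 2,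
   1, 2, 2, 0, 0, 0, 2, 1, 2, 2, 1, 0, 2, 0, 0, 0, 0, 2, 1, 2, 1, 0, 2, 0, 0, 0, 2, 2, 2]

theorem so2_run : orbCount trioAct (trioKey 541) sGens so2I [67761699047139]
    (Nat.shiftLeft 1 (trioKey 541 67761699047139)) 1 = 56 := by
  decide +kernel

theorem so2_v : trioValid 67761699047139 := (trioValid_iff _).2 (by decide +kernel)

theorem so2_le : 56 ≤ (MulAction.orbit ↥(MulAction.stabilizer ↥M24 (famOf sZ)) (trioDec 67761699047139)).ncard :=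
  trio_orbit_le _ 541 (gens_of_famOK sGens_ok) so2_v so2_run (by norm_num)

theorem so2_e : trioDec 67761699047139 = famOf [18147, 4038912, 12720156] := trioDec_eq_famOf so2_v

def so3I : List Nat :=
  [1, 2, 1, 2, 1, 2, 1, 2, 1, 2, 2, 1, 2, 1, 0, 0, 0, 2, 1, 2, 2, 0, 0, 0, 2, 2, 1, 2, 0, 0, 0, 0, 0, 0, 0, 0,
   2, 1, 2, 1, 2, 0, 0, 2, 1, 2, 0, 0, 2, 1, 0, 2, 2, 0, 0, 0, 0, 0, 0, 2, 1, 2, 1, 2, 0, 0, 2, 0, 0, 0, 2, 1,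
   2, 1, 0, 0, 0, 0, 0, 0, 0, 0, 2, 1, 2, 1, 2, 2, 1, 0, 2, 1, 2, 0, 0, 2, 1, 2, 0, 0, 2, 0, 0, 0, 0, 0, 0, 2,
   1, 2, 1, 0, 2, 1, 0, 2, 0, 0, 0, 0, 0, 0, 0, 2, 1, 2, 1, 0, 2, 1, 2, 1, 0, 2, 0, 0, 0, 0, 0, 0, 2, 1, 2, 1,
   0, 2, 1, 0, 2, 2, 2, 0, 0, 0, 0, 0, 0, 2, 1, 0, 2, 1, 2, 2, 0, 0, 0, 2, 2, 1, 2, 0, 0, 0, 0, 0, 0, 0, 0, 0,
   0, 0, 2, 1, 2, 1, 2, 1, 2, 0, 0, 2, 1, 2, 2, 0, 0, 0, 2, 1, 0, 2, 1, 0, 2, 1, 2, 0, 0, 2, 1, 0, 2, 0, 0, 0,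
   0, 0, 0, 0, 0, 2, 1, 2, 1, 2, 1, 2, 0, 0, 2, 2, 0, 0, 0, 0, 2, 1, 2, 0, 0, 2, 2, 1, 2, 0, 0, 0, 0, 0, 0, 0,
   2, 1, 0, 2, 1, 2, 1, 0, 2, 1, 0, 2, 0, 0, 0, 0, 2, 1, 2, 0, 0, 2, 2, 2, 1, 0, 2, 2, 0, 0, 0, 0, 0, 0, 0, 0,
   0, 0, 0, 2, 1, 2, 1, 2, 1, 2, 1, 0, 2, 1, 2, 0, 0, 2, 2, 0, 0, 0, 0, 0, 2, 1, 2, 2, 0, 0, 0, 0, 0, 0, 2, 1,
   2, 2, 1, 0, 2, 1, 0, 2, 2, 1, 0, 0, 0, 0, 0, 0, 0, 2, 1, 0, 2, 1, 0, 0, 0, 0, 0, 0, 2, 1, 2, 1, 2, 1, 0, 2,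
   1, 0, 2, 1, 0, 2, 2, 0, 0, 0, 0, 0, 0, 2, 1, 2, 1, 0, 2, 1, 0, 2, 2, 0, 0, 0, 0, 0, 2, 1, 2, 1, 0, 2, 0, 0,
   0, 2, 2, 1, 2, 2, 0, 0, 0, 0, 0, 0, 0, 0, 0, 2, 1, 2, 1, 2, 1, 0, 2, 1, 0, 2, 1, 2, 0, 0, 0, 0, 0, 0, 2, 1,
   2, 1, 2, 0, 0, 2, 2, 0, 0, 0, 0, 0, 0, 0, 2, 1, 0, 2, 1, 2, 1, 0, 2, 2, 0, 0, 0, 0, 2, 1, 2, 2, 0, 0, 0, 2,
   1, 0, 2, 1, 0, 2, 2, 0, 0, 0, 0, 0, 0, 0, 0, 0, 0, 0, 0, 0, 2, 1, 2, 1, 2, 1, 2, 1, 2, 1, 0, 2, 1, 0, 0, 0,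
   0, 2, 1, 2, 1, 0, 0, 0, 2, 1, 2, 1, 2, 0, 0, 2, 2, 1, 0, 0, 0, 0, 0, 2, 1, 0, 2, 0, 0, 0, 0, 0, 0, 2, 1, 2,
   1, 2, 0, 0, 2, 1, 2, 1, 2, 2, 2, 0, 0, 0, 0, 0, 0, 2, 1, 2, 0, 0, 2, 2, 2, 2, 0, 0, 0, 0, 0, 0, 0, 0, 2, 1,
   2, 2, 1, 2, 0, 0, 0, 0, 0, 2, 1, 2, 1, 2, 0, 0, 2, 1, 2, 1, 0, 0, 0, 2, 2, 0, 0, 0, 0, 0, 2, 1, 0, 0, 0, 0,
   0, 0, 0, 2, 1, 2, 1, 2, 1, 0, 2, 1, 2, 2, 1, 0, 0, 0, 0, 2, 2, 1, 0, 0, 0, 0, 0, 0, 2, 2, 1, 2, 1, 2, 1, 2,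
   0, 0, 0, 0, 2, 1, 0, 0, 0, 0, 0, 0, 0, 0, 2, 1, 2, 1, 2, 1, 0, 2, 2, 0, 0, 0, 0, 2, 1, 2, 1, 0, 2, 2, 1, 0,
   0, 0, 0, 0, 2, 1, 2, 2, 1, 0, 0, 0, 0, 2, 2, 1, 0, 2, 0, 0, 0, 0, 0, 0, 0, 2, 1, 2, 1, 0, 2, 0, 0, 0, 2, 1,
   2, 2, 2, 1, 2, 0, 0, 2, 2, 0, 0, 0, 0, 0, 0, 2, 1, 2, 1, 2, 2, 0, 0, 0, 0, 0, 2, 1, 0, 2, 2, 0, 0, 0, 0, 0,
   0, 0, 0, 0, 0, 2, 1, 2, 1, 2, 1, 2, 2, 2, 1, 2, 0, 0, 2, 1, 0, 2, 2, 0, 0, 0, 0, 0, 0, 0, 2, 1, 2, 2, 2, 0,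
   0, 0, 0, 2, 1, 2, 1, 0, 2, 2, 0, 0, 0, 0, 2, 1, 0, 2, 1, 0, 2, 2, 1, 0, 2, 2, 0, 0, 0, 0, 0, 0, 0, 0, 0, 0,
   2, 1, 2, 1, 2, 2, 1, 2, 0, 0, 2, 2, 2, 0, 0, 0, 0, 0, 0, 2, 1, 2, 1, 2, 2, 2, 0, 0, 0, 0, 0, 0, 2, 1, 2, 1,
   2, 0, 0, 2, 1, 0, 0, 0, 0, 2, 1, 0, 0, 0, 0, 0, 0, 2, 1, 2, 1, 2, 2, 1, 2, 0, 0, 2, 1, 0, 0, 0, 0, 0, 2, 1,
   2, 2, 0, 0, 0, 2, 1, 2, 2, 2, 0, 0, 0, 0, 2, 1, 0, 2, 0, 0, 0, 0, 0, 0, 2, 1, 2, 1, 2, 1, 2, 0, 0, 2, 1, 0,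
   0, 0, 0, 2, 2, 2, 0, 0, 0, 0, 0, 2, 2, 1, 2, 1, 0, 0, 0, 2, 2, 1, 0, 2, 1, 0, 2, 0, 0, 0, 0, 0, 0, 0, 0, 0,
   0, 0, 2, 1, 2, 1, 2, 1, 2, 1, 2, 0, 0, 0, 0, 2, 1, 2, 2, 0, 0, 0, 2, 1, 2, 0, 0, 2, 1, 2, 1, 2, 2, 0, 0, 0,
   0, 0, 2, 2, 0, 0, 0, 0, 0, 0, 0, 2, 1, 2, 1, 2, 0, 0, 2, 1, 0, 0, 0, 0, 2, 0, 0, 0, 0, 2, 1, 2, 1, 2, 2, 2,
   2, 0, 0, 0, 0, 0, 2, 1, 0, 2, 1, 2, 2, 0, 0, 0, 2, 1, 2, 1, 2, 0, 0, 2, 2, 1, 0, 0, 0, 0, 0, 2, 1, 2, 1, 0,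
   0, 0, 2, 1, 0, 0, 0, 0, 0, 0, 0, 0, 2, 1, 2, 1, 2, 1, 0, 2, 1, 0, 0, 0, 0, 2, 2, 1, 2, 0, 0, 2, 2, 1, 2, 0,
   0, 0, 0, 0, 0, 0, 0, 2, 1, 2, 1, 2, 1, 2, 0, 0, 0, 0, 2, 2, 1, 0, 0, 0, 0, 0, 2, 1, 2, 1, 2, 0, 0, 2, 1, 2,
   2, 0, 0, 0, 2, 0, 0, 0, 0, 2, 1, 0, 2, 2, 1, 0, 2, 0, 0, 0, 0, 0, 0, 0, 0, 0, 0, 0, 0, 0, 2, 1, 2, 1, 2, 1,
   2, 1, 2, 1, 0, 2, 1, 2, 0, 0, 2, 1, 2, 1, 2, 0, 0, 0, 0, 2, 1, 2, 2, 1, 0, 0, 0, 0, 2, 1, 2, 0, 0, 0, 0, 0,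
   0, 0, 0, 2, 1, 0, 2, 1, 2, 1, 0, 0, 0, 2, 1, 2, 1, 2, 1, 0, 0, 0, 2, 2, 2, 0, 0, 0, 0, 0, 2, 1, 2, 1, 0, 2,
   1, 0, 0, 0, 0, 2, 1, 0, 2, 2, 0, 0, 0, 0, 0, 0, 0, 0, 0, 2, 1, 2, 1, 2, 0, 0, 0, 0, 2, 1, 2, 1, 2, 2, 1, 2,
   2, 2, 0, 0, 0, 0, 0, 0, 0, 2, 1, 0, 2, 1, 2, 0, 0, 2, 0, 0, 0, 0, 0, 2, 1, 2, 2, 1, 2, 0, 0, 0, 0, 0, 2, 2,
   2, 1, 0, 2, 1, 0, 2, 0, 0, 0, 0, 0, 0, 0, 0, 0, 0, 2, 1, 2, 1, 0, 2, 1, 2, 1, 2, 1, 0, 2, 1, 2, 0, 0, 2, 2,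
   1, 0, 0, 0, 0, 0, 0, 2, 1, 0, 0, 0, 0, 2, 2, 1, 2, 1, 0, 2, 1, 0, 2, 1, 2, 0, 0, 2, 0, 0, 0, 0, 0, 2, 1, 2,
   1, 0, 0, 0, 2, 1, 0, 2, 2, 1, 0, 2, 0, 0, 0, 0, 0, 0, 0, 0, 0, 0, 2, 1, 2, 1, 2, 1, 0, 2, 1, 2, 1, 0, 2, 2,
   0, 0, 0, 0, 2, 1, 0, 0, 0, 0, 0, 2, 1, 0, 2, 1, 2, 1, 0, 2, 1, 0, 0, 0, 0, 2, 1, 2, 2, 0, 0, 0, 2, 2, 0, 0,
   0, 0, 0, 0, 0, 2, 1, 2, 1, 2, 1, 2, 1, 0, 0, 0, 2, 1, 2, 2, 0, 0, 0, 2, 2, 0, 0, 0, 0, 0, 2, 0, 0, 0, 2, 1,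
   2, 1, 2, 1, 0, 0, 0, 2, 1, 2, 1, 2, 0, 0, 2, 0, 0, 0, 2, 2, 1, 2, 2, 0, 0, 0, 0, 0, 0, 0, 0, 2, 1, 2, 1, 0,
   2, 1, 2, 0, 0, 2, 1, 0, 2, 2, 0, 0, 0, 0, 0, 0, 2, 1, 2, 2, 2, 2, 1, 0, 0, 0, 0, 0, 0, 2, 1, 2, 1, 0, 0, 0,
   2, 1, 0, 2, 1, 2, 0, 0, 2, 0, 0, 0, 0, 0, 0, 0, 0, 0, 0, 0, 0, 2, 2, 1, 2, 1, 2, 2, 1, 0, 2, 1, 2, 1, 0, 2,
   2, 0, 0, 0, 0, 2, 1, 2, 2, 1, 2, 0, 0, 2, 0, 0, 0, 0, 2, 1, 2, 2, 0, 0, 0, 2, 2, 1, 0, 0, 0, 0, 0, 0, 0, 0,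
   0, 2, 1, 0, 2, 1, 2, 1, 0, 2, 1, 2, 2, 1, 0, 2, 2, 0, 0, 0, 0, 0, 2, 1, 2, 1, 0, 2, 2, 1, 0, 0, 0, 0, 0, 2,
   1, 0, 2, 2, 2, 0, 0, 0, 0, 0, 0, 0, 0, 2, 1, 2, 1, 0, 0, 0, 2, 1, 2, 1, 0, 0, 0, 2, 1, 0, 0, 0, 0, 0, 0, 0,
   0, 2, 1, 2, 1, 2, 1, 2, 1, 0, 2, 1, 0, 0, 0, 0, 0, 0, 2, 1, 2, 1, 2, 2, 1, 0, 0, 0, 0, 2, 1, 2, 1, 0, 0, 0,
   2, 1, 2, 1, 0, 0, 0, 2, 1, 0, 2, 2, 0, 0, 0, 0, 0, 0, 0, 2, 1, 2, 1, 2, 0, 0, 2, 1, 2, 0, 0, 2, 2, 1, 0, 2,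
   0, 0, 0, 0, 0, 0, 0, 0, 0, 0, 2, 1, 2, 1, 2, 1, 2, 1, 2, 0, 0, 2, 1, 2, 1, 0, 2, 0, 0, 0, 2, 0, 0, 0, 0, 2,
   2, 2, 2, 2, 2, 0, 0, 0, 0, 0, 0, 0, 0, 2, 1, 2, 1, 2, 1, 0, 0, 0, 2, 1, 0, 2, 1, 0, 2, 1, 2, 0, 0, 0, 0, 0,
   0, 0, 2, 1, 2, 2, 1, 0, 0, 0, 0, 2, 1, 2, 1, 2, 0, 0, 2, 2, 0, 0, 0, 0, 0, 0, 0, 0, 0, 2, 1, 2, 1, 2, 1, 2,
   1, 0, 2, 0, 0, 0, 2, 1, 0, 0, 0, 0, 2, 2, 1, 2, 0, 0, 2, 1, 2, 1, 2, 0, 0, 0, 0, 0, 0, 0, 0, 0, 2, 1, 2, 1,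
   2, 1, 0, 2, 1, 0, 0, 0, 0, 2, 2, 1, 0, 2, 1, 2, 1, 0, 0, 0, 2, 0, 0, 0, 0, 0, 0, 2, 1, 2, 1, 2, 2, 2, 0, 0,
   0, 0, 2, 1, 2, 2, 2, 0, 0, 0, 0, 2, 2, 2, 0, 0, 0, 0, 0, 0, 2, 1, 0, 2]

theorem so3_run : orbCount trioAct (trioKey 127073) sGens so3I [67761699034271]
    (Nat.shiftLeft 1 (trioKey 127073 67761699034271)) 1 = 1008 := by
  decide +kernel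

theorem so3_v : trioValid 67761699034271 := (trioValid_iff _).2 (by decide +kernel)

theorem so3_le : 1008 ≤ (MulAction.orbit ↥(MulAction.stabilizer ↥M24 (famOf sZ)) (trioDec 67761699034271)).ncard :=
  trio_orbit_le _ 127073 (gens_of_famOK sGens_ok) so3_v so3_run (by norm_num)

theorem so3_e : trioDec 67761699034271 = famOf [5279, 4038912, 12733024] := trioDec_eq_famOf so3_v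

def so4I : List Nat :=
  [1, 2, 1, 2, 1, 2, 1, 2, 1, 2, 1, 0, 2, 1, 2, 1, 0, 2, 1, 0, 0, 0, 0, 2, 1, 2, 1, 0, 2, 2, 0, 0, 0, 0, 2, 1,
   2, 1, 2, 1, 0, 0, 0, 0, 0, 2, 1, 2, 2, 0, 0, 0, 2, 2, 2, 1, 0, 2, 0, 0, 0, 0, 0, 0, 0, 0, 0, 0, 2, 1, 2, 1,
   0, 2, 1, 2, 1, 2, 0, 0, 2, 2, 2, 1, 0, 2, 1, 0, 0, 0, 0, 0, 0, 0, 2, 1, 0, 2, 1, 2, 2, 2, 0, 0, 0, 0, 2, 1,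
   2, 0, 0, 2, 1, 2, 0, 0, 0, 0, 0, 0, 0, 0, 0, 2, 1, 0, 2, 1, 2, 1, 0, 2, 1, 0, 2, 0, 0, 0, 0, 2, 1, 2, 1, 2,
   1, 0, 0, 0, 2, 1, 0, 2, 2, 1, 0, 2, 0, 0, 0, 0, 0, 0, 2, 1, 2, 1, 0, 2, 1, 0, 0, 0, 0, 2, 1, 2, 1, 0, 2, 0,
   0, 0, 2, 1, 2, 2, 2, 0, 0, 0, 0, 2, 1, 2, 2, 1, 0, 0, 0, 0, 2, 1, 0, 0, 0, 0, 0, 0, 0, 0, 0, 0, 0, 0, 2, 1,
   2, 1, 0, 2, 1, 2, 1, 2, 0, 0, 2, 1, 2, 1, 0, 2, 2, 2, 0, 0, 0, 0, 0, 2, 0, 0, 0, 0, 2, 1, 0, 2, 1, 0, 2, 1,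
   2, 1, 0, 2, 1, 0, 2, 0, 0, 0, 0, 2, 1, 2, 0, 0, 2, 0, 0, 0, 0, 0, 0, 0, 0, 2, 1, 2, 1, 2, 2, 1, 2, 2, 1, 2,
   2, 0, 0, 0, 2, 1, 0, 0, 0, 0, 0, 2, 2, 2, 1, 0, 0, 0, 0, 0, 0, 0, 2, 1, 2, 2, 1, 0, 0, 0, 0, 2, 1, 2, 1, 0,
   0, 0, 2, 1, 0, 0, 0, 0, 0, 0, 2, 1, 2, 1, 2, 1, 2, 1, 0, 2, 1, 0, 0, 0, 0, 2, 1, 0, 2, 1, 0, 2, 1, 0, 2, 0,
   0, 0, 0, 0, 0, 2, 2, 1, 2, 1, 0, 2, 1, 2, 0, 0, 0, 0, 0, 2, 1, 2, 1, 2, 1, 0, 0, 0, 2, 0, 0, 0, 2, 0, 0, 0,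
   0, 0, 0, 2, 1, 2, 1, 2, 1, 0, 0, 0, 2, 1, 0, 2, 2, 2, 0, 0, 0, 0, 0, 0, 2, 1, 0, 2, 2, 1, 2, 1, 0, 2, 1, 2,
   0, 0, 2, 0, 0, 0, 0, 2, 0, 0, 0, 0, 0, 0, 0, 0, 0, 0, 2, 1, 2, 1, 2, 1, 2, 1, 2, 1, 0, 2, 1, 2, 1, 0, 0, 0,
   2, 1, 2, 2, 1, 0, 2, 0, 0, 0, 0, 0, 0, 0, 0, 2, 1, 0, 2, 1, 0, 2, 1, 2, 1, 2, 0, 0, 2, 1, 0, 0, 0, 0, 2, 2,
   2, 0, 0, 0, 0, 0, 0, 0, 0, 2, 1, 2, 0, 0, 2, 2, 2, 1, 2, 0, 0, 2, 1, 2, 1, 2, 0, 0, 2, 2, 1, 0, 0, 0, 0, 0,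
   2, 1, 2, 0, 0, 2, 2, 2, 0, 0, 0, 0, 0, 0, 0, 0, 0, 0, 0, 2, 1, 2, 1, 2, 1, 2, 2, 2, 0, 0, 0, 0, 2, 2, 2, 1,
   2, 0, 0, 2, 0, 0, 0, 0, 0, 0, 2, 1, 2, 1, 2, 2, 1, 2, 0, 0, 0, 0, 0, 2, 1, 2, 2, 1, 2, 0, 0, 0, 0, 0, 2, 1,
   2, 0, 0, 2, 0, 0, 0, 0, 0, 2, 2, 1, 2, 1, 0, 0, 0, 2, 1, 0, 2, 2, 0, 0, 0, 0, 0, 0, 0, 0, 2, 1, 2, 1, 2, 1,
   2, 0, 0, 2, 2, 0, 0, 0, 0, 2, 1, 0, 2, 1, 0, 0, 0, 0, 0, 2, 1, 2, 1, 2, 1, 2, 1, 0, 2, 0, 0, 0, 2, 1, 2, 0,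
   0, 2, 1, 0, 0, 0, 0, 0, 2, 1, 2, 0, 0, 0, 0, 0, 2, 1, 2, 1, 2, 0, 0, 2, 1, 0, 2, 1, 2, 1, 2, 0, 0, 2, 0, 0,
   0, 2, 2, 1, 0, 0, 0, 0, 0, 0, 0, 2, 1, 2, 2, 2, 1, 0, 2, 2, 0, 0, 0, 0, 0, 0, 2, 1, 0, 2, 1, 2, 1, 0, 0, 0,
   2, 1, 0, 2, 0, 0, 0, 0, 0, 0, 0, 0, 0, 0, 0, 2, 1, 2, 1, 2, 1, 2, 1, 2, 1, 0, 0, 0, 2, 1, 0, 2, 1, 0, 2, 1,
   0, 2, 0, 0, 0, 0, 0, 0, 2, 1, 2, 2, 1, 2, 1, 2, 2, 0, 0, 0, 0, 0, 0, 0, 0, 2, 1, 0, 2, 1, 0, 0, 0, 0, 0, 0,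
   2, 2, 1, 2, 1, 2, 2, 1, 0, 0, 0, 0, 2, 2, 1, 2, 0, 0, 2, 1, 0, 0, 0, 0, 0, 0, 2, 1, 2, 1, 2, 1, 0, 2, 2, 1,
   0, 2, 0, 0, 0, 0, 0, 0, 0, 2, 1, 2, 1, 0, 2, 2, 0, 0, 0, 0, 0, 0, 0, 0, 0, 0, 2, 1, 2, 1, 2, 1, 2, 1, 2, 2,
   1, 0, 2, 0, 0, 0, 0, 2, 1, 0, 2, 1, 2, 2, 0, 0, 0, 0, 0, 0, 0, 2, 2, 2, 1, 0, 2, 1, 2, 1, 0, 0, 0, 2, 0, 0,
   0, 0, 0, 0, 0, 2, 1, 2, 1, 2, 1, 0, 2, 1, 0, 2, 1, 0, 0, 0, 0, 0, 2, 1, 0, 2, 2, 0, 0, 0, 0, 0, 2, 1, 2, 1,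
   2, 2, 2, 0, 0, 0, 0, 2, 1, 2, 0, 0, 2, 1, 0, 2, 1, 0, 2, 0, 0, 0, 0, 0, 0, 2, 1, 2, 0, 0, 2, 1, 2, 0, 0, 2,
   2, 1, 0, 2, 1, 2, 0, 0, 0, 0, 0, 0, 0, 0, 0, 0, 0, 2, 1, 2, 1, 2, 1, 2, 0, 0, 2, 1, 2, 2, 1, 2, 0, 0, 0, 0,
   0, 2, 2, 1, 2, 0, 0, 0, 0, 0, 0, 0, 0, 0, 2, 1, 2, 1, 2, 2, 2, 1, 0, 0, 0, 0, 0, 2, 1, 2, 0, 0, 2, 1, 0, 0,
   0, 0, 0, 2, 1, 2, 1, 2, 1, 0, 0, 0, 0, 0, 2, 1, 2, 1, 2, 1, 2, 0, 0, 2, 1, 0, 2, 0, 0, 0, 0, 2, 2, 1, 0, 2,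
   1, 2, 2, 0, 0, 0, 0, 0, 0, 0, 0, 2, 1, 2, 1, 2, 1, 0, 2, 0, 0, 0, 0, 0, 2, 1, 0, 2, 2, 0, 0, 0, 0, 0, 0, 0,
   0, 0, 0, 0, 0, 0, 2, 1, 2, 1, 2, 1, 2, 1, 2, 1, 0, 2, 1, 2, 1, 0, 0, 0, 2, 2, 1, 2, 0, 0, 0, 0, 0, 0, 0, 2,
   1, 2, 1, 2, 2, 0, 0, 0, 2, 0, 0, 0, 2, 1, 2, 2, 1, 2, 0, 0, 2, 1, 0, 2, 1, 0, 0, 0, 0, 0, 0, 2, 1, 2, 1, 0,
   2, 1, 2, 2, 0, 0, 0, 0, 0, 0, 2, 2, 1, 0, 0, 0, 0, 0, 0, 0, 0, 2, 2, 1, 2, 1, 2, 0, 0, 2, 1, 2, 2, 2, 2, 1,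
   0, 2, 0, 0, 0, 0, 0, 0, 2, 2, 1, 2, 2, 0, 0, 0, 0, 0, 0, 0, 0, 2, 2, 2, 1, 2, 2, 1, 2, 0, 0, 0, 0, 0, 2, 1,
   2, 2, 1, 0, 2, 0, 0, 0, 0, 2, 2, 1, 2, 0, 0, 2, 1, 0, 0, 0, 0, 0, 0, 0, 0, 0, 0, 0, 0, 0, 0, 2, 1, 2, 1, 2,
   1, 2, 1, 2, 1, 0, 2, 2, 1, 2, 0, 0, 0, 0, 0, 0, 2, 1, 2, 1, 2, 2, 0, 0, 0, 0, 0, 2, 1, 2, 2, 2, 1, 0, 0, 0,
   0, 0, 2, 1, 0, 2, 1, 0, 2, 1, 2, 2, 0, 0, 0, 2, 0, 0, 0, 0, 0, 0, 0, 0, 2, 1, 2, 1, 2, 2, 1, 2, 0, 0, 0, 0,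
   0, 2, 2, 1, 2, 2, 0, 0, 0, 2, 2, 2, 0, 0, 0, 0, 0, 0, 0, 2, 1, 2, 1, 2, 0, 0, 2, 1, 2, 2, 1, 0, 0, 0, 0, 0,
   0, 0, 2, 1, 2, 1, 0, 2, 1, 0, 2, 0, 0, 0, 0, 2, 1, 2, 2, 1, 2, 2, 0, 0, 0, 2, 2, 0, 0, 0, 0, 0, 2, 1, 2, 0,
   0, 2, 2, 2, 1, 0, 2, 0, 0, 0, 0, 0, 0, 0, 0, 0, 0, 0, 2, 1, 2, 1, 2, 1, 0, 2, 1, 2, 2, 0, 0, 0, 2, 1, 0, 0,
   0, 0, 0, 2, 1, 2, 1, 2, 0, 0, 2, 1, 2, 1, 2, 1, 0, 2, 1, 0, 0, 0, 0, 0, 0, 2, 1, 2, 1, 0, 0, 0, 0, 0, 0, 0,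
   2, 1, 0, 2, 1, 2, 1, 0, 0, 0, 2, 1, 2, 0, 0, 2, 2, 2, 1, 2, 2, 0, 0, 0, 0, 0, 0, 0, 0, 0, 0, 0, 0, 2, 1, 2,
   1, 0, 2, 1, 2, 1, 0, 2, 1, 2, 0, 0, 2, 2, 0, 0, 0, 0, 0, 2, 1, 2, 2, 2, 0, 0, 0, 0, 2, 1, 0, 2, 2, 2, 0, 0,
   0, 0, 0, 0, 0, 0, 2, 1, 2, 2, 2, 2, 1, 0, 2, 1, 2, 0, 0, 2, 1, 0, 2, 1, 0, 0, 0, 0, 0, 0, 0, 0, 0, 2, 1, 2,
   1, 2, 0, 0, 2, 2, 2, 1, 0, 0, 0, 0, 0, 0, 2, 1, 2, 1, 2, 0, 0, 2, 2, 1, 0, 2, 0, 0, 0, 0, 0, 2, 1, 0, 2, 2,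
   1, 0, 2, 0, 0, 0, 0, 0, 0, 0, 0, 0, 0, 0, 2, 1, 2, 1, 2, 1, 2, 1, 0, 2, 1, 2, 1, 0, 2, 1, 2, 0, 0, 2, 0, 0,
   0, 0, 2, 1, 2, 0, 0, 2, 1, 2, 1, 0, 2, 0, 0, 0, 2, 1, 0, 2, 2, 2, 0, 0, 0, 0, 0, 0, 0, 0, 0, 2, 1, 2, 1, 2,
   2, 0, 0, 0, 0, 0, 2, 1, 2, 1, 2, 0, 0, 2, 0, 0, 0, 2, 1, 2, 1, 2, 1, 0, 0, 0, 2, 1, 2, 0, 0, 2, 0, 0, 0, 0,
   2, 1, 2, 1, 0, 0, 0, 2, 1, 2, 2, 0, 0, 0, 2, 2, 2, 1, 0, 0, 0, 0, 0, 0, 0, 0, 0, 0, 0, 2, 1, 2, 1, 2, 1, 2,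
   0, 0, 2, 1, 2, 2, 1, 0, 0, 0, 0, 2, 1, 2, 1, 0, 2, 0, 0, 0, 2, 1, 0, 2, 0, 0, 0, 0, 0, 0, 2, 1, 2, 2, 2, 1,
   2, 0, 0, 0, 0, 0, 0, 2, 1, 2, 1, 2, 1, 0, 2, 1, 0, 0, 0, 0, 2, 1, 0, 2, 2, 0, 0, 0, 0, 0, 2, 1, 0, 2, 1, 2,
   2, 2, 1, 0, 0, 0, 0, 0, 0, 0, 0, 0, 0, 0, 2, 1, 2, 1, 2, 1, 2, 1, 0, 0, 0, 0, 0, 2, 0, 0, 0, 2, 1, 2, 1, 2,
   1, 2, 0, 0, 0, 0, 2, 1, 2, 0, 0, 2, 1, 2, 0, 0, 0, 0, 0, 0, 2, 1, 2, 1, 2, 1, 2, 0, 0, 0, 0, 2, 1, 2, 2, 0,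
   0, 0, 2, 1, 2, 0, 0, 2, 1, 2, 0, 0, 0, 0, 0, 0, 0, 2, 1, 2, 2, 2, 0, 0, 0, 0, 2, 1, 2, 2, 2, 2, 0, 0, 0, 0,
   0, 0, 0, 0, 0, 0, 0, 0, 0, 2, 1, 2, 1, 2, 1, 2, 1, 2, 1, 0, 2, 1, 0, 2, 2, 1, 0, 2, 0, 0, 0, 0, 0, 0, 2, 1,
   0, 2, 1, 2, 0, 0, 2, 1, 2, 2, 0, 0, 0, 2, 1, 0, 2, 0, 0, 0, 0, 0, 0, 0, 2, 2, 1, 2, 1, 2, 0, 0, 0, 0, 2, 1,
   0, 2, 1, 2, 0, 0, 0, 0, 0, 0, 0, 0, 2, 1, 2, 1, 2, 1, 2, 1, 2, 0, 0, 2, 1, 0, 0, 0, 0, 0, 0, 0, 0, 2, 1, 2,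
   1, 2, 0, 0, 2, 1, 2, 1, 0, 0, 0, 0, 0, 0, 2, 1, 0, 2, 1, 2, 1, 2, 0, 0, 2, 2, 1, 2, 0, 0, 2, 0, 0, 0, 0, 0,
   2, 1, 2, 2, 1, 0, 2, 0, 0, 0, 0, 2, 0, 0, 0, 0, 0, 0, 0, 0, 2, 1, 2, 1, 2, 1, 2, 1, 2, 2, 0, 0, 0, 0, 0, 0,
   0, 2, 1, 2, 1, 2, 1, 0, 0, 0, 2, 1, 0, 0, 0, 0, 2, 1, 0, 2, 1, 0, 2, 2, 2, 1, 0, 0, 0, 0, 0, 0, 0, 0, 0, 2,
   1, 2, 1, 2, 1, 2, 1, 0, 2, 1, 2, 0, 0, 0, 0, 0, 0, 0, 0, 0, 2, 1, 2, 1, 2, 1, 2, 1, 2, 0, 0, 2, 1, 0, 2, 0,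
   0, 0, 0, 2, 0, 0, 0, 2, 1, 2, 1, 2, 0, 0, 2, 1, 2, 1, 0, 0, 0, 2, 0, 0, 0, 0, 2, 2, 1, 2, 1, 0, 2, 0, 0, 0,
   2, 1, 0, 2, 0, 0, 0, 0, 0, 0, 0, 2, 1, 2, 1, 2, 1, 2, 1, 2, 2, 0, 0, 0, 2, 0, 0, 0, 2, 2, 2, 0, 0, 0, 0, 0,
   0, 0, 2, 2, 1, 2, 1, 2, 0, 0, 0, 0, 2, 1, 2, 2, 0, 0, 0, 0, 0, 0, 0, 0, 0, 0, 0, 0, 0, 0, 0, 0, 2, 1, 2, 1,
   2, 1, 2, 1, 2, 1, 0, 2, 1, 2, 1, 0, 2, 1, 2, 1, 0, 2, 0, 0, 0, 0, 0, 0, 2, 1, 2, 1, 2, 0, 0, 2, 2, 0, 0, 0,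
   0, 2, 1, 2, 1, 2, 1, 0, 0, 0, 2, 1, 0, 0, 0, 0, 2, 1, 0, 2, 1, 0, 2, 1, 0, 0, 0, 0, 0, 0, 0, 0, 0, 2, 1, 2,
   1, 2, 2, 0, 0, 0, 2, 1, 2, 2, 1, 0, 0, 0, 0, 2, 1, 0, 0, 0, 0, 0, 2, 1, 2, 2, 2, 1, 2, 1, 0, 2, 2, 0, 0, 0,
   0, 0, 0, 0, 0, 2, 1, 2, 1, 2, 1, 2, 0, 0, 2, 0, 0, 0, 2, 1, 2, 1, 2, 0, 0, 2, 1, 0, 0, 0, 0, 2, 1, 0, 2, 2,
   0, 0, 0, 0, 0, 0, 0, 0, 0, 0, 0, 2, 1, 2, 2, 1, 2, 1, 2, 2, 2, 2, 1, 0, 2, 0, 0, 0, 0, 0, 0, 2, 0, 0, 0, 2,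
   1, 2, 2, 0, 0, 0, 2, 1, 2, 2, 1, 0, 2, 2, 1, 0, 0, 0, 0, 0, 0, 2, 2, 1, 2, 1, 0, 0, 0, 2, 1, 0, 0, 0, 0, 0,
   0, 0, 0, 0, 2, 1, 2, 1, 2, 2, 1, 0, 2, 1, 0, 2, 1, 2, 1, 2, 0, 0, 0, 0, 2, 0, 0, 0, 0, 0, 0, 2, 1, 2, 1, 0,
   2, 1, 2, 1, 2, 0, 0, 2, 0, 0, 0, 2, 1, 0, 2, 1, 0, 2, 0, 0, 0, 0, 0, 0, 2, 1, 2, 1, 2, 2, 2, 0, 0, 0, 0, 2,
   1, 2, 2, 2, 0, 0, 0, 0, 0, 0, 0, 2, 1, 2, 0, 0, 2, 1, 0, 2, 2, 0, 0, 0, 0, 0, 0, 0, 0, 2, 1, 2, 1, 2, 1, 2,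
   1, 2, 1, 0, 2, 2, 0, 0, 0, 0, 2, 0, 0, 0, 2, 1, 2, 1, 0, 0, 0, 2, 1, 2, 0, 0, 2, 1, 0, 0, 0, 0, 0, 0, 2, 2,
   1, 2, 0, 0, 2, 1, 2, 1, 0, 2, 0, 0, 0, 2, 0, 0, 0, 0, 0, 0, 2, 1, 2, 1, 2, 2, 2, 2, 0, 0, 0, 0, 0, 2, 1, 0,
   2, 2, 1, 0, 0, 0, 0, 0, 0, 2, 1, 2, 1, 2, 1, 0, 2, 2, 1, 2, 0, 0, 2, 2, 0, 0, 0, 0, 0, 0, 2, 1, 2, 0, 0, 2,
   1, 2, 0, 0, 2, 2, 0, 0, 0, 0, 0, 0, 2, 1, 2, 1, 0, 2, 0, 0, 0, 2, 1, 2, 1, 2, 1, 2, 0, 0, 2, 0, 0, 0, 2, 1,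
   2, 2, 0, 0, 0, 2, 2, 0, 0, 0, 0, 0, 2, 1, 2, 1, 0, 2, 0, 0, 0, 2, 1, 2, 2, 1, 0, 0, 0, 0, 2, 1, 2, 0, 0, 0,
   0, 0, 0, 0, 0, 0, 0, 0, 0, 0, 0, 2, 1, 2, 1, 2, 1, 0, 2, 1, 2, 2, 1, 2, 1, 0, 0, 0, 2, 2, 2, 2, 1, 2, 0, 0,
   0, 0, 0, 0, 0, 0, 0, 2, 1, 2, 2, 1, 2, 2, 1, 0, 0, 0, 0, 2, 1, 2, 2, 0, 0, 0, 2, 0, 0, 0, 0, 0, 2, 1, 0, 2,
   1, 2, 2, 1, 2, 0, 0, 2, 0, 0, 0, 0, 0, 0, 0, 0, 0, 0, 2, 1, 2, 1, 2, 2, 1, 2, 0, 0, 2, 2, 1, 2, 0, 0, 2, 1,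
   0, 2, 1, 0, 2, 0, 0, 0, 0, 0, 0, 0, 0, 2, 1, 2, 1, 2, 2, 1, 0, 2, 2, 0, 0, 0, 0, 0, 2, 1, 2, 1, 2, 0, 0, 0,
   0, 2, 1, 2, 1, 0, 2, 0, 0, 0, 2, 1, 0, 2, 0, 0, 0, 0, 0, 0, 2, 1, 2, 1, 2, 0, 0, 0, 0, 2, 1, 0, 2, 1, 2, 2,
   2, 2, 0, 0, 0, 0, 0, 2, 0, 0, 0, 0, 0, 0, 0, 2, 1, 2, 1, 2, 1, 2, 2, 1, 0, 0, 0, 0, 2, 1, 2, 2, 2, 0, 0, 0,
   0, 2, 1, 0, 2, 0, 0, 0, 0, 0, 2, 1, 2, 1, 2, 1, 0, 2, 2, 0, 0, 0, 0, 0, 0, 2, 1, 2, 2, 0, 0, 0, 2, 1, 2, 1,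
   2, 0, 0, 0, 0, 2, 1, 0, 2, 2, 0, 0, 0, 0, 0, 0, 0, 0, 2, 1, 2, 1, 2, 1, 2, 1, 2, 1, 0, 0, 0, 2, 0, 0, 0, 2,
   2, 1, 0, 0, 0, 0, 0, 2, 1, 2, 1, 2, 2, 0, 0, 0, 2, 1, 0, 0, 0, 0, 0, 0, 0, 2, 1, 2, 1, 2, 2, 0, 0, 0, 2, 1,
   0, 2, 2, 2, 1, 0, 2, 0, 0, 0, 0, 0, 0, 0, 2, 2, 1, 0, 0, 0, 0, 0, 0, 0, 0, 0, 2, 1, 2, 1, 2, 1, 2, 1, 2, 2,
   1, 0, 2, 2, 0, 0, 0, 0, 0, 2, 1, 2, 2, 1, 0, 0, 0, 0, 2, 2, 1, 2, 0, 0, 2, 2, 1, 0, 0, 0, 0, 0, 0, 0, 0, 2,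
   1, 2, 2, 1, 0, 0, 0, 0, 2, 1, 0, 2, 1, 2, 2, 2, 0, 0, 0, 0, 2, 2, 2, 2, 0, 0, 0, 0, 0, 0, 0, 0, 0, 2, 1, 2,
   1, 2, 1, 2, 2, 1, 0, 2, 0, 0, 0, 0, 2, 1, 0, 2, 1, 2, 2, 0, 0, 0, 2, 0, 0, 0, 0, 0, 2, 1, 2, 1, 2, 0, 0, 0,
   0, 0, 0, 0, 2, 1, 2, 1, 2, 2, 1, 2, 0, 0, 2, 1, 0, 2, 0, 0, 0, 0, 0, 0, 0, 2, 1, 2, 0, 0, 0, 0, 0, 0, 0, 2,
   1, 2, 1, 2, 1, 2, 1, 2, 0, 0, 2, 1, 2, 1, 0, 2, 1, 0, 0, 0, 0, 0, 0, 0, 0, 0, 2, 1, 2, 1, 2, 1, 2, 1, 0, 0,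
   0, 2, 1, 2, 2, 0, 0, 0, 2, 1, 0, 0, 0, 0, 0, 2, 1, 2, 1, 2, 0, 0, 2, 1, 0, 0, 0, 0, 0, 0, 0, 2, 1, 2, 1, 2,
   2, 1, 2, 1, 0, 0, 0, 2, 0, 0, 0, 0, 2, 1, 0, 0, 0, 0, 2, 2, 2, 2, 1, 2, 1, 0, 0, 0, 0, 0, 0, 0, 0, 0, 0, 0,
   2, 1, 2, 2, 1, 2, 1, 2, 0, 0, 2, 1, 0, 2, 1, 2, 2, 1, 0, 0, 0, 0, 2, 1, 0, 2, 0, 0, 0, 0, 0, 0, 2, 1, 2, 1,
   0, 2, 1, 0, 2, 0, 0, 0, 0, 2, 1, 2, 2, 1, 0, 2, 0, 0, 0, 0, 2, 1, 0, 0, 0, 0, 0, 0, 0, 2, 1, 2, 1, 2, 1, 2,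
   1, 2, 0, 0, 2, 0, 0, 0, 2, 1, 2, 2, 0, 0, 0, 2, 1, 0, 2, 0, 0, 0, 0, 0, 2, 1, 2, 1, 2, 0, 0, 2, 1, 0, 2, 2,
   1, 0, 0, 0, 0, 0, 0, 2, 2, 2, 1, 0, 0, 0, 0, 0, 0, 0, 2, 1, 2, 1, 2, 2, 0, 0, 0, 2, 2, 2, 0, 0, 0, 0, 0, 0,
   0, 0, 0, 0, 0, 0, 0, 2, 1, 2, 1, 2, 1, 2, 1, 2, 1, 0, 0, 0, 2, 1, 2, 2, 1, 2, 1, 0, 2, 1, 2, 1, 0, 0, 0, 0,
   0, 0, 2, 1, 2, 1, 0, 2, 2, 0, 0, 0, 0, 0, 0, 0, 0, 2, 1, 2, 2, 2, 2, 2, 2, 0, 0, 0, 0, 0, 0, 0, 2, 1, 2, 1,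
   2, 1, 0, 2, 2, 2, 0, 0, 0, 0, 0, 0, 0, 2, 0, 0, 0, 0, 0, 0, 2, 1, 2, 1, 2, 2, 1, 0, 2, 1, 0, 2, 2, 2, 2, 0,
   0, 0, 0, 0, 0, 0, 0, 2, 1, 2, 1, 2, 0, 0, 2, 1, 2, 1, 0, 0, 0, 2, 1, 2, 1, 0, 0, 0, 0, 0, 0, 0, 2, 1, 2, 1,
   2, 2, 2, 0, 0, 0, 0, 2, 2, 0, 0, 0, 0, 2, 1, 2, 1, 2, 2, 0, 0, 0, 0, 0, 0, 0, 0, 0, 0, 2, 1, 2, 1, 2, 0, 0,
   2, 1, 2, 0, 0, 2, 1, 2, 1, 0, 2, 1, 0, 2, 0, 0, 0, 0, 2, 1, 2, 0, 0, 2, 2, 2, 0, 0, 0, 0, 0, 0, 0, 0, 2, 1,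
   2, 2, 1, 2, 1, 2, 0, 0, 0, 0, 2, 0, 0, 0, 0, 2, 1, 2, 1, 2, 2, 2, 0, 0, 0, 0, 2, 1, 2, 1, 0, 2, 0, 0, 0, 0,
   0, 0, 2, 1, 0, 2, 1, 0, 2, 1, 0, 2, 0, 0, 0, 0, 0, 0, 0, 0, 0, 0, 2, 1, 2, 1, 2, 1, 2, 1, 2, 1, 0, 2, 2, 1,
   2, 2, 0, 0, 0, 0, 0, 0, 0, 2, 1, 2, 1, 2, 0, 0, 0, 0, 0, 0, 0, 2, 1, 2, 2, 1, 0, 0, 0, 0, 2, 1, 2, 1, 2, 0,
   0, 2, 0, 0, 0, 2, 1, 2, 0, 0, 2, 1, 0, 2, 1, 0, 2, 1, 0, 0, 0, 0, 0, 0, 0, 0, 0, 2, 1, 2, 1, 2, 2, 1, 2, 0,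
   0, 2, 2, 1, 0, 2, 1, 2, 0, 0, 0, 0, 0, 0, 0, 0, 2, 1, 2, 1, 2, 1, 0, 0, 0, 2, 1, 0, 2, 1, 2, 0, 0, 2, 0, 0,
   0, 0, 0, 2, 1, 2, 1, 2, 0, 0, 2, 1, 0, 2, 1, 0, 2, 0, 0, 0, 0, 0, 2, 1, 0, 0, 0, 0, 0, 0, 2, 2, 1, 2, 1, 2,
   1, 0, 2, 0, 0, 0, 0, 0, 2, 1, 0, 0, 0, 0, 0, 0, 0, 2, 1, 2, 1, 2, 1, 2, 1, 2, 1, 0, 2, 2, 2, 0, 0, 0, 0, 0,
   2, 1, 2, 2, 0, 0, 0, 2, 1, 0, 2, 1, 0, 2, 0, 0, 0, 0, 0, 0, 2, 1, 2, 1, 2, 0, 0, 2, 1, 2, 0, 0, 2, 1, 2, 0,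
   0, 0, 0, 0, 0, 2, 1, 0, 2, 2, 1, 0, 2, 1, 2, 1, 0, 0, 0, 2, 1, 2, 0, 0, 2, 0, 0, 0, 0, 0, 0, 0, 0, 0, 2, 1,
   2, 1, 2, 1, 2, 1, 2, 0, 0, 0, 0, 2, 1, 0, 0, 0, 0, 2, 2, 1, 2, 0, 0, 2, 1, 0, 0, 0, 0, 0, 0, 2, 1, 2, 1, 0,
   2, 1, 2, 1, 0, 2, 1, 0, 2, 1, 0, 0, 0, 0, 0, 2, 0, 0, 0, 0, 2, 1, 2, 1, 2, 1, 0, 2, 1, 2, 0, 0, 0, 0, 0, 2,
   1, 2, 0, 0, 0, 0, 0, 2, 1, 2, 0, 0, 0, 0, 0, 0, 0, 0, 2, 1, 2, 1, 2, 1, 2, 0, 0, 2, 1, 2, 2, 2, 2, 0, 0, 0,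
   0, 0, 2, 2, 2, 2, 2, 0, 0, 0, 0, 0, 0, 0, 0, 2, 2, 1, 2, 1, 0, 2, 1, 2, 2, 0, 0, 0, 0, 0, 0, 2, 1, 2, 1, 0,
   2, 0, 0, 0, 2, 1, 2, 2, 2, 2, 0, 0, 0, 0, 0, 2, 1, 2, 2, 0, 0, 0, 2, 1, 0, 2, 1, 2, 2, 0, 0, 0, 0, 0, 0, 0,
   0, 0, 0, 0, 0, 2, 1, 2, 1, 2, 1, 2, 2, 1, 2, 0, 0, 0, 0, 0, 2, 1, 2, 2, 1, 0, 0, 0, 0, 2, 2, 1, 2, 0, 0, 2,
   0, 0, 0, 0, 0, 0, 2, 2, 1, 2, 1, 0, 2, 1, 0, 2, 1, 0, 2, 0, 0, 0, 0, 0, 2, 1, 2, 1, 0, 0, 0, 2, 1, 0, 2, 1,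
   0, 2, 0, 0, 0, 0, 0, 0, 0, 0, 2, 2, 1, 2, 1, 2, 1, 2, 0, 0, 2, 0, 0, 0, 2, 1, 0, 2, 1, 2, 0, 0, 0, 0, 0, 0,
   2, 1, 2, 1, 2, 0, 0, 0, 0, 2, 1, 2, 0, 0, 2, 0, 0, 0, 0, 0, 0, 0, 0, 0, 0, 0, 2, 1, 2, 2, 1, 2, 1, 2, 1, 0,
   2, 1, 2, 2, 1, 0, 2, 1, 0, 0, 0, 0, 0, 2, 1, 2, 1, 2, 0, 0, 2, 1, 2, 0, 0, 2, 0, 0, 0, 0, 0, 0, 0, 0, 2, 1,
   2, 1, 2, 2, 1, 2, 0, 0, 2, 0, 0, 0, 0, 2, 1, 2, 1, 0, 2, 2, 0, 0, 0, 0, 2, 1, 0, 0, 0, 0, 0, 2, 1, 2, 1, 2,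
   0, 0, 2, 2, 2, 1, 0, 0, 0, 0, 0, 0, 2, 1, 2, 1, 2, 0, 0, 2, 2, 1, 2, 0, 0, 0, 0, 0, 0, 2, 1, 2, 0, 0, 2, 2,
   1, 2, 1, 0, 2, 0, 0, 0, 0, 0, 0, 0, 0, 0, 0, 0, 2, 1, 2, 1, 2, 2, 1, 2, 0, 0, 0, 0, 0, 2, 1, 2, 1, 2, 0, 0,
   0, 0, 2, 1, 2, 1, 2, 2, 0, 0, 0, 2, 1, 2, 1, 0, 2, 0, 0, 0, 2, 2, 0, 0, 0, 0, 0, 2, 0, 0, 0, 0, 0, 2, 1, 2,
   1, 2, 1, 2, 1, 2, 2, 0, 0, 0, 2, 2, 0, 0, 0, 0, 0, 0, 2, 1, 2, 1, 0, 2, 1, 0, 2, 1, 0, 2, 0, 0, 0, 0, 0, 2,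
   1, 2, 2, 1, 2, 0, 0, 2, 0, 0, 0, 0, 2, 1, 0, 2, 1, 0, 2, 0, 0, 0, 0, 0, 0, 0, 2, 1, 0, 2, 1, 2, 1, 2, 1, 2,
   0, 0, 0, 0, 2, 1, 2, 2, 0, 0, 0, 0, 0, 0, 2, 1, 2, 1, 2, 2, 2, 0, 0, 0, 0, 0, 0, 2, 1, 0, 2, 1, 0, 2, 1, 0,
   0, 0, 0, 0, 0, 0, 0, 0, 0, 0, 0, 2, 1, 2, 1, 2, 1, 0, 2, 1, 2, 1, 2, 2, 1, 0, 2, 1, 0, 0, 0, 0, 0, 2, 1, 2,
   0, 0, 2, 1, 2, 1, 0, 2, 0, 0, 0, 0, 0, 0, 0, 2, 1, 2, 1, 2, 0, 0, 2, 1, 0, 2, 2, 2, 2, 0, 0, 0, 0, 0, 0, 0,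
   2, 1, 2, 1, 2, 1, 2, 0, 0, 2, 1, 0, 2, 1, 0, 0, 0, 0, 0, 2, 1, 0, 2, 2, 0, 0, 0, 0, 0, 2, 2, 1, 0, 0, 0, 0,
   0, 0, 0, 0, 2, 1, 2, 1, 2, 1, 2, 2, 1, 2, 0, 0, 2, 1, 2, 0, 0, 0, 0, 0, 0, 2, 1, 2, 2, 0, 0, 0, 2, 1, 0, 2,
   1, 2, 1, 2, 0, 0, 0, 0, 0, 0, 0, 0, 0, 2, 1, 0, 2, 2, 1, 0, 2, 1, 2, 2, 1, 0, 2, 0, 0, 0, 0, 0, 0, 0, 0, 0,
   0, 2, 1, 0, 0, 0, 0, 0, 2, 1, 2, 1, 2, 1, 2, 1, 2, 1, 0, 2, 1, 0, 2, 1, 0, 2, 1, 0, 0, 0, 0, 0, 0, 2, 1, 0,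
   2, 2, 0, 0, 0, 0, 0, 2, 1, 2, 1, 0, 2, 2, 2, 2, 0, 0, 0, 0, 0, 0, 2, 1, 0, 2, 1, 0, 2, 2, 2, 2, 0, 0, 0, 0,
   0, 0, 0, 0, 0, 2, 1, 2, 1, 0, 2, 2, 2, 0, 0, 0, 0, 0, 2, 1, 2, 1, 2, 1, 0, 2, 2, 2, 0, 0, 0, 0, 0, 2, 1, 2,
   2, 1, 2, 0, 0, 2, 1, 0, 2, 0, 0, 0, 0, 0, 2, 1, 2, 1, 0, 0, 0, 0, 0, 0, 0, 2, 1, 2, 1, 2, 1, 2, 0, 0, 0, 0,
   2, 2, 0, 0, 0, 0, 2, 1, 2, 1, 2, 0, 0, 2, 1, 2, 2, 0, 0, 0, 2, 2, 0, 0, 0, 0, 0, 2, 1, 2, 2, 0, 0, 0, 2, 2,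
   1, 0, 2, 2, 0, 0, 0, 0, 0, 0, 0, 0, 0, 0, 0, 2, 1, 0, 2, 1, 2, 1, 2, 1, 2, 1, 0, 2, 1, 0, 2, 0, 0, 0, 0, 0,
   0, 2, 1, 2, 1, 0, 0, 0, 2, 2, 2, 2, 2, 0, 0, 0, 0, 0, 0, 0, 0, 2, 1, 2, 1, 2, 1, 2, 1, 2, 1, 0, 0, 0, 2, 2,
   0, 0, 0, 0, 2, 1, 0, 2, 0, 0, 0, 0, 2, 1, 2, 1, 2, 1, 0, 0, 0, 2, 1, 2, 0, 0, 0, 0, 0, 2, 1, 2, 2, 0, 0, 0,
   0, 0, 0, 0, 2, 1, 2, 1, 2, 1, 2, 1, 2, 0, 0, 0, 0, 2, 1, 2, 1, 0, 0, 0, 2, 0, 0, 0, 0, 2, 1, 2, 1, 2, 0, 0,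
   0, 0, 2, 1, 2, 0, 0, 2, 1, 0, 0, 0, 0, 0, 0, 2, 1, 2, 1, 2, 1, 0, 2, 1, 2, 2, 0, 0, 0, 2, 0, 0, 0, 0, 2, 2,
   1, 2, 0, 0, 2, 0, 0, 0, 0, 0, 2, 1, 2, 2, 1, 0, 2, 0, 0, 0, 0, 2, 1, 2, 1, 2, 0, 0, 2, 2]

theorem so4_run : orbCount trioAct (trioKey 904261) sGens so4I [16940424762527]
    (Nat.shiftLeft 1 (trioKey 904261 16940424762527)) 1 = 2688 := by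
  decide +kernel

theorem so4_v : trioValid 16940424762527 := (trioValid_iff _).2 (by decide +kernel)

theorem so4_le : 2688 ≤ (MulAction.orbit ↥(MulAction.stabilizer ↥M24 (famOf sZ)) (trioDec 16940424762527)).ncard :=
  trio_orbit_le _ 904261 (gens_of_famOK sGens_ok) so4_v so4_run (by norm_num)

theorem so4_e : trioDec 16940424762527 = famOf [5279, 1009728, 15762208] := trioDec_eq_famOf so4_v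

theorem s_orbits : MaxOrbits4 (famOf sZ) trios 42 56 1008 2688 := by
  refine maxOrbits4_of_lower (famOf sZ) trios (fun g hg x hx => smul_mem_trios hg hx)
    (fun y hy => by rw [← sZ_eq]; exact exists_m24_trio sZ_v hy) (by rw [← sZ_eq]; exact trioDec_mem sZ_v)
    (trioDec_mem so1_v) (trioDec_mem so2_v) (trioDec_mem so3_v) (trioDec_mem so4_v)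
    so1_le so2_le so3_le so4_le
    (by rw [Helper26.trios_ncard]) ?_ ?_ ?_ ?_ ?_ ?_ ?_ ?_ ?_ ?_ arith_trios
  · exact ne_of_not_mem_orbit (not_orbit_of_interB (zs := sZ) (xs := sZ) (xs' := [18147, 7903248, 8855820])
      (fun g h => h) (fam_of_eq rfl so1_e)
      (by decide +kernel) (by decide +kernel) (by decide +kernel) 4 (by decide +kernel))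
  · exact ne_of_not_mem_orbit (not_orbit_of_interB (zs := sZ) (xs := sZ) (xs' := [18147, 4038912, 12720156])
      (fun g h => h) (fam_of_eq rfl so2_e)
      (by decide +kernel) (by decide +kernel) (by decide +kernel) 4 (by decide +kernel))
  · exact ne_of_not_mem_orbit (not_orbit_of_interB (zs := sZ) (xs := sZ) (xs' := [5279, 4038912, 12733024])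
      (fun g h => h) (fam_of_eq rfl so3_e)
      (by decide +kernel) (by decide +kernel) (by decide +kernel) 2 (by decide +kernel))
  · exact ne_of_not_mem_orbit (not_orbit_of_interB (zs := sZ) (xs := sZ) (xs' := [5279, 1009728, 15762208])
      (fun g h => h) (fam_of_eq rfl so4_e)
      (by decide +kernel) (by decide +kernel) (by decide +kernel) 0 (by decide +kernel))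
  · exact not_orbit_of_interB (zs := sZ) (xs := [18147, 7903248, 8855820]) (xs' := [18147, 4038912, 12720156])
      (fun g h => h) (fam_of_eq so1_e so2_e)
      (by decide +kernel) (by decide +kernel) (by decide +kernel) 8 (by decide +kernel)
  · exact not_orbit_of_interB (zs := sZ) (xs := [18147, 7903248, 8855820]) (xs' := [5279, 4038912, 12733024])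
      (fun g h => h) (fam_of_eq so1_e so3_e)
      (by decide +kernel) (by decide +kernel) (by decide +kernel) 2 (by decide +kernel)
  · exact not_orbit_of_interB (zs := sZ) (xs := [18147, 7903248, 8855820]) (xs' := [5279, 1009728, 15762208])
      (fun g h => h) (fam_of_eq so1_e so4_e)
      (by decide +kernel) (by decide +kernel) (by decide +kernel) 0 (by decide +kernel)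
  · exact not_orbit_of_interB (zs := sZ) (xs := [18147, 4038912, 12720156]) (xs' := [5279, 4038912, 12733024])
      (fun g h => h) (fam_of_eq so2_e so3_e)
      (by decide +kernel) (by decide +kernel) (by decide +kernel) 2 (by decide +kernel)
  · exact not_orbit_of_interB (zs := sZ) (xs := [18147, 4038912, 12720156]) (xs' := [5279, 1009728, 15762208])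
      (fun g h => h) (fam_of_eq so2_e so4_e)
      (by decide +kernel) (by decide +kernel) (by decide +kernel) 0 (by decide +kernel)
  · exact not_orbit_of_interB (zs := sZ) (xs := [5279, 4038912, 12733024]) (xs' := [5279, 1009728, 15762208])
      (fun g h => h) (fam_of_eq so3_e so4_e)
      (by decide +kernel) (by decide +kernel) (by decide +kernel) 0 (by decide +kernel)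

/-- A trio stabiliser has five orbits on the 3795 trios, of sizes 1, 42, 56, 1008, 2688; and the stabiliser is a maximal proper subgroup. -/
theorem result (T : Finset (Finset Cfsg.GolayPt)) (hT : T ∈ Cfsg.trios) : ∃ X₁ ∈ Cfsg.trios, ∃ X₂ ∈ Cfsg.trios, ∃ X₃ ∈ Cfsg.trios, ∃ X₄ ∈ Cfsg.trios, (MulAction.orbit ↥(MulAction.stabilizer Cfsg.M24 T) X₁).ncard = 42 ∧ (MulAction.orbit ↥(MulAction.stabilizer Cfsg.M24 T) X₂).ncard = 56 ∧ (MulAction.orbit ↥(MulAction.stabilizer Cfsg.M24 T) X₃).ncard = 1008 ∧ (MulAction.orbit ↥(MulAction.stabilizer Cfsg.M24 T) X₄).ncard = 2688 ∧ Cfsg.trios = {T} ∪ MulAction.orbit ↥(MulAction.stabilizer Cfsg.M24 T) X₁ ∪ MulAction.orbit ↥(MulAction.stabilizer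 Cfsg.M24 T) X₂ ∪ MulAction.orbit ↥(MulAction.stabilizer Cfsg.M24 T) X₃ ∪ MulAction.orbit ↥(MulAction.stabilizer Cfsg.M24 T) X₄ ∧ IsCoatom (MulAction.stabilizer Cfsg.M24 T) := by
  obtain ⟨u, hu, rfl⟩ := exists_m24_trio sZ_v hT
  rw [sZ_eq]
  exact s_orbits.smul hu (fun g hg x hx => smul_mem_trios hg hx)

end Cfsg.Agent.S1559
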