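import Cfsg.Statements.S1608
import Cfsg.Agent.Helper91.OrbitLib2

set_option autoImplicit false
open scoped Pointwise
open Cfsg

namespace Cfsg.Agent.S1608

open Cfsg.Agent.Helper91

/-- The stabilizer of `oct0` and of the point 4 outside it on the octads avoiding that point. Generators. -/
def sGens : List (List Nat) :=
  [[23, 0, 5, 14, 4, 2, 12, 16, 13, 6, 20, 21, 9, 7, 3, 22, 15, 17, 11, 10, 18, 19, 8, 1],
   [17, 2, 23, 3, 4, 0, 19, 12, 8, 20, 22, 21, 11, 9, 1, 16, 13, 14, 7, 18, 10, 6, 15, 5]]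

/-- The stabilizer of `oct0` and of the point 4 outside it on the octads avoiding that point. Orbit certificates (sizes 15, 280, 210, 1). -/
def sCerts : List OrbCert := [
  ⟨0, 337856,
    [1, 1, 0, 0, 2, 1, 1, 2, 1, 1, 1, 0, 0, 2, 0, 0, 0, 0, 2, 0, 0, 2, 1, 1],
    9019518416950528558373478086511232658951474842525520401496114928154304263955044533034354666652802678529429944909021697973363956266863372579568635933635410316446386967198304845765348079323054720087756779431433759786123424003416027803841027446927161675031015210143641354354421373586264160772397726873525830288825359741924885305984399519622800501538527574859010596233776953712079518095716912402685765585051414277074950109486058320787810021069580046454448041543587991782091471007095770546553673666952004006306168395303107955170576383650533723259332351591773685906216402243082137953263168264811312556861547502127147532373056632393074675095807430438508526400544203626390902894558048104863701251186825866259487838971085111762853571703627525008853425220822432059464956381520828269394544443737097341191493273782720402914779639525069622322248181513725651991827041556270339221630176997077412541545129280664201920632606396466569827142514773046973255541595211879448390810356521288855855410724294209160257305157175337255914834434875216677411709139056034625477193180633293328639129671815989103630794996214102313410997685813616559920312529333372809866824317492847129395200⟩,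
  ⟨2, 15777,
    [1, 1, 1, 1, 1, 2, 0, 0, 2, 1, 1, 1, 1, 0, 0, 0, 2, 1, 0, 0, 0, 2, 1, 2, 1, 0, 2, 0, 0, 0, 2, 1, 2, 1, 0,
     0, 0, 2, 2, 0, 0, 0, 0, 0, 0, 2, 1, 1, 1, 0, 2, 1, 0, 0, 0, 0, 2, 2, 1, 2, 1, 0, 2, 1, 0, 0, 0, 0, 2, 1,
     2, 2, 0, 0, 0, 2, 2, 0, 0, 0, 0, 0, 0, 0, 2, 1, 1, 2, 1, 1, 0, 2, 2, 2, 0, 0, 0, 0, 2, 1, 2, 0, 0, 0, 0,
     0, 2, 1, 1, 1, 0, 2, 1, 0, 0, 0, 2, 2, 2, 0, 0, 0, 0, 2, 1, 1, 0, 0, 0, 0, 0, 2, 2, 1, 1, 1, 2, 1, 0, 0,
     0, 2, 2, 0, 0, 0, 2, 1, 0, 2, 2, 0, 0, 0, 0, 2, 1, 0, 2, 1, 0, 0, 0, 0, 0, 0, 0, 2, 1, 1, 1, 2, 1, 2, 0,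
     0, 2, 0, 0, 0, 2, 1, 1, 1, 2, 1, 0, 0, 0, 2, 1, 1, 0, 0, 2, 0, 0, 0, 2, 1, 1, 2, 0, 0, 2, 0, 0, 0, 0, 2,
     2, 1, 2, 0, 0, 0, 0, 0, 0, 2, 1, 1, 1, 1, 0, 2, 1, 0, 0, 0, 2, 1, 2, 0, 0, 0, 0, 2, 2, 0, 0, 0, 2, 1, 1,
     2, 1, 0, 0, 0, 2, 2, 1, 0, 2, 0, 0, 0, 0, 2, 1, 1, 0, 2, 0, 0, 2, 2, 2, 1, 0, 0, 0, 0, 0, 0, 0, 0, 2, 1,
     1, 1, 0, 2, 1, 1, 0, 2, 1, 0, 2, 0, 0, 0, 0, 0, 2, 2, 1, 2, 0, 0, 2, 1, 0, 2, 1, 2, 0, 0, 2, 2, 0, 0, 0,
     0, 0, 0, 0, 2, 1, 1, 1, 1, 0, 2, 0, 0, 0, 2, 1, 0, 2, 2, 2, 0, 0, 0, 0, 0, 0, 0, 0, 0, 2, 1, 1, 1, 1, 2,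
     1, 2, 0, 0, 0, 0, 0, 2, 1, 1, 1, 2, 2, 0, 0, 0, 2, 2, 0, 0, 0, 2, 1, 1, 1, 1, 0, 0, 0, 2, 0, 0, 2, 2, 0,
     0, 0, 0, 2, 2, 1, 1, 2, 0, 0, 0, 2, 2, 0, 0, 0, 0, 0, 0, 2, 1, 1, 1, 2, 2, 2, 0, 0, 0, 0, 2, 1, 1, 2, 0,
     0, 0, 2, 1, 0, 0, 0, 0, 2, 1, 1, 0, 0, 2, 1, 1, 0, 2, 0, 0, 2, 1, 0, 2, 1, 0, 0, 0, 0, 0, 0, 2, 1, 1, 2,
     1, 2, 0, 0, 2, 1, 0, 0, 0, 0, 2, 1, 2, 1, 0, 0, 0, 2, 1, 2, 0, 0, 2, 1, 0, 0, 0, 0, 0, 2, 1, 2, 2, 2, 0,
     0, 0, 0, 2, 1, 0, 2, 2, 0, 0, 0, 0, 0, 0, 0, 2, 1, 1, 1, 1, 2, 0, 0, 0, 2, 1, 1, 2, 2, 0, 0, 0, 0, 2, 2,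
     0, 0, 0, 0, 2, 1, 1, 2, 1, 2, 0, 0, 2, 0, 0, 0, 0, 2, 1, 0, 2, 1, 0, 2, 2],
    3069183258344488755150436757045496005900095403161300028738542375009403572940044590172928405259989246704107251218949680360109576422647186778077884138445221213492848780925333939979985616456764006858208816569376315520709807761838211179907570585869248398147881218713679638985844337085336564204383200580308460848500650035123131059398427414735769301459756181178750487264521183871598360250309881777536061526764935590974855979644288769049538524764298214317242706703425679977893674267916272189807945970888164308001406812306901876484326540531089366119296369465455374509397306172289384135538429565177099002592860048744069003315407788706111312488978654379941802206286925137405515144190945324295329800475005279431974330242806067892381448642567636156300293058882475791105114119998403725161194299974037999839609798747428148022347716412383275334138196982137107261866131908689277160038021485607549015930502511628930846911606266232108513657502184903284905787007753271303981642117614681915934989012585796278709404893697489853806635569100942726050298101619359091830007554395967039168930328617805985388943782454209005603450265870374531982847647966409019379274106506935481862160798055401720499849796861883785920119060⟩,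
  ⟨4, 18147,
    [1, 1, 1, 1, 1, 2, 1, 1, 0, 2, 0, 0, 2, 2, 0, 0, 0, 0, 2, 1, 0, 2, 1, 1, 2, 0, 0, 0, 2, 0, 0, 0, 0, 2, 1,
     1, 1, 2, 0, 0, 0, 2, 1, 0, 2, 2, 2, 0, 0, 0, 0, 0, 0, 0, 2, 1, 1, 1, 1, 1, 0, 0, 0, 2, 1, 1, 1, 0, 0, 2,
     1, 0, 0, 0, 2, 2, 1, 0, 0, 0, 0, 0, 2, 1, 2, 0, 0, 2, 1, 2, 1, 0, 0, 0, 2, 0, 0, 0, 0, 2, 1, 1, 2, 2, 0,
     0, 0, 2, 1, 0, 0, 0, 2, 1, 1, 2, 0, 0, 2, 0, 0, 2, 1, 0, 2, 1, 2, 0, 0, 2, 0, 0, 0, 0, 0, 0, 0, 2, 1, 1,
     1, 1, 1, 0, 0, 2, 0, 0, 2, 2, 1, 2, 0, 0, 2, 1, 1, 0, 0, 2, 2, 0, 0, 0, 0, 0, 0, 2, 1, 1, 1, 1, 2, 0, 0,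
     2, 1, 0, 0, 0, 0, 0, 2, 0, 0, 0, 2, 1, 1, 1, 2, 0, 0, 2, 0, 0, 2, 1, 1, 0, 2, 1, 0, 0, 0, 2, 2, 1, 0, 0,
     0, 0, 0, 2, 2, 1, 1, 0, 2, 1, 0, 0, 0, 2, 1, 1, 0, 0, 2, 1, 0, 0, 0, 0, 0, 0, 0, 0, 2, 1, 1, 1, 1, 1, 2,
     1, 2, 0, 0, 2, 0, 0, 0, 2, 0, 0, 0, 2, 1, 1, 1, 0, 2, 1, 0, 0, 0, 2, 1, 1, 1, 0, 0, 0, 0, 0, 2, 1, 2, 2,
     1, 0, 2, 0, 0, 0, 0, 2, 0, 0, 0, 0, 2, 1, 1, 0, 2, 1, 0, 2, 1, 0, 2, 2, 2, 0, 0, 0, 0, 0, 0, 0, 0, 2, 1,
     1, 1, 1, 1, 2, 0, 0, 0, 2, 1, 1, 0, 0, 0, 0, 2, 1, 1, 0, 2, 0, 0, 2, 2, 1, 0, 0, 0, 0, 0, 2, 1, 1, 1, 2,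
     0, 0, 2, 2, 0, 0, 0, 2, 2, 0, 0, 0, 2, 0, 0, 0, 2, 1, 1, 2, 2, 0, 0, 0, 2, 1, 1, 0, 2, 1, 0, 0, 0, 2, 1,
     1, 0, 0, 2, 1, 0, 0, 0, 0, 0, 2, 1, 1, 1, 1, 0, 0, 0, 2, 2, 1, 0, 2, 0, 0, 0, 0, 2],
    21411362080452249402197300104271909345987321431532967240426787215616704003179921555997257102211529759752897735387229218239588994122074630345313678361849922289605291481157547107567588432218227941990670660902349611242421881319059278643821769099754315131593288942903821141291022059559987701403039083112418276916579252998018980843195334296210388341453943312889996178402091206282672595323961420932667349235963045282926335024658247357815573772623040767549109328407233628344514300693955187298911405679863422374796008035166588704022710986204404733581039875410508963258093639145866278843811035958186064118358494064522798927768114843018101188005118140362393399962633215954702857997277289763149597375329432713897230469862988101086503253092820664613430359917671430411826294928065891167682013558152431494111074288871857367744036915324643678784675665470922729421173574442652616949173998457522328196057151558724313250732949399261593492687312216489863483573224346775052777123339728472788655714348571636926292739551784461680607231545720638915462915978682524341356466249820747396330535456678364657221514600170⟩,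
  ⟨8, 8536111,
    [],
    140737488355328⟩]

theorem sGens_ok : sGens.all (tabOK 16 [oct0]) = true := by decide +kernel

theorem sCerts_ok : sCerts.all (OrbCert.ok sGens) = true := by decide +kernel

theorem sCover :
    coverOK sCerts (fun m => Helper26.pc24 (Nat.land oct0 m)) (fun m => !m.testBit 4) Helper26.octL = true := by
  decide +kernel

theorem count0 : Helper26.countL (fun m => !m.testBit 4 && Nat.beq (Helper26.pc24 (Nat.land oct0 m)) 0) Helper26.octL = 15 := by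
  decide +kernel

theorem count4 : Helper26.countL (fun m => !m.testBit 4 && Nat.beq (Helper26.pc24 (Nat.land oct0 m)) 4) Helper26.octL = 210 := by
  decide +kernel

theorem count2 : Helper26.countL (fun m => !m.testBit 4 && Nat.beq (Helper26.pc24 (Nat.land oct0 m)) 2) Helper26.octL = 280 := by
  decide +kernel

theorem std_count (k : Nat) :
    {s : Finset GolayPt | s ∈ octads ∧ pt 4 ∉ s ∧ (setM oct0 ∩ s).card = k}.ncard =
      Helper26.countL (fun m => !m.testBit 4 && Nat.beq (Helper26.pc24 (Nat.land oct0 m)) k) Helper26.octL := by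
  apply ncard_octads_filter
  intro s
  rw [pt_not_mem_iff_testBit (by norm_num), card_inter_setM oct0_lt, Bool.and_eq_true, Nat.beq_eq]

theorem std_trans {s s' : Finset GolayPt} (hs : s ∈ octads) (hs' : s' ∈ octads) (h0 : pt 4 ∉ s)
    (h0' : pt 4 ∉ s') (h : (setM oct0 ∩ s).card = (setM oct0 ∩ s').card) :
    ∃ g ∈ M24, g (pt 4) = pt 4 ∧ g • setM oct0 = setM oct0 ∧ g • s = s' := by
  obtain ⟨g, hg, e⟩ := trans_of_certs sGens_ok sCerts_ok sCover hs.1 hs'.1
    ((Helper26.mem_octL_iff s).2 hs) ((Helper26.mem_octL_iff s').2 hs')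
    ((pt_not_mem_iff_testBit (by norm_num) s).1 h0) ((pt_not_mem_iff_testBit (by norm_num) s').1 h0')
    (by
      show Helper26.pc24 (Nat.land oct0 (Helper26.enc s)) = Helper26.pc24 (Nat.land oct0 (Helper26.enc s'))
      rw [← card_inter_setM oct0_lt, ← card_inter_setM oct0_lt, h])
  rw [mem_stabSub_single] at hg
  exact ⟨g, hg.1, hg.2.1.apply_pt (by norm_num) (by decide), hg.2.2, e⟩

/-- The point stabiliser acts on the 506 octads avoiding the point with rank 4 and subdegrees 1, 15, 210, 280, the suborbits being given by intersection size with the fixed octad. -/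
theorem result (x : Cfsg.GolayPt) (o : Finset Cfsg.GolayPt) (ho : o ∈ Cfsg.octads) (hx : x ∉ o) : {o' : Finset Cfsg.GolayPt | o' ∈ Cfsg.octads ∧ x ∉ o' ∧ (o ∩ o').card = 0}.ncard = 15 ∧ {o' : Finset Cfsg.GolayPt | o' ∈ Cfsg.octads ∧ x ∉ o' ∧ (o ∩ o').card = 4}.ncard = 210 ∧ {o' : Finset Cfsg.GolayPt | o' ∈ Cfsg.octads ∧ x ∉ o' ∧ (o ∩ o').card = 2}.ncard = 280 ∧ ∀ o' o'' : Finset Cfsg.GolayPt, o' ∈ Cfsg.octads → o'' ∈ Cfsg.octads → x ∉ o' → x ∉ o'' → (o ∩ o').card = (o ∩ o'').card → ∃ g : Equiv.Perm Cfsg.GolayPt, g ∈ Cfsg.M24 ∧ g x = x ∧ g • o = o ∧ g • o' = o'' := by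
  obtain ⟨u, hu, rfl, rfl⟩ := exists_oct_out ho hx
  have hui := inv_mem hu
  have tr : ∀ k, {o' : Finset GolayPt | o' ∈ octads ∧ u (pt 4) ∉ o' ∧ (u • setM oct0 ∩ o').card = k}.ncard =
      {s : Finset GolayPt | s ∈ octads ∧ pt 4 ∉ s ∧ (setM oct0 ∩ s).card = k}.ncard := by
    intro k
    exact ncard_smul_set u _ _ (fun s => by
      rw [smul_mem_octads_iff hu, card_smul_inter, apply_mem_smul_iff])
  refine ⟨?_, ?_, ?_, ?_⟩
  · rw [tr, std_count, count0]
  · rw [tr, std_count, count4]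
  · rw [tr, std_count, count2]
  · intro o' o'' ho' ho'' hx' hx'' h
    obtain ⟨g, hg, hg0, hgo, hgs⟩ := std_trans (smul_mem_octads hui ho') (smul_mem_octads hui ho'')
      (fun hc => hx' ((mem_inv_smul_iff u _ _).1 hc)) (fun hc => hx'' ((mem_inv_smul_iff u _ _).1 hc))
      (by rw [card_inter_inv_smul, card_inter_inv_smul, h])
    exact ⟨u * g * u⁻¹, conj_mem hu hg, conj_fix hg0, conj_stab hgo, conj_map hgs⟩

end Cfsg.Agent.S1608
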