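import Cfsg.Statements.S1628
import Cfsg.Agent.Helper93.RuEven
import Cfsg.Agent.Helper93.RuLev

set_option autoImplicit false
open Cfsg

namespace Cfsg.Agent.S1628

open Cfsg.Spor Cfsg.Agent.Helper93.RuL

theorem ru_norm_pos {x : RuVec} (hx : x ≠ 0) : 0 < ruNorm x := by
  obtain ⟨p, hp⟩ := Function.ne_iff.1 hx
  refine Finset.sum_pos' (fun q _ => GaussianInt.norm_nonneg (x q)) ⟨p, Finset.mem_univ _, ?_⟩
  have h1 : (x p).norm ≠ 0 := fun h0 => hp (GaussianInt.norm_eq_zero.1 h0)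
  have h2 := GaussianInt.norm_nonneg (x p)
  omega

theorem ru_first_norm : ruNorm (ruTable.getD 0 0) = 16 := by decide +kernel

theorem ru_first_mem : ruTable.getD 0 0 ∈ ruLattice := by
  rw [ruLattice, AddSubgroup.mem_sInf]
  intro L hL
  exact hL.1 _ (by decide)

/-- The Conway–Wales lattice as stored is even with no vectors of true norm 2: stored norms are multiples of 8, never equal to 8, and the minimum over nonzero vectors is 16. -/
theorem result : (∀ x ∈ Cfsg.Spor.ruLattice, (8 : ℤ) ∣ Cfsg.Spor.ruNorm x) ∧ (∀ x ∈ Cfsg.Spor.ruLattice, Cfsg.Spor.ruNorm x ≠ 8) ∧ (∀ x ∈ Cfsg.Spor.ruLattice, x ≠ 0 → 16 ≤ Cfsg.Spor.ruNorm x) ∧ ∃ x ∈ Cfsg.Spor.ruLattice, Cfsg.Spor.ruNorm x = 16 := by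
  have h1 : ∀ x ∈ ruLattice, (8 : ℤ) ∣ ruNorm x := fun x hx => lattice_even hx
  have h2 : ∀ x ∈ ruLattice, ruNorm x ≠ 8 := fun x hx h => no_norm8 x (lattice_le_KK hx) h
  refine ⟨h1, h2, fun x hx hx0 => ?_, ⟨_, ru_first_mem, ru_first_norm⟩⟩
  have hpos := ru_norm_pos hx0
  obtain ⟨k, hk⟩ := h1 x hx
  have h8 := h2 x hx
  omega

end Cfsg.Agent.S1628
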