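import Cfsg.Statements.S1689
import Cfsg.Agent.Helper28.C1689.OrbAll

set_option autoImplicit false
open Cfsg

namespace Cfsg.Agent.S1689

/-- In the presented Fischer group Fi₂₃, let H be the subgroup generated by the images of a, …, i. Then H has index 31671, H has orbits of sizes 3510 and 28160 on the cosets of H other than H itself. -/
theorem result : (((Subgroup.closure ({Cfsg.Spor.Fi23.a, Cfsg.Spor.Fi23.b, Cfsg.Spor.Fi23.c, Cfsg.Spor.Fi23.d, Cfsg.Spor.Fi23.e, Cfsg.Spor.Fi23.f, Cfsg.Spor.Fi23.g, Cfsg.Spor.Fi23.h, Cfsg.Spor.Fi23.i} : Set (FreeGroup Cfsg.Spor.Fi23.Gen))).map (PresentedGroup.mk (Cfsg.Spor.coxRelators Cfsg.Spor.Fi23.edges ∪ {r | r ∈ Cfsg.Spor.Fi23.extra})))).index = 31671 ∧ ∃ q₁ q₂ : Cfsg.Spor.Fi23 ⧸ (((Subgroup.closure ({Cfsg.Spor.Fi23.a, Cfsg.Spor.Fi23.b, Cfsg.Spor.Fi23.c, Cfsg.Spor.Fi23.d,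 Cfsg.Spor.Fi23.e, Cfsg.Spor.Fi23.f, Cfsg.Spor.Fi23.g, Cfsg.Spor.Fi23.h, Cfsg.Spor.Fi23.i} : Set (FreeGroup Cfsg.Spor.Fi23.Gen))).map (PresentedGroup.mk (Cfsg.Spor.coxRelators Cfsg.Spor.Fi23.edges ∪ {r | r ∈ Cfsg.Spor.Fi23.extra})))), (MulAction.orbit (((Subgroup.closure ({Cfsg.Spor.Fi23.a, Cfsg.Spor.Fi23.b, Cfsg.Spor.Fi23.c, Cfsg.Spor.Fi23.d, Cfsg.Spor.Fi23.e, Cfsg.Spor.Fi23.f, Cfsg.Spor.Fi23.g, Cfsg.Spor.Fi23.h, Cfsg.Spor.Fi23.i} : Set (FreeGroup Cfsg.Spor.Fi23.Gen))).map (PresentedGroup.mk (Cfsg.Spor.coxRelators Cfsg.Spor.Fi23.edges ∪ {r | r ∈ Cfsg.Spor.Fi23.extra})))) q₁).ncard = 3510 ∧ (MulAction.orbit (((Subgroup.closure ({Cfsg.Spor.Fi23.a, Cfsg.Spor.Fi23.b, Cfsg.Spor.Fi23.c, Cfsg.Spor.Fi23.d, Cfsg.Spor.Fi23.e, Cfsg.Spor.Fi23.f, Cfsg.Spor.Fi23.g, Cfsg.Spor.Fi23.h, Cfsg.Spor.Fi23.i} : Set (FreeGroup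 Cfsg.Spor.Fi23.Gen))).map (PresentedGroup.mk (Cfsg.Spor.coxRelators Cfsg.Spor.Fi23.edges ∪ {r | r ∈ Cfsg.Spor.Fi23.extra})))) q₂).ncard = 28160 := by
  obtain ⟨e, he, _⟩ := Cfsg.Agent.Helper28.C1689.cert.exists_equiv
  have o1 := Cfsg.Agent.Helper28.C1689.cert.orbit_cert e he 3510 Cfsg.Agent.Helper28.C1689.ov1 Cfsg.Agent.Helper28.C1689.op1 Cfsg.Agent.Helper28.C1689.otp1 Cfsg.Agent.Helper28.C1689.otw1 (by decide) Cfsg.Agent.Helper28.C1689.orb1_all Cfsg.Agent.Helper28.C1689.ov1_lt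
  have o2 := Cfsg.Agent.Helper28.C1689.cert.orbit_cert e he 28160 Cfsg.Agent.Helper28.C1689.ov2 Cfsg.Agent.Helper28.C1689.op2 Cfsg.Agent.Helper28.C1689.otp2 Cfsg.Agent.Helper28.C1689.otw2 (by decide) Cfsg.Agent.Helper28.C1689.orb2_all Cfsg.Agent.Helper28.C1689.ov2_lt
  exact ⟨Cfsg.Agent.Helper28.C1689.cert.index_eq, e.symm ⟨Cfsg.Agent.Helper28.C1689.ov1 0, Cfsg.Agent.Helper28.C1689.ov1_lt⟩, e.symm ⟨Cfsg.Agent.Helper28.C1689.ov2 0, Cfsg.Agent.Helper28.C1689.ov2_lt⟩, o1.1, o2.1⟩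

end Cfsg.Agent.S1689
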