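import Cfsg.Statements.S1893
import Cfsg.Agent.Helper32.HallSCN3

set_option autoImplicit false
open Cfsg

namespace Cfsg.Agent.S1893

/-- Let S be a finite solvable group, π a set of primes containing neither 2 nor 3, H a Hall π-subgroup of S, and A a self-centralizing normal subgroup of the Fitting subgroup F(H). Then C_S(A) = A × D for a normal subgroup D of C_S(A) whose order has no prime divisor in π. -/
theorem result {S : Type*} [Group S] [Finite S] [Group.IsSolvable S]
    (π : Set ℕ) (h2 : 2 ∉ π) (h3 : 3 ∉ π) (H : Subgroup S) (hH : Cfsg.IsPiHall π H)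
    (A : Subgroup S) (hA : Cfsg.IsSCN ((Cfsg.fittingSubgroup H).map H.subtype) A) :
    ∃ D : Subgroup S, D ≤ Subgroup.centralizer (A : Set S) ∧
      (∀ c ∈ Subgroup.centralizer (A : Set S), ∀ d ∈ D, c * d * c⁻¹ ∈ D) ∧
      A ⊓ D = ⊥ ∧ A ⊔ D = Subgroup.centralizer (A : Set S) ∧
      ∀ q : ℕ, q.Prime → q ∣ Nat.card D → q ∉ π := by
  obtain ⟨N, hNn, hNπ, hmax⟩ := Cfsg.Agent.Helper32.hs_exists_max S π
  haveI := hNn
  obtain ⟨hAF, hFA, hFCA⟩ := hA
  have hFH : (Cfsg.fittingSubgroup H).map H.subtype ≤ H := by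
    rintro _ ⟨x, _, rfl⟩
    exact x.2
  have hHN : H ⊓ N = ⊥ := Cfsg.Agent.Helper32.hs_inf_bot π H N hH.1 hNπ
  have hAN : A ⊓ N = ⊥ := by
    rw [eq_bot_iff, ← hHN]
    exact inf_le_inf_right N (hAF.trans hFH)
  have hAC : A ≤ Subgroup.centralizer (A : Set S) := by
    intro a ha
    have h : a ∈ (Cfsg.fittingSubgroup H).map H.subtype ⊓ Subgroup.centralizer (A : Set S) := by
      rw [hFCA]; exact ha
    exact h.2
  have hC := Cfsg.Agent.Helper32.hs_centralizer_le (X := S ⧸ N) π h2 h3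
    (((Cfsg.fittingSubgroup H).map H.subtype).map (QuotientGroup.mk' N))
    (A.map (QuotientGroup.mk' N))
    (fun q hq hqπ => Cfsg.Agent.Helper32.hs_pCore_bot π N hNπ hmax q hq hqπ)
    (fun q hq hqπ => Cfsg.Agent.Helper32.hs_pCore_le_map π H hH N hNπ q hq hqπ)
    ((Subgroup.map_mono hFA).trans (Subgroup.le_normalizer_map _))
    (by
      rintro _ ⟨⟨f, hf, rfl⟩, hc⟩
      have hfA : f ∈ A := by
        have hc : QuotientGroup.mk' N f ∈
            Subgroup.centralizer ((A.map (QuotientGroup.mk' N) : Subgroup (S ⧸ N)) : Set (S ⧸ N)) := hc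
        have h : f ∈ (Cfsg.fittingSubgroup H).map H.subtype ⊓ Subgroup.centralizer (A : Set S) := by
          refine Subgroup.mem_inf.2 ⟨hf, ?_⟩
          rw [Subgroup.mem_centralizer_iff]
          intro a ha
          have hcomm : QuotientGroup.mk' N a * QuotientGroup.mk' N f =
              QuotientGroup.mk' N f * QuotientGroup.mk' N a :=
            Subgroup.mem_centralizer_iff.1 hc _ ⟨a, ha, rfl⟩
          have h1 : f * a * f⁻¹ * a⁻¹ ∈ N := by
            rw [← QuotientGroup.eq_one_iff]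
            show QuotientGroup.mk' N (f * a * f⁻¹ * a⁻¹) = 1
            rw [map_mul, map_mul, map_mul, map_inv, map_inv, ← hcomm]
            group
          have h2 : f * a * f⁻¹ * a⁻¹ ∈ A :=
            A.mul_mem ((Subgroup.mem_normalizer_iff.1 (hFA hf) a).1 ha) (A.inv_mem ha)
          have h3 : f * a * f⁻¹ * a⁻¹ ∈ A ⊓ N := ⟨h2, h1⟩
          rw [hAN, Subgroup.mem_bot] at h3
          have h4 : f * a = a * f := by
            calc f * a = (f * a * f⁻¹ * a⁻¹) * (a * f) := by group
              _ = a * f := by rw [h3, one_mul]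
          exact h4.symm
        rw [hFCA] at h
        exact h
      exact ⟨f, hfA, rfl⟩)
  refine ⟨Subgroup.centralizer (A : Set S) ⊓ N, inf_le_left, ?_, ?_, ?_, ?_⟩
  · intro c hc d hd
    obtain ⟨hd1, hd2⟩ := Subgroup.mem_inf.1 hd
    exact Subgroup.mem_inf.2 ⟨mul_mem (mul_mem hc hd1) (inv_mem hc), hNn.conj_mem d hd2 c⟩
  · rw [eq_bot_iff, ← hAN]
    exact inf_le_inf_left A inf_le_right
  · apply le_antisymm
    · exact sup_le hAC inf_le_left
    · intro c hc
      have hcb : QuotientGroup.mk' N c ∈ A.map (QuotientGroup.mk' N) := hC (by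
        rw [Subgroup.mem_centralizer_iff]
        rintro _ ⟨a, ha, rfl⟩
        rw [← map_mul, ← map_mul, Subgroup.mem_centralizer_iff.1 hc a ha])
      obtain ⟨a, ha, hac⟩ := hcb
      have hn : a⁻¹ * c ∈ N := by
        rw [← QuotientGroup.eq_one_iff]
        show QuotientGroup.mk' N (a⁻¹ * c) = 1
        rw [map_mul, map_inv, hac, inv_mul_cancel]
      have hc' : c = a * (a⁻¹ * c) := by group
      rw [hc']
      exact Subgroup.mul_mem_sup ha (Subgroup.mem_inf.2 ⟨mul_mem (inv_mem (hAC ha)) hc, hn⟩)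
  · intro q hq hd
    exact hNπ q hq (dvd_trans hd (Subgroup.card_dvd_of_le inf_le_right))

end Cfsg.Agent.S1893
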