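import Cfsg.Statements.S4189
import Cfsg.Agent.Helper69.Q8
import Cfsg.Agent.Helper69.TwoGen
import Cfsg.Agent.Helper2.PGroup
import Cfsg.Agent.Helper70.FrattiniAut

set_option autoImplicit false
open Cfsg

namespace Cfsg.Agent.S4189

open Cfsg.Agent.Helper69

section Aux

variable {P : Type*} [Group P]

/-- The automorphisms acting trivially modulo the Frattini subgroup. -/
def frattAut (P : Type*) [Group P] : Subgroup (MulAut P) where
  carrier := {α | ∀ x, α x * x⁻¹ ∈ frattini P}
  one_mem' := by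
    intro x
    simp
  mul_mem' := by
    intro α γ hα hγ x
    have : (α * γ) x * x⁻¹ = (α (γ x) * (γ x)⁻¹) * (γ x * x⁻¹) := by
      rw [MulAut.mul_apply]; group
    rw [this]; exact mul_mem (hα _) (hγ _)
  inv_mem' := by
    intro α hα x
    have h1 := hα (α⁻¹ x)
    rw [MulAut.apply_inv_self] at h1
    have : α⁻¹ x * x⁻¹ = (x * (α⁻¹ x)⁻¹)⁻¹ := by group
    rw [this]; exact inv_mem h1

/-- Step 1: an automorphism of odd order. -/
theorem exists_odd_order_aut [Finite P] (haut : ¬ IsPGroup 2 (MulAut P)) :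
    ∃ (β : MulAut P) (m : ℕ), Odd m ∧ β ^ m = 1 ∧ β ≠ 1 := by
  unfold IsPGroup at haut
  push Not at haut
  obtain ⟨α, hα⟩ := haut
  have hn : orderOf α ≠ 0 := (orderOf_pos α).ne'
  obtain ⟨e, m, hm, hem⟩ := Nat.exists_eq_two_pow_mul_odd hn
  refine ⟨α ^ (2 ^ e), m, hm, ?_, hα e⟩
  rw [← pow_mul, ← hem, pow_orderOf_eq_one]

/-- Step 2: an automorphism of odd order acts nontrivially modulo the derived subgroup. -/
theorem exists_not_mem_commutator [Finite P] (hP : IsPGroup 2 P) (β : MulAut P) (m : ℕ)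
    (hm : Odd m) (hβm : β ^ m = 1) (hβ1 : β ≠ 1) : ∃ x, β x * x⁻¹ ∉ commutator P := by
  have : Fact (Nat.Prime 2) := ⟨Nat.prime_two⟩
  by_contra hcon
  push Not at hcon
  have hDΦ : commutator P ≤ frattini P := Cfsg.Agent.Helper2.commutator_le_frattini_of_isPGroup hP
  have hβA : β ∈ frattAut P := fun x => hDΦ (hcon x)
  obtain ⟨n, hn⟩ := IsPGroup.iff_card.mp hP
  obtain ⟨r, -, hr⟩ := (Nat.dvd_prime_pow Nat.prime_two).mp
    (hn ▸ Subgroup.index_dvd_card (frattini P))
  have hcard := Cfsg.Agent.Helper70.card_aut_trivial_on_frattini_quotient_dvd hn hr (frattAut P)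
    (fun α hα x => hα x)
  have h1 : orderOf β ∣ 2 ^ (r * (n - r)) :=
    (Subgroup.orderOf_dvd_natCard (frattAut P) hβA).trans hcard
  have h2 : orderOf β ∣ m := orderOf_dvd_of_pow_eq_one hβm
  have h3 : orderOf β = 1 :=
    Nat.eq_one_of_dvd_coprimes (Nat.Coprime.pow_left _ (Nat.coprime_two_left.mpr hm)) h1 h2
  exact hβ1 (orderOf_eq_one_iff.mp h3)

/-- Step 3: the structure of the quotient by the derived subgroup. -/
theorem exists_generators_mod_commutator [Finite P] (h4 : (commutator P).index = 4)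
    (β : MulAut P) (m : ℕ) (hm : Odd m) (hβm : β ^ m = 1) (x : P)
    (hx : β x * x⁻¹ ∉ commutator P) :
    x * x ∈ commutator P ∧
    (∀ g : P, g ∈ commutator P ∨ x⁻¹ * g ∈ commutator P ∨ (β x)⁻¹ * g ∈ commutator P ∨
      (x * β x)⁻¹ * g ∈ commutator P) ∧
    (x * β x)⁻¹ * β (β x) ∈ commutator P := by
  classical
  obtain ⟨π, hπdef⟩ : ∃ π : P →* P ⧸ commutator P, π = QuotientGroup.mk' (commutator P) :=
    ⟨_, rfl⟩
  have hπ : ∀ u v : P, π u = π v ↔ u⁻¹ * v ∈ commutator P := by
    intro u v; rw [hπdef]; exact QuotientGroup.eq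
  have hπ1 : ∀ u : P, π u = 1 ↔ u ∈ commutator P := by
    intro u; rw [hπdef]; exact QuotientGroup.eq_one_iff u
  have hchar : ∀ (γ : MulAut P) (d : P), γ d ∈ commutator P ↔ d ∈ commutator P := by
    intro γ d
    have h := (inferInstance : (commutator P).Characteristic).fixed γ
    conv_rhs => rw [← h]
    rfl
  have hE : ∀ (γ : MulAut P) (u v : P), π u = π v → π (γ u) = π (γ v) := by
    intro γ u v huv
    rw [hπ] at huv ⊢
    have := (hchar γ _).mpr huv
    rwa [map_mul, map_inv] at this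
  have hcard : Nat.card (P ⧸ commutator P) = 4 := by
    rw [← Subgroup.index_eq_card]; exact h4
  have h10 : π (β x) ≠ π x := by
    intro h
    apply hx
    rw [← hπ1, map_mul, map_inv, h, mul_inv_cancel]
  have h0 : π x ≠ 1 := by
    intro h
    apply h10
    rw [h, hπ1, hchar]; exact (hπ1 x).mp h
  have h1 : π (β x) ≠ 1 := by
    intro h
    apply h10
    rw [h]
    symm
    rw [hπ1]
    exact (hchar β x).mp ((hπ1 _).mp h)
  have h2 : π (β (β x)) ≠ 1 := by
    intro h
    exact h1 ((hπ1 _).mpr ((hchar β _).mp ((hπ1 _).mp h)))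
  have h21 : π (β (β x)) ≠ π (β x) := by
    intro h
    have := hE β⁻¹ _ _ h
    rw [MulAut.inv_apply_self, MulAut.inv_apply_self] at this
    exact h10 this
  have h20 : π (β (β x)) ≠ π x := by
    intro h
    have key : ∀ k : ℕ, π ((β ^ (2 * k)) x) = π x := by
      intro k
      induction k with
      | zero => simp
      | succ k ih =>
        have e : (β ^ (2 * (k + 1))) x = (β ^ (2 * k)) (β (β x)) := by
          rw [show 2 * (k + 1) = 2 * k + 2 by ring, pow_add, pow_two]
          rfl
        rw [e, hE (β ^ (2 * k)) _ _ h, ih]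
    obtain ⟨t, ht⟩ := hm
    have := key (t + 1)
    rw [show 2 * (t + 1) = m + 1 by omega, pow_succ, hβm, one_mul] at this
    exact h10 this
  have hall : ∀ q : P ⧸ commutator P, q = 1 ∨ q = π x ∨ q = π (β x) ∨ q = π (β (β x)) := by
    let _ := Fintype.ofFinite (P ⧸ commutator P)
    let s : Finset (P ⧸ commutator P) := {1, π x, π (β x), π (β (β x))}
    have hs : s.card = 4 := by
      show ({1, π x, π (β x), π (β (β x))} : Finset (P ⧸ commutator P)).card = 4
      rw [Finset.card_insert_of_notMem, Finset.card_insert_of_notMem, Finset.card_pair h21.symm]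
      · simp [h10.symm, h20.symm]
      · simp [h0.symm, h1.symm, h2.symm]
    have huniv : s = Finset.univ :=
      Finset.eq_univ_of_card s (by rw [hs, ← Nat.card_eq_fintype_card, hcard])
    intro q
    have : q ∈ s := by rw [huniv]; exact Finset.mem_univ q
    simpa [s] using this
  have h012 : π x * π (β x) = π (β (β x)) := by
    rcases hall (π x * π (β x)) with h | h | h | h
    · exfalso
      have e1 : x * β x ∈ commutator P := by rw [← hπ1, map_mul]; exact h
      have e2 : β x * β (β x) ∈ commutator P := by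
        have := (hchar β _).mpr e1
        rwa [map_mul] at this
      have e3 : π (β x) * π (β (β x)) = 1 := by rw [← map_mul]; exact (hπ1 _).mpr e2
      apply h20
      have e4 : π x = (π (β x))⁻¹ := eq_inv_of_mul_eq_one_left h
      have e5 : π (β (β x)) = (π (β x))⁻¹ := eq_inv_of_mul_eq_one_right e3
      rw [e4, e5]
    · exfalso
      exact h1 (mul_eq_left.mp h)
    · exfalso
      exact h0 (mul_eq_right.mp h)
    · exact h
  have h00 : π x * π x = 1 := by
    rcases hall (π x * π x) with h | h | h | h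
    · exact h
    · exfalso
      exact h0 (mul_eq_left.mp h)
    · exfalso
      have e1 : π (β (x * x)) = π (β (β x)) := hE β _ _ (by rw [map_mul]; exact h)
      rw [map_mul, map_mul] at e1
      have e2 : π x ^ 4 = 1 := by rw [← hcard]; exact pow_card_eq_one'
      apply h2
      have e3 : π x * π x * (π x * π x) = π x ^ 4 := by
        rw [pow_succ, pow_succ, pow_succ, pow_one]; simp only [mul_assoc]
      rw [← e1, ← h, e3, e2]
    · exfalso
      rw [← h012] at h
      exact h10 (mul_left_cancel h).symm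
  refine ⟨(hπ1 _).mp (by rw [map_mul]; exact h00), ?_, ?_⟩
  · intro g
    rcases hall (π g) with h | h | h | h
    · left; exact (hπ1 g).mp h
    · right; left; exact (hπ _ _).mp h.symm
    · right; right; left; exact (hπ _ _).mp h.symm
    · right; right; right
      rw [← hπ, map_mul, h012]; exact h.symm
  · rw [← hπ, map_mul]; exact h012

/-- If the commutator of the two generators is central modulo `N`, the whole derived subgroup
is cyclic and central modulo `N`. -/
theorem mk_mem_zpowers (N : Subgroup P) [N.Normal] {a b : P}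
    (hgen : Subgroup.closure {a, b} = ⊤)
    (hca : QuotientGroup.mk' N (a * b * a⁻¹ * b⁻¹) * QuotientGroup.mk' N a =
      QuotientGroup.mk' N a * QuotientGroup.mk' N (a * b * a⁻¹ * b⁻¹))
    (hcb : QuotientGroup.mk' N (a * b * a⁻¹ * b⁻¹) * QuotientGroup.mk' N b =
      QuotientGroup.mk' N b * QuotientGroup.mk' N (a * b * a⁻¹ * b⁻¹)) :
    (∀ d ∈ commutator P, QuotientGroup.mk' N d ∈
      Subgroup.zpowers (QuotientGroup.mk' N (a * b * a⁻¹ * b⁻¹))) ∧
    (∀ d ∈ commutator P, ∀ g : P, QuotientGroup.mk' N d * QuotientGroup.mk' N g =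
      QuotientGroup.mk' N g * QuotientGroup.mk' N d) := by
  have hgen' := closure_pair_map (QuotientGroup.mk' N) (QuotientGroup.mk'_surjective N) hgen
  have hC : QuotientGroup.mk' N (a * b * a⁻¹ * b⁻¹) =
      QuotientGroup.mk' N a * QuotientGroup.mk' N b * (QuotientGroup.mk' N a)⁻¹ *
        (QuotientGroup.mk' N b)⁻¹ := by
    rw [map_mul, map_mul, map_mul, map_inv, map_inv]
  rw [hC] at hca hcb ⊢
  have hle := commutator_le_zpowers_of_closure_pair hgen' hca hcb
  have h1 : ∀ d ∈ commutator P, QuotientGroup.mk' N d ∈ Subgroup.zpowers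
      (QuotientGroup.mk' N a * QuotientGroup.mk' N b * (QuotientGroup.mk' N a)⁻¹ *
        (QuotientGroup.mk' N b)⁻¹) := by
    intro d hd
    apply hle
    have hd' : QuotientGroup.mk' N d ∈ (commutator P).map (QuotientGroup.mk' N) :=
      Subgroup.mem_map_of_mem _ hd
    rw [commutator_def, Subgroup.map_commutator] at hd'
    exact Subgroup.commutator_mono le_top le_top hd'
  refine ⟨h1, ?_⟩
  intro d hd g
  obtain ⟨k, hk⟩ := Subgroup.mem_zpowers_iff.mp (h1 d hd)
  rw [← hk]
  have hcen := commute_of_closure_pair hgen' _ hca hcb (QuotientGroup.mk' N g)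
  have h2 : Commute (QuotientGroup.mk' N a * QuotientGroup.mk' N b * (QuotientGroup.mk' N a)⁻¹ *
        (QuotientGroup.mk' N b)⁻¹) (QuotientGroup.mk' N g) := hcen
  exact (h2.zpow_left k).eq

/-- The third term of the lower central series. -/
abbrev T3 (P : Type*) [Group P] : Subgroup P := ⁅commutator P, (⊤ : Subgroup P)⁆

/-- The fourth term of the lower central series. -/
abbrev T4 (P : Type*) [Group P] : Subgroup P := ⁅T3 P, (⊤ : Subgroup P)⁆

theorem main [Finite P] (hP : IsPGroup 2 P) (hna : ¬ IsMulCommutative P)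
    (h4 : (commutator P).index = 4) (haut : ¬ IsPGroup 2 (MulAut P)) :
    Nonempty (P ≃* QuaternionGroup 2) := by
  classical
  have : Fact (Nat.Prime 2) := ⟨Nat.prime_two⟩
  have hnil : Group.IsNilpotent P := hP.isNilpotent
  obtain ⟨β, m, hm, hβm, hβ1⟩ := exists_odd_order_aut haut
  obtain ⟨a, ha⟩ := exists_not_mem_commutator hP β m hm hβm hβ1
  obtain ⟨haa, hcos, he⟩ := exists_generators_mod_commutator h4 β m hm hβm a ha
  obtain ⟨b, hb⟩ : ∃ b, b = β a := ⟨_, rfl⟩
  rw [← hb] at hcos he
  have hcharD : ∀ (γ : MulAut P) (d : P), γ d ∈ commutator P ↔ d ∈ commutator P := by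
    intro γ d
    have h := (inferInstance : (commutator P).Characteristic).fixed γ
    conv_rhs => rw [← h]
    rfl
  have hcharT : ∀ (γ : MulAut P) (d : P), γ d ∈ T3 P ↔ d ∈ T3 P := by
    intro γ d
    have h := (inferInstance : (T3 P).Characteristic).fixed γ
    conv_rhs => rw [← h]
    rfl
  have hbb : b * b ∈ commutator P := by
    rw [hb, ← map_mul]; exact (hcharD β _).mpr haa
  -- generation
  have hgen : Subgroup.closure {a, b} = ⊤ := by
    apply frattini_nongenerating
    rw [eq_top_iff]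
    intro g _
    have hDΦ : commutator P ≤ frattini P :=
      Cfsg.Agent.Helper2.commutator_le_frattini_of_isPGroup hP
    have hamem : a ∈ Subgroup.closure {a, b} := Subgroup.subset_closure (by simp)
    have hbmem : b ∈ Subgroup.closure {a, b} := Subgroup.subset_closure (by simp)
    rcases hcos g with h | h | h | h
    · exact Subgroup.mem_sup_right (hDΦ h)
    · have : g = a * (a⁻¹ * g) := by group
      rw [this]; exact Subgroup.mul_mem_sup hamem (hDΦ h)
    · have : g = b * (b⁻¹ * g) := by group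
      rw [this]; exact Subgroup.mul_mem_sup hbmem (hDΦ h)
    · have : g = (a * b) * ((a * b)⁻¹ * g) := by group
      rw [this]; exact Subgroup.mul_mem_sup (mul_mem hamem hbmem) (hDΦ h)
  have hDne : commutator P ≠ ⊥ := by
    intro h
    apply hna
    refine ⟨⟨fun x y => ?_⟩⟩
    apply mul_comm_of_comm_eq_one
    have h1 : x * y * x⁻¹ * y⁻¹ ∈ commutator P :=
      comm_mem_commutator (Subgroup.mem_top x) (Subgroup.mem_top y)
    rw [h, Subgroup.mem_bot] at h1
    exact h1
  have hT3le : T3 P ≤ commutator P := Subgroup.commutator_le_left _ _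
  have hT3ne : T3 P ≠ commutator P := fun h => hDne (eq_bot_of_commutator_top_eq _ h)
  obtain ⟨c, hc⟩ : ∃ c, c = a * b * a⁻¹ * b⁻¹ := ⟨_, rfl⟩
  have hcD : c ∈ commutator P := by
    rw [hc]; exact comm_mem_commutator (Subgroup.mem_top a) (Subgroup.mem_top b)
  have hcen3 : ∀ d ∈ commutator P, ∀ g : P,
      QuotientGroup.mk' (T3 P) d * QuotientGroup.mk' (T3 P) g =
        QuotientGroup.mk' (T3 P) g * QuotientGroup.mk' (T3 P) d :=
    fun d hd g => mk_comm_of_comm_mem _ _ _ (comm_mem_commutator hd (Subgroup.mem_top g))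
  obtain ⟨hz3, -⟩ := mk_mem_zpowers (T3 P) hgen (by rw [← hc]; exact hcen3 c hcD a)
    (by rw [← hc]; exact hcen3 c hcD b)
  rw [← hc] at hz3
  obtain ⟨π, hπdef⟩ : ∃ π : P →* P ⧸ T3 P, π = QuotientGroup.mk' (T3 P) := ⟨_, rfl⟩
  rw [← hπdef] at hcen3 hz3
  have hπ1 : ∀ u : P, π u = 1 ↔ u ∈ T3 P := by
    intro u; rw [hπdef]; exact QuotientGroup.eq_one_iff u
  have hπeq : ∀ u v : P, π u = π v ↔ u⁻¹ * v ∈ T3 P := by
    intro u v; rw [hπdef]; exact QuotientGroup.eq
  have hcenq : ∀ d ∈ commutator P, ∀ q : P ⧸ T3 P, π d * q = q * π d := by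
    intro d hd q
    obtain ⟨g, rfl⟩ : ∃ g, π g = q := by rw [hπdef]; exact QuotientGroup.mk'_surjective _ q
    exact hcen3 d hd g
  have hCdef : π c = π a * π b * (π a)⁻¹ * (π b)⁻¹ := by
    rw [hc, map_mul, map_mul, map_mul, map_inv, map_inv]
  have hCC : π c * π c = 1 := by
    have hC := hcenq c hcD
    have hAA := hcenq (a * a) haa
    rw [map_mul] at hAA
    have e1 : π c * π c = (π a * π a) * π b * (π a * π a)⁻¹ * (π b)⁻¹ := by
      calc π c * π c = π c * (π a * (π b * (π a)⁻¹ * (π b)⁻¹)) := by rw [hCdef]; group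
        _ = π a * π c * (π b * (π a)⁻¹ * (π b)⁻¹) := by rw [← mul_assoc, hC (π a)]
        _ = (π a * π a) * π b * (π a * π a)⁻¹ * (π b)⁻¹ := by rw [hCdef]; group
    rw [e1, hAA (π b)]; group
  have h5a : ∀ d ∈ commutator P, d ∈ T3 P ∨ c⁻¹ * d ∈ T3 P := by
    intro d hd
    obtain ⟨k, hk⟩ := Subgroup.mem_zpowers_iff.mp (hz3 d hd)
    rcases zpow_eq_one_or_self_of_mul_self hCC k with h | h
    · left; rw [← hπ1, ← hk, h]
    · right; rw [← hπeq, ← hk, h]
  have hcT : c ∉ T3 P := by
    intro hcT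
    apply hT3ne
    apply le_antisymm hT3le
    intro d hd
    rcases h5a d hd with h | h
    · exact h
    · have : d = c * (c⁻¹ * d) := by group
      rw [this]; exact mul_mem hcT h
  have hdd : ∀ d ∈ commutator P, π d * π d = 1 := by
    intro d hd
    obtain ⟨k, hk⟩ := Subgroup.mem_zpowers_iff.mp (hz3 d hd)
    rcases zpow_eq_one_or_self_of_mul_self hCC k with h | h
    · rw [← hk, h, one_mul]
    · rw [← hk, h, hCC]
  have hsqβ : ∀ u : P, β u * β u ∈ T3 P ↔ u * u ∈ T3 P := by
    intro u; rw [← map_mul]; exact hcharT β _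
  have hsqd : ∀ u d : P, d ∈ commutator P → ((u * d) * (u * d) ∈ T3 P ↔ u * u ∈ T3 P) := by
    intro u d hd
    rw [← hπ1, ← hπ1]
    have e : π (u * d * (u * d)) = π (u * u) := by
      simp only [map_mul]
      have h1 := hcenq d hd (π u)
      calc π u * π d * (π u * π d) = π u * (π d * π u) * π d := by group
        _ = π u * (π u * π d) * π d := by rw [h1]
        _ = π u * π u * (π d * π d) := by group
        _ = π u * π u := by rw [hdd d hd, mul_one]
    rw [e]
  have hab : a * a ∈ T3 P ↔ (a * b) * (a * b) ∈ T3 P := by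
    have e1 : a * a ∈ T3 P ↔ b * b ∈ T3 P := by rw [hb]; exact (hsqβ a).symm
    have e2 : b * b ∈ T3 P ↔ β b * β b ∈ T3 P := (hsqβ b).symm
    have e4 := hsqd (a * b) ((a * b)⁻¹ * β b) he
    rw [show a * b * ((a * b)⁻¹ * β b) = β b by group] at e4
    exact e1.trans (e2.trans e4)
  have haT : a * a ∉ T3 P := by
    intro h
    have hA : π a * π a = 1 := by rw [← map_mul]; exact (hπ1 _).mpr h
    have hbT' : b * b ∈ T3 P := by rw [hb]; exact (hsqβ a).mpr h
    have hB : π b * π b = 1 := by rw [← map_mul]; exact (hπ1 _).mpr hbT'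
    have hAB : (π a * π b) * (π a * π b) = 1 := by
      rw [← map_mul, ← map_mul]; exact (hπ1 _).mpr (hab.mp h)
    apply hcT
    rw [← hπ1, hCdef]
    have hAi : (π a)⁻¹ = π a := inv_eq_of_mul_eq_one_right hA
    have hBi : (π b)⁻¹ = π b := inv_eq_of_mul_eq_one_right hB
    rw [hAi, hBi, ← hAB]
    simp only [mul_assoc]
  have hbT : b * b ∉ T3 P := by
    intro h
    rw [hb] at h
    exact haT ((hsqβ a).mp h)
  have hac : c⁻¹ * (a * a) ∈ T3 P := (h5a _ haa).resolve_left haT
  have hbc : c⁻¹ * (b * b) ∈ T3 P := (h5a _ hbb).resolve_left hbT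
  -- the third term is trivial
  have hT3 : T3 P = ⊥ := by
    by_contra hT3
    have hT4le : T4 P ≤ T3 P := Subgroup.commutator_le_left _ _
    have hT4ne : T4 P ≠ T3 P := fun h => hT3 (eq_bot_of_commutator_top_eq _ h)
    have hcen4 : ∀ t ∈ T3 P, ∀ g : P,
        QuotientGroup.mk' (T4 P) t * QuotientGroup.mk' (T4 P) g =
          QuotientGroup.mk' (T4 P) g * QuotientGroup.mk' (T4 P) t :=
      fun t ht g => mk_comm_of_comm_mem _ _ _ (comm_mem_commutator ht (Subgroup.mem_top g))
    have key : ∀ u : P, c⁻¹ * (u * u) ∈ T3 P →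
        QuotientGroup.mk' (T4 P) c * QuotientGroup.mk' (T4 P) u =
          QuotientGroup.mk' (T4 P) u * QuotientGroup.mk' (T4 P) c := by
      intro u hu
      have hτ := hcen4 _ hu u
      have e : QuotientGroup.mk' (T4 P) c = QuotientGroup.mk' (T4 P) u *
          QuotientGroup.mk' (T4 P) u * (QuotientGroup.mk' (T4 P) (c⁻¹ * (u * u)))⁻¹ := by
        rw [eq_mul_inv_iff_mul_eq, ← map_mul, ← map_mul]
        congr 1
        group
      obtain ⟨τ, hτdef⟩ : ∃ τ, τ = QuotientGroup.mk' (T4 P) (c⁻¹ * (u * u)) := ⟨_, rfl⟩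
      obtain ⟨X, hXdef⟩ : ∃ X, X = QuotientGroup.mk' (T4 P) u := ⟨_, rfl⟩
      rw [← hτdef, ← hXdef] at hτ e
      rw [← hXdef, e]
      have hτ' : τ⁻¹ * X = X * τ⁻¹ := (Commute.inv_left (show Commute τ X from hτ)).eq
      calc X * X * τ⁻¹ * X = X * X * (τ⁻¹ * X) := by group
        _ = X * X * (X * τ⁻¹) := by rw [hτ']
        _ = X * (X * X * τ⁻¹) := by group
    obtain ⟨-, hz4⟩ := mk_mem_zpowers (T4 P) hgen (by rw [← hc]; exact key a hac)
      (by rw [← hc]; exact key b hbc)
    apply hT4ne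
    apply le_antisymm hT4le
    apply commutator_le_of_forall
    intro d hd g _
    exact comm_mem_of_mk_comm _ _ _ (hz4 d hd g)
  have hcc : c * c = 1 := by
    have h1 : c * c ∈ T3 P := (hπ1 _).mp (by rw [map_mul]; exact hCC)
    rw [hT3] at h1; exact Subgroup.mem_bot.mp h1
  rw [hT3] at h5a hcT hac hbc
  have hc1 : c ≠ 1 := fun h => hcT (by rw [h]; exact Subgroup.one_mem _)
  have haa' : a * a = c := (inv_mul_eq_one.mp (Subgroup.mem_bot.mp hac)).symm
  have hbb' : b * b = c := (inv_mul_eq_one.mp (Subgroup.mem_bot.mp hbc)).symm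
  have hDelts : ∀ d ∈ commutator P, d = 1 ∨ d = c := by
    intro d hd
    rcases h5a d hd with h | h
    · left; exact Subgroup.mem_bot.mp h
    · right; exact (inv_mul_eq_one.mp (Subgroup.mem_bot.mp h)).symm
  have hDcard : Nat.card (commutator P) = 2 := by
    rw [Nat.card_eq_two_iff]
    refine ⟨⟨1, Subgroup.one_mem _⟩, ⟨c, hcD⟩, ?_, ?_⟩
    · intro h; exact hc1 (congrArg Subtype.val h).symm
    · ext ⟨d, hd⟩
      simp only [Set.mem_insert_iff, Set.mem_singleton_iff, Set.mem_univ, iff_true]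
      rcases hDelts d hd with h | h
      · left; exact Subtype.ext h
      · right; exact Subtype.ext h
  have hcard : Nat.card P = 8 := by
    rw [← Subgroup.card_mul_index (commutator P), hDcard, h4]
  have ha4 : a ^ 4 = 1 := by
    have : a ^ 4 = (a * a) * (a * a) := by
      rw [show (4 : ℕ) = 2 + 2 from rfl, pow_add, pow_two]
    rw [this, haa', hcc]
  have hb2 : b ^ 2 = a ^ 2 := by rw [pow_two, pow_two, haa', hbb']
  have hba : b * a * b⁻¹ = a⁻¹ := by
    have h1 : a * b * a⁻¹ * b⁻¹ = a * a := by rw [← hc, haa']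
    have h2 : b * a⁻¹ * b⁻¹ = a := by
      have : a * (b * a⁻¹ * b⁻¹) = a * a := by rw [← h1]; group
      exact mul_left_cancel this
    have h3 : (b * a⁻¹ * b⁻¹)⁻¹ = a⁻¹ := by rw [h2]
    rw [← h3]; group
  exact nonempty_mulEquiv_quaternionGroup_two a b hcard hgen ha4 hb2 hba

end Aux

/-- Let P be a finite non-abelian 2-group whose commutator subgroup has index 4 and whose automorphism group is not a 2-group (some automorphism has order that is not a power of 2). Then P is isomorphic to the quaternion group of order 8. -/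
theorem result {P : Type*} [Group P] [Finite P] (hP : IsPGroup 2 P) (hna : ¬ IsMulCommutative P) (h4 : (commutator P).index = 4) (haut : ¬ IsPGroup 2 (MulAut P)) : Nonempty (P ≃* QuaternionGroup 2) := by
  exact main hP hna h4 haut

end Cfsg.Agent.S4189
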