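import Cfsg.Statements.S1896
import Cfsg.Agent.S4189
import Cfsg.Agent.Helper32.MetaTwoC

set_option autoImplicit false
open Cfsg

namespace Cfsg.Agent.S1896

/-- A finite metacyclic 2-group whose automorphism group is not a 2-group is isomorphic to the quaternion group of order 8 or to a homocyclic abelian group Z_{2^n} × Z_{2^n}. -/
theorem result {X : Type*} [Group X] [Finite X] (hX : IsPGroup 2 X)
    (hm : Cfsg.IsMetacyclic X) (hA : ¬ IsPGroup 2 (MulAut X)) :
    Nonempty (X ≃* QuaternionGroup 2) ∨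
      ∃ n : ℕ, Nonempty (X ≃* Multiplicative (ZMod (2 ^ n)) × Multiplicative (ZMod (2 ^ n))) := by
  classical
  -- an automorphism of odd prime order
  have hcard : ¬ ∃ n : ℕ, Nat.card (MulAut X) = 2 ^ n := fun h => hA ((IsPGroup.iff_card).2 h)
  obtain ⟨q, hqp, hqdvd, hq2⟩ : ∃ q : ℕ, q.Prime ∧ q ∣ Nat.card (MulAut X) ∧ q ≠ 2 := by
    by_contra hcon
    push Not at hcon
    apply hcard
    exact ⟨_, Nat.eq_prime_pow_of_unique_prime_dvd (Nat.card_pos).ne' (fun {d} hd hdvd => hcon d hd hdvd)⟩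
  haveI : Fact q.Prime := ⟨hqp⟩
  obtain ⟨α, hαo⟩ := exists_prime_orderOf_dvd_card' q hqdvd
  have hαq : α ^ q = 1 := by rw [← hαo]; exact pow_orderOf_eq_one α
  have hα1 : α ≠ 1 := by
    intro h
    rw [h, orderOf_one] at hαo
    exact hqp.ne_one hαo.symm
  -- generators
  obtain ⟨N, hNn, hNc, hQc⟩ := hm
  obtain ⟨g, hg⟩ := hNc.exists_generator
  obtain ⟨gq, hgq⟩ := hQc.exists_generator
  obtain ⟨b, rfl⟩ := QuotientGroup.mk_surjective gq
  set a : X := (g : X) with ha
  have hNa : N ≤ Subgroup.zpowers a := by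
    intro y hy
    obtain ⟨k, hk⟩ := Subgroup.mem_zpowers_iff.1 (hg ⟨y, hy⟩)
    rw [Subgroup.mem_zpowers_iff]
    refine ⟨k, ?_⟩
    have := congrArg Subtype.val hk
    simpa using this
  have hgen : ∀ x : X, ∃ i j : ℕ, x = a ^ i * b ^ j := by
    intro x
    obtain ⟨k, hk⟩ := Subgroup.mem_zpowers_iff.1 (hgq (QuotientGroup.mk x))
    have h1 : (QuotientGroup.mk (b ^ k) : X ⧸ N) = QuotientGroup.mk x := by
      rw [← hk]; rfl
    have h2 : (b ^ k)⁻¹ * x ∈ N := QuotientGroup.eq.1 h1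
    have h3 : b ^ k * ((b ^ k)⁻¹ * x) * (b ^ k)⁻¹ ∈ N := hNn.conj_mem _ h2 _
    obtain ⟨i, hi⟩ := Cfsg.Agent.Helper32.exists_pow_of_mem_zpowers (hNa h3)
    obtain ⟨j, hj⟩ := Cfsg.Agent.Helper32.exists_pow_of_mem_zpowers
      (Subgroup.zpow_mem _ (Subgroup.mem_zpowers b) k)
    refine ⟨i, j, ?_⟩
    rw [hi, hj]; group
  have hXN : commutator X ≤ Subgroup.zpowers a := by
    have h1 : commutator X ≤ N := by
      rw [← Subgroup.Normal.quotient_commutative_iff_commutator_le]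
      exact IsCyclic.isMulCommutative
    exact h1.trans hNa
  have hNI := Cfsg.Agent.Helper32.no_inv_index_two hq2 hX α hαq hα1 a b hgen
  by_cases hab : ∀ x y : X, x * y = y * x
  · right
    exact Cfsg.Agent.Helper32.homocyclic_of_noInv hX hab a b hgen α hNI
  · left
    exact Cfsg.Agent.S4189.result hX (fun hc => hab (fun x y => hc.is_comm.comm x y))
      (Cfsg.Agent.Helper32.commutator_index_four_of_noInv hX a b hgen hXN hab α hNI) hA

end Cfsg.Agent.S1896
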