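import Cfsg.Statements.S1903
-- import your own Cfsg.Agent.* helpers here
import Cfsg.Agent.Helper50.G320d

set_option autoImplicit false
open Cfsg

namespace Cfsg.Agent.S1903

/-- A finite group of order 320 whose derived subgroup has order 64 and has centre a Klein four-group is isomorphic to the centralizer of an involution in PSU₃(4). -/
theorem result {G : Type*} [Group G] [Finite G] (hG : Nat.card G = 320) (hD : Nat.card (commutator G) = 64)
    (hZ : IsKleinFour (Subgroup.center (commutator G)))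
    {F : Type*} [Field F] [Fintype F] (hF : Fintype.card F = 16) :
    ∃ t : Cfsg.PSU 3 F 4, orderOf t = 2 ∧ Nonempty (G ≃* Subgroup.centralizer ({t} : Set (Cfsg.PSU 3 F 4))) := by
  have hF' : Fintype.card F = 4 ^ 2 := by rw [hF]; norm_num
  haveI : CharP F 2 := Cfsg.Agent.Helper43.HeisGroup.charP_two_of_card (k := 2) (by norm_num)
    (by rw [hF]; norm_num)
  haveI : Fact (Nat.Prime 5) := ⟨by norm_num⟩
  obtain ⟨y, hy⟩ := exists_prime_orderOf_dvd_card' (G := G) 5 (by rw [hG]; norm_num)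
  obtain ⟨hyT, q₁⟩ := Cfsg.Agent.Helper50.q64_of_hyp hG hD hZ y hy
  obtain ⟨T, hT, y₂, hcard, hy₂, hn₂, q₂⟩ := Cfsg.Agent.Helper50.G320d.concrete hF'
  haveI := hT
  haveI : Finite ↥(Cfsg.Agent.Helper50.G320d.C0 hF') :=
    Nat.finite_of_card_ne_zero (by rw [hcard]; norm_num)
  have hy5 : y ^ 5 = 1 := by rw [← hy]; exact pow_orderOf_eq_one y
  obtain ⟨e₁⟩ := Cfsg.Agent.Helper50.unique_of_q64 (commutator G) y T y₂ hG hcard hy5 hy₂ hyT hn₂
    q₁ q₂
  have hZc : Nat.card (Subgroup.center (Cfsg.SU 3 F 4)) = 1 := by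
    rw [Cfsg.Agent.S0279.result hF' 3 le_rfl]
    rfl
  have hbot : Subgroup.center (Cfsg.SU 3 F 4) = ⊥ := Subgroup.card_eq_one.1 hZc
  have hbij : Function.Bijective (QuotientGroup.mk' (Subgroup.center (Cfsg.SU 3 F 4))) := by
    refine ⟨?_, QuotientGroup.mk'_surjective _⟩
    rw [← MonoidHom.ker_eq_bot_iff, QuotientGroup.ker_mk', hbot]
  obtain ⟨e, he⟩ : ∃ e : ↥(Cfsg.SU 3 F 4) ≃* Cfsg.PSU 3 F 4, e = e :=
    ⟨MulEquiv.ofBijective _ hbij, rfl⟩
  refine ⟨e (Cfsg.Agent.Helper50.G320d.t0 hF'), ?_, ?_⟩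
  · rw [MulEquiv.orderOf_eq]
    exact Cfsg.Agent.Helper50.G320d.orderOf_t0 hF'
  · exact ⟨e₁.trans (Cfsg.Agent.Helper50.G320d.centEquiv e _)⟩

end Cfsg.Agent.S1903
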