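import Cfsg.Statements.S1910
import Cfsg.Agent.Helper32.Tight

set_option autoImplicit false
open Cfsg

namespace Cfsg.Agent.S1910

open Cfsg.Agent.Helper32 Subgroup

/-- Let Q be a tightly embedded subgroup of a finite group G, g an element outside N_G(Q), T a nontrivial Sylow 2-subgroup of Q^g ∩ N_G(Q), and S a Sylow 2-subgroup of QT containing T. Then T ∩ Q = 1, and N_S(T) is the direct product of T and N_S(T) ∩ Q, with N_S(T) ∩ Q isomorphic to T. -/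
theorem result {G : Type*} [Group G] [Finite G] (Q : Subgroup G) (hQ : Cfsg.IsTightlyEmbedded Q)
    (g : G) (hg : g ∉ Subgroup.normalizer (Q : Set G))
    (T : Subgroup G) (hT1 : T ≠ ⊥) (hT : T ≤ Q.map (MulAut.conj g).toMonoidHom ⊓ Subgroup.normalizer (Q : Set G))
    (hTsyl : IsPGroup 2 T ∧ ¬ 2 ∣ T.relIndex (Q.map (MulAut.conj g).toMonoidHom ⊓ Subgroup.normalizer (Q : Set G)))
    (S : Subgroup G) (hTS : T ≤ S) (hS : S ≤ Q ⊔ T) (hSsyl : IsPGroup 2 S ∧ ¬ 2 ∣ S.relIndex (Q ⊔ T)) :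
    T ⊓ Q = ⊥ ∧
      T ⊓ (S ⊓ Subgroup.normalizer (T : Set G) ⊓ Q) = ⊥ ∧
      ⁅T, S ⊓ Subgroup.normalizer (T : Set G) ⊓ Q⁆ = ⊥ ∧
      T ⊔ (S ⊓ Subgroup.normalizer (T : Set G) ⊓ Q) = S ⊓ Subgroup.normalizer (T : Set G) ∧
      Nonempty (↥(S ⊓ Subgroup.normalizer (T : Set G) ⊓ Q) ≃* T) := by
  classical
  have : Fact (Nat.Prime 2) := ⟨Nat.prime_two⟩
  set Q' : Subgroup G := Q.map (MulAut.conj g).toMonoidHom with hQ'def
  have hTE : TE Q := te_of_isTightlyEmbedded hQ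
  have hQ' : ∀ x, x ∈ Q' ↔ g⁻¹ * x * g ∈ Q := fun x => mem_map_conj_iff32 Q g x
  have hTE' : TE Q' := te_conj hTE g hQ'
  have hTQ' : T ≤ Q' := hT.trans inf_le_left
  have hTN : T ≤ normalizer (Q : Set G) := hT.trans inf_le_right
  set R : Subgroup G := S ⊓ normalizer (T : Set G) ⊓ Q with hRdef
  obtain ⟨ha, hb, hcomm, hd, ψ, hψ⟩ :=
    tight_stepA Q Q' hTE g hg hQ' T hTQ' hTN hTsyl.1 S hTS hS hSsyl.1 hSsyl.2
  have hRS : R ≤ S := inf_le_left.trans inf_le_left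
  have hRQ : R ≤ Q := inf_le_right
  have hR2 : IsPGroup 2 R := hSsyl.1.to_le hRS
  refine ⟨ha, hb, ?_, hd, ?_⟩
  · rw [commutator_eq_bot_iff_le_centralizer]
    intro t ht
    rw [mem_centralizer_iff]
    intro r hr
    exact (hcomm t ht r hr).symm
  obtain ⟨τ, hτT, hτ1⟩ : ∃ τ ∈ T, τ ≠ 1 := by
    by_contra h
    push_neg at h
    exact hT1 ((eq_bot_iff_forall _).2 h)
  obtain ⟨kτ, hkτ⟩ := two_elt_of_mem hTsyl.1 hτT
  have hRN' : R ≤ normalizer (Q' : Set G) := by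
    intro r hr
    exact mem_normalizer_of_commute hTE' (hTQ' hτT) hτ1 hkτ (hcomm τ hτT r hr).symm
  have hρ1 : ((ψ ⟨τ, hτT⟩ : R) : G) ≠ 1 := by
    intro h
    have h1 : ψ ⟨τ, hτT⟩ = 1 := Subtype.ext h
    have h2 := (injective_iff_map_eq_one ψ).1 hψ _ h1
    exact hτ1 (congrArg Subtype.val h2)
  obtain ⟨R₁, hRR₁, hR₁le, hR₁2, hR₁syl⟩ :=
    exists_sylow_between R (Q ⊓ normalizer (Q' : Set G)) hR2 (le_inf hRQ hRN')
  have hR₁Q : R₁ ≤ Q := hR₁le.trans inf_le_left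
  have hR₁N : R₁ ≤ normalizer (Q' : Set G) := hR₁le.trans inf_le_right
  obtain ⟨S', hR₁S', hS'le, hS'2, hS'syl⟩ :=
    exists_sylow_between R₁ (Q' ⊔ R₁) hR₁2 le_sup_right
  have hg' : g⁻¹ ∉ normalizer (Q' : Set G) := by
    intro h
    apply hg
    have h1 : g ∈ normalizer (Q' : Set G) := by simpa using inv_mem h
    rw [mem_normalizer_iff] at h1 ⊢
    have hQeq : ∀ x, x ∈ Q ↔ x ∈ Q' := by
      intro x
      rw [h1 x, hQ' (g * x * g⁻¹)]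
      have e : g⁻¹ * (g * x * g⁻¹) * g = x := by group
      rw [e]
    intro x
    rw [hQeq (g * x * g⁻¹), ← h1 x, hQeq x]
  have hQback : ∀ x, x ∈ Q ↔ (g⁻¹)⁻¹ * x * g⁻¹ ∈ Q' := by
    intro x
    rw [hQ', inv_inv]
    have e : g⁻¹ * (g * x * g⁻¹) * g = x := by group
    rw [e]
  set R'' : Subgroup G := S' ⊓ normalizer (R₁ : Set G) ⊓ Q' with hR''def
  obtain ⟨-, hb', hcomm', -, ψ', hψ'⟩ :=
    tight_stepA Q' Q hTE' g⁻¹ hg' hQback R₁ hR₁Q hR₁N hR₁2 S' hR₁S' hS'le hS'2 hS'syl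
  have hR''2 : IsPGroup 2 R'' := hS'2.to_le (inf_le_left.trans inf_le_left)
  have hρR₁ : ((ψ ⟨τ, hτT⟩ : R) : G) ∈ R₁ := hRR₁ (ψ ⟨τ, hτT⟩).2
  obtain ⟨kρ, hkρ⟩ := two_elt_of_mem hR₁2 hρR₁
  have hR''N : R'' ≤ normalizer (Q : Set G) := by
    intro r hr
    exact mem_normalizer_of_commute hTE (hR₁Q hρR₁) hρ1 hkρ (hcomm' _ hρR₁ r hr).symm
  have hR''le : R'' ≤ Q' ⊓ normalizer (Q : Set G) := le_inf inf_le_right hR''N
  obtain ⟨c, -, hc⟩ := exists_conj_mem_of_relIndex T (Q' ⊓ normalizer (Q : Set G)) hTsyl.1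
    hTsyl.2 R'' hR''2 hR''le
  have hcard1 : Nat.card R'' ≤ Nat.card T := by
    refine Nat.card_le_card_of_injective
      (fun r : R'' => (⟨c⁻¹ * (r : G) * c, hc r r.2⟩ : T)) ?_
    intro a b hab
    have h1 : c⁻¹ * (a : G) * c = c⁻¹ * (b : G) * c := congrArg Subtype.val hab
    apply Subtype.ext
    have e : ∀ u : G, u = c * (c⁻¹ * u * c) * c⁻¹ := by intro u; group
    rw [e (a : G), h1, ← e]
  have hcard2 : Nat.card R₁ ≤ Nat.card R'' := Nat.card_le_card_of_injective ψ' hψ'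
  have hcard3 : Nat.card R ≤ Nat.card R₁ := Subgroup.card_le_of_le hRR₁
  have hbij : Function.Bijective ψ :=
    hψ.bijective_of_nat_card_le (hcard3.trans (hcard2.trans hcard1))
  exact ⟨(MulEquiv.ofBijective ψ hbij).symm⟩

end Cfsg.Agent.S1910
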