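import Cfsg.Statements.S1921
import Cfsg.Agent.Helper22.Basic

set_option autoImplicit false
open Cfsg

namespace Cfsg.Agent.S1921

theorem mem_sup_of_commute {G : Type*} [Group G] (A B : Subgroup G)
    (hAB : ∀ a ∈ A, ∀ b ∈ B, a * b = b * a) {x : G} (hx : x ∈ A ⊔ B) :
    ∃ a ∈ A, ∃ b ∈ B, x = a * b := by
  rw [Subgroup.sup_eq_closure] at hx
  induction hx using Subgroup.closure_induction with
  | mem y hy =>
    rcases hy with hy | hy
    · exact ⟨y, hy, 1, one_mem _, (mul_one y).symm⟩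
    · exact ⟨1, one_mem _, y, hy, (one_mul y).symm⟩
  | one => exact ⟨1, one_mem _, 1, one_mem _, (mul_one 1).symm⟩
  | mul y z _ _ hy hz =>
    obtain ⟨a, ha, b, hb, rfl⟩ := hy
    obtain ⟨a', ha', b', hb', rfl⟩ := hz
    refine ⟨a * a', mul_mem ha ha', b * b', mul_mem hb hb', ?_⟩
    calc a * b * (a' * b') = a * (b * a') * b' := by group
      _ = a * (a' * b) * b' := by rw [hAB a' ha' b hb]
      _ = a * a' * (b * b') := by group
  | inv y _ hy =>
    obtain ⟨a, ha, b, hb, rfl⟩ := hy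
    refine ⟨a⁻¹, inv_mem ha, b⁻¹, inv_mem hb, ?_⟩
    rw [mul_inv_rev]
    exact (hAB a⁻¹ (inv_mem ha) b⁻¹ (inv_mem hb)).symm

/-- Let a be an involution of a finite group H and L a component of H with a L a⁻¹ ≠ L; put M = ⟨L, aLa⁻¹⟩ and let J be the subgroup generated by the elements x · a x a⁻¹ with x ∈ L (the diagonal). Then every element of M outside J·Z(M) generates M together with J. -/
theorem result {H : Type*} [Group H] [Finite H] (a : H) (ha : orderOf a = 2) (L : Subgroup H) (hL : Cfsg.IsComponent L)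
    (hLa : L.map (MulAut.conj a).toMonoidHom ≠ L) (x : H) (hxM : x ∈ L ⊔ L.map (MulAut.conj a).toMonoidHom)
    (hxJ : x ∉ Subgroup.closure {y : H | ∃ l ∈ L, y = l * (a * l * a⁻¹)} ⊔
      ((L ⊔ L.map (MulAut.conj a).toMonoidHom) ⊓ Subgroup.centralizer ((L ⊔ L.map (MulAut.conj a).toMonoidHom : Subgroup H) : Set H))) :
    Subgroup.closure {y : H | ∃ l ∈ L, y = l * (a * l * a⁻¹)} ⊔ Subgroup.zpowers x = L ⊔ L.map (MulAut.conj a).toMonoidHom := by
  set La := L.map (MulAut.conj a).toMonoidHom with hLadef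
  set J := Subgroup.closure {y : H | ∃ l ∈ L, y = l * (a * l * a⁻¹)} with hJ
  have hLa_comp : Cfsg.IsComponent La := Cfsg.Agent.Helper22.isComponent_conj hL a
  have hcomm0 : ⁅L, La⁆ = ⊥ :=
    Cfsg.Agent.Helper22.components_commute hL hLa_comp (Ne.symm hLa)
  have hcomm : ∀ l ∈ L, ∀ l' ∈ La, l * l' = l' * l := by
    intro l hl l' hl'
    have := Subgroup.commutator_eq_bot_iff_le_centralizer.1 hcomm0 hl
    exact (Subgroup.mem_centralizer_iff.1 this l' hl').symm
  have hmemLa : ∀ l ∈ L, a * l * a⁻¹ ∈ La := fun l hl => ⟨l, hl, rfl⟩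
  have hJmem : ∀ l ∈ L, l * (a * l * a⁻¹) ∈ J := fun l hl =>
    Subgroup.subset_closure ⟨l, hl, rfl⟩
  set X := J ⊔ Subgroup.zpowers x with hX
  have hJX : J ≤ X := le_sup_left
  have hxX : x ∈ X := Subgroup.mem_sup_right (Subgroup.mem_zpowers x)
  have hXM : X ≤ L ⊔ La := by
    apply sup_le
    · rw [hJ, Subgroup.closure_le]
      rintro y ⟨l, hl, rfl⟩
      exact mul_mem (Subgroup.mem_sup_left hl) (Subgroup.mem_sup_right (hmemLa l hl))
    · rw [Subgroup.zpowers_le]
      exact hxM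
  have hN : (X.subgroupOf L).Normal := by
    constructor
    intro n hn g
    rw [Subgroup.mem_subgroupOf] at hn ⊢
    have e : ((g * n * g⁻¹ : L) : H) =
        ((g : H) * (a * g * a⁻¹)) * n * ((g : H) * (a * g * a⁻¹))⁻¹ := by
      have h1 := hcomm n n.2 (a * g * a⁻¹) (hmemLa g g.2)
      show (g : H) * n * (g : H)⁻¹ = _
      calc (g : H) * n * (g : H)⁻¹
          = (g : H) * (n * (a * g * a⁻¹)) * (a * g * a⁻¹)⁻¹ * (g : H)⁻¹ := by group
        _ = (g : H) * ((a * g * a⁻¹) * n) * (a * g * a⁻¹)⁻¹ * (g : H)⁻¹ := by rw [h1]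
        _ = _ := by group
    rw [e]
    exact mul_mem (mul_mem (hJX (hJmem g g.2)) hn) (inv_mem (hJX (hJmem g g.2)))
  rcases Cfsg.Agent.Helper22.quasisimple_normal hL.2 _ hN with h | h
  · have hLX : L ≤ X := by
      intro l hl
      have : (⟨l, hl⟩ : L) ∈ X.subgroupOf L := by
        rw [h]
        trivial
      exact Subgroup.mem_subgroupOf.1 this
    apply le_antisymm hXM
    apply sup_le hLX
    rintro _ ⟨l, hl, rfl⟩
    have e : (MulAut.conj a).toMonoidHom l = l⁻¹ * (l * (a * l * a⁻¹)) := by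
      show a * l * a⁻¹ = _
      group
    rw [e]
    exact mul_mem (inv_mem (hLX hl)) (hJX (hJmem l hl))
  · exfalso
    apply hxJ
    obtain ⟨l₁, hl₁, l₂', hl₂', hx⟩ := mem_sup_of_commute L La hcomm hxM
    obtain ⟨l₂, hl₂, rfl⟩ := hl₂'
    have hx' : x = l₁ * (a * l₂ * a⁻¹) := hx
    have e0 : x = (l₁ * l₂⁻¹) * (l₂ * (a * l₂ * a⁻¹)) := by
      rw [hx']
      group
    have hy : l₁ * l₂⁻¹ ∈ X := by
      have e : l₁ * l₂⁻¹ = x * (l₂ * (a * l₂ * a⁻¹))⁻¹ := by
        rw [e0]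
        group
      rw [e]
      exact mul_mem hxX (inv_mem (hJX (hJmem l₂ hl₂)))
    have hyL : l₁ * l₂⁻¹ ∈ L := mul_mem hl₁ (inv_mem hl₂)
    have hyc : (⟨l₁ * l₂⁻¹, hyL⟩ : L) ∈ Subgroup.center L :=
      h (Subgroup.mem_subgroupOf.2 hy)
    have hycL : ∀ l ∈ L, l * (l₁ * l₂⁻¹) = (l₁ * l₂⁻¹) * l := by
      intro l hl
      have := Subgroup.mem_center_iff.1 hyc ⟨l, hl⟩
      exact congrArg Subtype.val this
    have hyZ : l₁ * l₂⁻¹ ∈ (L ⊔ La) ⊓ Subgroup.centralizer ((L ⊔ La : Subgroup H) : Set H) := by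
      refine Subgroup.mem_inf.2 ⟨Subgroup.mem_sup_left hyL, ?_⟩
      have hle : L ⊔ La ≤ Subgroup.centralizer ({l₁ * l₂⁻¹} : Set H) := by
        apply sup_le
        · intro l hl
          rw [Subgroup.mem_centralizer_iff]
          intro y hy'
          rw [Set.mem_singleton_iff] at hy'
          subst hy'
          exact (hycL l hl).symm
        · intro l' hl'
          rw [Subgroup.mem_centralizer_iff]
          intro y hy'
          rw [Set.mem_singleton_iff] at hy'
          subst hy'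
          exact hcomm _ hyL l' hl'
      rw [Subgroup.mem_centralizer_iff]
      intro m hm
      exact (Subgroup.mem_centralizer_iff.1 (hle hm) _ rfl).symm
    rw [e0]
    exact mul_mem (Subgroup.mem_sup_right hyZ) (Subgroup.mem_sup_left (hJmem l₂ hl₂))

end Cfsg.Agent.S1921
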