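import Mathlib
import Cfsg.Statements.S1922

set_option autoImplicit false
open Cfsg

namespace Cfsg.Agent.S1922

theorem mem_map_conj {G : Type*} [Group G] (H : Subgroup G) (g x : G) :
    x ∈ H.map (MulAut.conj g).toMonoidHom ↔ g⁻¹ * x * g ∈ H := by
  constructor
  · rintro ⟨h, hh, rfl⟩
    have : g⁻¹ * ((MulAut.conj g).toMonoidHom h) * g = h := by
      show g⁻¹ * (g * h * g⁻¹) * g = h
      group
    rw [this]; exact hh
  · intro h
    refine ⟨g⁻¹ * x * g, h, ?_⟩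
    show g * (g⁻¹ * x * g) * g⁻¹ = x
    group

/-- A finite set with a fixed-point-free involution has even cardinality. -/
theorem even_card_of_invol {α : Type*} (s : Finset α) (σ : α → α)
    (hmem : ∀ a ∈ s, σ a ∈ s) (hinv : ∀ a ∈ s, σ (σ a) = a) (hne : ∀ a ∈ s, σ a ≠ a) :
    Even s.card := by
  have h := Finset.sum_involution (s := s) (f := fun _ => (1 : ZMod 2)) (fun a _ => σ a)
    (fun a ha => by decide) (fun a ha _ => hne a ha) (fun a ha => hmem a ha)
    (fun a ha => hinv a ha)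
  rw [Finset.sum_const, nsmul_eq_mul, mul_one] at h
  have h2 : (2 : ℕ) ∣ s.card := (ZMod.natCast_eq_zero_iff _ _).mp h
  exact even_iff_two_dvd.mpr h2

theorem isPGroup_zpowers_of_sq {G : Type*} [Group G] (x : G) (hx : x * x = 1) :
    IsPGroup 2 (Subgroup.zpowers x) := by
  rintro ⟨y, hy⟩
  obtain ⟨k, rfl⟩ := Subgroup.mem_zpowers_iff.mp hy
  refine ⟨1, Subtype.ext ?_⟩
  show (x ^ k) ^ (2 ^ 1) = 1
  rw [pow_one, ← zpow_natCast, ← zpow_mul, mul_comm, zpow_mul, zpow_natCast, pow_two, hx, one_zpow]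

section dihedral

variable {G : Type*} [Group G]

theorem inv_of_sq {a : G} (ha : a * a = 1) : a⁻¹ = a := inv_eq_of_mul_eq_one_right ha

/-- Conjugation by the involution `a` inverts the powers of `a * b`. -/
theorem invol_conj_pow {a b : G} (ha : a * a = 1) (hb : b * b = 1) (k : ℕ) :
    a * (a * b) ^ k * a = ((a * b) ^ k)⁻¹ := by
  have hainv : a⁻¹ = a := inv_of_sq ha
  have hbinv : b⁻¹ = b := inv_of_sq hb
  have h1 : a * (a * b) * a⁻¹ = (a * b)⁻¹ := by
    rw [mul_inv_rev, hainv, hbinv]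
    calc a * (a * b) * a = (a * a) * b * a := by group
      _ = b * a := by rw [ha, one_mul]
  have h2 : a * (a * b) ^ k * a⁻¹ = ((a * b)⁻¹) ^ k := by
    rw [← h1, conj_pow]
  rw [hainv] at h2
  rw [h2, inv_pow]

theorem invol_conj_pow' {a b : G} (ha : a * a = 1) (hb : b * b = 1) (k : ℕ) :
    b * (a * b) ^ k * b = ((a * b) ^ k)⁻¹ := by
  have hainv : a⁻¹ = a := inv_of_sq ha
  have hbinv : b⁻¹ = b := inv_of_sq hb
  have h1 : b * (a * b) * b⁻¹ = (a * b)⁻¹ := by
    rw [mul_inv_rev, hainv, hbinv]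
    calc b * (a * b) * b = b * a * (b * b) := by group
      _ = b * a := by rw [hb, mul_one]
  have h2 : b * (a * b) ^ k * b⁻¹ = ((a * b)⁻¹) ^ k := by
    rw [← h1, conj_pow]
  rw [hbinv] at h2
  rw [h2, inv_pow]

theorem conj_mul_comm (c x w : G) (h : c * w = w * c) :
    w⁻¹ * (x * c) * w = (w⁻¹ * x * w) * c := by
  calc w⁻¹ * (x * c) * w = w⁻¹ * x * (c * w) := by group
    _ = w⁻¹ * x * (w * c) := by rw [h]
    _ = (w⁻¹ * x * w) * c := by group

/-- `(c ^ i)⁻¹ * a * c ^ i = a * c ^ i * c ^ i` for `c = a * b`. -/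
theorem conj_by_pow {a b : G} (ha : a * a = 1) (hb : b * b = 1) (i : ℕ) :
    ((a * b) ^ i)⁻¹ * a * (a * b) ^ i = a * (a * b) ^ i * (a * b) ^ i := by
  rw [← invol_conj_pow ha hb i]
  calc a * (a * b) ^ i * a * a * (a * b) ^ i = a * (a * b) ^ i * (a * a) * (a * b) ^ i := by group
    _ = a * (a * b) ^ i * (a * b) ^ i := by rw [ha, mul_one]

theorem dihedral_even {a b : G} (ha : a * a = 1) (hb : b * b = 1) (j : ℕ) (hj : 0 < j)
    (ho : orderOf (a * b) = 2 * j) :
    (a * b) ^ j ≠ 1 ∧ (a * b) ^ j * (a * b) ^ j = 1 ∧ a * (a * b) ^ j = (a * b) ^ j * a ∧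
      b * (a * b) ^ j = (a * b) ^ j * b ∧
      (IsConj a (a * (a * b) ^ j) ∨ IsConj b (a * (a * b) ^ j)) := by
  have he1 : (a * b) ^ j ≠ 1 := by
    intro h
    have h1 := orderOf_dvd_of_pow_eq_one h
    rw [ho] at h1
    have := Nat.le_of_dvd hj h1
    omega
  have he2 : (a * b) ^ j * (a * b) ^ j = 1 := by
    rw [← pow_add, ← two_mul, ← ho, pow_orderOf_eq_one]
  have heinv : ((a * b) ^ j)⁻¹ = (a * b) ^ j := inv_of_sq he2
  have hae : a * (a * b) ^ j = (a * b) ^ j * a := by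
    have h := invol_conj_pow ha hb j
    rw [heinv] at h
    calc a * (a * b) ^ j = a * (a * b) ^ j * (a * a) := by rw [ha, mul_one]
      _ = (a * (a * b) ^ j * a) * a := by group
      _ = (a * b) ^ j * a := by rw [h]
  have hbe : b * (a * b) ^ j = (a * b) ^ j * b := by
    have h := invol_conj_pow' ha hb j
    rw [heinv] at h
    calc b * (a * b) ^ j = b * (a * b) ^ j * (b * b) := by rw [hb, mul_one]
      _ = (b * (a * b) ^ j * b) * b := by group
      _ = (a * b) ^ j * b := by rw [h]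
  refine ⟨he1, he2, hae, hbe, ?_⟩
  obtain ⟨i, rfl | rfl⟩ := Nat.even_or_odd' j
  · left
    refine isConj_iff.mpr ⟨((a * b) ^ i)⁻¹, ?_⟩
    rw [inv_inv, conj_by_pow ha hb i, mul_assoc, ← pow_add, ← two_mul]
  · right
    refine isConj_iff.mpr ⟨((a * b) ^ i)⁻¹, ?_⟩
    rw [inv_inv]
    have hb' : b = a * (a * b) := by rw [← mul_assoc, ha, one_mul]
    calc ((a * b) ^ i)⁻¹ * b * (a * b) ^ i
        = ((a * b) ^ i)⁻¹ * (a * (a * b)) * (a * b) ^ i := by rw [← hb']
      _ = (((a * b) ^ i)⁻¹ * a * (a * b) ^ i) * (a * b) := by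
          have hc : (a * b) * (a * b) ^ i = (a * b) ^ i * (a * b) := by
            rw [← pow_succ, ← pow_succ']
          exact conj_mul_comm _ _ _ hc
      _ = a * (a * b) ^ i * (a * b) ^ i * (a * b) := by rw [conj_by_pow ha hb i]
      _ = a * (a * b) ^ (2 * i + 1) := by
          rw [mul_assoc, mul_assoc, ← pow_succ, ← pow_add]; congr 2; ring

theorem dihedral_odd {a b : G} (ha : a * a = 1) (hb : b * b = 1) (i : ℕ)
    (ho : orderOf (a * b) = 2 * i + 1) :
    ∃ y, IsConj a y ∧ y * a * y⁻¹ = b := by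
  obtain ⟨w, hw⟩ : ∃ w, w = (a * b) ^ ((i + 1) * (i + 1)) := ⟨_, rfl⟩
  have hK : w⁻¹ * a * w = a * w * w := by rw [hw]; exact conj_by_pow ha hb _
  have hw4 : w * w * (w * w) = a * b := by
    rw [hw, ← pow_add, ← pow_add]
    have e : (i + 1) * (i + 1) + (i + 1) * (i + 1) + ((i + 1) * (i + 1) + (i + 1) * (i + 1))
        = (2 * i + 1) * (2 * i + 3) + 1 := by ring
    rw [e, pow_succ, pow_mul, ← ho, pow_orderOf_eq_one, one_pow, one_mul]
  refine ⟨w⁻¹ * a * w, isConj_iff.mpr ⟨w⁻¹, by rw [inv_inv]⟩, ?_⟩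
  have hy2 : (w⁻¹ * a * w) * (w⁻¹ * a * w) = 1 := by
    calc (w⁻¹ * a * w) * (w⁻¹ * a * w) = w⁻¹ * (a * a) * w := by group
      _ = 1 := by rw [ha]; group
  rw [inv_of_sq hy2, hK]
  calc a * w * w * a * (a * w * w) = a * (w * w) * (a * a) * (w * w) := by group
    _ = a * (w * w * (w * w)) := by rw [ha]; group
    _ = b := by rw [hw4, ← mul_assoc, ha, one_mul]

theorem eq_of_sq_eq_of_odd {a b : G} (ha : Odd (orderOf a)) (hb : Odd (orderOf b))
    (h : a ^ 2 = b ^ 2) : a = b := by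
  obtain ⟨N, hN⟩ := ha.mul hb
  have h1 : a ^ (orderOf a * orderOf b) = 1 := by rw [pow_mul, pow_orderOf_eq_one, one_pow]
  have h2 : b ^ (orderOf a * orderOf b) = 1 := by
    rw [mul_comm, pow_mul, pow_orderOf_eq_one, one_pow]
  have h3 : a = (a ^ 2) ^ (N + 1) := by
    rw [← pow_mul, show 2 * (N + 1) = (2 * N + 1) + 1 by ring, ← hN, pow_succ, h1, one_mul]
  have h4 : b = (b ^ 2) ^ (N + 1) := by
    rw [← pow_mul, show 2 * (N + 1) = (2 * N + 1) + 1 by ring, ← hN, pow_succ, h2, one_mul]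
  rw [h3, h4, h]

end dihedral

section main

variable {G : Type*} [Group G] (z : G) (H : Subgroup G)

theorem cent_le (_hz : z * z = 1) (h0 : ∀ g : G, g⁻¹ * z * g ∈ H ↔ g ∈ H) (c : G)
    (hc : c * z = z * c) : c ∈ H := by
  have hzH : z ∈ H := by
    have := (h0 1).mpr H.one_mem
    simpa using this
  apply (h0 c).mp
  have : c⁻¹ * z * c = z := by rw [mul_assoc, ← hc]; group
  rw [this]; exact hzH

theorem conj_sq {z : G} (hz : z * z = 1) {y : G} (hy : IsConj z y) : y * y = 1 := by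
  obtain ⟨c, rfl⟩ := isConj_iff.mp hy
  calc c * z * c⁻¹ * (c * z * c⁻¹) = c * (z * z) * c⁻¹ := by group
    _ = 1 := by rw [hz]; group

variable [Finite G]

theorem odd_order (hz : z * z = 1) (h0 : ∀ g : G, g⁻¹ * z * g ∈ H ↔ g ∈ H)
    (h1 : ∀ t : G, IsConj z t → t ≠ z → t * z = z * t →
      ∀ g : G, g⁻¹ * (z * t) * g ∈ H ↔ g ∈ H)
    (g : G) (hg : g ∉ H) : Odd (orderOf (z * (g * z * g⁻¹))) := by
  by_contra hodd
  rw [Nat.not_odd_iff_even] at hodd
  obtain ⟨j, hj⟩ := hodd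
  have hx : (g * z * g⁻¹) * (g * z * g⁻¹) = 1 := conj_sq hz (isConj_iff.mpr ⟨g, rfl⟩)
  have hpos : 0 < orderOf (z * (g * z * g⁻¹)) := orderOf_pos _
  have hj0 : 0 < j := by omega
  obtain ⟨he1, he2, hze, hxe, hconj⟩ := dihedral_even hz hx j hj0 (by rw [hj]; ring)
  obtain ⟨e, he⟩ : ∃ e, e = (z * (g * z * g⁻¹)) ^ j := ⟨_, rfl⟩
  rw [← he] at he1 he2 hze hxe hconj
  have hcz : IsConj z (z * e) := by
    rcases hconj with h | h
    · exact h
    · exact (isConj_iff.mpr ⟨g, rfl⟩ : IsConj z (g * z * g⁻¹)).trans h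
  have hne : z * e ≠ z := by
    intro h
    apply he1
    calc e = z⁻¹ * (z * e) := by group
      _ = 1 := by rw [h]; group
  have hcomm : (z * e) * z = z * (z * e) := by rw [mul_assoc, ← hze]
  have key := (h1 (z * e) hcz hne hcomm g).mp (by
    have h2 : z * (z * e) = e := by rw [← mul_assoc, hz, one_mul]
    rw [h2]
    apply cent_le z H hz h0
    calc g⁻¹ * e * g * z = g⁻¹ * (e * (g * z * g⁻¹)) * g := by group
      _ = g⁻¹ * ((g * z * g⁻¹) * e) * g := by rw [hxe]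
      _ = z * (g⁻¹ * e * g) := by group)
  exact hg key

theorem exists_swap (hz : z * z = 1) (h0 : ∀ g : G, g⁻¹ * z * g ∈ H ↔ g ∈ H)
    (h1 : ∀ t : G, IsConj z t → t ≠ z → t * z = z * t →
      ∀ g : G, g⁻¹ * (z * t) * g ∈ H ↔ g ∈ H)
    (g : G) (hg : g ∉ H) :
    ∃ y, IsConj z y ∧ y * z * y⁻¹ = g * z * g⁻¹ ∧ g⁻¹ * y ∈ H := by
  obtain ⟨i, hi⟩ := odd_order z H hz h0 h1 g hg
  have hx : (g * z * g⁻¹) * (g * z * g⁻¹) = 1 := conj_sq hz (isConj_iff.mpr ⟨g, rfl⟩)
  obtain ⟨y, hy, hyz⟩ := dihedral_odd hz hx i hi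
  refine ⟨y, hy, hyz, ?_⟩
  apply cent_le z H hz h0
  calc g⁻¹ * y * z = g⁻¹ * (y * z * y⁻¹) * y := by group
    _ = g⁻¹ * (g * z * g⁻¹) * y := by rw [hyz]
    _ = z * (g⁻¹ * y) := by group

theorem swap_inj (hz : z * z = 1) (h0 : ∀ g : G, g⁻¹ * z * g ∈ H ↔ g ∈ H)
    (h1 : ∀ t : G, IsConj z t → t ≠ z → t * z = z * t →
      ∀ g : G, g⁻¹ * (z * t) * g ∈ H ↔ g ∈ H)
    (y y' : G) (hy : IsConj z y) (hy' : IsConj z y') (hyH : y ∉ H) (hy'H : y' ∉ H)
    (h : y * z * y⁻¹ = y' * z * y'⁻¹) : y = y' := by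
  have hzH : z ∈ H := by
    have := (h0 1).mpr H.one_mem
    simpa using this
  have hy2 : y * y = 1 := conj_sq hz hy
  have hy'2 : y' * y' = 1 := conj_sq hz hy'
  obtain ⟨a, ha⟩ := isConj_iff.mp hy
  obtain ⟨a', ha'⟩ := isConj_iff.mp hy'
  have haH : a ∉ H := fun h' => hyH (by
    rw [← ha]; exact H.mul_mem (H.mul_mem h' hzH) (H.inv_mem h'))
  have ha'H : a' ∉ H := fun h' => hy'H (by
    rw [← ha']; exact H.mul_mem (H.mul_mem h' hzH) (H.inv_mem h'))
  have ho := odd_order z H hz h0 h1 a haH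
  have ho' := odd_order z H hz h0 h1 a' ha'H
  rw [ha] at ho
  rw [ha'] at ho'
  have e1 : ∀ w : G, w * w = 1 → (z * w) ^ 2 = z * (w * z * w⁻¹) := by
    intro w hw
    rw [inv_of_sq hw, pow_two]; group
  have hsq : (z * y) ^ 2 = (z * y') ^ 2 := by rw [e1 y hy2, e1 y' hy'2, h]
  exact mul_left_cancel (eq_of_sq_eq_of_odd ho ho' hsq)

variable [Fintype G]

open Classical in
theorem odd_card_coset (hz : z * z = 1) (h0 : ∀ g : G, g⁻¹ * z * g ∈ H ↔ g ∈ H)
    (h1 : ∀ t : G, IsConj z t → t ≠ z → t * z = z * t →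
      ∀ g : G, g⁻¹ * (z * t) * g ∈ H ↔ g ∈ H)
    (g : G) (hg : g ∉ H) :
    Odd (Finset.univ.filter (fun y : G => IsConj z y ∧ g⁻¹ * y ∈ H)).card := by
  have hzH : z ∈ H := by
    have := (h0 1).mpr H.one_mem
    simpa using this
  obtain ⟨y₀, hy₀, -, hy₀H⟩ := exists_swap z H hz h0 h1 g hg
  have hy₀2 : y₀ * y₀ = 1 := conj_sq hz hy₀
  have hy₀inv : y₀⁻¹ = y₀ := inv_of_sq hy₀2
  have hy₀mem : y₀ ∈ Finset.univ.filter (fun y : G => IsConj z y ∧ g⁻¹ * y ∈ H) := by
    rw [Finset.mem_filter]; exact ⟨Finset.mem_univ _, hy₀, hy₀H⟩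
  have heven : Even ((Finset.univ.filter (fun y : G => IsConj z y ∧ g⁻¹ * y ∈ H)).erase y₀).card := by
    apply even_card_of_invol _ (fun y => y₀ * y * y₀⁻¹)
    · intro y hy
      rw [Finset.mem_erase, Finset.mem_filter] at hy ⊢
      obtain ⟨hne, -, hyc, hyH⟩ := hy
      refine ⟨?_, Finset.mem_univ _, ?_, ?_⟩
      · intro h
        apply hne
        calc y = y₀⁻¹ * (y₀ * y * y₀⁻¹) * y₀ := by group
          _ = y₀ := by rw [h]; group
      · exact hyc.trans (isConj_iff.mpr ⟨y₀, rfl⟩)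
      · have hy2 : y * y = 1 := conj_sq hz hyc
        have e : g⁻¹ * (y₀ * y * y₀⁻¹) = (g⁻¹ * y₀) * ((g⁻¹ * y)⁻¹ * (g⁻¹ * y₀)) := by
          rw [mul_inv_rev, inv_inv, inv_of_sq hy2, hy₀inv]; group
        rw [e]
        exact H.mul_mem hy₀H (H.mul_mem (H.inv_mem hyH) hy₀H)
    · intro y _
      show y₀ * (y₀ * y * y₀⁻¹) * y₀⁻¹ = y
      rw [hy₀inv]
      calc y₀ * (y₀ * y * y₀) * y₀ = (y₀ * y₀) * y * (y₀ * y₀) := by group
        _ = y := by rw [hy₀2]; group
    · intro y hy hfix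
      rw [Finset.mem_erase, Finset.mem_filter] at hy
      obtain ⟨hne, -, hyc, hyH⟩ := hy
      have hcomm : y₀ * y = y * y₀ := by
        calc y₀ * y = (y₀ * y * y₀⁻¹) * y₀ := by group
          _ = y * y₀ := by rw [hfix]
      obtain ⟨a, ha⟩ := isConj_iff.mp hy₀
      have hyc' : IsConj z (a⁻¹ * y * a) :=
        hyc.trans (isConj_iff.mpr ⟨a⁻¹, by rw [inv_inv]⟩)
      have hne' : a⁻¹ * y * a ≠ z := by
        intro h
        apply hne
        rw [← ha, ← h]; group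
      have hz' : z = a⁻¹ * y₀ * a := by rw [← ha]; group
      have hcomm' : (a⁻¹ * y * a) * z = z * (a⁻¹ * y * a) := by
        calc a⁻¹ * y * a * z = a⁻¹ * y * a * (a⁻¹ * y₀ * a) := by rw [← hz']
          _ = a⁻¹ * (y * y₀) * a := by group
          _ = a⁻¹ * (y₀ * y) * a := by rw [hcomm]
          _ = (a⁻¹ * y₀ * a) * (a⁻¹ * y * a) := by group
          _ = z * (a⁻¹ * y * a) := by rw [← hz']
      have key := (h1 _ hyc' hne' hcomm' a⁻¹).mp (by
        have e : (a⁻¹)⁻¹ * (z * (a⁻¹ * y * a)) * a⁻¹ = (a * z * a⁻¹) * y := by group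
        rw [e, ha]
        have e2 : y₀ * y = (g⁻¹ * y₀)⁻¹ * (g⁻¹ * y) := by
          rw [mul_inv_rev, inv_inv, hy₀inv]; group
        rw [e2]; exact H.mul_mem (H.inv_mem hy₀H) hyH)
      have haH : a ∈ H := by simpa using H.inv_mem key
      have hy₀H' : y₀ ∈ H := by
        rw [← ha]; exact H.mul_mem (H.mul_mem haH hzH) (H.inv_mem haH)
      apply hg
      have e3 : g = y₀ * (g⁻¹ * y₀)⁻¹ := by group
      rw [e3]; exact H.mul_mem hy₀H' (H.inv_mem hy₀H)
  rw [← Finset.card_erase_add_one hy₀mem]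
  exact heven.add_one

open Classical in
theorem card_coset_eq (hz : z * z = 1) (h0 : ∀ g : G, g⁻¹ * z * g ∈ H ↔ g ∈ H)
    (h1 : ∀ t : G, IsConj z t → t ≠ z → t * z = z * t →
      ∀ g : G, g⁻¹ * (z * t) * g ∈ H ↔ g ∈ H)
    (g : G) (hg : g ∉ H) :
    (Finset.univ.filter (fun y : G => IsConj z y ∧ g⁻¹ * y ∈ H)).card
      = (Finset.univ.filter (fun a : G => IsConj z a ∧ a ∈ H)).card := by
  have hzH : z ∈ H := by
    have := (h0 1).mpr H.one_mem
    simpa using this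
  have hnot : ∀ y : G, g⁻¹ * y ∈ H → y ∉ H := by
    intro y hy hyH
    apply hg
    have e : g = y * (g⁻¹ * y)⁻¹ := by group
    rw [e]; exact H.mul_mem hyH (H.inv_mem hy)
  apply Finset.card_bij (fun y _ => g⁻¹ * (y * z * y⁻¹) * g)
  · intro y hy
    rw [Finset.mem_filter] at hy ⊢
    obtain ⟨-, hyc, hyH⟩ := hy
    refine ⟨Finset.mem_univ _, ?_, ?_⟩
    · exact isConj_iff.mpr ⟨g⁻¹ * y, by group⟩
    · have e : g⁻¹ * (y * z * y⁻¹) * g = (g⁻¹ * y) * z * (g⁻¹ * y)⁻¹ := by group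
      rw [e]; exact H.mul_mem (H.mul_mem hyH hzH) (H.inv_mem hyH)
  · intro y hy y' hy' heq
    rw [Finset.mem_filter] at hy hy'
    apply swap_inj z H hz h0 h1 y y' hy.2.1 hy'.2.1 (hnot y hy.2.2) (hnot y' hy'.2.2)
    calc y * z * y⁻¹ = g * (g⁻¹ * (y * z * y⁻¹) * g) * g⁻¹ := by group
      _ = g * (g⁻¹ * (y' * z * y'⁻¹) * g) * g⁻¹ := by rw [heq]
      _ = y' * z * y'⁻¹ := by group
  · intro a ha
    rw [Finset.mem_filter] at ha
    obtain ⟨-, hac, haH⟩ := ha
    obtain ⟨b, rfl⟩ := isConj_iff.mp hac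
    have hb : b ∈ H := by
      have h2 : b⁻¹ ∈ H := (h0 b⁻¹).mp (by rw [inv_inv]; exact haH)
      simpa using H.inv_mem h2
    have hgb : g * b ∉ H := by
      intro h
      apply hg
      have e : g = (g * b) * b⁻¹ := by group
      rw [e]; exact H.mul_mem h (H.inv_mem hb)
    obtain ⟨y, hyc, hyz, hyH⟩ := exists_swap z H hz h0 h1 (g * b) hgb
    refine ⟨y, ?_, ?_⟩
    · rw [Finset.mem_filter]
      refine ⟨Finset.mem_univ _, hyc, ?_⟩
      have e : g⁻¹ * y = b * ((g * b)⁻¹ * y) := by group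
      rw [e]; exact H.mul_mem hb hyH
    · show g⁻¹ * (y * z * y⁻¹) * g = b * z * b⁻¹
      rw [hyz]; group

open Classical in
theorem odd_card_conj (hz : z * z = 1) (h0 : ∀ g : G, g⁻¹ * z * g ∈ H ↔ g ∈ H)
    (h1 : ∀ t : G, IsConj z t → t ≠ z → t * z = z * t →
      ∀ g : G, g⁻¹ * (z * t) * g ∈ H ↔ g ∈ H)
    (g : G) (hg : g ∉ H) :
    Odd (Finset.univ.filter (fun x : G => IsConj z x)).card := by
  have hzH : z ∈ H := by
    have := (h0 1).mpr H.one_mem
    simpa using this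
  have hsplit := Finset.card_filter_add_card_filter_not
    (s := Finset.univ.filter (fun x : G => IsConj z x)) (fun x => x ∈ H)
  rw [Finset.filter_filter, Finset.filter_filter] at hsplit
  rw [← hsplit, ← card_coset_eq z H hz h0 h1 g hg]
  apply (odd_card_coset z H hz h0 h1 g hg).add_even
  apply even_card_of_invol _ (fun x => z * x * z⁻¹)
  · intro x hx
    rw [Finset.mem_filter] at hx ⊢
    obtain ⟨-, hxc, hxH⟩ := hx
    refine ⟨Finset.mem_univ _, hxc.trans (isConj_iff.mpr ⟨z, rfl⟩), ?_⟩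
    intro h
    apply hxH
    have e : x = z⁻¹ * (z * x * z⁻¹) * z := by group
    rw [e]; exact H.mul_mem (H.mul_mem (H.inv_mem hzH) h) hzH
  · intro x _
    show z * (z * x * z⁻¹) * z⁻¹ = x
    rw [inv_of_sq hz]
    calc z * (z * x * z) * z = (z * z) * x * (z * z) := by group
      _ = x := by rw [hz]; group
  · intro x hx hfix
    rw [Finset.mem_filter] at hx
    apply hx.2.2
    apply cent_le z H hz h0
    calc x * z = (z * x * z⁻¹) * z := by rw [hfix]
      _ = z * x := by group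

open Classical in
theorem exists_sylow (hz : z * z = 1)
    (hodd : Odd (Finset.univ.filter (fun x : G => IsConj z x)).card) :
    ∃ P : Sylow 2 G, z ∈ (P : Subgroup G) ∧ ∀ q ∈ (P : Subgroup G), z * q = q * z := by
  have : Fact (Nat.Prime 2) := ⟨Nat.prime_two⟩
  obtain ⟨P₀⟩ : Nonempty (Sylow 2 G) := inferInstance
  let _ : MulAction ↥(P₀ : Subgroup G) {x : G // IsConj z x} :=
    { smul := fun q x => ⟨(q : G) * x.1 * (q : G)⁻¹, x.2.trans (isConj_iff.mpr ⟨q, rfl⟩)⟩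
      one_smul := fun x => Subtype.ext (by
        show ((1 : ↥(P₀ : Subgroup G)) : G) * x.1 * ((1 : ↥(P₀ : Subgroup G)) : G)⁻¹ = x.1
        rw [Subgroup.coe_one]; group)
      mul_smul := fun q q' x => Subtype.ext (by
        show ((q * q' : ↥(P₀ : Subgroup G)) : G) * x.1 * ((q * q' : ↥(P₀ : Subgroup G)) : G)⁻¹
          = (q : G) * ((q' : G) * x.1 * (q' : G)⁻¹) * (q : G)⁻¹
        rw [Subgroup.coe_mul]; group) }
  have hcard : ¬ 2 ∣ Nat.card {x : G // IsConj z x} := by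
    rw [Nat.card_eq_fintype_card, Fintype.card_subtype]
    exact fun h => (Nat.not_even_iff_odd.mpr hodd) (even_iff_two_dvd.mpr h)
  obtain ⟨x, hx⟩ := P₀.isPGroup'.nonempty_fixed_point_of_prime_not_dvd_card _ hcard
  obtain ⟨b, hb⟩ := isConj_iff.mp x.2
  have hmem : ∀ q : G, q ∈ ((b⁻¹ • P₀ : Sylow 2 G) : Subgroup G) ↔ b * q * b⁻¹ ∈ (P₀ : Subgroup G) := by
    intro q
    rw [Sylow.coe_subgroup_smul, Subgroup.mem_pointwise_smul_iff_inv_smul_mem]
    simp [MulAut.smul_def]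
  have hcomm : ∀ q ∈ ((b⁻¹ • P₀ : Sylow 2 G) : Subgroup G), z * q = q * z := by
    intro q hq
    rw [hmem] at hq
    have h1 : (⟨b * q * b⁻¹, hq⟩ : ↥(P₀ : Subgroup G)) • x = x := hx ⟨b * q * b⁻¹, hq⟩
    have h2 : (b * q * b⁻¹) * x.1 * (b * q * b⁻¹)⁻¹ = x.1 := congrArg Subtype.val h1
    rw [← hb] at h2
    have h3 : q * z * q⁻¹ = z := by
      calc q * z * q⁻¹ = b⁻¹ * ((b * q * b⁻¹) * (b * z * b⁻¹) * (b * q * b⁻¹)⁻¹) * b := by group
        _ = z := by rw [h2]; group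
    calc z * q = (q * z * q⁻¹) * q := by rw [h3]
      _ = q * z := by group
  refine ⟨b⁻¹ • P₀, ?_, hcomm⟩
  have hzn1 : z ∈ Subgroup.normalizer (((b⁻¹ • P₀ : Sylow 2 G) : Subgroup G) : Set G) := by
    rw [Subgroup.mem_normalizer_iff]
    intro q
    constructor
    · intro hq
      have : z * q * z⁻¹ = q := by rw [hcomm q hq]; group
      rw [this]; exact hq
    · intro hq
      have h4 := hcomm _ hq
      have h5 : z * (z * q * z⁻¹) = z * q := by rw [h4]; group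
      have h6 : z * q * z⁻¹ = q := mul_left_cancel h5
      rw [h6] at hq; exact hq
  have key := (isPGroup_zpowers_of_sq z hz).inf_normalizer_sylow (b⁻¹ • P₀)
  have hzn : z ∈ Subgroup.zpowers z ⊓ Subgroup.normalizer ((b⁻¹ • P₀ : Sylow 2 G) : Set G) :=
    ⟨Subgroup.mem_zpowers z, hzn1⟩
  rw [key] at hzn
  exact hzn.2

end main

/-- Let z be an involution of a finite group G and H a proper subgroup such that z lies in gHg⁻¹ exactly when g ∈ H. Then the following are equivalent: (1) for every conjugate t ≠ z of z commuting with z, the product zt lies in gHg⁻¹ exactly when g ∈ H; (2) z lies in the centre of some Sylow 2-subgroup of G, and for every conjugate t ≠ z of z commuting with z, the centralizer of zt is contained in H. -/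
theorem result {G : Type*} [Group G] [Finite G] (z : G) (hz : orderOf z = 2) (H : Subgroup G) (hH : H ≠ ⊤)
    (h0 : ∀ g : G, z ∈ H.map (MulAut.conj g).toMonoidHom ↔ g ∈ H) :
    (∀ t : G, IsConj z t → t ≠ z → t * z = z * t → ∀ g : G, z * t ∈ H.map (MulAut.conj g).toMonoidHom ↔ g ∈ H) ↔
      ((∃ P : Sylow 2 G, z ∈ (Subgroup.center ↥(P : Subgroup G)).map (P : Subgroup G).subtype) ∧
        ∀ t : G, IsConj z t → t ≠ z → t * z = z * t → Subgroup.centralizer ({z * t} : Set G) ≤ H) := by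
  classical
  have : Fintype G := Fintype.ofFinite G
  have : Fact (Nat.Prime 2) := ⟨Nat.prime_two⟩
  have hz2 : z * z = 1 := by rw [← pow_two, ← hz]; exact pow_orderOf_eq_one z
  have h0' : ∀ g : G, g⁻¹ * z * g ∈ H ↔ g ∈ H := fun g => by
    rw [← mem_map_conj]; exact h0 g
  have hzH : z ∈ H := by
    have := (h0' 1).mpr H.one_mem
    simpa using this
  constructor
  · intro h1
    have h1' : ∀ t : G, IsConj z t → t ≠ z → t * z = z * t →
        ∀ g : G, g⁻¹ * (z * t) * g ∈ H ↔ g ∈ H := fun t ht htz hc g => by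
      rw [← mem_map_conj]; exact h1 t ht htz hc g
    constructor
    · obtain ⟨g, hg⟩ : ∃ g, g ∉ H := by
        by_contra hcon
        push Not at hcon
        exact hH (eq_top_iff.mpr (fun x _ => hcon x))
      have hodd := odd_card_conj z H hz2 h0' h1' g hg
      obtain ⟨P, hzP, hcomm⟩ := exists_sylow z hz2 hodd
      refine ⟨P, ⟨⟨z, hzP⟩, Subgroup.mem_center_iff.mpr ?_, rfl⟩⟩
      intro q
      exact Subtype.ext (hcomm q q.2).symm
    · intro t ht htz hc c hcmem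
      have hcc : (z * t) * c = c * (z * t) := Subgroup.mem_centralizer_iff.mp hcmem (z * t) rfl
      apply (h1' t ht htz hc c).mp
      have e : c⁻¹ * (z * t) * c = z * t := by rw [mul_assoc, hcc]; group
      rw [e]
      have := (h1' t ht htz hc 1).mpr H.one_mem
      simpa using this
  · rintro ⟨⟨P, hzP⟩, hcent⟩ t ht htz hc g
    rw [mem_map_conj]
    obtain ⟨c, hc_center, hcz⟩ := hzP
    have hcz' : (c : G) = z := hcz
    have hzcomm : ∀ q ∈ (P : Subgroup G), q * z = z * q := by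
      intro q hq
      have := Subgroup.mem_center_iff.mp hc_center ⟨q, hq⟩
      rw [← hcz']; exact congrArg Subtype.val this
    have hPH : (P : Subgroup G) ≤ H := fun q hq => cent_le z H hz2 h0' q (hzcomm q hq)
    have hu : z * t ∈ H := hcent t ht htz hc (Subgroup.mem_centralizer_iff.mpr (fun h hh => by
      rw [Set.mem_singleton_iff] at hh; rw [hh]))
    constructor
    · intro hu'
      have ht2 : t * t = 1 := conj_sq hz2 ht
      have hu2 : (z * t) * (z * t) = 1 := by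
        calc z * t * (z * t) = z * (t * z) * t := by group
          _ = z * (z * t) * t := by rw [hc]
          _ = (z * z) * (t * t) := by group
          _ = 1 := by rw [hz2, ht2, one_mul]
      obtain ⟨h, hhH, hhP⟩ : ∃ h ∈ H, h * (g⁻¹ * (z * t) * g) * h⁻¹ ∈ (P : Subgroup G) := by
        have hx2 : (⟨g⁻¹ * (z * t) * g, hu'⟩ : ↥H) * ⟨g⁻¹ * (z * t) * g, hu'⟩ = 1 := by
          apply Subtype.ext
          show g⁻¹ * (z * t) * g * (g⁻¹ * (z * t) * g) = 1
          calc g⁻¹ * (z * t) * g * (g⁻¹ * (z * t) * g) = g⁻¹ * ((z * t) * (z * t)) * g := by group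
            _ = 1 := by rw [hu2]; group
        have hK := isPGroup_zpowers_of_sq _ hx2
        obtain ⟨Q, hQ⟩ := hK.exists_le_sylow
        obtain ⟨h, hh⟩ := MulAction.exists_smul_eq ↥H Q (P.subtype hPH)
        refine ⟨(h : G), h.2, ?_⟩
        have h1 : h * ⟨g⁻¹ * (z * t) * g, hu'⟩ * h⁻¹ ∈ ((h • Q : Sylow 2 ↥H) : Subgroup ↥H) := by
          rw [Sylow.coe_subgroup_smul]
          have := Subgroup.smul_mem_pointwise_smul _ (MulAut.conj h) (Q : Subgroup ↥H)
            (hQ (Subgroup.mem_zpowers _))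
          simpa [MulAut.smul_def] using this
        rw [hh, Sylow.coe_subtype, Subgroup.mem_subgroupOf] at h1
        exact h1
      have h3 := hzcomm _ hhP
      have h4 : (g * h⁻¹) * z * (g * h⁻¹)⁻¹ ∈ Subgroup.centralizer ({z * t} : Set G) := by
        rw [Subgroup.mem_centralizer_iff]
        intro w hw
        rw [Set.mem_singleton_iff] at hw
        subst hw
        calc z * t * (g * h⁻¹ * z * (g * h⁻¹)⁻¹)
            = g * h⁻¹ * (h * (g⁻¹ * (z * t) * g) * h⁻¹ * z) * (g * h⁻¹)⁻¹ := by group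
          _ = g * h⁻¹ * (z * (h * (g⁻¹ * (z * t) * g) * h⁻¹)) * (g * h⁻¹)⁻¹ := by rw [h3]
          _ = g * h⁻¹ * z * (g * h⁻¹)⁻¹ * (z * t) := by group
      have h5 := hcent t ht htz hc h4
      have h6 : (g * h⁻¹)⁻¹ ∈ H := (h0' _).mp (by rw [inv_inv]; exact h5)
      have h7 : g * h⁻¹ ∈ H := by simpa using H.inv_mem h6
      have e : g = (g * h⁻¹) * h := by group
      rw [e]; exact H.mul_mem h7 hhH
    · intro hg
      exact H.mul_mem (H.mul_mem (H.inv_mem hg) hu) hg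

end Cfsg.Agent.S1922
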