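import Cfsg.Statements.S1952
import Cfsg.Agent.Helper32.NormLA

set_option autoImplicit false
open Cfsg

namespace Cfsg.Agent.S1952

open Cfsg.Agent.Helper32

open scoped IsMulCommutative in
theorem core_index_aux {P : Type*} [Group P] [Finite P] {p : ℕ} [hp : Fact p.Prime]
    (A : Subgroup P) [hAn : A.Normal] [IsMulCommutative A] [Module (ZMod p) (Additive A)]
    (hidx : A.index = p) (x y : P) (hx : x ∈ A)
    (hprod : ((List.range p).map (fun i => (y ^ i)⁻¹ * x * y ^ i)).prod ≠ 1) :
    ∃ B : Subgroup P, B.index = p ^ 2 ∧ p ^ (p + 1) ≤ B.normalCore.index := by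
  classical
  let val : Additive A → P := fun v => ((Additive.toMul v : A) : P)
  have hval_inj : Function.Injective val := fun v w h =>
    congrArg Additive.ofMul (Subtype.ext h)
  have hval_add : ∀ v w : Additive A, val (v + w) = val v * val w := fun v w => rfl
  let c : A →* A :=
    { toFun := fun a => ⟨y⁻¹ * a * y, by
        have := hAn.conj_mem a a.2 y⁻¹
        simpa using this⟩
      map_one' := by ext; simp
      map_mul' := fun a b => by ext; simp [mul_assoc] }
  let T : Module.End (ZMod p) (Additive A) := (MonoidHom.toAdditive c).toZModLinearMap p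
  have hT : ∀ v : Additive A, val (T v) = y⁻¹ * val v * y := fun v => rfl
  have hTpow : ∀ (i : ℕ) (v : Additive A), val ((T ^ i) v) = (y ^ i)⁻¹ * val v * y ^ i := by
    intro i
    induction i with
    | zero => intro v; simp
    | succ i ih =>
      intro v
      rw [pow_succ', Module.End.mul_apply, hT, ih, pow_succ]
      group
  have hcomm : ∀ a ∈ A, ∀ b ∈ A, a * b = b * a := by
    intro a ha b hb
    have := mul_comm (⟨a, ha⟩ : A) ⟨b, hb⟩
    exact congrArg Subtype.val this
  have hTp : T ^ p = 1 := by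
    apply LinearMap.ext
    intro v
    apply hval_inj
    rw [hTpow]
    have hyp : y ^ p ∈ A := hidx ▸ Subgroup.pow_index_mem A y
    have h1 := hcomm _ hyp _ (Additive.toMul v).2
    show (y ^ p)⁻¹ * val v * y ^ p = val v
    have h2 : val v * y ^ p = y ^ p * val v := h1.symm
    rw [mul_assoc, h2, inv_mul_cancel_left]
  let xv : Additive A := Additive.ofMul ⟨x, hx⟩
  have hnorm : ∀ n : ℕ, val ((∑ i ∈ Finset.range n, T ^ i) xv) =
      ((List.range n).map (fun i => (y ^ i)⁻¹ * x * y ^ i)).prod := by
    intro n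
    induction n with
    | zero => simp [val]
    | succ n ih =>
      rw [Finset.sum_range_succ, LinearMap.add_apply, hval_add, ih, hTpow, List.range_succ,
        List.map_append, List.prod_append]
      simp [val, xv]
  have hNne : (∑ i ∈ Finset.range p, T ^ i) xv ≠ 0 := by
    intro h0
    apply hprod
    rw [← hnorm p, h0]
    rfl
  obtain ⟨φ, hφ⟩ : ∃ φ : Module.Dual (ZMod p) (Additive A),
      φ ((∑ i ∈ Finset.range p, T ^ i) xv) ≠ 0 := by
    by_contra hcon
    push_neg at hcon
    exact hNne ((Module.forall_dual_apply_eq_zero_iff (ZMod p) _).1 hcon)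
  let ψ : A →* Multiplicative (ZMod p) :=
    { toFun := fun a => Multiplicative.ofAdd (φ (Additive.ofMul a))
      map_one' := by
        show Multiplicative.ofAdd (φ 0) = 1
        rw [map_zero]; rfl
      map_mul' := fun a b => by
        show Multiplicative.ofAdd (φ (Additive.ofMul a + Additive.ofMul b)) = _
        rw [map_add]; rfl }
  have hψ : ∀ a : A, ψ a = 1 ↔ φ (Additive.ofMul a) = 0 := fun a => Iff.rfl
  have hψidx : ψ.ker.index = p := by
    rw [Subgroup.index_ker]
    have hdvd : Nat.card ψ.range ∣ p := by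
      have := Subgroup.card_subgroup_dvd_card ψ.range
      have h2 : Nat.card (Multiplicative (ZMod p)) = p :=
        (Nat.card_congr Multiplicative.toAdd).trans (Nat.card_zmod p)
      rwa [h2] at this
    rcases (Nat.dvd_prime hp.out).1 hdvd with h1 | h1
    · exfalso
      have hbot : ψ.range = ⊥ := Subgroup.card_eq_one.1 h1
      apply hφ
      have hmem : ψ (Additive.toMul ((∑ i ∈ Finset.range p, T ^ i) xv)) ∈ ψ.range := ⟨_, rfl⟩
      rw [hbot, Subgroup.mem_bot] at hmem
      exact (hψ _).1 hmem
    · exact h1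
  let B : Subgroup P := ψ.ker.map A.subtype
  have hBidx : B.index = p ^ 2 := by
    rw [Subgroup.index_map_subtype, hψidx, hidx, pow_two]
  have hnB : ((List.range p).map (fun i => (y ^ i)⁻¹ * x * y ^ i)).prod ∉ B := by
    rintro ⟨b, hb, hbe⟩
    apply hφ
    have h1 : b = Additive.toMul ((∑ i ∈ Finset.range p, T ^ i) xv) := by
      apply Subtype.ext
      rw [show ((b : A) : P) = A.subtype b from rfl, hbe, ← hnorm p]
    rw [h1] at hb
    exact (hψ _).1 (MonoidHom.mem_ker.1 hb)
  have hBA : B ≤ A := Subgroup.map_subtype_le _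
  set K : Subgroup P := B.normalCore with hKdef
  have hKB : K ≤ B := Subgroup.normalCore_le B
  have hKn : K.Normal := Subgroup.normalCore_normal B
  let K' : Submodule (ZMod p) (Additive A) :=
    AddSubgroup.toZModSubmodule p (Subgroup.toAddSubgroup (K.subgroupOf A))
  have hK'mem : ∀ v : Additive A, v ∈ K' ↔ val v ∈ K := fun v => Iff.rfl
  have hK'inv : ∀ v ∈ K', T v ∈ K' := by
    intro v hv
    rw [hK'mem] at hv ⊢
    rw [hT]
    have := hKn.conj_mem _ hv y⁻¹
    simpa using this
  have hxK' : (∑ i ∈ Finset.range p, T ^ i) xv ∉ K' := by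
    intro h
    rw [hK'mem, hnorm p] at h
    exact hnB (hKB h)
  have hmain := card_mul_pow_le_of_norm_not_mem T hTp K' hK'inv xv hxK'
  have hcK : Nat.card K' = Nat.card K := by
    refine Nat.card_congr
      { toFun := fun v => ⟨val v.1, (hK'mem v.1).1 v.2⟩
        invFun := fun k => ⟨Additive.ofMul ⟨k.1, hBA (hKB k.2)⟩, (hK'mem _).2 k.2⟩
        left_inv := fun v => rfl
        right_inv := fun k => rfl }
  have hcV : Nat.card (Additive A) = Nat.card A := rfl
  rw [hcK, hcV] at hmain
  refine ⟨B, hBidx, ?_⟩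
  have h1 := Subgroup.card_mul_index K
  have h2 := Subgroup.card_mul_index A
  rw [hidx] at h2
  have hpos : 0 < Nat.card K := Nat.card_pos
  have h3 : Nat.card K * p ^ (p + 1) ≤ Nat.card K * K.index := by
    rw [h1, ← h2, pow_succ, ← mul_assoc]
    exact Nat.mul_le_mul_right p hmain
  exact Nat.le_of_mul_le_mul_left h3 hpos

open scoped IsMulCommutative in
theorem core_index_ge {P : Type*} [Group P] [Finite P] {p : ℕ} [hp : Fact p.Prime]
    (A : Subgroup P) [hAn : A.Normal] [IsMulCommutative A] (hAp : ∀ a ∈ A, a ^ p = 1)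
    (hidx : A.index = p) (x y : P) (hx : x ∈ A)
    (hprod : ((List.range p).map (fun i => (y ^ i)⁻¹ * x * y ^ i)).prod ≠ 1) :
    ∃ B : Subgroup P, B.index = p ^ 2 ∧ p ^ (p + 1) ≤ B.normalCore.index := by
  have hVp : ∀ v : Additive A, p • v = 0 := by
    intro v
    have h1 : (Additive.toMul v) ^ p = 1 := Subtype.ext (hAp _ (Additive.toMul v).2)
    exact congrArg Additive.ofMul h1
  exact @core_index_aux P _ _ p hp A hAn _ (AddCommGroup.zmodModule hVp) hidx x y hx hprod

/-- Let P be a finite p-group with a normal elementary abelian subgroup A of index p, and let x ∈ A and y ∈ P with y outside A. If the product of the p conjugates y^(-i) x y^i (i = 0, …, p−1) is not the identity, then the wreath product Z_p ≀ Z_p, realised as a Sylow p-subgroup of the symmetric group of degree p², is a homomorphic image of P. -/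
theorem result {P : Type*} [Group P] [Finite P] {p : ℕ} [Fact p.Prime] (hP : IsPGroup p P) (A : Subgroup P) [A.Normal]
    (hA : Cfsg.IsElementaryAbelian p A) (hidx : A.index = p) (x y : P) (hx : x ∈ A) (hy : y ∉ A)
    (hprod : ((List.range p).map (fun i => (y ^ i)⁻¹ * x * y ^ i)).prod ≠ 1) :
    ∃ (Q : Sylow p (Equiv.Perm (Fin (p ^ 2)))) (f : P →* ↥(Q : Subgroup (Equiv.Perm (Fin (p ^ 2))))), Function.Surjective f := by
  classical
  have hp : p.Prime := Fact.out
  have : IsMulCommutative A := hA.1
  obtain ⟨B, hBidx, hcore⟩ := core_index_ge A hA.2 hidx x y hx hprod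
  have hcard : Nat.card (P ⧸ B) = p ^ 2 := by rw [← Subgroup.index_eq_card, hBidx]
  let e : (P ⧸ B) ≃ Fin (p ^ 2) := Finite.equivFinOfCardEq hcard
  let ρ : P →* Equiv.Perm (Fin (p ^ 2)) :=
    (e.permCongrHom.toMonoidHom).comp (MulAction.toPermHom P (P ⧸ B))
  have hker : ρ.ker = B.normalCore := by
    rw [Subgroup.normalCore_eq_ker]
    ext g
    rw [MonoidHom.mem_ker, MonoidHom.mem_ker]
    show e.permCongrHom (MulAction.toPermHom P (P ⧸ B) g) = 1 ↔ _
    rw [map_eq_one_iff _ e.permCongrHom.injective]
  have hrange : IsPGroup p ρ.range := by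
    rw [MonoidHom.range_eq_map]
    exact (hP.to_subgroup ⊤).map ρ
  obtain ⟨Q, hQ⟩ := hrange.exists_le_sylow
  have hQcard : Nat.card Q = p ^ (p + 1) := by
    have h1 : padicValNat p (p.factorial) = 1 := by
      have := padicValNat_factorial_mul (p := p) 1
      simpa using this
    have h2 : padicValNat p ((p * p).factorial) = p + 1 := by
      rw [padicValNat_factorial_mul, h1, add_comm]
    rw [Sylow.card_eq_multiplicity, Nat.card_perm, Nat.card_fin, Nat.factorization_def _ hp,
      pow_two, h2]
  have hrc : p ^ (p + 1) ≤ Nat.card ρ.range := by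
    rw [← Subgroup.index_ker, hker]; exact hcore
  have heq : ρ.range = Q := Subgroup.eq_of_le_of_card_ge hQ (by rw [hQcard]; exact hrc)
  refine ⟨Q, ρ.codRestrict Q (fun g => hQ ⟨g, rfl⟩), ?_⟩
  intro q
  have hq : (q : Equiv.Perm (Fin (p ^ 2))) ∈ ρ.range := by rw [heq]; exact q.2
  obtain ⟨g, hg⟩ := hq
  exact ⟨g, Subtype.ext hg⟩

end Cfsg.Agent.S1952
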