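import Cfsg.Statements.S1953
import Cfsg.Agent.S1983
import Cfsg.Agent.S2795
import Cfsg.Agent.Helper11.SecFusionB
import Cfsg.Agent.Helper33.KIso
import Cfsg.Agent.Helper33.LeastCR

set_option autoImplicit false
open Cfsg

namespace Cfsg.Agent.S1953

/-- Let p be an odd prime and P a Sylow p-subgroup of the finite group G, and suppose that for no p-subgroup Q of G does N_G(Q)/C_G(Q) have a section isomorphic to SL₂(p). Call a subgroup Q of P centric-radical when Z(Q) is a Sylow p-subgroup of C_G(Q) and the only normal subgroup X of N_G(Q) containing Q·C_G(Q) such that the index of Q·C_G(Q) in X is a power of p is Q·C_G(Q) itself (that is, N_G(Q)/Q·C_G(Q) has no nontrivial normal p-subgroup). Then there is a centric-radical subgroup Q of P contained in every centric-radical subgroup of P; it is normal in P, and N_G(Q) controls strong fusion in P: whenever a subgroup A of P has g A g⁻¹ ≤ P, the element g is a product h c with h in N_G(Q) and c centralizing A.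 -/
theorem result {G : Type*} [Group G] [Finite G] {p : ℕ} [Fact p.Prime] (hp : p ≠ 2) (P : Sylow p G)
    (hfree : ∀ Q : Subgroup G, IsPGroup p ↥Q → ¬ ∃ (H K : Subgroup G) (_ : (K.subgroupOf H).Normal),
      Subgroup.centralizer (Q : Set G) ≤ K ∧ K ≤ H ∧ H ≤ Subgroup.normalizer (Q : Set G) ∧
      Nonempty ((↥H ⧸ K.subgroupOf H) ≃* Matrix.SpecialLinearGroup (Fin 2) (ZMod p)))
    (cr : Subgroup G → Prop)
    (hcr : ∀ Q : Subgroup G, cr Q ↔ (Q ≤ (P : Subgroup G) ∧
      (∃ R : Sylow p ↥(Subgroup.centralizer (Q : Set G)),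
        (R : Subgroup ↥(Subgroup.centralizer (Q : Set G))).map (Subgroup.centralizer (Q : Set G)).subtype = Q ⊓ Subgroup.centralizer (Q : Set G)) ∧
      ∀ X : Subgroup G, X ≤ Subgroup.normalizer (Q : Set G) →
        (∀ n ∈ Subgroup.normalizer (Q : Set G), X.map (MulAut.conj n).toMonoidHom = X) →
        Q ⊔ Subgroup.centralizer (Q : Set G) ≤ X → (∃ k : ℕ, (Q ⊔ Subgroup.centralizer (Q : Set G)).relIndex X = p ^ k) →
        X = Q ⊔ Subgroup.centralizer (Q : Set G))) :
    ∃ Q : Subgroup G, cr Q ∧ (∀ R : Subgroup G, cr R → Q ≤ R) ∧ (∀ x ∈ (P : Subgroup G), Q.map (MulAut.conj x).toMonoidHom = Q) ∧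
      ∀ A : Subgroup G, A ≤ (P : Subgroup G) → ∀ g : G, A.map (MulAut.conj g).toMonoidHom ≤ (P : Subgroup G) →
        ∃ h ∈ Subgroup.normalizer (Q : Set G), ∃ c ∈ Subgroup.centralizer (A : Set G), g = h * c := by
  have hqd : ¬ Cfsg.Involves ↥(Cfsg.qd p) G := by
    intro h
    obtain ⟨Q, hQp, H, K, hn, h1, h2, h3, hne⟩ :=
      Cfsg.Agent.Helper33.exists_sl2_automizer_of_qd h
    exact hfree Q hQp ⟨H, K, hn, h1, h2, h3, hne⟩
  have hloc' : ∀ (H : Type _) [Group H], Cfsg.Agent.Helper33.IsSectionOf G H →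
      Cfsg.Agent.Helper11.SFNormLoc Cfsg.kInfLower p H := by
    intro H _ hsec hcen T
    haveI := hsec.finite
    by_contra hnn
    obtain ⟨g, -, -, -, -, hns⟩ := Cfsg.Agent.S1983.result T (Or.inl hnn)
    obtain ⟨N, hN, hnps⟩ := hns hcen
    haveI := hN
    apply hnps
    apply Cfsg.Agent.S2795.nps_of_qd_free hp
    intro hsec'
    apply hqd
    exact ((hsec.quotient N).trans hsec').exists_equiv
  have h := Cfsg.Agent.Helper11.sfW_sections (Cfsg.Agent.Helper33.isCharPFunctor_kInfLower p)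
    hloc' _ G (Cfsg.Agent.Helper33.IsSectionOf.refl G) rfl P
  have hKP : Cfsg.inducedFunctor Cfsg.kInfLower (P : Subgroup G) ≤ (P : Subgroup G) :=
    Cfsg.Agent.Helper33.inducedFunctor_le _
  have hPN : (P : Subgroup G) ≤ Subgroup.normalizer
      ((Cfsg.inducedFunctor Cfsg.kInfLower (P : Subgroup G) : Subgroup G) : Set G) :=
    fun x hx => Cfsg.Agent.Helper33.normalizer_le_normalizer_functor
      (Cfsg.Agent.Helper33.isConjugacyFunctor_inducedFunctor
        (Cfsg.Agent.Helper33.isCharPFunctor_kInfLower p) G) P.2 (Subgroup.le_normalizer hx)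
  have hcen : (P : Subgroup G) ⊓ Subgroup.centralizer
      ((Cfsg.inducedFunctor Cfsg.kInfLower (P : Subgroup G) : Subgroup G) : Set G) ≤
      Cfsg.inducedFunctor Cfsg.kInfLower (P : Subgroup G) := by
    intro x hx
    obtain ⟨h1, -, -, -⟩ := Cfsg.Agent.S1978.result (P := ↥(P : Subgroup G)) P.2
    have hx' : (⟨x, hx.1⟩ : ↥(P : Subgroup G)) ∈ Subgroup.centralizer
        (Cfsg.kInfLower ↥(P : Subgroup G) : Set ↥(P : Subgroup G)) := by
      apply Subgroup.mem_centralizer_iff.mpr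
      intro y hy
      apply Subtype.ext
      exact Subgroup.mem_centralizer_iff.mp hx.2 (y : G) ⟨y, hy, rfl⟩
    exact ⟨⟨x, hx.1⟩, h1 hx', rfl⟩
  obtain ⟨Q, hQ1, hQ2, hQ3, hQ4⟩ := Cfsg.Agent.Helper33.exists_least_cr P _ hKP hPN hcen
    (fun A g hA hg => h A g hA hg)
  exact ⟨Q, (hcr Q).mpr hQ1, fun R hR => hQ2 R ((hcr R).mp hR), hQ3, hQ4⟩

end Cfsg.Agent.S1953
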