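import Cfsg.Statements.S1987
import Cfsg.Agent.S1983
import Cfsg.Agent.S2795
import Cfsg.Agent.Helper11.SecFusionB
import Cfsg.Agent.Helper33.KIso

set_option autoImplicit false
universe u
open Cfsg

namespace Cfsg.Agent.S1987

/-- Let p be an odd prime and G a finite group every section of which is p-stable in the normalizer form (in each section, an element of the normalizer of a p-subgroup Q acting quadratically on Q maps into O_p of N(Q)/C(Q)). Then for every Sylow p-subgroup S of G the lower K-infinity subgroup of S controls strong fusion in G. -/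
theorem result {G : Type u} [Group G] [Finite G] {p : ℕ} [Fact p.Prime] (hp : p ≠ 2) (hst : ∀ (K R : Subgroup G) [hR : (R.subgroupOf K).Normal], Cfsg.IsNormalizerPStable p (↥K ⧸ R.subgroupOf K)) (S : Sylow p G) : Cfsg.ControlsStrongFusion p (Cfsg.inducedFunctor Cfsg.kInfLower (S : Subgroup G)) := by
  have hfree : ¬ Cfsg.Involves ↥(Cfsg.qd p) G := (Cfsg.Agent.S2795.result hp).mpr hst
  have hloc' : ∀ (H : Type u) [Group H], Cfsg.Agent.Helper33.IsSectionOf G H →
      Cfsg.Agent.Helper11.SFNormLoc Cfsg.kInfLower p H := by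
    intro H _ hsec hcen T
    haveI := hsec.finite
    by_contra hnn
    obtain ⟨g, -, -, -, -, hns⟩ := Cfsg.Agent.S1983.result T (Or.inl hnn)
    obtain ⟨N, hN, hnps⟩ := hns hcen
    haveI := hN
    apply hnps
    apply Cfsg.Agent.S2795.nps_of_qd_free hp
    intro hsec'
    apply hfree
    exact ((hsec.quotient N).trans hsec').exists_equiv
  have h := Cfsg.Agent.Helper11.sfW_sections (Cfsg.Agent.Helper33.isCharPFunctor_kInfLower p)
    hloc' _ G (Cfsg.Agent.Helper33.IsSectionOf.refl G) rfl S
  refine ⟨S, Cfsg.Agent.Helper33.inducedFunctor_le _, fun A hA => ⟨hA, fun g hg => ?_⟩⟩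
  obtain ⟨x, hx, hxa⟩ := h A g hA (fun a ha => hg ⟨a, ha, rfl⟩)
  exact ⟨x, hx, fun a ha => (hxa a ha).symm⟩

end Cfsg.Agent.S1987
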