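import Cfsg.Statements.S1993
import Cfsg.Agent.S1972
import Cfsg.Agent.S1983
import Cfsg.Agent.S2795
import Cfsg.Agent.Helper11.SecFusionB
import Cfsg.Agent.Helper33.KIso

set_option autoImplicit false
universe u
open Cfsg

namespace Cfsg.Agent.S1993

/-- Let p be a prime, G a finite group with Sylow p-subgroup S, and K the upper K-infinity subgroup of S. If p ≥ 5 then S ∩ G' = S ∩ (N_G(K))'; and if p is odd and every section of G is p-stable in the normalizer form, then K controls strong fusion in G. -/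
theorem result {G : Type u} [Group G] [Finite G] {p : ℕ} [Fact p.Prime] (S : Sylow p G) : (5 ≤ p → (S : Subgroup G) ⊓ commutator G = (S : Subgroup G) ⊓ ⁅Subgroup.normalizer ((Cfsg.inducedFunctor Cfsg.kInfUpper (S : Subgroup G) : Subgroup G) : Set G), Subgroup.normalizer ((Cfsg.inducedFunctor Cfsg.kInfUpper (S : Subgroup G) : Subgroup G) : Set G)⁆) ∧ (p ≠ 2 → (∀ (K R : Subgroup G) [hR : (R.subgroupOf K).Normal], Cfsg.IsNormalizerPStable p (↥K ⧸ R.subgroupOf K)) → Cfsg.ControlsStrongFusion p (Cfsg.inducedFunctor Cfsg.kInfUpper (S : Subgroup G))) := by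
  constructor
  · intro hp
    have hW : Cfsg.IsCharPFunctor.{u} p Cfsg.kInfUpper :=
      Cfsg.Agent.Helper33.isCharPFunctor_kInfUpper p
    have h𝓦 : ∀ W' ∈ ({Cfsg.kInfUpper} : Set (∀ (Q : Type u) [Group Q], Subgroup Q)),
        Cfsg.IsCharPFunctor.{u} p W' := by
      intro W' hW'
      rw [Set.mem_singleton_iff] at hW'
      rw [hW']
      exact hW
    have hctl := Cfsg.Agent.S1972.result (G := G) (p := p) Cfsg.kInfUpper hW (by
      intro K R hR hcen T hnn
      obtain ⟨g, hgT, hgP, hg, -, -⟩ := Cfsg.Agent.S1983.result T (Or.inr hnn)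
      refine ⟨g, hgT, hgP, fun U V hUV hU => ?_⟩
      haveI := hUV.2.1
      exact (Cfsg.Agent.Helper33.iterCommutator_anti U (Subgroup.zpowers g)
        (Subgroup.commutator_le_left U _) (by omega : 4 ≤ p - 1)).trans (hg U V hUV hU))
    obtain ⟨K, R, hR, ⟨e⟩⟩ := (Cfsg.Agent.Helper33.IsSectionOf.refl G).exists_equiv
    have hCT := Cfsg.Agent.Helper33.secCT_of_equiv h𝓦 e
      (Cfsg.Agent.Helper33.secCT_of_controlsTransferIn_top hW (hctl K R))
    have h1 := hCT S
    rw [Cfsg.Agent.Helper33.focalTarget_singleton] at h1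
    apply le_antisymm (le_inf inf_le_left (h1.trans inf_le_right))
    rw [commutator_def]
    exact inf_le_inf le_rfl (Subgroup.commutator_mono le_top le_top)
  · intro hp hst
    have hfree : ¬ Cfsg.Involves ↥(Cfsg.qd p) G := (Cfsg.Agent.S2795.result hp).mpr hst
    have hloc' : ∀ (H : Type u) [Group H], Cfsg.Agent.Helper33.IsSectionOf G H →
        Cfsg.Agent.Helper11.SFNormLoc Cfsg.kInfUpper p H := by
      intro H _ hsec hcen T
      haveI := hsec.finite
      by_contra hnn
      obtain ⟨g, -, -, -, -, hns⟩ := Cfsg.Agent.S1983.result T (Or.inr hnn)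
      obtain ⟨N, hN, hnps⟩ := hns hcen
      haveI := hN
      apply hnps
      apply Cfsg.Agent.S2795.nps_of_qd_free hp
      intro hsec'
      apply hfree
      exact ((hsec.quotient N).trans hsec').exists_equiv
    have h := Cfsg.Agent.Helper11.sfW_sections (Cfsg.Agent.Helper33.isCharPFunctor_kInfUpper p)
      hloc' _ G (Cfsg.Agent.Helper33.IsSectionOf.refl G) rfl S
    refine ⟨S, Cfsg.Agent.Helper33.inducedFunctor_le _, fun A hA => ⟨hA, fun g hg => ?_⟩⟩
    obtain ⟨x, hx, hxa⟩ := h A g hA (fun a ha => hg ⟨a, ha, rfl⟩)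
    exact ⟨x, hx, fun a ha => (hxa a ha).symm⟩

end Cfsg.Agent.S1993
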