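import Cfsg.Statements.S2113
import Cfsg.Agent.S1156
import Cfsg.Agent.Helper6.ReeG
import Cfsg.Agent.Helper35.StemSylow
import Cfsg.Agent.Helper36.R3G3
import Cfsg.Agent.Helper65.R3Main
import Cfsg.Agent.Helper65.R2T2a
import Cfsg.Agent.Helper65.R2T2b
import Cfsg.Agent.Helper66.Schur

set_option autoImplicit false
open Cfsg

namespace Cfsg.Agent.S2113

/-- Schur multipliers of the small Ree groups: for q = 3^(2m+1) with m ≥ 1 the Schur multiplier of ²G₂(q) is trivial (here the Schur multiplier is described through stem extensions, as in the definitions). -/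
theorem result {K : Type*} [Field K] [Fintype K] {m : ℕ} (hm : 1 ≤ m) (hK : Fintype.card K = 3 ^ (2 * m + 1)) : Cfsg.HasCyclicSchurMultiplier ↥(Cfsg.Lie.twistedG2 K (3 ^ m)) 1 := by
  classical
  have hchar : CharP K 3 := Cfsg.Agent.Helper36.ree_charP hK
  obtain ⟨σ₀, hσ₀⟩ := Cfsg.Agent.Helper36.exists_reeSig hK
  apply Cfsg.Agent.Helper66.hasCyclicSchurMultiplier_one_of_forall_ker
  intro Γ _ _ σ hσ
  by_contra hne
  obtain ⟨ℓ, z, hℓ, hzk, hzo⟩ := Cfsg.Agent.Helper35.stem_exists_prime_order σ hne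
  have hℓfact : Fact ℓ.Prime := ⟨hℓ⟩
  by_cases hℓ2 : ℓ = 2
  · -- the prime 2: Sylow 2-subgroups are elementary abelian of order 8, involutions conjugate
    subst hℓ2
    refine Cfsg.Agent.Helper65.r2_main σ hσ (fun S => ?_) z hzk hzo
    obtain ⟨h8, hexp⟩ := Cfsg.Agent.Helper6.ree_sylow_two hK hσ₀ S
    obtain ⟨hC, hN⟩ := Cfsg.Agent.Helper6.ree_sylow_two_normalizer hK hσ₀ hm S
    have ht := Cfsg.Agent.Helper65.r2_trans (S : Subgroup ↥(Cfsg.Lie.twistedG2 K (3 ^ m)))
      h8 hexp hC hN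
    exact ⟨h8, hexp, ht⟩
  by_cases hℓ3 : ℓ = 3
  · -- the prime 3: torus-invariant pairings on the preimage of `U`
    subst hℓ3
    have hq : 9 < Fintype.card K := by
      rw [hK]
      calc 9 < 3 ^ 3 := by norm_num
        _ ≤ 3 ^ (2 * m + 1) := Nat.pow_le_pow_right (by norm_num) (by omega)
    exact Cfsg.Agent.Helper36.ree_three_part hm hK σ hσ
      (fun S => Cfsg.Agent.Helper65.r3_main S hq) z hzk hzo
  · -- primes > 3: cyclic Sylow subgroups
    have hℓ5 : 3 < ℓ := by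
      have := hℓ.two_le
      omega
    have hzp : IsPGroup ℓ (Subgroup.zpowers z) := by
      apply IsPGroup.of_card (n := 1)
      rw [Nat.card_zpowers, hzo, pow_one]
    obtain ⟨L, hL⟩ := hzp.exists_le_sylow
    have hzL : z ∈ (L : Subgroup Γ) := hL (Subgroup.mem_zpowers z)
    have hst := Cfsg.Agent.Helper35.stem_subgroupMap_sylow σ hσ ℓ L
    have hP : IsPGroup ℓ ((L : Subgroup Γ).map σ) := L.isPGroup'.map σ
    obtain ⟨Q, hQ⟩ := hP.exists_le_sylow
    have hQc : IsCyclic Q := Cfsg.Agent.S1156.result hm hK hℓ5 Q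
    have hPc : IsCyclic ((L : Subgroup Γ).map σ) :=
      isCyclic_of_injective (Subgroup.inclusion hQ) (Subgroup.inclusion_injective hQ)
    have hker : (σ.subgroupMap (L : Subgroup Γ)).ker = ⊥ :=
      Cfsg.Agent.Helper35.stem_ker_eq_bot_of_isCyclic _ hst
    have hz1 : (⟨z, hzL⟩ : (L : Subgroup Γ)) ∈ (σ.subgroupMap (L : Subgroup Γ)).ker := by
      rw [MonoidHom.mem_ker]
      apply Subtype.ext
      exact MonoidHom.mem_ker.mp hzk
    rw [hker, Subgroup.mem_bot] at hz1
    have hz2 : z = 1 := congrArg Subtype.val hz1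
    rw [hz2, orderOf_one] at hzo
    exact hℓ.one_lt.ne hzo

end Cfsg.Agent.S2113
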