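import Cfsg.Statements.S2119
import Cfsg.Agent.Helper69.ThreeCyc
import Mathlib

set_option autoImplicit false
open Cfsg

namespace Cfsg.Agent.S2119

open Equiv Equiv.Perm Cfsg.Agent.Helper69.ThreeCyc
open scoped Nat

section C1

variable {α : Type*} [DecidableEq α] [Fintype α]

/-- Size of the centralizer in the alternating group. -/
noncomputable def cA (x : alternatingGroup α) : ℕ :=
  Nat.card (Subgroup.centralizer ({x} : Set (alternatingGroup α)))

theorem cA_equiv (θ : alternatingGroup α ≃* alternatingGroup α) (x : alternatingGroup α) :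
    cA (θ x) = cA x := by
  unfold cA
  symm
  apply Nat.card_congr
  refine Equiv.subtypeEquiv θ.toEquiv ?_
  intro y
  simp only [Subgroup.mem_centralizer_singleton_iff, MulEquiv.toEquiv_eq_coe, MulEquiv.coe_toEquiv]
  rw [← map_mul, ← map_mul]
  exact θ.injective.eq_iff.symm

theorem cA_le (x : alternatingGroup α) :
    cA x ≤ Nat.card (Subgroup.centralizer ({(x : Perm α)} : Set (Perm α))) := by
  unfold cA
  have hmem : ∀ y : Subgroup.centralizer ({x} : Set (alternatingGroup α)),
      ((y : alternatingGroup α) : Perm α) ∈ Subgroup.centralizer ({(x : Perm α)} : Set (Perm α)) := by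
    intro y
    have := y.2
    rw [Subgroup.mem_centralizer_singleton_iff] at this ⊢
    exact congrArg Subtype.val this
  refine Nat.card_le_card_of_injective (fun y => ⟨_, hmem y⟩) ?_
  intro y y' h
  simp only [Subtype.mk.injEq] at h
  exact Subtype.ext (Subtype.ext h)

theorem card_le_two_mul_cA (x : alternatingGroup α) :
    Nat.card (Subgroup.centralizer ({(x : Perm α)} : Set (Perm α))) ≤ 2 * cA x := by
  let f : Subgroup.centralizer ({(x : Perm α)} : Set (Perm α)) →* ℤˣ :=
    Perm.sign.comp (Subgroup.subtype _)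
  have h1 : Nat.card (Subgroup.centralizer ({(x : Perm α)} : Set (Perm α)))
      = Nat.card f.ker * Nat.card f.range := by
    rw [← Subgroup.index_ker, Subgroup.card_mul_index]
  have h2 : Nat.card f.range ≤ 2 := by
    calc Nat.card f.range ≤ Nat.card ℤˣ := Subgroup.card_le_card_group _
      _ = 2 := by simp [Nat.card_eq_fintype_card]
  have h3 : Nat.card f.ker ≤ cA x := by
    unfold cA
    have hA : ∀ y : f.ker, ((y : Subgroup.centralizer ({(x : Perm α)} : Set (Perm α))) : Perm α)
        ∈ alternatingGroup α := by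
      intro y
      have := y.2
      rw [MonoidHom.mem_ker] at this
      exact Perm.mem_alternatingGroup.mpr this
    have hC : ∀ y : f.ker, (⟨_, hA y⟩ : alternatingGroup α)
        ∈ Subgroup.centralizer ({x} : Set (alternatingGroup α)) := by
      intro y
      have := y.1.2
      rw [Subgroup.mem_centralizer_singleton_iff] at this ⊢
      exact Subtype.ext this
    refine Nat.card_le_card_of_injective (fun y => ⟨_, hC y⟩) ?_
    intro y y' h
    simp only [Subtype.mk.injEq] at h
    exact Subtype.ext (Subtype.ext h)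
  calc Nat.card (Subgroup.centralizer ({(x : Perm α)} : Set (Perm α)))
      = Nat.card f.ker * Nat.card f.range := h1
    _ ≤ cA x * 2 := Nat.mul_le_mul h3 h2
    _ = 2 * cA x := by ring

theorem card_centralizer_threeCycle {c : Perm α} (hc : IsThreeCycle c) :
    Nat.card (Subgroup.centralizer ({c} : Set (Perm α))) = (Fintype.card α - 3)! * 3 := by
  rw [Equiv.Perm.nat_card_centralizer, hc.cycleType]
  simp

theorem card_centralizer_replicate {g : Perm α} (K : ℕ) (hK : 0 < K)
    (hg : g.cycleType = Multiset.replicate K 3) :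
    Nat.card (Subgroup.centralizer ({g} : Set (Perm α)))
      = (Fintype.card α - 3 * K)! * 3 ^ K * K ! := by
  rw [Equiv.Perm.nat_card_centralizer, hg]
  have hK' : K ≠ 0 := by omega
  simp [Multiset.toFinset_replicate, hK', mul_comm]

theorem ineq (K : ℕ) (hK : 2 ≤ K) :
    ∀ m : ℕ, 7 ≤ m + 3 * K → 2 * (m ! * 3 ^ K * K !) < 3 * (m + 3 * K - 3)! := by
  induction K, hK using Nat.le_induction with
  | base =>
    intro m hm
    have e : m + 3 * 2 - 3 = m + 3 := by omega
    rw [e]
    have e2 : (m + 3)! = (m + 3) * ((m + 2) * ((m + 1) * m !)) := by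
      rw [Nat.factorial_succ, Nat.factorial_succ, Nat.factorial_succ]
    rw [e2]
    have hm1 : 1 ≤ m := by omega
    have hpos : 0 < m ! := Nat.factorial_pos m
    have h24 : 4 * (3 * 2) ≤ (m + 3) * ((m + 2) * (m + 1)) :=
      Nat.mul_le_mul (by omega) (Nat.mul_le_mul (by omega) (by omega))
    have h2f : (2 : ℕ)! = 2 := rfl
    rw [h2f]
    nlinarith
  | succ K hK ih =>
    intro m hm
    by_cases h7 : 7 ≤ m + 3 * K
    · have h := ih m h7
      obtain ⟨N, hN⟩ : ∃ N, m + 3 * K - 3 = N := ⟨_, rfl⟩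
      have e : m + 3 * (K + 1) - 3 = N + 3 := by omega
      rw [e]
      rw [hN] at h
      have e2 : (N + 3)! = (N + 3) * ((N + 2) * ((N + 1) * N !)) := by
        rw [Nat.factorial_succ, Nat.factorial_succ, Nat.factorial_succ]
      have e3 : (K + 1)! = (K + 1) * K ! := Nat.factorial_succ K
      rw [e2, e3, pow_succ]
      have hN3 : 3 ≤ N := by omega
      have hNK : 3 * K ≤ N + 3 := by omega
      have key : 3 * (K + 1) ≤ (N + 3) * ((N + 2) * (N + 1)) := by
        calc 3 * (K + 1) = (K + 1) * (3 * 1) := by ring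
          _ ≤ (N + 3) * ((N + 2) * (N + 1)) :=
            Nat.mul_le_mul (by omega) (Nat.mul_le_mul (by omega) (by omega))
      have hpos : 0 < N ! := Nat.factorial_pos N
      calc 2 * (m ! * (3 ^ K * 3) * ((K + 1) * K !))
          = 3 * (K + 1) * (2 * (m ! * 3 ^ K * K !)) := by ring
        _ < 3 * (K + 1) * (3 * N !) := by
            apply Nat.mul_lt_mul_of_pos_left h; omega
        _ = 3 * (3 * (K + 1) * N !) := by ring
        _ ≤ 3 * ((N + 3) * ((N + 2) * (N + 1)) * N !) := by
            apply Nat.mul_le_mul_left; exact Nat.mul_le_mul_right _ key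
        _ = 3 * ((N + 3) * ((N + 2) * ((N + 1) * N !))) := by ring
    · have hK2 : K = 2 := by omega
      have hm0 : m = 0 := by omega
      subst hK2; subst hm0; decide

theorem preserves3 (h4 : 4 ≤ Fintype.card α) (h6 : Fintype.card α ≠ 6)
    (θ : alternatingGroup α ≃* alternatingGroup α) (c : alternatingGroup α)
    (hc : IsThreeCycle (c : Perm α)) : IsThreeCycle ((θ c : alternatingGroup α) : Perm α) := by
  have ho : orderOf ((θ c : alternatingGroup α) : Perm α) = 3 := by
    rw [Subgroup.orderOf_coe, MulEquiv.orderOf_eq, ← Subgroup.orderOf_coe, hc.orderOf]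
  obtain ⟨k, hk⟩ := Equiv.Perm.cycleType_prime_order
    (σ := ((θ c : alternatingGroup α) : Perm α)) (by rw [ho]; norm_num)
  rw [ho] at hk
  rcases Nat.eq_zero_or_pos k with rfl | hkpos
  · rw [IsThreeCycle, hk]; rfl
  · exfalso
    have hsum : 3 * (k + 1) ≤ Fintype.card α := by
      have h1 := Equiv.Perm.sum_cycleType ((θ c : alternatingGroup α) : Perm α)
      rw [hk, Multiset.sum_replicate, smul_eq_mul] at h1
      have h' := Finset.card_le_univ ((θ c : alternatingGroup α) : Perm α).support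
      omega
    have h7 : 7 ≤ Fintype.card α := by omega
    have e1 := card_centralizer_threeCycle hc
    have e2 := card_centralizer_replicate (k + 1) (Nat.succ_pos k) hk
    have i1 := card_le_two_mul_cA c
    have i2 := cA_le (θ c)
    have i3 := cA_equiv θ c
    have i4 := ineq (k + 1) (by omega) (Fintype.card α - 3 * (k + 1)) (by omega)
    have e3 : Fintype.card α - 3 * (k + 1) + 3 * (k + 1) - 3 = Fintype.card α - 3 := by omega
    rw [e3] at i4
    rw [e1] at i1
    rw [e2] at i2
    omega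

end C1

section C4

variable {α : Type*} [DecidableEq α] [Fintype α]

theorem inj (h4 : 4 ≤ Fintype.card α) :
    Function.Injective (MulAut.conjNormal : Perm α →* MulAut (alternatingGroup α)) := by
  rw [injective_iff_map_eq_one]
  intro σ hσ
  by_contra hne
  obtain ⟨a, ha⟩ : ∃ a, σ a ≠ a := by
    by_contra h
    push Not at h
    exact hne (Perm.ext h)
  obtain ⟨c, hc, d, hd, hcd⟩ : ∃ c ∈ (Finset.univ \ {a, σ a} : Finset α),
      ∃ d ∈ (Finset.univ \ {a, σ a} : Finset α), c ≠ d := by
    apply Finset.one_lt_card.mp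
    have h1 : (Finset.univ \ {a, σ a} : Finset α).card
        = Fintype.card α - ({a, σ a} : Finset α).card := by
      rw [Finset.card_sdiff_of_subset (Finset.subset_univ _), Finset.card_univ]
    have h2 : ({a, σ a} : Finset α).card ≤ 2 := Finset.card_le_two
    omega
  simp only [Finset.mem_sdiff, Finset.mem_univ, Finset.mem_insert, Finset.mem_singleton,
    true_and, not_or] at hc hd
  have h3c := c3_isThreeCycle (a := σ a) (b := c) (c := d) (Ne.symm hc.2) (Ne.symm hd.2) hcd
  have h1 := congrArg (fun f : MulAut (alternatingGroup α) =>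
    ((f ⟨_, h3c.mem_alternatingGroup⟩ : alternatingGroup α) : Perm α)) hσ
  simp only [MulAut.conjNormal_apply, MulAut.one_apply] at h1
  have h2 : σ * c3 (σ a) c d = c3 (σ a) c d * σ := by
    nth_rewrite 2 [← h1]; group
  have h3 := congrArg (fun p : Perm α => p a) h2
  simp only [Perm.mul_apply, c3_apply (Ne.symm hc.2) (Ne.symm hd.2) hcd] at h3
  have hinj : ∀ x y, σ x = σ y → x = y := fun x y h => σ.injective h
  grind

theorem surj (h4 : 4 ≤ Fintype.card α) (h6 : Fintype.card α ≠ 6)
    (θ : MulAut (alternatingGroup α)) : ∃ σ : Perm α, MulAut.conjNormal σ = θ := by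
  classical
  obtain ⟨a, b, hab⟩ : ∃ a b : α, a ≠ b := Fintype.one_lt_card_iff.mp (by omega)
  let t : α → alternatingGroup α := fun x =>
    if h : x ≠ a ∧ x ≠ b then
      ⟨c3 a b x, (c3_isThreeCycle hab h.1.symm h.2.symm).mem_alternatingGroup⟩
    else 1
  have ht : ∀ x, x ≠ a → x ≠ b → ((t x : alternatingGroup α) : Perm α) = c3 a b x := by
    intro x hxa hxb
    simp only [t, dif_pos (And.intro hxa hxb)]
  let S : α → Perm α := fun x => ((θ (t x) : alternatingGroup α) : Perm α)
  have hs3 : ∀ x, x ≠ a → x ≠ b → IsThreeCycle (S x) := by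
    intro x hxa hxb
    apply preserves3 h4 h6 θ (t x)
    rw [ht x hxa hxb]; exact c3_isThreeCycle hab hxa.symm hxb.symm
  have hrel : ∀ x y, x ≠ a → x ≠ b → y ≠ a → y ≠ b → x ≠ y →
      S x * S y * (S x * S y) = 1 := by
    intro x y hxa hxb hya hyb hxy
    have h1 : t x * t y * (t x * t y) = 1 := by
      apply Subtype.ext
      simp only [Subgroup.coe_mul, ht x hxa hxb, ht y hya hyb, Subgroup.coe_one]
      exact c3_mul_c3_sq hab hxa hxb hya hyb hxy
    have h2 := congrArg θ h1
    simp only [map_mul, map_one] at h2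
    have h3 := congrArg Subtype.val h2
    simpa only [Subgroup.coe_mul, Subgroup.coe_one] using h3
  have hnerev : ∀ x y, x ≠ a → x ≠ b → y ≠ a → y ≠ b → S x ≠ (S y)⁻¹ := by
    intro x y hxa hxb hya hyb h
    have h1 : θ (t x) = θ ((t y)⁻¹) := by
      apply Subtype.ext
      rw [map_inv, Subgroup.coe_inv]
      exact h
    have h2 := θ.injective h1
    have h3 := congrArg Subtype.val h2
    rw [Subgroup.coe_inv, ht x hxa hxb, ht y hya hyb, c3_inv hab hya.symm hyb.symm] at h3
    exact c3_ne_c3_rev hab hxa hxb hya hyb h3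
  have hinj : ∀ x y, x ≠ a → x ≠ b → y ≠ a → y ≠ b → S x = S y → x = y := by
    intro x y hxa hxb hya hyb h
    have h2 := θ.injective (Subtype.ext h)
    have h3 := congrArg Subtype.val h2
    rw [ht x hxa hxb, ht y hya hyb] at h3
    exact c3_injective hab hxa hxb hya hyb h3
  -- two points outside {a, b}
  obtain ⟨x₁, hx₁, x₂, hx₂, hx12⟩ : ∃ c ∈ (Finset.univ \ {a, b} : Finset α),
      ∃ d ∈ (Finset.univ \ {a, b} : Finset α), c ≠ d := by
    apply Finset.one_lt_card.mp
    have h1 : (Finset.univ \ {a, b} : Finset α).card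
        = Fintype.card α - ({a, b} : Finset α).card := by
      rw [Finset.card_sdiff_of_subset (Finset.subset_univ _), Finset.card_univ]
    have h2 : ({a, b} : Finset α).card ≤ 2 := Finset.card_le_two
    omega
  simp only [Finset.mem_sdiff, Finset.mem_univ, Finset.mem_insert, Finset.mem_singleton,
    true_and, not_or] at hx₁ hx₂
  obtain ⟨hx1a, hx1b⟩ := hx₁
  obtain ⟨hx2a, hx2b⟩ := hx₂
  -- normal form for S x₁, S x₂
  have hnf : ∃ a' b' c' d' : α, a' ≠ b' ∧ a' ≠ c' ∧ b' ≠ c' ∧ a' ≠ d' ∧ b' ≠ d' ∧ c' ≠ d' ∧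
      S x₁ = c3 a' b' c' ∧ S x₂ = c3 a' b' d' := by
    obtain ⟨u, v, w, huv, huw, hvw, hS1⟩ := exists_eq_c3 (hs3 x₁ hx1a hx1b)
    have hr := hrel x₁ x₂ hx1a hx1b hx2a hx2b hx12
    have hn := hnerev x₂ x₁ hx2a hx2b hx1a hx1b
    rw [hS1] at hr
    rw [hS1, c3_inv huv huw hvw] at hn
    have r1 : c3 u v w = c3 v w u := c3_rot huv huw hvw
    have r2 : c3 u v w = c3 w u v := by rw [r1, c3_rot hvw huv.symm huw.symm]
    have h32 := hs3 x₂ hx2a hx2b
    rcases K0 huv huw hvw h32 hr hn with h | h | h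
    · obtain ⟨-, d, hd1, hd2, hd3, hform⟩ := K1 huv huw hvw h32 hr h
      exact ⟨v, w, u, d, hvw, huv.symm, huw.symm, hd2.symm, hd3.symm, hd1.symm,
        hS1.trans r1, hform⟩
    · obtain ⟨-, d, hd1, hd2, hd3, hform⟩ := K1 hvw huv.symm huw.symm h32 (r1 ▸ hr) h
      exact ⟨w, u, v, d, huw.symm, hvw.symm, huv, hd2.symm, hd3.symm, hd1.symm,
        hS1.trans r2, hform⟩
    · obtain ⟨-, d, hd1, hd2, hd3, hform⟩ := K1 huw.symm hvw.symm huv h32 (r2 ▸ hr) h
      exact ⟨u, v, w, d, huv, huw, hvw, hd2.symm, hd3.symm, hd1.symm, hS1, hform⟩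
  obtain ⟨a', b', c', d', hab', hac', hbc', had', hbd', hcd', hS1, hS2⟩ := hnf
  have hall : ∀ x, ∃ e, x ≠ a → x ≠ b → (e ≠ a' ∧ e ≠ b' ∧ S x = c3 a' b' e) := by
    intro x
    by_cases hxa : x = a
    · exact ⟨a, fun h => absurd hxa h⟩
    by_cases hxb : x = b
    · exact ⟨a, fun _ h => absurd hxb h⟩
    by_cases hx1 : x = x₁
    · exact ⟨c', fun _ _ => ⟨hac'.symm, hbc'.symm, hx1 ▸ hS1⟩⟩
    by_cases hx2 : x = x₂
    · exact ⟨d', fun _ _ => ⟨had'.symm, hbd'.symm, hx2 ▸ hS2⟩⟩
    have hr1 := hrel x₁ x hx1a hx1b hxa hxb (Ne.symm hx1)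
    have hr2 := hrel x₂ x hx2a hx2b hxa hxb (Ne.symm hx2)
    have hn1 := hnerev x x₁ hxa hxb hx1a hx1b
    have hn2 := hnerev x x₂ hxa hxb hx2a hx2b
    rw [hS1] at hr1
    rw [hS2] at hr2
    rw [hS1, c3_inv hab' hac' hbc'] at hn1
    rw [hS2, c3_inv hab' had' hbd'] at hn2
    obtain ⟨e, he1, he2, -, -, hform⟩ :=
      K2 hab' hac' hbc' had' hbd' hcd' (hs3 x hxa hxb) hr1 hr2 hn1 hn2
    exact ⟨e, fun _ _ => ⟨he1, he2, hform⟩⟩
  choose e he using hall
  let σ₀ : α → α := fun z => if z = a then a' else if z = b then b' else e z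
  have hσ₀ : Function.Injective σ₀ := by
    intro z z' h
    have hE : ∀ x y, x ≠ a → x ≠ b → y ≠ a → y ≠ b → e x = e y → x = y := by
      intro x y hxa hxb hya hyb hxy
      apply hinj x y hxa hxb hya hyb
      rw [(he x hxa hxb).2.2, (he y hya hyb).2.2, hxy]
    have hE1 : ∀ x, x ≠ a → x ≠ b → e x ≠ a' := fun x hxa hxb => (he x hxa hxb).1
    have hE2 : ∀ x, x ≠ a → x ≠ b → e x ≠ b' := fun x hxa hxb => (he x hxa hxb).2.1
    simp only [σ₀] at h
    grind
  let σ : Perm α := Equiv.ofBijective σ₀ ⟨hσ₀, Finite.injective_iff_surjective.mp hσ₀⟩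
  have hσapp : ∀ z, σ z = σ₀ z := fun z => rfl
  have hσa : σ a = a' := by rw [hσapp]; simp [σ₀]
  have hσb : σ b = b' := by rw [hσapp]; simp [σ₀, hab.symm]
  have hσx : ∀ x, x ≠ a → x ≠ b → σ x = e x := by
    intro x hxa hxb; rw [hσapp]; simp [σ₀, hxa, hxb]
  have hcl : Subgroup.closure {y : alternatingGroup α | ∃ x, x ≠ a ∧ x ≠ b ∧ y = t x} = ⊤ := by
    rw [eq_top_iff]
    intro y _
    have hy : (y : Perm α) ∈
        Subgroup.closure {p : Perm α | ∃ x, x ≠ a ∧ x ≠ b ∧ p = c3 a b x} := by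
      rw [closure_c3_eq hab]; exact y.2
    have himg : {p : Perm α | ∃ x, x ≠ a ∧ x ≠ b ∧ p = c3 a b x}
        = (alternatingGroup α).subtype ''
          {y : alternatingGroup α | ∃ x, x ≠ a ∧ x ≠ b ∧ y = t x} := by
      ext p; constructor
      · rintro ⟨x, hxa, hxb, rfl⟩; exact ⟨t x, ⟨x, hxa, hxb, rfl⟩, ht x hxa hxb⟩
      · rintro ⟨y, ⟨x, hxa, hxb, rfl⟩, rfl⟩; exact ⟨x, hxa, hxb, ht x hxa hxb⟩
    rw [himg, ← MonoidHom.map_closure] at hy
    obtain ⟨z, hz, hzy⟩ := hy
    have hzy' : z = y := Subtype.ext hzy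
    rwa [← hzy']
  refine ⟨σ, ?_⟩
  apply MulEquiv.toMonoidHom_injective
  apply MonoidHom.eq_of_eqOn_dense hcl
  rintro y ⟨x, hxa, hxb, rfl⟩
  apply Subtype.ext
  show ((MulAut.conjNormal σ (t x) : alternatingGroup α) : Perm α) = S x
  rw [MulAut.conjNormal_apply, ht x hxa hxb, conj_c3, hσa, hσb, hσx x hxa hxb]
  exact (he x hxa hxb).2.2.symm

end C4

/-- Automorphisms of the alternating groups: for n ≥ 4 with n ≠ 6, every automorphism of the alternating group of degree n is conjugation by a unique permutation, i.e. conjugation induces an isomorphism from the symmetric group of degree n onto the automorphism group of the alternating group (so the outer automorphism group has order 2). -/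
theorem result (n : ℕ) (hn : 4 ≤ n) (h6 : n ≠ 6) : Function.Bijective (MulAut.conjNormal : Equiv.Perm (Fin n) →* MulAut ↥(alternatingGroup (Fin n))) := by
  refine ⟨inj (by simpa using hn), fun θ => surj (by simpa using hn) (by simpa using h6) θ⟩

end Cfsg.Agent.S2119
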