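import Cfsg.Statements.S2247
import Cfsg.Agent.Helper60.SzOvoid

set_option autoImplicit false
open Cfsg

namespace Cfsg.Agent.S2247

open Cfsg.Agent.Helper6 Cfsg.Agent.Helper60 in
/-- In the Suzuki group with q = 2^(2m+1), m ≥ 1 (realised as the stabiliser in SL₄ of the Suzuki–Tits ovoid), the normalizer of a Sylow 2-subgroup P is a maximal subgroup and is the only maximal subgroup containing P. -/
theorem result {F : Type*} [Field F] [Fintype F] {m : ℕ} (hm : 1 ≤ m) (hF : Fintype.card F = 2 ^ (2 * m + 1)) (P : Sylow 2 ↥(Cfsg.Sz F m)) :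
    IsCoatom (Subgroup.normalizer ((P : Subgroup ↥(Cfsg.Sz F m)) : Set ↥(Cfsg.Sz F m))) ∧
    ∀ M : Subgroup ↥(Cfsg.Sz F m), IsCoatom M → (P : Subgroup ↥(Cfsg.Sz F m)) ≤ M → M = Subgroup.normalizer ((P : Subgroup ↥(Cfsg.Sz F m)) : Set ↥(Cfsg.Sz F m)) := by
  have := sz_charP hF
  obtain ⟨c, hcP⟩ := MulAction.exists_smul_eq ↥(Cfsg.Sz F m) (UoSylow hF hm) P
  subst hcP
  set φ : ↥(Cfsg.Sz F m) ≃* ↥(Cfsg.Sz F m) := MulAut.conj c with hφ
  have hP : ((c • UoSylow hF hm : Sylow 2 ↥(Cfsg.Sz F m)) : Subgroup ↥(Cfsg.Sz F m)) =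
      (Uo hF).map φ.toMonoidHom := by
    rw [Sylow.coe_subgroup_smul, coe_UoSylow, Subgroup.pointwise_smul_def]
    rfl
  have hN : Subgroup.normalizer (((c • UoSylow hF hm : Sylow 2 ↥(Cfsg.Sz F m)) :
      Subgroup ↥(Cfsg.Sz F m)) : Set ↥(Cfsg.Sz F m)) = φ.mapSubgroup (Bo F m) := by
    rw [hP, ← Subgroup.map_equiv_normalizer_eq, normalizer_Uo hF hm]
    rfl
  rw [hN]
  refine ⟨(OrderIso.isCoatom_iff φ.mapSubgroup (Bo F m)).2 (isCoatom_Bo hF), ?_⟩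
  intro M hM hPM
  have hM' : IsCoatom (φ.mapSubgroup.symm M) := (OrderIso.isCoatom_iff φ.mapSubgroup.symm M).2 hM
  have hU : Uo hF ≤ φ.mapSubgroup.symm M := by
    rw [hP] at hPM
    have : φ.mapSubgroup (Uo hF) ≤ M := hPM
    exact (OrderIso.le_symm_apply φ.mapSubgroup).2 this
  have := unique_max_Uo hF hm hM' hU
  rw [← this, OrderIso.apply_symm_apply]

end Cfsg.Agent.S2247
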