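import Cfsg.Statements.S2272
import Cfsg.Agent.Helper21.AradHerzogB

set_option autoImplicit false
open Cfsg

namespace Cfsg.Agent.S2272

/-- Let F be a finite field and d ≥ 3, and let a, b be non-identity elements of PSL_d(F). Then the product of the conjugacy classes of a and b is not a single conjugacy class: there are conjugates a′ of a and b′ of b such that a′b′ is not conjugate to ab. -/
theorem result {F : Type*} [Field F] [Fintype F] (d : ℕ) (hd : 3 ≤ d)
    (a b : Matrix.ProjectiveSpecialLinearGroup (Fin d) F) (ha : a ≠ 1) (hb : b ≠ 1) :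
    ∃ g h : Matrix.ProjectiveSpecialLinearGroup (Fin d) F, ¬ IsConj (a * b) (g * a * g⁻¹ * (h * b * h⁻¹)) := by
  by_contra hcon
  push Not at hcon
  obtain ⟨A, rfl⟩ := QuotientGroup.mk_surjective a
  obtain ⟨B, rfl⟩ := QuotientGroup.mk_surjective b
  have hA : A ∉ Subgroup.center (Matrix.SpecialLinearGroup (Fin d) F) :=
    fun h => ha ((QuotientGroup.eq_one_iff A).2 h)
  have hB : B ∉ Subgroup.center (Matrix.SpecialLinearGroup (Fin d) F) :=
    fun h => hb ((QuotientGroup.eq_one_iff B).2 h)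
  obtain ⟨H1, H2, h1, h2⟩ := Cfsg.Agent.Helper21.AradHerzog.exists_trace_zero_ne hd A B hA hB
  have c1 := hcon 1 (QuotientGroup.mk H1)
  have c2 := hcon 1 (QuotientGroup.mk H2)
  have e1 : (1 : Matrix.ProjectiveSpecialLinearGroup (Fin d) F) * QuotientGroup.mk A * 1⁻¹ *
      (QuotientGroup.mk H1 * QuotientGroup.mk B * (QuotientGroup.mk H1)⁻¹) =
      QuotientGroup.mk (A * (H1 * B * H1⁻¹)) := by
    rw [one_mul, inv_one, mul_one]
    rfl
  have e2 : (1 : Matrix.ProjectiveSpecialLinearGroup (Fin d) F) * QuotientGroup.mk A * 1⁻¹ *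
      (QuotientGroup.mk H2 * QuotientGroup.mk B * (QuotientGroup.mk H2)⁻¹) =
      QuotientGroup.mk (A * (H2 * B * H2⁻¹)) := by
    rw [one_mul, inv_one, mul_one]
    rfl
  rw [e1] at c1
  rw [e2] at c2
  have i1 := Cfsg.Agent.Helper21.AradHerzog.trace_zero_iff_of_isConj (by omega) (A * B)
    (A * (H1 * B * H1⁻¹)) c1
  have i2 := Cfsg.Agent.Helper21.AradHerzog.trace_zero_iff_of_isConj (by omega) (A * B)
    (A * (H2 * B * H2⁻¹)) c2
  exact h2 (i2.1 (i1.2 h1))

end Cfsg.Agent.S2272
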