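import Cfsg.Statements.S2276
import Cfsg.Agent.Helper21.PEMain
import Cfsg.Agent.Helper37.PEA5
import Cfsg.Agent.Helper37.PESHIFT
import Cfsg.Agent.Helper37.PECERT
import Cfsg.Agent.Helper37.PEFIXCNT
import Cfsg.Agent.Helper83.PECOMM3
import Cfsg.Agent.Helper72.PETR
import Cfsg.Agent.Helper72.PETR2
import Cfsg.Agent.Helper37.PEPAR
import Cfsg.Agent.Helper78.PEPARA
import Cfsg.Agent.Helper83.PERED
import Cfsg.Agent.Helper37.PESYM
import Cfsg.Agent.Helper72.PELIFTA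
import Cfsg.Agent.Helper83.PEGREEDY
import Cfsg.Agent.Helper72.PECYC
import Cfsg.Agent.Helper72.PECLS
import Cfsg.Agent.Helper52.PESMALL3
import Cfsg.Agent.Helper72.PEFIN
import Cfsg.Agent.Helper52.PEGLUE
import Cfsg.Agent.Helper52.PEROT
import Cfsg.Agent.Helper52.PEFWD
import Cfsg.Agent.Helper74.PEG3O
import Cfsg.Agent.Helper74.PEG3E
import Cfsg.Agent.Helper88.PEREALB
import Cfsg.Agent.Helper26.PEREALA
import Cfsg.Agent.Helper24.PEV2CON
import Cfsg.Agent.Helper76.PEV2NS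
import Cfsg.Agent.Helper88.PEV2NP
import Cfsg.Agent.Helper88.PEREALV
import Cfsg.Agent.Helper52.PEREAL9
import Cfsg.Agent.Helper91.PELIFTC
import Cfsg.Agent.Helper52.PEBETA
import Cfsg.Agent.Helper21.PECASE2

set_option autoImplicit false
open Cfsg

namespace Cfsg.Agent.S2276

open Cfsg.Agent.Helper21.PE in
/-- Let n ≥ 5, p ≥ 3 a prime, and u, w non-identity elements of p-power order in the alternating group A_n. Then there is g ∈ A_n such that u·(g w g⁻¹) does not have p-power order and ⟨u, g w g⁻¹⟩ is not solvable. -/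
theorem result (n : ℕ) (hn : 5 ≤ n) (p : ℕ) (hp : p.Prime) (hp3 : 3 ≤ p) (u w : alternatingGroup (Fin n)) (hu : u ≠ 1) (hw : w ≠ 1)
    (hu' : ∃ k : ℕ, orderOf u = p ^ k) (hw' : ∃ k : ℕ, orderOf w = p ^ k) :
    ∃ g : alternatingGroup (Fin n), (¬ ∃ k : ℕ, orderOf (u * (g * w * g⁻¹)) = p ^ k) ∧
      ¬ Group.IsSolvable ↥(Subgroup.closure ({u, g * w * g⁻¹} : Set (alternatingGroup (Fin n)))) := by
  have hA5 : A5Stmt := Cfsg.Agent.Helper37.PEA5.pe_a5
  have hShift : ShiftStmt := Cfsg.Agent.Helper37.PESHIFT.pe_shift hA5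
  have hCert : CertStmt := Cfsg.Agent.Helper37.PECERT.pe_cert
  have hFix : FixcntStmt := Cfsg.Agent.Helper37.PEFIXCNT.pe_fixcnt
  have hComm : Comm3Stmt := Cfsg.Agent.Helper83.PECOMM3.pe_comm3
  have hTr : TrStmt := Cfsg.Agent.Helper72.PETR.pe_tr
  have hTr2 : Tr2Stmt := Cfsg.Agent.Helper72.PETR2.pe_tr2
  have hPar : ParStmt := Cfsg.Agent.Helper37.PEPAR.pe_par
  have hPara : ParaStmt := Cfsg.Agent.Helper78.PEPARA.pe_para
  have hRed : RedStmt := Cfsg.Agent.Helper83.PERED.pe_red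
  have hSym : SymStmt := Cfsg.Agent.Helper37.PESYM.pe_sym
  have hLifta : LiftaStmt := Cfsg.Agent.Helper72.PELIFTA.pe_lifta
  have hGr : GreedyStmt := Cfsg.Agent.Helper83.PEGREEDY.pe_greedy
  have hCyc : CycStmt := Cfsg.Agent.Helper72.PECYC.pe_cyc
  have hCls : ClsStmt := Cfsg.Agent.Helper72.PECLS.pe_cls
  have hS3 : Small3Stmt := Cfsg.Agent.Helper52.PESMALL3.pe_small3
  have hFin : FinStmt := Cfsg.Agent.Helper72.PEFIN.pe_fin
  have hGlue : GlueStmt := Cfsg.Agent.Helper52.PEGLUE.pe_glue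
  have hRot : RotStmt := Cfsg.Agent.Helper52.PEROT.pe_rot
  have hFwd : FwdStmt := Cfsg.Agent.Helper52.PEFWD.pe_fwd hGlue
  have hG3O : G3OStmt := Cfsg.Agent.Helper74.PEG3O.pe_g3o hShift hFix
  have hG3E : G3EStmt := Cfsg.Agent.Helper74.PEG3E.pe_g3e hShift hFix
  have hRealB : RealBStmt := Cfsg.Agent.Helper88.PEREALB.pe_realb hShift hComm hFix hRot hGlue
  have hRealA : RealAStmt := Cfsg.Agent.Helper26.PEREALA.pe_reala hShift hComm hCert hRot hGlue
  have hV2Con : V2ConStmt := Cfsg.Agent.Helper24.PEV2CON.pe_v2con hGlue hRot hFwd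
  have hV2Ns : V2NsStmt := Cfsg.Agent.Helper76.PEV2NS.pe_v2ns hComm hShift
  have hV2Np : V2NpStmt := Cfsg.Agent.Helper88.PEV2NP.pe_v2np hFix
  have hRealV : RealVStmt := Cfsg.Agent.Helper88.PEREALV.pe_realv hV2Con hV2Ns hV2Np
  have hReal9 : Real9Stmt := Cfsg.Agent.Helper52.PEREAL9.pe_real9 hShift hCert
  have hLiftc : LiftcStmt := Cfsg.Agent.Helper91.PELIFTC.pe_liftc hLifta
  have hBeta : BetaStmt := Cfsg.Agent.Helper52.PEBETA.pe_beta hA5
  have hCase2 : Case2Stmt := Cfsg.Agent.Helper21.PECASE2.pe_case2 hCyc hCls hTr hTr2 hPar hPara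
    hG3O hG3E hRealB hRealA hRealV hReal9 hLiftc
  have hMain : MainStmt := Cfsg.Agent.Helper21.PEMain.pe_main hCyc hSym hGr hRed hS3 hBeta hTr hCase2
  exact hFin n p (hMain p hp hp3 n hn (Fin n) (by simp)) u w hu hw hu' hw'

end Cfsg.Agent.S2276
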