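import Cfsg.Statements.S2277

set_option autoImplicit false
open Cfsg

namespace Cfsg.Agent.S2277

universe u

/-- The inductive statement. -/
def Stmt (p : ℕ) (G : Type u) [Group G] : Prop :=
  ∀ (P N : Subgroup G) (C D : Set G), IsPGroup p P → N.Normal → (Nat.card N).Coprime p → N ⊔ P = ⊤ →
    Subgroup.closure C = P → Subgroup.closure D = P →
    (∀ x ∈ N, ∀ c ∈ C, ∀ d ∈ D, IsPGroup p (Subgroup.closure ({x * c * x⁻¹, d} : Set G))) →
    ∀ g ∈ P, ∀ x ∈ N, g * x = x * g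

section basic

variable {G : Type u} [Group G] [Finite G] {p : ℕ} [Fact p.Prime]

theorem disjoint_NP {P N : Subgroup G} (hP : IsPGroup p P) (hN : (Nat.card N).Coprime p) :
    N ⊓ P = ⊥ := by
  obtain ⟨k, hk⟩ := IsPGroup.iff_card.mp hP
  rw [← disjoint_iff]
  apply Subgroup.disjoint_of_coprime_natCard
  rw [hk]
  exact Nat.Coprime.pow_right k hN

theorem mem_inf_eq_one {P N : Subgroup G} (hP : IsPGroup p P) (hN : (Nat.card N).Coprime p)
    {x : G} (h1 : x ∈ N) (h2 : x ∈ P) : x = 1 := by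
  have : x ∈ N ⊓ P := ⟨h1, h2⟩
  rw [disjoint_NP hP hN] at this
  exact Subgroup.mem_bot.mp this

theorem isComplement_NP {P N : Subgroup G} (hP : IsPGroup p P) [hNn : N.Normal]
    (hN : (Nat.card N).Coprime p) (hNP : N ⊔ P = ⊤) : N.IsComplement' P := by
  apply Subgroup.isComplement'_of_disjoint_and_mul_eq_univ
  · rw [disjoint_iff]; exact disjoint_NP hP hN
  · rw [← Subgroup.normal_mul, hNP]; rfl

theorem card_NP {P N : Subgroup G} (hP : IsPGroup p P) [hNn : N.Normal]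
    (hN : (Nat.card N).Coprime p) (hNP : N ⊔ P = ⊤) : Nat.card N * Nat.card P = Nat.card G :=
  (isComplement_NP hP hN hNP).card_mul_card

omit [Finite G] [Fact p.Prime] in
/-- every element is a product `n * π`. -/
theorem exists_mul {P N : Subgroup G} [hNn : N.Normal] (hNP : N ⊔ P = ⊤) (g : G) :
    ∃ n ∈ N, ∃ π ∈ P, g = n * π := by
  have : g ∈ ((N ⊔ P : Subgroup G) : Set G) := by rw [hNP]; trivial
  rw [Subgroup.normal_mul] at this
  obtain ⟨n, hn, π, hπ, rfl⟩ := Set.mem_mul.mp this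
  exact ⟨n, hn, π, hπ, rfl⟩

omit [Finite G] in
theorem not_dvd_of_coprime {n : ℕ} (hN : n.Coprime p) : ¬ p ∣ n := by
  have hpp : p.Prime := Fact.out
  intro h
  have := Nat.Coprime.eq_one_of_dvd hN.symm h
  exact hpp.one_lt.ne' this

omit [Finite G] [Fact p.Prime] in
theorem normal_of {P N : Subgroup G} [hNn : N.Normal] (hNP : N ⊔ P = ⊤) (K : Subgroup G)
    (h1 : ∀ n ∈ N, ∀ k ∈ K, n * k * n⁻¹ ∈ K) (h2 : ∀ g ∈ P, ∀ k ∈ K, g * k * g⁻¹ ∈ K) :
    K.Normal := by
  constructor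
  intro k hk g
  obtain ⟨n, hn, π, hπ, rfl⟩ := exists_mul hNP g
  have e : n * π * k * (n * π)⁻¹ = n * (π * k * π⁻¹) * n⁻¹ := by group
  rw [e]
  exact h1 n hn _ (h2 π hπ k hk)

omit [Finite G] [Fact p.Prime] in
theorem le_normalizer_of {P M : Subgroup G} (hMP : ∀ g ∈ P, ∀ m ∈ M, g * m * g⁻¹ ∈ M) :
    M ⊔ P ≤ Subgroup.normalizer (M : Set G) := by
  apply sup_le Subgroup.le_normalizer
  intro g hg
  rw [Subgroup.mem_normalizer_iff]
  intro m
  constructor
  · exact hMP g hg m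
  · intro hm
    have := hMP g⁻¹ (P.inv_mem hg) _ hm
    have e : g⁻¹ * (g * m * g⁻¹) * g⁻¹⁻¹ = m := by group
    rwa [e] at this

omit [Finite G] [Fact p.Prime] in
theorem mem_cen {N : Subgroup G} {c x : G} :
    x ∈ N ⊓ Subgroup.centralizer ({c} : Set G) ↔ x ∈ N ∧ c * x = x * c := by
  rw [Subgroup.mem_inf, Subgroup.mem_centralizer_iff]
  simp

omit [Finite G] [Fact p.Prime] in
theorem conj_comm {g h : G} (hgh : g * h = h * g) (x : G) :
    g * (h * x * h⁻¹) * g⁻¹ = h * (g * x * g⁻¹) * h⁻¹ := by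
  calc g * (h * x * h⁻¹) * g⁻¹ = (g * h) * x * (g * h)⁻¹ := by group
    _ = (h * g) * x * (h * g)⁻¹ := by rw [hgh]
    _ = _ := by group

/-- A `p`-group acting by conjugation on an invariant finite set of size prime to `p` has a fixed point. -/
theorem exists_fixed {P : Subgroup G} (hP : IsPGroup p P) (S : Set G)
    (hS : ∀ g ∈ P, ∀ y ∈ S, g * y * g⁻¹ ∈ S) (hcard : ¬ p ∣ Nat.card S) :
    ∃ y ∈ S, ∀ g ∈ P, g * y * g⁻¹ = y := by
  letI : MulAction P S :=
    { smul := fun g y => ⟨(g : G) * (y : G) * (g : G)⁻¹, hS g g.2 y y.2⟩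
      one_smul := fun y => Subtype.ext (by show ((1 : P) : G) * (y : G) * ((1 : P) : G)⁻¹ = y; simp)
      mul_smul := fun g h y => Subtype.ext (by
        show ((g * h : P) : G) * (y : G) * ((g * h : P) : G)⁻¹ = (g : G) * ((h : G) * (y : G) * (h : G)⁻¹) * (g : G)⁻¹
        simp only [Subgroup.coe_mul]; group) }
  obtain ⟨y, hy⟩ := hP.nonempty_fixed_point_of_prime_not_dvd_card S hcard
  refine ⟨y, y.2, fun g hg => ?_⟩
  have := hy ⟨g, hg⟩
  exact congrArg Subtype.val this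

theorem card_quot_lt (K : Subgroup G) (hK : K ≠ ⊥) : Nat.card (G ⧸ K) < Nat.card G := by
  have h1 := Subgroup.card_eq_card_quotient_mul_card_subgroup K
  have h2 : 1 < Nat.card K := (Subgroup.one_lt_card_iff_ne_bot K).mpr hK
  have h3 : 0 < Nat.card (G ⧸ K) := Nat.card_pos
  rw [h1]
  nlinarith

theorem card_sub_lt {P N : Subgroup G} (hP : IsPGroup p P) [hNn : N.Normal]
    (hN : (Nat.card N).Coprime p) (hNP : N ⊔ P = ⊤) (M : Subgroup G) (hMN : M ≤ N) (hne : M ≠ N)
    (hMP : ∀ g ∈ P, ∀ m ∈ M, g * m * g⁻¹ ∈ M) : Nat.card ↥(M ⊔ P) < Nat.card G := by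
  have hle : Nat.card ↥(M ⊔ P) ≤ Nat.card G := Subgroup.card_le_card_group _
  rcases hle.lt_or_eq with h | h
  · exact h
  · exfalso
    have htop : M ⊔ P = ⊤ := Subgroup.eq_top_of_card_eq _ h
    have hnorm := le_normalizer_of hMP
    haveI hMn : M.Normal := by
      rw [← Subgroup.normalizer_eq_top_iff]
      exact top_le_iff.mp (htop ▸ hnorm)
    have hcoM : (Nat.card M).Coprime p :=
      Nat.Coprime.coprime_dvd_left (Subgroup.card_dvd_of_le hMN) hN
    have e1 := card_NP hP hN hNP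
    have e2 := card_NP (N := M) hP hcoM htop
    have hPpos : 0 < Nat.card P := Nat.card_pos
    have : Nat.card M = Nat.card N := by
      have : Nat.card M * Nat.card P = Nat.card N * Nat.card P := by rw [e1, e2]
      exact Nat.eq_of_mul_eq_mul_right hPpos this
    exact hne (Subgroup.eq_of_le_of_card_ge hMN this.ge)

/-- the key consequence of the hypothesis: `N = C_N(d) C_N(c)`. -/
theorem star {P N : Subgroup G} {C D : Set G} (hP : IsPGroup p P) [hNn : N.Normal]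
    (hN : (Nat.card N).Coprime p) (hNP : N ⊔ P = ⊤)
    (hC : Subgroup.closure C = P) (hD : Subgroup.closure D = P)
    (h : ∀ x ∈ N, ∀ c ∈ C, ∀ d ∈ D, IsPGroup p (Subgroup.closure ({x * c * x⁻¹, d} : Set G)))
    (c : G) (hc : c ∈ C) (d : G) (hd : d ∈ D) (x : G) (hx : x ∈ N) :
    ∃ y ∈ N, y * d = d * y ∧ (y⁻¹ * x) * c = c * (y⁻¹ * x) := by
  have hidx : ¬ p ∣ P.index := by
    rw [(isComplement_NP hP hN hNP).index_eq_card]
    exact not_dvd_of_coprime hN
  let Psyl : Sylow p G := hP.toSylow hidx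
  obtain ⟨Q, hQ⟩ := (h x hx c hc d hd).exists_le_sylow
  obtain ⟨g, hg⟩ := MulAction.exists_smul_eq G Psyl Q
  obtain ⟨y, hy, π, hπ, rfl⟩ := exists_mul hNP g
  have hcP : c ∈ P := hC ▸ Subgroup.subset_closure hc
  have hdP : d ∈ P := hD ▸ Subgroup.subset_closure hd
  have hmem : ∀ w ∈ (Q : Subgroup G), y⁻¹ * w * y ∈ P := by
    intro w hw
    rw [← hg, Sylow.smul_def, Sylow.pointwise_smul_def, Subgroup.mem_pointwise_smul_iff_inv_smul_mem] at hw
    simp only [MulAut.smul_def, ← map_inv, MulAut.conj_apply, inv_inv] at hw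
    have hw' : (y * π)⁻¹ * w * (y * π) ∈ P := hw
    have e : y⁻¹ * w * y = π * ((y * π)⁻¹ * w * (y * π)) * π⁻¹ := by group
    rw [e]
    exact P.mul_mem (P.mul_mem hπ hw') (P.inv_mem hπ)
  have h1 := hmem d (hQ (Subgroup.subset_closure (by simp)))
  have h2 := hmem (x * c * x⁻¹) (hQ (Subgroup.subset_closure (by simp)))
  refine ⟨y, hy, ?_, ?_⟩
  · have e1 : y⁻¹ * d * y * d⁻¹ ∈ P := P.mul_mem h1 (P.inv_mem hdP)
    have e2 : y⁻¹ * d * y * d⁻¹ ∈ N := by
      have : y⁻¹ * d * y * d⁻¹ = y⁻¹ * (d * y * d⁻¹) := by group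
      rw [this]
      exact N.mul_mem (N.inv_mem hy) (hNn.conj_mem y hy d)
    have e3 := mem_inf_eq_one hP hN e2 e1
    calc y * d = y * (y⁻¹ * d * y * d⁻¹) * d := by rw [e3]; group
      _ = d * y := by group
  · set t := y⁻¹ * x with ht
    have htN : t ∈ N := N.mul_mem (N.inv_mem hy) hx
    have e0 : t * c * t⁻¹ = y⁻¹ * (x * c * x⁻¹) * y := by rw [ht]; group
    have e1 : t * c * t⁻¹ * c⁻¹ ∈ P := by
      rw [e0]; exact P.mul_mem h2 (P.inv_mem hcP)
    have e2 : t * c * t⁻¹ * c⁻¹ ∈ N := by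
      have : t * c * t⁻¹ * c⁻¹ = t * (c * t⁻¹ * c⁻¹) := by group
      rw [this]
      exact N.mul_mem htN (hNn.conj_mem _ (N.inv_mem htN) c)
    have e3 := mem_inf_eq_one hP hN e2 e1
    calc t * c = (t * c * t⁻¹ * c⁻¹) * c * t := by group
      _ = c * t := by rw [e3]; group

end basic

section steps

variable {G : Type u} [Group G] {p : ℕ}

theorem quot_step {P N : Subgroup G} {C D : Set G} (K : Subgroup G) [K.Normal] (hIH : Stmt p (G ⧸ K))
    (hP : IsPGroup p P) [hNn : N.Normal] (hN : (Nat.card N).Coprime p) (hNP : N ⊔ P = ⊤)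
    (hC : Subgroup.closure C = P) (hD : Subgroup.closure D = P)
    (h : ∀ x ∈ N, ∀ c ∈ C, ∀ d ∈ D, IsPGroup p (Subgroup.closure ({x * c * x⁻¹, d} : Set G))) :
    ∀ g ∈ P, ∀ x ∈ N, g * x * g⁻¹ * x⁻¹ ∈ K := by
  let π := QuotientGroup.mk' K
  have key := hIH (P.map π) (N.map π) (π '' C) (π '' D) (hP.map π)
    (Subgroup.Normal.map hNn π (QuotientGroup.mk'_surjective K))
    (Nat.Coprime.coprime_dvd_left (Subgroup.card_map_dvd N π) hN)
    (by rw [← Subgroup.map_sup, hNP, Subgroup.map_top_of_surjective π (QuotientGroup.mk'_surjective K)])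
    (by rw [← MonoidHom.map_closure, hC])
    (by rw [← MonoidHom.map_closure, hD])
    (by
      intro x' hx' c' hc' d' hd'
      obtain ⟨x, hx, rfl⟩ := Subgroup.mem_map.mp hx'
      obtain ⟨c, hc, rfl⟩ := hc'
      obtain ⟨d, hd, rfl⟩ := hd'
      have := (h x hx c hc d hd).map π
      rw [MonoidHom.map_closure, Set.image_pair, map_mul, map_mul, map_inv] at this
      exact this)
  intro g hg x hx
  have := key (π g) (Subgroup.mem_map_of_mem π hg) (π x) (Subgroup.mem_map_of_mem π hx)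
  rw [← QuotientGroup.eq_one_iff]
  have e : ((g * x * g⁻¹ * x⁻¹ : G) : G ⧸ K) = π g * π x * (π g)⁻¹ * (π x)⁻¹ := by
    simp [π]
  rw [e, this]
  group

theorem sub_step {P N : Subgroup G} {C D : Set G} (M : Subgroup G) (hIH : Stmt p ↥(M ⊔ P))
    (hP : IsPGroup p P) (hN : (Nat.card N).Coprime p)
    (hC : Subgroup.closure C = P) (hD : Subgroup.closure D = P)
    (h : ∀ x ∈ N, ∀ c ∈ C, ∀ d ∈ D, IsPGroup p (Subgroup.closure ({x * c * x⁻¹, d} : Set G)))
    (hMN : M ≤ N) (hMP : ∀ g ∈ P, ∀ m ∈ M, g * m * g⁻¹ ∈ M) :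
    ∀ g ∈ P, ∀ m ∈ M, g * m = m * g := by
  set L := M ⊔ P with hL
  have hML : M ≤ L := le_sup_left
  have hPL : P ≤ L := le_sup_right
  have hnorm : L ≤ Subgroup.normalizer (M : Set G) := by
    apply sup_le Subgroup.le_normalizer
    intro g hg
    rw [Subgroup.mem_normalizer_iff]
    intro m
    constructor
    · exact hMP g hg m
    · intro hm
      have := hMP g⁻¹ (P.inv_mem hg) _ hm
      have e : g⁻¹ * (g * m * g⁻¹) * g⁻¹⁻¹ = m := by group
      rwa [e] at this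
  have hCL : C ⊆ L := fun c hc => hPL (hC ▸ Subgroup.subset_closure hc)
  have hDL : D ⊆ L := fun d hd => hPL (hD ▸ Subgroup.subset_closure hd)
  have himg : ∀ S : Set G, S ⊆ L → Subgroup.closure (L.subtype ⁻¹' S) = (Subgroup.closure S).subgroupOf L := by
    intro S hS
    apply Subgroup.map_injective (Subgroup.subtype_injective L)
    rw [MonoidHom.map_closure, Subgroup.subgroupOf_map_subtype]
    have e1 : (L.subtype '' (L.subtype ⁻¹' S)) = S := by
      rw [Set.image_preimage_eq_inter_range]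
      apply Set.inter_eq_left.mpr
      intro s hs
      exact ⟨⟨s, hS hs⟩, rfl⟩
    rw [e1]
    exact (inf_of_le_left ((Subgroup.closure_le L).mpr hS)).symm
  have key := hIH (P.subgroupOf L) (M.subgroupOf L) (L.subtype ⁻¹' C) (L.subtype ⁻¹' D)
    hP.comap_subtype
    (Subgroup.normal_subgroupOf_of_le_normalizer hnorm)
    (by
      rw [Nat.card_congr (Subgroup.subgroupOfEquivOfLe hML).toEquiv]
      exact Nat.Coprime.coprime_dvd_left (Subgroup.card_dvd_of_le hMN) hN)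
    (by rw [← Subgroup.subgroupOf_sup hML hPL, Subgroup.subgroupOf_self])
    (by rw [himg C hCL, hC])
    (by rw [himg D hDL, hD])
    (by
      intro x' hx' c' hc' d' hd'
      have hx : (x' : G) ∈ N := hMN (Subgroup.mem_subgroupOf.mp hx')
      have := h (x' : G) hx (c' : G) hc' (d' : G) hd'
      have e : (Subgroup.closure ({x' * c' * x'⁻¹, d'} : Set L)).map L.subtype
          = Subgroup.closure ({(x' : G) * (c' : G) * (x' : G)⁻¹, (d' : G)} : Set G) := by
        rw [MonoidHom.map_closure, Set.image_pair]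
        simp
      rw [← e] at this
      exact this.of_equiv
        (Subgroup.equivMapOfInjective _ L.subtype (Subgroup.subtype_injective L)).symm)
  intro g hg m hm
  have := key ⟨g, hPL hg⟩ (Subgroup.mem_subgroupOf.mpr hg) ⟨m, hML hm⟩ (Subgroup.mem_subgroupOf.mpr hm)
  exact congrArg Subtype.val this

end steps

theorem indep_add {A : Type*} [AddCommGroup A] (c z : A →+ A) (hcz : ∀ x, c (z x) = z (c x))
    (hz : ∀ x, z x = x → x = 0) (hz2 : ∀ x, z (z x) = x → x = 0) (hzinj : ∀ x, z x = 0 → x = 0)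
    (x0 x1 x2 : A) (h0 : c x0 = x0) (h1 : c x1 = z x1) (h2 : c x2 = z (z x2))
    (hs : x0 + x1 + x2 = 0) : x0 = 0 ∧ x1 = 0 ∧ x2 = 0 := by
  have E2 : x0 + z x1 + z (z x2) = 0 := by
    have := congrArg c hs
    simpa [map_add, h0, h1, h2] using this
  have E3 : x0 + z (z x1) + z (z (z (z x2))) = 0 := by
    have := congrArg c E2
    simpa [map_add, h0, h1, h2, hcz] using this
  set u := z x1 - x1 with hu
  set v := z (z x2) - x2 with hv
  have huv : u + v = 0 := by
    have : u + v = (x0 + z x1 + z (z x2)) - (x0 + x1 + x2) := by rw [hu, hv]; abel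
    rw [this, E2, hs, sub_zero]
  have h3 : z u + u + z (z v) + v = 0 := by
    have : z u + u + z (z v) + v = (x0 + z (z x1) + z (z (z (z x2)))) - (x0 + x1 + x2) := by
      rw [hu, hv]
      simp only [map_sub]
      abel
    rw [this, E3, hs, sub_zero]
  have hv' : v = -u := by
    have : v = (u + v) - u := by abel
    rw [this, huv, zero_sub]
  have h4 : z (u - z u) = 0 := by
    have : z (u - z u) = z u + u + z (z v) + v := by
      rw [hv']
      simp only [map_sub, map_neg]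
      abel
    rw [this, h3]
  have h5 : z u = u := by
    have := hzinj _ h4
    exact (sub_eq_zero.mp this).symm
  have hu0 : u = 0 := hz u h5
  have hv0 : v = 0 := by rw [hv', hu0, neg_zero]
  have hx1 : x1 = 0 := hz x1 (sub_eq_zero.mp hu0)
  have hx2 : x2 = 0 := hz2 x2 (sub_eq_zero.mp hv0)
  refine ⟨?_, hx1, hx2⟩
  rw [hx1, hx2, add_zero, add_zero] at hs
  exact hs

theorem indep_mul {A : Type*} [Group A] (hcomm : ∀ a b : A, a * b = b * a) (c z : A →* A)
    (hcz : ∀ x, c (z x) = z (c x))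
    (hz : ∀ x, z x = x → x = 1) (hz2 : ∀ x, z (z x) = x → x = 1) (hzinj : ∀ x, z x = 1 → x = 1)
    (x0 x1 x2 : A) (h0 : c x0 = x0) (h1 : c x1 = z x1) (h2 : c x2 = z (z x2))
    (hs : x0 * x1 * x2 = 1) : x0 = 1 ∧ x1 = 1 ∧ x2 = 1 := by
  letI : CommGroup A := { (inferInstance : Group A) with mul_comm := hcomm }
  exact indep_add (A := Additive A) (MonoidHom.toAdditive c) (MonoidHom.toAdditive z)
    hcz hz hz2 hzinj x0 x1 x2 h0 h1 h2 hs

theorem comm_aux' {A : Type*} [CommGroup A] (x0 x1 x2 y0 y1 y2 : A)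
    (h : x0 * x1 * x2 = y0 * y1 * y2) : (y0⁻¹ * x0) * (y1⁻¹ * x1) * (y2⁻¹ * x2) = 1 := by
  have : (y0⁻¹ * x0) * (y1⁻¹ * x1) * (y2⁻¹ * x2) = (y0 * y1 * y2)⁻¹ * (x0 * x1 * x2) := by
    rw [mul_inv, mul_inv]; ac_rfl
  rw [this, h, inv_mul_cancel]

theorem comm_aux {A : Type*} [Group A] (hcomm : ∀ a b : A, a * b = b * a) (x0 x1 x2 y0 y1 y2 : A)
    (h : x0 * x1 * x2 = y0 * y1 * y2) : (y0⁻¹ * x0) * (y1⁻¹ * x1) * (y2⁻¹ * x2) = 1 := by
  letI : CommGroup A := { (inferInstance : Group A) with mul_comm := hcomm }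
  exact comm_aux' x0 x1 x2 y0 y1 y2 h

theorem cube_abstract {A : Type*} [Group A] [Finite A] (hcomm : ∀ a b : A, a * b = b * a)
    (c z a : A →* A) (hainj : ∀ x, a x = 1 → x = 1)
    (hcz : ∀ x, c (z x) = z (c x))
    (hz : ∀ x, z x = x → x = 1) (hz2 : ∀ x, z (z x) = x → x = 1) (hzinj : ∀ x, z x = 1 → x = 1)
    (hca : ∀ x, c (a x) = z (a (c x)))
    (hza : ∀ x, z (a x) = a (z x))
    (S : Subgroup A) (hS : ∀ x ∈ S, c x = x) :
    Nat.card S ^ 3 ≤ Nat.card A := by
  have key : ∀ u0 ∈ S, ∀ u1 ∈ S, ∀ u2 ∈ S, u0 * a u1 * a (a u2) = 1 →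
      u0 = 1 ∧ u1 = 1 ∧ u2 = 1 := by
    intro u0 h0 u1 h1 u2 h2 hs
    have := indep_mul hcomm c z hcz hz hz2 hzinj u0 (a u1) (a (a u2)) (hS u0 h0)
      (by rw [hca, hS u1 h1]) (by rw [hca, hca, hS u2 h2, ← hza]) hs
    exact ⟨this.1, hainj _ this.2.1, hainj _ (hainj _ this.2.2)⟩
  have hinj : Function.Injective
      (fun x : S × S × S => (x.1 : A) * a x.2.1 * a (a x.2.2)) := by
    rintro ⟨x0, x1, x2⟩ ⟨y0, y1, y2⟩ hxy
    simp only at hxy
    have e := comm_aux hcomm _ _ _ _ _ _ hxy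
    have e' : ((y0⁻¹ * x0 : S) : A) * a ((y1⁻¹ * x1 : S) : A) * a (a ((y2⁻¹ * x2 : S) : A)) = 1 := by
      simpa only [Subgroup.coe_mul, Subgroup.coe_inv, map_mul, map_inv] using e
    obtain ⟨e0, e1, e2⟩ := key _ (y0⁻¹ * x0).2 _ (y1⁻¹ * x1).2 _ (y2⁻¹ * x2).2 e'
    have f0 : y0⁻¹ * x0 = 1 := Subtype.ext e0
    have f1 : y1⁻¹ * x1 = 1 := Subtype.ext e1
    have f2 : y2⁻¹ * x2 = 1 := Subtype.ext e2
    rw [inv_mul_eq_one] at f0 f1 f2
    rw [f0, f1, f2]
  have := Nat.card_le_card_of_injective _ hinj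
  rw [Nat.card_prod, Nat.card_prod] at this
  calc Nat.card S ^ 3 = Nat.card S * (Nat.card S * Nat.card S) := by ring
    _ ≤ _ := this

theorem exists_second_center {G : Type u} [Group G] [Finite G] {p : ℕ} [Fact p.Prime]
    {P : Subgroup G} (hP : IsPGroup p P) (hPab : ¬ ∀ a ∈ P, ∀ b ∈ P, a * b = b * a) :
    ∃ a ∈ P, (¬ ∀ g ∈ P, g * a = a * g) ∧
      ∀ g ∈ P, ∀ h ∈ P, h * (g * a * g⁻¹ * a⁻¹) = (g * a * g⁻¹ * a⁻¹) * h := by
  have hQp : IsPGroup p (↥P ⧸ Subgroup.center ↥P) := hP.to_quotient _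
  haveI : Nontrivial (↥P ⧸ Subgroup.center ↥P) := by
    by_contra hno
    rw [not_nontrivial_iff_subsingleton] at hno
    apply hPab
    intro a ha b hb
    have hmem : (⟨a, ha⟩ : ↥P) ∈ Subgroup.center ↥P := by
      rw [← QuotientGroup.eq_one_iff]; exact Subsingleton.elim _ _
    have := Subgroup.mem_center_iff.mp hmem ⟨b, hb⟩
    exact (congrArg Subtype.val this).symm
  haveI := hQp.center_nontrivial
  obtain ⟨⟨abar, habar⟩, hne⟩ := exists_ne (1 : Subgroup.center (↥P ⧸ Subgroup.center ↥P))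
  obtain ⟨a, rfl⟩ := QuotientGroup.mk_surjective abar
  refine ⟨a.1, a.2, ?_, ?_⟩
  · intro hall
    apply hne
    apply Subtype.ext
    show (a : ↥P ⧸ Subgroup.center ↥P) = 1
    rw [QuotientGroup.eq_one_iff, Subgroup.mem_center_iff]
    intro g
    exact Subtype.ext (hall g.1 g.2)
  · intro g hg h hh
    have hmem : (⟨g, hg⟩ * a * ⟨g, hg⟩⁻¹ * a⁻¹ : ↥P) ∈ Subgroup.center ↥P := by
      rw [← QuotientGroup.eq_one_iff]
      simp only [QuotientGroup.mk_mul, QuotientGroup.mk_inv]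
      have := Subgroup.mem_center_iff.mp habar ((⟨g, hg⟩ : ↥P) : ↥P ⧸ Subgroup.center ↥P)
      rw [this]; group
    have := Subgroup.mem_center_iff.mp hmem ⟨h, hh⟩
    exact congrArg Subtype.val this

/-- A minimal counterexample. -/
structure MinCE (p : ℕ) (G : Type u) [Group G] (P N : Subgroup G) (C D : Set G) : Prop where
  hP : IsPGroup p P
  hNn : N.Normal
  hN : (Nat.card N).Coprime p
  hNP : N ⊔ P = ⊤
  hC : Subgroup.closure C = P
  hD : Subgroup.closure D = P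
  h : ∀ x ∈ N, ∀ c ∈ C, ∀ d ∈ D, IsPGroup p (Subgroup.closure ({x * c * x⁻¹, d} : Set G))
  IH : ∀ (H : Type u) [Group H] [Finite H], Nat.card H < Nat.card G → Stmt p H
  hbad : ¬ ∀ g ∈ P, ∀ x ∈ N, g * x = x * g

section mince

variable {G : Type u} [Group G] [Finite G] {p : ℕ} [Fact p.Prime] {P N : Subgroup G} {C D : Set G}

theorem MinCE.sub (H : MinCE p G P N C D) (M : Subgroup G) (hMN : M ≤ N) (hne : M ≠ N)
    (hMP : ∀ g ∈ P, ∀ m ∈ M, g * m * g⁻¹ ∈ M) : ∀ g ∈ P, ∀ m ∈ M, g * m = m * g := by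
  haveI := H.hNn
  exact sub_step M (H.IH _ (card_sub_lt H.hP H.hN H.hNP M hMN hne hMP)) H.hP H.hN H.hC H.hD H.h
    hMN hMP

theorem MinCE.quot (H : MinCE p G P N C D) (K : Subgroup G) [K.Normal] (hK : K ≠ ⊥) :
    ∀ g ∈ P, ∀ x ∈ N, g * x * g⁻¹ * x⁻¹ ∈ K := by
  haveI := H.hNn
  exact quot_step K (H.IH _ (card_quot_lt K hK)) H.hP H.hN H.hNP H.hC H.hD H.h

theorem MinCE.faithful (H : MinCE p G P N C D) (z : G) (hz : z ∈ P)
    (hzN : ∀ x ∈ N, z * x = x * z) : z = 1 := by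
  haveI := H.hNn
  by_contra hz1
  have hKn : (P ⊓ Subgroup.centralizer (N : Set G)).Normal := by
    apply normal_of H.hNP
    · intro n hn k hk
      have : n * k = k * n := Subgroup.mem_centralizer_iff.mp hk.2 n hn
      rw [this, mul_inv_cancel_right]
      exact hk
    · intro g hg k hk
      exact ⟨P.mul_mem (P.mul_mem hg hk.1) (P.inv_mem hg),
        (Subgroup.normal_centralizer (H := N)).conj_mem k hk.2 g⟩
  have hKne : P ⊓ Subgroup.centralizer (N : Set G) ≠ ⊥ := by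
    intro hbot
    have : z ∈ P ⊓ Subgroup.centralizer (N : Set G) :=
      ⟨hz, Subgroup.mem_centralizer_iff.mpr (fun x hx => (hzN x hx).symm)⟩
    rw [hbot] at this
    exact hz1 (Subgroup.mem_bot.mp this)
  have key := H.quot _ hKne
  apply H.hbad
  intro g hg x hx
  have h1 := key g hg x hx
  have h2 : g * x * g⁻¹ * x⁻¹ ∈ N := N.mul_mem (H.hNn.conj_mem x hx g) (N.inv_mem hx)
  have h3 := mem_inf_eq_one H.hP H.hN h2 h1.1
  calc g * x = (g * x * g⁻¹ * x⁻¹) * x * g := by group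
    _ = x * g := by rw [h3]; group

theorem MinCE.minimal (H : MinCE p G P N C D) (K : Subgroup G) [hKn : K.Normal] (hKN : K ≤ N) :
    K = ⊥ ∨ K = N := by
  haveI := H.hNn
  by_contra hcon
  push Not at hcon
  obtain ⟨hK1, hK2⟩ := hcon
  have hcen : ∀ g ∈ P, ∀ k ∈ K, g * k = k * g :=
    H.sub K hKN hK2 (fun g _ k hk => hKn.conj_mem k hk g)
  have key := H.quot K hK1
  apply H.hbad
  intro g hg x hx
  have hcardS : Nat.card {y | x⁻¹ * y ∈ K} = Nat.card K := by
    apply Nat.card_congr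
    exact { toFun := fun y => ⟨x⁻¹ * y.1, y.2⟩
            invFun := fun k => ⟨x * k.1, by simp⟩
            left_inv := fun y => by ext; simp
            right_inv := fun k => by ext; simp }
  have hcard : ¬ p ∣ Nat.card {y | x⁻¹ * y ∈ K} := by
    rw [hcardS]
    exact not_dvd_of_coprime (Nat.Coprime.coprime_dvd_left (Subgroup.card_dvd_of_le hKN) H.hN)
  have hinv : ∀ g ∈ P, ∀ y ∈ {y | x⁻¹ * y ∈ K}, g * y * g⁻¹ ∈ {y | x⁻¹ * y ∈ K} := by
    intro g hg y hy
    have e : x⁻¹ * (g * y * g⁻¹) = (x⁻¹ * (g * x * g⁻¹ * x⁻¹) * x⁻¹⁻¹) * (g * (x⁻¹ * y) * g⁻¹) := by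
      group
    show x⁻¹ * (g * y * g⁻¹) ∈ K
    rw [e]
    exact K.mul_mem (hKn.conj_mem _ (key g hg x hx) _) (hKn.conj_mem _ hy g)
  obtain ⟨y, hy, hfix⟩ := exists_fixed H.hP {y | x⁻¹ * y ∈ K} hinv hcard
  have hk : y⁻¹ * x ∈ K := by
    have := K.inv_mem hy
    simpa using this
  have e1 : g * y = y * g := by
    have := hfix g hg
    calc g * y = (g * y * g⁻¹) * g := by group
      _ = y * g := by rw [this]
  have e2 := hcen g hg _ hk
  calc g * x = g * y * (y⁻¹ * x) := by group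
    _ = y * g * (y⁻¹ * x) := by rw [e1]
    _ = y * (g * (y⁻¹ * x)) := by group
    _ = y * ((y⁻¹ * x) * g) := by rw [e2]
    _ = x * g := by group

theorem MinCE.exists_sylow (H : MinCE p G P N C D) (q : ℕ) [Fact q.Prime] :
    ∃ Q : Subgroup G, Q ≤ N ∧ IsPGroup q Q ∧ Nat.card Q = q ^ (Nat.card N).factorization q ∧
      ∀ g ∈ P, ∀ m ∈ Q, g * m * g⁻¹ ∈ Q := by
  haveI := H.hNn
  letI : MulDistribMulAction ↥P ↥N :=
    MulDistribMulAction.compHom ↥N ((MulAut.conjNormal (H := N)).comp P.subtype)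
  have hcard : ¬ p ∣ Nat.card (Sylow q ↥N) := by
    intro hdvd
    have S : Sylow q ↥N := default
    have h1 : Nat.card (Sylow q ↥N) ∣ Nat.card ↥N :=
      (Sylow.card_dvd_index S).trans (Subgroup.index_dvd_card _)
    exact not_dvd_of_coprime H.hN (hdvd.trans h1)
  obtain ⟨Q, hQ⟩ := H.hP.nonempty_fixed_point_of_prime_not_dvd_card (Sylow q ↥N) hcard
  refine ⟨(Q : Subgroup ↥N).map N.subtype, Subgroup.map_subtype_le _, Q.isPGroup'.map N.subtype,
    ?_, ?_⟩
  · rw [Subgroup.card_map_of_injective (Subgroup.subtype_injective N), Sylow.card_eq_multiplicity]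
  · intro g hg m hm
    obtain ⟨m0, hm0, rfl⟩ := Subgroup.mem_map.mp hm
    have hfix : (⟨g, hg⟩ : ↥P) • Q = Q := hQ ⟨g, hg⟩
    have hmem : (⟨g, hg⟩ : ↥P) • m0 ∈ (((⟨g, hg⟩ : ↥P) • Q : Sylow q ↥N) : Subgroup ↥N) := by
      rw [Sylow.pointwise_smul_def]
      exact Subgroup.smul_mem_pointwise_smul m0 _ _ hm0
    rw [hfix] at hmem
    exact ⟨_, hmem, rfl⟩

theorem MinCE.abelian (H : MinCE p G P N C D) : ∀ a ∈ N, ∀ b ∈ N, a * b = b * a := by
  haveI := H.hNn
  have hq : ∃ q : ℕ, q.Prime ∧ IsPGroup q N := by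
    by_contra hno
    push Not at hno
    apply H.hbad
    have hdvd : Nat.card N ∣ Nat.card ↥(N ⊓ Subgroup.centralizer (P : Set G)) := by
      rw [← Nat.factorization_prime_le_iff_dvd Nat.card_pos.ne' Nat.card_pos.ne']
      intro q hqp
      haveI : Fact q.Prime := ⟨hqp⟩
      obtain ⟨Q, hQN, hQp, hQc, hQinv⟩ := H.exists_sylow q
      have hQne : Q ≠ N := fun e => hno q hqp (e ▸ hQp)
      have hcen := H.sub Q hQN hQne hQinv
      have hQle : Q ≤ N ⊓ Subgroup.centralizer (P : Set G) := fun m hm =>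
        ⟨hQN hm, Subgroup.mem_centralizer_iff.mpr (fun g hg => hcen g hg m hm)⟩
      have := Subgroup.card_dvd_of_le hQle
      rw [hQc] at this
      exact (Nat.Prime.pow_dvd_iff_le_factorization hqp Nat.card_pos.ne').mp this
    have hCenN : N ⊓ Subgroup.centralizer (P : Set G) = N :=
      Subgroup.eq_of_le_of_card_ge inf_le_left (Nat.le_of_dvd Nat.card_pos hdvd)
    intro g hg x hx
    have : x ∈ N ⊓ Subgroup.centralizer (P : Set G) := by rw [hCenN]; exact hx
    exact Subgroup.mem_centralizer_iff.mp this.2 g hg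
  obtain ⟨q, hqp, hqN⟩ := hq
  haveI : Fact q.Prime := ⟨hqp⟩
  haveI hNnontriv : Nontrivial ↥N := by
    by_contra hno
    rw [not_nontrivial_iff_subsingleton] at hno
    apply H.hbad
    intro g hg x hx
    have : (⟨x, hx⟩ : ↥N) = 1 := Subsingleton.elim _ _
    have hx1 : x = 1 := congrArg Subtype.val this
    rw [hx1]; simp
  have hZ := hqN.center_nontrivial
  haveI hZn : ((Subgroup.center ↥N).map N.subtype).Normal :=
    ConjAct.normal_of_characteristic_of_normal
  rcases H.minimal ((Subgroup.center ↥N).map N.subtype) (Subgroup.map_subtype_le _) with h0 | h1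
  · exfalso
    rw [Subgroup.map_eq_bot_iff_of_injective _ (Subgroup.subtype_injective N)] at h0
    exact (Subgroup.nontrivial_iff_ne_bot _).mp hZ h0
  · intro a ha b hb
    have : a ∈ (Subgroup.center ↥N).map N.subtype := by rw [h1]; exact ha
    obtain ⟨a0, ha0, rfl⟩ := Subgroup.mem_map.mp this
    have := Subgroup.mem_center_iff.mp ha0 ⟨b, hb⟩
    exact (congrArg Subtype.val this).symm

theorem MinCE.irred (H : MinCE p G P N C D) (M : Subgroup G) (hMN : M ≤ N)
    (hMP : ∀ g ∈ P, ∀ m ∈ M, g * m * g⁻¹ ∈ M) : M = ⊥ ∨ M = N := by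
  haveI := H.hNn
  haveI : M.Normal := normal_of H.hNP M (fun n hn m hm => by
    have := H.abelian n hn m (hMN hm)
    rw [this, mul_inv_cancel_right]
    exact hm) hMP
  exact H.minimal M hMN

theorem MinCE.central_fixed (H : MinCE p G P N C D) (z : G) (hz : z ∈ P) (hz1 : z ≠ 1)
    (hzc : ∀ g ∈ P, g * z = z * g) : ∀ x ∈ N, z * x = x * z → x = 1 := by
  haveI := H.hNn
  have hMP : ∀ g ∈ P, ∀ m ∈ N ⊓ Subgroup.centralizer ({z} : Set G),
      g * m * g⁻¹ ∈ N ⊓ Subgroup.centralizer ({z} : Set G) := by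
    intro g hg m hm
    rw [mem_cen] at hm ⊢
    refine ⟨H.hNn.conj_mem m hm.1 g, ?_⟩
    have h1 : z * m = m * z := hm.2
    have h2 := hzc g hg
    have h3 : g⁻¹ * z = z * g⁻¹ := hzc g⁻¹ (P.inv_mem hg)
    calc z * (g * m * g⁻¹) = (z * g) * m * g⁻¹ := by group
      _ = g * (z * m) * g⁻¹ := by rw [← h2]; group
      _ = g * m * (z * g⁻¹) := by rw [h1]; group
      _ = g * m * g⁻¹ * z := by rw [← h3]; group
  rcases H.irred _ inf_le_left hMP with h0 | h1
  · intro x hx hzx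
    have : x ∈ N ⊓ Subgroup.centralizer ({z} : Set G) := mem_cen.mpr ⟨hx, hzx⟩
    rw [h0] at this
    exact Subgroup.mem_bot.mp this
  · exfalso
    apply hz1
    apply H.faithful z hz
    intro x hx
    have : x ∈ N ⊓ Subgroup.centralizer ({z} : Set G) := by rw [h1]; exact hx
    exact (mem_cen.mp this).2

theorem MinCE.card_le (H : MinCE p G P N C D) (c : G) (hc : c ∈ C) (d : G) (hd : d ∈ D) :
    Nat.card N ≤ Nat.card ↥(N ⊓ Subgroup.centralizer ({d} : Set G)) *
      Nat.card ↥(N ⊓ Subgroup.centralizer ({c} : Set G)) := by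
  haveI := H.hNn
  rw [← Nat.card_prod]
  apply Nat.card_le_card_of_surjective
    (fun yt : ↥(N ⊓ Subgroup.centralizer ({d} : Set G)) × ↥(N ⊓ Subgroup.centralizer ({c} : Set G)) =>
      (⟨yt.1.1 * yt.2.1, N.mul_mem yt.1.2.1 yt.2.2.1⟩ : ↥N))
  rintro ⟨x, hx⟩
  obtain ⟨y, hy, hyd, hyc⟩ := star H.hP H.hN H.hNP H.hC H.hD H.h c hc d hd x hx
  refine ⟨(⟨y, mem_cen.mpr ⟨hy, hyd.symm⟩⟩,
    ⟨y⁻¹ * x, mem_cen.mpr ⟨N.mul_mem (N.inv_mem hy) hx, hyc.symm⟩⟩), ?_⟩
  apply Subtype.ext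
  simp

theorem MinCE.cube (H : MinCE p G P N C D) (hp3 : 3 ≤ p) (c a : G) (hc : c ∈ P) (ha : a ∈ P)
    (hz1 : c * a * c⁻¹ * a⁻¹ ≠ 1)
    (hzc : ∀ g ∈ P, g * (c * a * c⁻¹ * a⁻¹) = (c * a * c⁻¹ * a⁻¹) * g) :
    Nat.card ↥(N ⊓ Subgroup.centralizer ({c} : Set G)) ^ 3 ≤ Nat.card N := by
  haveI := H.hNn
  have hca : ∀ x : G, c * (a * x * a⁻¹) * c⁻¹ =
      (c * a * c⁻¹ * a⁻¹) * (a * (c * x * c⁻¹) * a⁻¹) * (c * a * c⁻¹ * a⁻¹)⁻¹ := fun x => by group
  have hzP : c * a * c⁻¹ * a⁻¹ ∈ P :=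
    P.mul_mem (P.mul_mem (P.mul_mem hc ha) (P.inv_mem hc)) (P.inv_mem ha)
  generalize c * a * c⁻¹ * a⁻¹ = z at hz1 hzc hca hzP
  have hpp : p.Prime := Fact.out
  have hzz1 : z * z ≠ 1 := by
    intro hzz
    obtain ⟨k, hk⟩ := H.hP ⟨z, hzP⟩
    have hk' : z ^ p ^ k = 1 := by
      have := congrArg Subtype.val hk
      simpa using this
    have h2 : z ^ 2 = 1 := by rw [pow_two]; exact hzz
    have hg := pow_gcd_eq_one.mpr ⟨hk', h2⟩
    have hcop : Nat.gcd (p ^ k) 2 = 1 := by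
      apply Nat.Coprime.pow_left
      exact (Nat.coprime_primes hpp Nat.prime_two).mpr (by omega)
    rw [hcop, pow_one] at hg
    exact hz1 hg
  have hzzc : ∀ g ∈ P, g * (z * z) = (z * z) * g := by
    intro g hg
    have := hzc g hg
    calc g * (z * z) = (g * z) * z := by group
      _ = (z * g) * z := by rw [this]
      _ = z * (g * z) := by group
      _ = z * (z * g) := by rw [this]
      _ = z * z * g := by group
  have hfix1 := H.central_fixed z hzP hz1 hzc
  have hfix2 := H.central_fixed (z * z) (P.mul_mem hzP hzP) hzz1 hzzc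
  have hab := H.abelian
  have key := cube_abstract (A := ↥N) (fun x y => Subtype.ext (hab _ x.2 _ y.2))
    (MulAut.conjNormal c : MulAut ↥N).toMonoidHom (MulAut.conjNormal z : MulAut ↥N).toMonoidHom
    (MulAut.conjNormal a : MulAut ↥N).toMonoidHom
    (fun x hx => by
      have : (MulAut.conjNormal a : MulAut ↥N) x = (MulAut.conjNormal a : MulAut ↥N) 1 := by
        rw [map_one]; exact hx
      exact (MulAut.conjNormal a : MulAut ↥N).injective this)
    (fun x => Subtype.ext (by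
      show c * (z * x * z⁻¹) * c⁻¹ = z * (c * x * c⁻¹) * z⁻¹
      exact conj_comm (hzc c hc) _))
    (fun x hx => Subtype.ext (by
      have h1 : z * (x : G) * z⁻¹ = x := congrArg Subtype.val hx
      apply hfix1 x x.2
      calc z * (x : G) = (z * x * z⁻¹) * z := by group
        _ = x * z := by rw [h1]))
    (fun x hx => Subtype.ext (by
      have h1 : z * (z * (x : G) * z⁻¹) * z⁻¹ = x := congrArg Subtype.val hx
      apply hfix2 x x.2
      calc z * z * (x : G) = (z * (z * x * z⁻¹) * z⁻¹) * (z * z) := by group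
        _ = x * (z * z) := by rw [h1]))
    (fun x hx => by
      have : (MulAut.conjNormal z : MulAut ↥N) x = (MulAut.conjNormal z : MulAut ↥N) 1 := by
        rw [map_one]; exact hx
      exact (MulAut.conjNormal z : MulAut ↥N).injective this)
    (fun x => Subtype.ext (by
      show c * (a * x * a⁻¹) * c⁻¹ = z * (a * (c * x * c⁻¹) * a⁻¹) * z⁻¹
      exact hca x))
    (fun x => Subtype.ext (by
      show z * (a * x * a⁻¹) * z⁻¹ = a * (z * x * z⁻¹) * a⁻¹
      exact conj_comm (hzc a ha).symm _))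
    ((N ⊓ Subgroup.centralizer ({c} : Set G)).subgroupOf N)
    (fun x hx => Subtype.ext (by
      have := (mem_cen.mp (Subgroup.mem_subgroupOf.mp hx)).2
      show c * (x : G) * c⁻¹ = x
      rw [this, mul_inv_cancel_right]))
  rw [Nat.card_congr (Subgroup.subgroupOfEquivOfLe inf_le_left).toEquiv] at key
  exact key

theorem MinCE.exists_cube (H : MinCE p G P N C D) (hp3 : 3 ≤ p) (C' : Set G)
    (hC' : Subgroup.closure C' = P) :
    ∃ c ∈ C', Nat.card ↥(N ⊓ Subgroup.centralizer ({c} : Set G)) ^ 3 ≤ Nat.card N := by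
  by_cases hPab : ∀ a ∈ P, ∀ b ∈ P, a * b = b * a
  · have hex : ∃ c ∈ C', c ≠ 1 := by
      by_contra hno
      push Not at hno
      apply H.hbad
      have hPbot : P = ⊥ := by
        rw [← hC', Subgroup.closure_eq_bot_iff]
        exact fun c hc => hno c hc
      intro g hg x hx
      rw [hPbot] at hg
      rw [Subgroup.mem_bot.mp hg]; simp
    obtain ⟨c, hc, hc1⟩ := hex
    refine ⟨c, hc, ?_⟩
    have hcP : c ∈ P := hC' ▸ Subgroup.subset_closure hc
    have hfix := H.central_fixed c hcP hc1 (fun g hg => hPab g hg c hcP)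
    have hbot : N ⊓ Subgroup.centralizer ({c} : Set G) = ⊥ := by
      rw [eq_bot_iff]
      intro x hx
      rw [mem_cen] at hx
      exact Subgroup.mem_bot.mpr (hfix x hx.1 hx.2)
    rw [hbot]
    simp only [Subgroup.card_bot, one_pow]
    exact Nat.card_pos
  · obtain ⟨a, haP, hanc, hacomm⟩ := exists_second_center H.hP hPab
    have hex : ∃ c ∈ C', c * a ≠ a * c := by
      by_contra hno
      push Not at hno
      apply hanc
      have hle : P ≤ Subgroup.centralizer ({a} : Set G) := by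
        rw [← hC', Subgroup.closure_le]
        intro c hc
        have : c ∈ (⊤ : Subgroup G) ⊓ Subgroup.centralizer ({a} : Set G) :=
          mem_cen.mpr ⟨Subgroup.mem_top c, (hno c hc).symm⟩
        exact this.2
      intro g hg
      have : g ∈ (⊤ : Subgroup G) ⊓ Subgroup.centralizer ({a} : Set G) :=
        ⟨Subgroup.mem_top g, hle hg⟩
      exact (mem_cen.mp this).2.symm
    obtain ⟨c, hc, hca⟩ := hex
    have hcP : c ∈ P := hC' ▸ Subgroup.subset_closure hc
    refine ⟨c, hc, H.cube hp3 c a hcP haP ?_ (fun g hg => hacomm c hcP g hg)⟩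
    intro h1
    apply hca
    calc c * a = (c * a * c⁻¹ * a⁻¹) * a * c := by group
      _ = a * c := by rw [h1]; group

theorem MinCE.false (H : MinCE p G P N C D) (hp3 : 3 ≤ p) : False := by
  obtain ⟨c, hc, hc3⟩ := H.exists_cube hp3 C H.hC
  obtain ⟨d, hd, hd3⟩ := H.exists_cube hp3 D H.hD
  have hle := H.card_le c hc d hd
  have hNpos : 0 < Nat.card N := Nat.card_pos
  have hN1 : Nat.card N ≤ 1 := by
    by_contra hgt
    push Not at hgt
    have h1 : Nat.card N ^ 3 ≤ (Nat.card ↥(N ⊓ Subgroup.centralizer ({d} : Set G)) *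
      Nat.card ↥(N ⊓ Subgroup.centralizer ({c} : Set G))) ^ 3 := Nat.pow_le_pow_left hle 3
    have h2 : (Nat.card ↥(N ⊓ Subgroup.centralizer ({d} : Set G)) *
      Nat.card ↥(N ⊓ Subgroup.centralizer ({c} : Set G))) ^ 3 ≤ Nat.card N * Nat.card N := by
      rw [mul_pow]
      exact Nat.mul_le_mul hd3 hc3
    have h3 : Nat.card N ^ 3 = Nat.card N * Nat.card N * Nat.card N := by ring
    have h4 : Nat.card N * Nat.card N * 2 ≤ Nat.card N * Nat.card N * Nat.card N :=
      Nat.mul_le_mul_left _ hgt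
    have h5 : 0 < Nat.card N * Nat.card N := Nat.mul_pos hNpos hNpos
    omega
  apply H.hbad
  intro g hg x hx
  have hNbot : N = ⊥ := (Subgroup.card_le_one_iff_eq_bot N).mp hN1
  rw [hNbot] at hx
  rw [Subgroup.mem_bot.mp hx]; simp

end mince

theorem main (p : ℕ) [Fact p.Prime] (hp3 : 3 ≤ p) :
    ∀ (n : ℕ) (G : Type u) [Group G] [Finite G], Nat.card G = n → Stmt p G := by
  intro n
  induction n using Nat.strong_induction_on with
  | _ n ih =>
    intro G _ _ hn P N C D hP hNn hN hNP hC hD h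
    by_contra hbad
    exact MinCE.false ⟨hP, hNn, hN, hNP, hC, hD, h,
      fun H _ _ hlt => ih (Nat.card H) (hn ▸ hlt) H rfl, hbad⟩ hp3

theorem result {G : Type*} [Group G] [Finite G] (p : ℕ) [Fact p.Prime] (hp3 : 3 ≤ p) (P : Sylow p G)
    (N : Subgroup G) [N.Normal] (hN : (Nat.card N).Coprime p) (hNP : N ⊔ (P : Subgroup G) = ⊤)
    (C D : Set G) (hC : Subgroup.closure C = (P : Subgroup G)) (hD : Subgroup.closure D = (P : Subgroup G))
    (h : ∀ x ∈ N, ∀ c ∈ C, ∀ d ∈ D, IsPGroup p ↥(Subgroup.closure ({x * c * x⁻¹, d} : Set G))) :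
    ⁅(P : Subgroup G), N⁆ = ⊥ := by
  have key := main p hp3 (Nat.card G) G rfl (P : Subgroup G) N C D P.isPGroup' inferInstance hN hNP
    hC hD h
  rw [Subgroup.commutator_eq_bot_iff_le_centralizer]
  intro g hg
  rw [Subgroup.mem_centralizer_iff]
  intro x hx
  exact (key g hg x hx).symm

end Cfsg.Agent.S2277
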