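import Cfsg.Statements.S2337
import Cfsg.Agent.Helper60.SzRep
import Cfsg.Agent.Helper60.SzBridge
import Cfsg.Agent.Helper6.Suzuki6

set_option autoImplicit false
open Cfsg

namespace Cfsg.Agent.S2337

open Cfsg.Agent.Helper6 Cfsg.Agent.Helper60 in
/-- For the Suzuki group Sz(q), q = 2^(2m+1) with m ≥ 1 (realised inside Sp₄ over the field with q elements), every irreducible complex representation of degree at least 2 has degree at least 2^m·(q − 1). -/
theorem result {F : Type*} [Field F] [Fintype F] (m : ℕ) (hm : 1 ≤ m) (hF : Fintype.card F = 2 ^ (2 * m + 1)) :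
    (∀ (k : ℕ) (ρ : Representation ℂ (Cfsg.Lie.Sz F (2 ^ (m + 1))) (Fin k → ℂ)), ρ.IsIrreducible → 2 ≤ k → 2 ^ m * (2 ^ (2 * m + 1) - 1) ≤ k) := by
  intro k ρ hirr hk
  have hcp := sz_charP hF
  let ρ' : ↥(Cfsg.Sz F m) →* ((Fin k → ℂ) →ₗ[ℂ] (Fin k → ℂ)) :=
    ρ.comp (szBridge hm hF).symm.toMonoidHom
  have hρ' : ∀ g, ρ' (szBridge hm hF g) = ρ g := by
    intro g
    show ρ ((szBridge hm hF).symm (szBridge hm hF g)) = ρ g
    rw [MulEquiv.symm_apply_apply]
  have hne : ρ' (tG hF 0 1) ≠ 1 := by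
    intro h
    have hsimple := sz_simple hm hF
    have hker : ρ'.ker = ⊤ := by
      rcases (MonoidHom.normal_ker ρ').eq_bot_or_eq_top with hb | ht
      · exfalso
        have hmem : tG hF 0 1 ∈ ρ'.ker := h
        rw [hb, Subgroup.mem_bot] at hmem
        exact one_ne_zero ((tG_eq_one_iff hF).1 hmem).2
      · exact ht
    have htriv : ∀ g, ρ g = 1 := by
      intro g
      have h3 : szBridge hm hF g ∈ ρ'.ker := by rw [hker]; exact Subgroup.mem_top _
      rw [← hρ']
      exact h3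
    let σ : Subrepresentation ρ :=
      ⟨Submodule.span ℂ {Pi.single (⟨0, by omega⟩ : Fin k) (1 : ℂ)}, by
        intro g v hv
        rw [htriv g]
        exact hv⟩
    rcases hirr.eq_bot_or_eq_top σ with hb | ht
    · have h3 : Pi.single (⟨0, by omega⟩ : Fin k) (1 : ℂ) ∈ σ.toSubmodule :=
        Submodule.subset_span rfl
      rw [hb] at h3
      have h4 : Pi.single (⟨0, by omega⟩ : Fin k) (1 : ℂ) = 0 :=
        (Submodule.mem_bot ℂ).1 (show _ ∈ (⊥ : Submodule ℂ (Fin k → ℂ)) from h3)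
      have h5 := congrFun h4 ⟨0, by omega⟩
      simp at h5
    · have h3 : Pi.single (⟨1, by omega⟩ : Fin k) (1 : ℂ) ∈ σ.toSubmodule := by
        rw [ht]
        exact Submodule.mem_top
      obtain ⟨c, hc⟩ := Submodule.mem_span_singleton.1 h3
      have h5 := congrFun hc ⟨1, by omega⟩
      simp at h5
  have h6 := sz_rep_bound hm hF ρ' hne
  rwa [Module.finrank_fin_fun] at h6

end Cfsg.Agent.S2337
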