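import Cfsg.Statements.S2468
import Mathlib
import Cfsg.Agent.Helper42.PGraphL2

set_option autoImplicit false
open Cfsg

namespace Cfsg.Agent.S2468

/-- Adjacency of two odd primes in the prime graph of PSL(n,q): let F be a finite field of characteristic p with q elements, n ≥ 2 with PSL(n,F) simple, and let r ≠ s be odd primes different from p dividing the order of PSL(n,F). Let k and l be the multiplicative orders of q modulo r and modulo s, and suppose 2 ≤ k ≤ l. Then PSL(n,F) has NO element of order r·s if and only if k + l > n and k does not divide l. -/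
theorem result {F : Type*} [Field F] [Fintype F] (p : ℕ) [Fact p.Prime] [CharP F p] (n : ℕ) (hn : 2 ≤ n) (hsmall : n = 2 → 4 ≤ Fintype.card F)
    (r s : ℕ) (hr : r.Prime) (hs : s.Prime) (hr2 : r ≠ 2) (hs2 : s ≠ 2) (hrp : r ≠ p) (hsp : s ≠ p) (hrs : r ≠ s)
    (hrG : r ∣ Nat.card (Matrix.ProjectiveSpecialLinearGroup (Fin n) F)) (hsG : s ∣ Nat.card (Matrix.ProjectiveSpecialLinearGroup (Fin n) F))
    (k l : ℕ) (hk : k = orderOf ((Fintype.card F : ℕ) : ZMod r)) (hl : l = orderOf ((Fintype.card F : ℕ) : ZMod s))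
    (h2k : 2 ≤ k) (hkl : k ≤ l) :
    (r * s ∉ Set.range (orderOf : Matrix.ProjectiveSpecialLinearGroup (Fin n) F → ℕ)) ↔ (n < k + l ∧ ¬ k ∣ l) := by
  classical
  have hpp : p.Prime := Fact.out
  have hq1 : 1 ≤ Fintype.card F := Fintype.card_pos
  have hl2 : 2 ≤ l := by omega
  have hrq : ¬ r ∣ Fintype.card F - 1 := by
    intro h
    have h1 := Helper42.PGraphL.order_dvd_of_dvd r (Fintype.card F) 1 hq1 (by rw [pow_one]; exact h)
    rw [← hk] at h1
    have := Nat.le_of_dvd one_pos h1
    omega
  have hsq : ¬ s ∣ Fintype.card F - 1 := by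
    intro h
    have h1 := Helper42.PGraphL.order_dvd_of_dvd s (Fintype.card F) 1 hq1 (by rw [pow_one]; exact h)
    rw [← hl] at h1
    have := Nat.le_of_dvd one_pos h1
    omega
  have hrk : r ∣ Fintype.card F ^ k - 1 := by
    rw [hk]
    exact Helper42.PGraphL.dvd_pow_order_sub_one r (Fintype.card F)
  have hsl : s ∣ Fintype.card F ^ l - 1 := by
    rw [hl]
    exact Helper42.PGraphL.dvd_pow_order_sub_one s (Fintype.card F)
  constructor
  · intro hno
    by_contra hcon
    apply hno
    haveI : NeZero k := ⟨by omega⟩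
    haveI : NeZero l := ⟨by omega⟩
    by_cases hkl' : k ∣ l
    · have hln : l ≤ n := by
        rw [hl]
        exact Helper42.PGraphL2.order_le_of_dvd_card p n s hs hsp hsG
      have hrl : r ∣ Fintype.card F ^ l - 1 :=
        Helper42.PGraphL2.dvd_pow_sub_one_of_order_dvd r _ l (by rw [← hk]; exact hkl')
      have hm : r * s ∣ Fintype.card F ^ l - 1 :=
        Nat.Coprime.mul_dvd_of_dvd_of_dvd ((Nat.coprime_primes hr hs).mpr hrs) hrl hsl
      have hcop : Nat.Coprime (r * s) (Fintype.card F - 1) :=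
        Nat.Coprime.mul_left ((Nat.Prime.coprime_iff_not_dvd hr).mpr hrq)
          ((Nat.Prime.coprime_iff_not_dvd hs).mpr hsq)
      obtain ⟨x, hx⟩ := Helper42.PGraphL2.model_one (F := F) p n l (r * s) hm hcop hln
      exact ⟨x, hx⟩
    · have hn' : k + l ≤ n := by
        by_contra h
        exact hcon ⟨by omega, hkl'⟩
      obtain ⟨x, hx⟩ := Helper42.PGraphL2.model_two (F := F) p n k l r s hr hs hrs hrk hsl hrq hsq hn'
      exact ⟨x, hx⟩
  · rintro ⟨hnkl, hndvd⟩ ⟨x, hx⟩
    obtain ⟨g, rfl⟩ := QuotientGroup.mk_surjective x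
    have h1 : ∃ c : F, Helper42.ProjOrd.toEnd g ^ (r * s) =
        c • (1 : Module.End F (Fin n → F)) := by
      rw [← Helper42.ProjOrd.mk_pow_eq_one_iff, ← hx]
      exact pow_orderOf_eq_one _
    obtain ⟨c, hc⟩ := h1
    have hTr : ¬ ∃ c' : F, Helper42.ProjOrd.toEnd g ^ r = c' • (1 : Module.End F (Fin n → F)) := by
      intro h2
      rw [← Helper42.ProjOrd.mk_pow_eq_one_iff] at h2
      have h3 := orderOf_dvd_of_pow_eq_one h2
      rw [hx] at h3
      have h4 := Nat.le_of_dvd hr.pos h3
      have h5 : r * 2 ≤ r * s := Nat.mul_le_mul_left r hs.two_le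
      have h6 := hr.pos
      omega
    have hTs : ¬ ∃ c' : F, Helper42.ProjOrd.toEnd g ^ s = c' • (1 : Module.End F (Fin n → F)) := by
      intro h2
      rw [← Helper42.ProjOrd.mk_pow_eq_one_iff] at h2
      have h3 := orderOf_dvd_of_pow_eq_one h2
      rw [hx] at h3
      have h4 := Nat.le_of_dvd hs.pos h3
      have h5 : 2 * s ≤ r * s := Nat.mul_le_mul_right s hr.two_le
      have h6 := hs.pos
      omega
    have hc0 : c ≠ 0 := by
      intro h0
      have hd := congrArg LinearMap.det hc
      rw [map_pow, Helper42.ProjOrd.det_toEnd, one_pow, LinearMap.det_smul, map_one, mul_one,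
        Module.finrank_fin_fun, h0, zero_pow (by omega)] at hd
      exact one_ne_zero hd
    have hb := Helper42.PGraphL2.bound2' p r s hr hs hrp hsp hrq hsq (Helper42.ProjOrd.toEnd g)
      c hc0 hc hTs hTr
    rw [Module.finrank_fin_fun, ← hk, ← hl] at hb
    rcases hb with h | ⟨e, he0, hen, hke, hle⟩
    · omega
    · obtain ⟨t, ht⟩ := hle
      have ht2 : 2 ≤ t := by
        by_contra hlt
        have h01 : t = 0 ∨ t = 1 := by omega
        rcases h01 with h0 | h1
        · rw [h0, mul_zero] at ht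
          omega
        · rw [h1, mul_one] at ht
          rw [ht] at hke
          exact hndvd hke
      have h7 : l * 2 ≤ l * t := Nat.mul_le_mul_left l ht2
      omega

end Cfsg.Agent.S2468
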