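import Cfsg.Statements.S2469
import Mathlib
import Cfsg.Agent.Helper42.PGraphS2

set_option autoImplicit false
open Cfsg

namespace Cfsg.Agent.S2469

/-- Adjacency of two odd primes in the prime graph of PSp(2n,q): let F be a finite field of characteristic p with q elements, n ≥ 2 with PSp(2n,F) simple, and let r ≠ s be odd primes different from p dividing the order of PSp(2n,F). Let k, l be the multiplicative orders of q modulo r and s, put η(m) = m for odd m and η(m) = m/2 for even m, and suppose η(k) ≤ η(l). Then PSp(2n,F) has NO element of order r·s if and only if η(k) + η(l) > n and l/k is not an odd integer. -/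
theorem result {F : Type*} [Field F] [Fintype F] (p : ℕ) [Fact p.Prime] [CharP F p] (n : ℕ) (hn : 2 ≤ n) (hsmall : n = 2 → 3 ≤ Fintype.card F)
    (r s : ℕ) (hr : r.Prime) (hs : s.Prime) (hr2 : r ≠ 2) (hs2 : s ≠ 2) (hrp : r ≠ p) (hsp : s ≠ p) (hrs : r ≠ s)
    (hrG : r ∣ Nat.card (Cfsg.PSp n F)) (hsG : s ∣ Nat.card (Cfsg.PSp n F))
    (k l ηk ηl : ℕ) (hk : k = orderOf ((Fintype.card F : ℕ) : ZMod r)) (hl : l = orderOf ((Fintype.card F : ℕ) : ZMod s))
    (hηk : (Odd k ∧ ηk = k) ∨ (Even k ∧ 2 * ηk = k)) (hηl : (Odd l ∧ ηl = l) ∨ (Even l ∧ 2 * ηl = l)) (hkl : ηk ≤ ηl) :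
    (r * s ∉ Set.range (orderOf : Cfsg.PSp n F → ℕ)) ↔ (n < ηk + ηl ∧ ¬ ∃ t : ℕ, Odd t ∧ l = k * t) := by
  classical
  have hpp : p.Prime := Fact.out
  have hq1 : 1 ≤ Fintype.card F := Fintype.card_pos
  have hk1 : 1 ≤ k := by
    rw [hk]
    exact Helper42.PGraphS2.order_pos p r hr hrp
  have hl1 : 1 ≤ l := by
    rw [hl]
    exact Helper42.PGraphS2.order_pos p s hs hsp
  have hcop : Nat.Coprime r s := (Nat.coprime_primes hr hs).mpr hrs
  constructor
  · intro hno
    by_contra hcon
    apply hno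
    by_cases hodd : ∃ t : ℕ, Odd t ∧ l = k * t
    · obtain ⟨t, ht, hlk⟩ := hodd
      have hln : ηl ≤ n := Helper42.PGraphS2.eta_le_of_dvd_card p r s hr hs hr2 hs2 hrp hsp hrs
        k l ηk ηl hk hl hηk hηl hkl n hsG
      have hrs_odd : Odd (r * s) := (hr.odd_of_ne_two hr2).mul (hs.odd_of_ne_two hs2)
      rcases hηl with ⟨hlodd, hηl'⟩ | ⟨hleven, hηl'⟩
      · have hrl : r ∣ Fintype.card F ^ l - 1 :=
          Helper42.PGraphL2.dvd_pow_sub_one_of_order_dvd r _ l
            (by rw [← hk, hlk]; exact dvd_mul_right k t)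
        have hsl : s ∣ Fintype.card F ^ l - 1 := by
          rw [hl]
          exact Helper42.PGraphL.dvd_pow_order_sub_one s (Fintype.card F)
        haveI : NeZero l := ⟨by omega⟩
        obtain ⟨g, hg1, hg2⟩ := Helper42.PGraphS2.exists_block_minus (F := F) p l (r * s)
          (hcop.mul_dvd_of_dvd_of_dvd hrl hsl) hrs_odd
        obtain ⟨x, hx⟩ := Helper42.PGraphS2.two_blocks n l 0 (r * s) 1 (by omega)
          (Nat.coprime_one_right _) g 1 hg1
          (by rw [pow_one, Helper42.SpGroup.toEnd_one]) hg2 (fun i _ => one_dvd i)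
        exact ⟨x, by rw [hx, mul_one]⟩
      · have hkeven : Even k := by
          rw [hlk] at hleven
          rcases Nat.even_mul.mp hleven with h | h
          · exact h
          · exact absurd h (Nat.not_even_iff_odd.mpr ht)
        rcases hηk with ⟨hkodd, -⟩ | ⟨-, hηk'⟩
        · exact absurd hkeven (Nat.not_even_iff_odd.mpr hkodd)
        · have hηlt : ηl = ηk * t := by
            have h2 : 2 * ηl = 2 * (ηk * t) := by
              rw [hηl', hlk, ← hηk']
              ring
            omega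
          have hηk1 : 1 ≤ ηk := by omega
          have hηl1 : 1 ≤ ηl := by omega
          have hr1 : r ∣ Fintype.card F ^ ηk + 1 :=
            Helper42.PGraphS2.dvd_plus r _ k ηk hr hq1 hk hηk' hηk1
          have hrl : r ∣ Fintype.card F ^ ηl + 1 := by
            rw [hηlt, pow_mul]
            have h := Odd.nat_add_dvd_pow_add_pow (Fintype.card F ^ ηk) 1 ht
            rw [one_pow] at h
            exact hr1.trans h
          have hsl : s ∣ Fintype.card F ^ ηl + 1 :=
            Helper42.PGraphS2.dvd_plus s _ l ηl hs hq1 hl hηl' hηl1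
          obtain ⟨g, hg1, hg2⟩ := Helper42.PGraphS2.exists_block_plus (F := F) p ηl hηl1 (r * s)
            (hcop.mul_dvd_of_dvd_of_dvd hrl hsl) hrs_odd
          obtain ⟨x, hx⟩ := Helper42.PGraphS2.two_blocks n ηl 0 (r * s) 1 (by omega)
            (Nat.coprime_one_right _) g 1 hg1
            (by rw [pow_one, Helper42.SpGroup.toEnd_one]) hg2 (fun i _ => one_dvd i)
          exact ⟨x, by rw [hx, mul_one]⟩
    · have hn' : ηk + ηl ≤ n := by
        by_contra h
        exact hcon ⟨by omega, hodd⟩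
      obtain ⟨g₁, hg₁, hmin₁⟩ := Helper42.PGraphS2.exists_prime_block (F := F) p r hr hr2 k ηk hk
        hk1 hηk
      obtain ⟨g₂, hg₂, hmin₂⟩ := Helper42.PGraphS2.exists_prime_block (F := F) p s hs hs2 l ηl hl
        hl1 hηl
      obtain ⟨x, hx⟩ := Helper42.PGraphS2.two_blocks n ηk ηl r s hn' hcop g₁ g₂ hg₁ hg₂ hmin₁ hmin₂
      exact ⟨x, hx⟩
  · rintro ⟨hlt, hnot⟩ ⟨x, hx⟩
    obtain ⟨g, rfl⟩ := QuotientGroup.mk_surjective x
    have h1 : Helper42.SpGroup.toEnd g ^ (r * s) = 1 ∨ Helper42.SpGroup.toEnd g ^ (r * s) = -1 := by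
      rw [← Helper42.SpGroup.mk_pow_eq_one_iff, ← hx]
      exact pow_orderOf_eq_one _
    have hTr : ¬ (Helper42.SpGroup.toEnd g ^ r = 1 ∨ Helper42.SpGroup.toEnd g ^ r = -1) := by
      intro h2
      rw [← Helper42.SpGroup.mk_pow_eq_one_iff] at h2
      have h3 := orderOf_dvd_of_pow_eq_one h2
      rw [hx] at h3
      have h4 := Nat.le_of_dvd hr.pos h3
      have h5 : r * 2 ≤ r * s := Nat.mul_le_mul_left r hs.two_le
      have h6 := hr.pos
      omega
    have hTs : ¬ (Helper42.SpGroup.toEnd g ^ s = 1 ∨ Helper42.SpGroup.toEnd g ^ s = -1) := by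
      intro h2
      rw [← Helper42.SpGroup.mk_pow_eq_one_iff] at h2
      have h3 := orderOf_dvd_of_pow_eq_one h2
      rw [hx] at h3
      have h4 := Nat.le_of_dvd hs.pos h3
      have h5 : 2 * s ≤ r * s := Nat.mul_le_mul_right s hr.two_le
      have h6 := hs.pos
      omega
    have hb := Helper42.PGraphS2.bound_sp2 p r s hr hs hr2 hs2 hrp hsp hrs k l ηk ηl hk hl hηk hηl
      hkl n (Helper42.SpForm.stdForm (F := F) n) (Helper42.SpForm.stdForm_self n)
      (Helper42.SpForm.stdForm_nondeg n) (Helper42.SpecPSp.finrank_std n)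
      (Helper42.SpGroup.toEnd g) (Helper42.SpGroup.preserves_toEnd g) h1 hTr hTs
    rcases hb with h | h
    · omega
    · exact hnot h

end Cfsg.Agent.S2469
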