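import Cfsg.Statements.S2470
import Mathlib
import Cfsg.Agent.Helper42.PGraphLM

set_option autoImplicit false
open Cfsg

namespace Cfsg.Agent.S2470

/-- Adjacency of an odd prime and the characteristic in the prime graph of PSL(n,q): let F be a finite field of characteristic p with q elements, n ≥ 2 with PSL(n,F) simple, and let r ≠ p be an odd prime dividing the order of PSL(n,F), with k the multiplicative order of q modulo r. Then PSL(n,F) has NO element of order r·p if and only if either k > n − 2, or n = 3, r = 3 and 3 divides q − 1 exactly once. -/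
theorem result {F : Type*} [Field F] [Fintype F] (p : ℕ) [Fact p.Prime] [CharP F p] (n : ℕ) (hn : 2 ≤ n) (hsmall : n = 2 → 4 ≤ Fintype.card F)
    (r : ℕ) (hr : r.Prime) (hr2 : r ≠ 2) (hrp : r ≠ p) (hrG : r ∣ Nat.card (Matrix.ProjectiveSpecialLinearGroup (Fin n) F))
    (k : ℕ) (hk : k = orderOf ((Fintype.card F : ℕ) : ZMod r)) :
    (r * p ∉ Set.range (orderOf : Matrix.ProjectiveSpecialLinearGroup (Fin n) F → ℕ)) ↔
      (n - 2 < k ∨ (n = 3 ∧ r = 3 ∧ 3 ∣ Fintype.card F - 1 ∧ ¬ 9 ∣ Fintype.card F - 1)) := by
  classical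
  have hpp : p.Prime := Fact.out
  haveI : Fact r.Prime := ⟨hr⟩
  have hq1 : 1 ≤ Fintype.card F := Fintype.card_pos
  constructor
  · intro hno
    by_contra hcon
    push Not at hcon
    obtain ⟨hkn, hexc⟩ := hcon
    apply hno
    -- `k ≥ 1`
    have hqr : ((Fintype.card F : ℕ) : ZMod r) ≠ 0 := by
      intro h
      rw [ZMod.natCast_eq_zero_iff] at h
      obtain ⟨a, -, ha⟩ := FiniteField.card F p
      rw [ha] at h
      have h2 := hr.dvd_of_dvd_pow h
      exact hrp ((Nat.prime_dvd_prime_iff_eq hr hpp).mp h2)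
    have hk1 : 1 ≤ k := by
      rw [hk]
      have h1 := orderOf_dvd_of_pow_eq_one (ZMod.pow_card_sub_one_eq_one hqr)
      have h2 : 0 < r - 1 := by have := hr.two_le; omega
      exact Nat.pos_of_dvd_of_pos h1 h2
    have hrk : r ∣ Fintype.card F ^ k - 1 := by
      rw [hk]
      exact Helper42.PGraphL.dvd_pow_order_sub_one r (Fintype.card F)
    by_cases hk2 : 2 ≤ k
    · have hrq : ¬ r ∣ Fintype.card F - 1 := by
        intro h
        have h1 := Helper42.PGraphL.order_dvd_of_dvd r (Fintype.card F) 1 hq1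
          (by rw [pow_one]; exact h)
        rw [← hk] at h1
        have := Nat.le_of_dvd one_pos h1
        omega
      haveI : NeZero k := ⟨by omega⟩
      obtain ⟨x, hx⟩ := Helper42.PGraphLM.model_big (F := F) p n k r hr hrp hrk hrq (by omega)
      exact ⟨x, hx⟩
    · have hk1' : k = 1 := by omega
      rw [hk1', pow_one] at hrk
      by_cases hn4 : 4 ≤ n
      · obtain ⟨x, hx⟩ := Helper42.PGraphLM.model_split (F := F) p n r hr hrp hrk hn4
        exact ⟨x, hx⟩
      · have hn3 : n = 3 := by omega
        subst hn3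
        by_cases hr3 : r = 3
        · have h9 : 9 ∣ Fintype.card F - 1 := hexc rfl hr3 (by rw [← hr3]; exact hrk)
          obtain ⟨a, ha0, ha9, haord⟩ := Helper42.PGraphLM.exists_elt_F (F := F) 9 h9
          obtain ⟨x, hx⟩ := Helper42.PGraphLM.model_three (F := F) p r hr hrp a ha0
            (by rw [hr3]; exact ha9)
            (fun i hi => by
              have h1 := haord _ hi
              rw [hr3]
              omega)
          exact ⟨x, hx⟩
        · obtain ⟨a, ha0, har, haord⟩ := Helper42.PGraphLM.exists_elt_F (F := F) r hrk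
          obtain ⟨x, hx⟩ := Helper42.PGraphLM.model_three (F := F) p r hr hrp a ha0
            (by rw [mul_comm, pow_mul, har, one_pow])
            (fun i hi => by
              have h1 := haord _ hi
              have hcop : Nat.Coprime r 3 := (Nat.coprime_primes hr Nat.prime_three).mpr hr3
              exact hcop.dvd_of_dvd_mul_left h1)
          exact ⟨x, hx⟩
  · intro h hmem
    obtain ⟨x, hx⟩ := hmem
    obtain ⟨g, rfl⟩ := QuotientGroup.mk_surjective x
    have h1 : ∃ c : F, Helper42.ProjOrd.toEnd g ^ (r * p) =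
        c • (1 : Module.End F (Fin n → F)) := by
      rw [← Helper42.ProjOrd.mk_pow_eq_one_iff, ← hx]
      exact pow_orderOf_eq_one _
    obtain ⟨c, hc⟩ := h1
    have hTr : ¬ ∃ c' : F, Helper42.ProjOrd.toEnd g ^ r = c' • (1 : Module.End F (Fin n → F)) := by
      intro h2
      rw [← Helper42.ProjOrd.mk_pow_eq_one_iff] at h2
      have h3 := orderOf_dvd_of_pow_eq_one h2
      rw [hx] at h3
      have h4 := Nat.le_of_dvd hr.pos h3
      have h5 : r * 2 ≤ r * p := Nat.mul_le_mul_left r hpp.two_le
      have h6 := hr.pos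
      omega
    have hTp : ¬ ∃ c' : F, Helper42.ProjOrd.toEnd g ^ p = c' • (1 : Module.End F (Fin n → F)) := by
      intro h2
      rw [← Helper42.ProjOrd.mk_pow_eq_one_iff] at h2
      have h3 := orderOf_dvd_of_pow_eq_one h2
      rw [hx] at h3
      have h4 := Nat.le_of_dvd hpp.pos h3
      have h5 : 2 * p ≤ r * p := Nat.mul_le_mul_right p hr.two_le
      have h6 := hpp.pos
      omega
    have hc0 : c ≠ 0 := by
      intro h0
      have hd := congrArg LinearMap.det hc
      rw [map_pow, Helper42.ProjOrd.det_toEnd, one_pow, LinearMap.det_smul, map_one, mul_one,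
        Module.finrank_fin_fun, h0, zero_pow (by omega)] at hd
      exact one_ne_zero hd
    obtain ⟨hb1, hb2⟩ := Helper42.PGraphL.bound p r hr hrp (Helper42.ProjOrd.toEnd g)
      (Helper42.ProjOrd.det_toEnd g) c hc0 hc hTr hTp
    rw [Module.finrank_fin_fun] at hb1 hb2
    rw [← hk] at hb1
    rcases h with h | ⟨h3, hr3, -, h9⟩
    · omega
    · exact hb2 ⟨h3, hr3, h9⟩

end Cfsg.Agent.S2470
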