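import Cfsg.Statements.S2472
import Mathlib
import Cfsg.Agent.Helper42.PGraphSM

set_option autoImplicit false
open Cfsg

namespace Cfsg.Agent.S2472

/-- Adjacency of a prime and the characteristic in the prime graph of PSp(2n,q): let F be a finite field of characteristic p with q elements, n ≥ 2 with PSp(2n,F) simple, and let r ≠ p be an odd prime dividing the order of PSp(2n,F), with k the multiplicative order of q modulo r and η(k) = k for odd k, k/2 for even k. Then PSp(2n,F) has NO element of order r·p if and only if η(k) > n − 1. -/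
theorem result {F : Type*} [Field F] [Fintype F] (p : ℕ) [Fact p.Prime] [CharP F p] (n : ℕ) (hn : 2 ≤ n) (hsmall : n = 2 → 3 ≤ Fintype.card F)
    (r : ℕ) (hr : r.Prime) (hr2 : r ≠ 2) (hrp : r ≠ p) (hrG : r ∣ Nat.card (Cfsg.PSp n F))
    (k ηk : ℕ) (hk : k = orderOf ((Fintype.card F : ℕ) : ZMod r)) (hηk : (Odd k ∧ ηk = k) ∨ (Even k ∧ 2 * ηk = k)) :
    (r * p ∉ Set.range (orderOf : Cfsg.PSp n F → ℕ)) ↔ n - 1 < ηk := by
  classical
  have hpp : p.Prime := Fact.out
  haveI : Fact r.Prime := ⟨hr⟩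
  have hq1 : 1 ≤ Fintype.card F := Fintype.card_pos
  have hqr : ((Fintype.card F : ℕ) : ZMod r) ≠ 0 := by
    intro h
    rw [ZMod.natCast_eq_zero_iff] at h
    obtain ⟨a, -, ha⟩ := FiniteField.card F p
    rw [ha] at h
    have h2 := hr.dvd_of_dvd_pow h
    exact hrp ((Nat.prime_dvd_prime_iff_eq hr hpp).mp h2)
  have hk1 : 1 ≤ k := by
    rw [hk]
    have h1 := orderOf_dvd_of_pow_eq_one (ZMod.pow_card_sub_one_eq_one hqr)
    have h2 : 0 < r - 1 := by
      have := hr.two_le
      omega
    exact Nat.pos_of_dvd_of_pos h1 h2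
  have hrk : r ∣ Fintype.card F ^ k - 1 := by
    rw [hk]
    exact Helper42.PGraphL.dvd_pow_order_sub_one r (Fintype.card F)
  constructor
  · intro hno
    by_contra hcon
    apply hno
    have hn' : ηk + 1 ≤ n := by omega
    rcases hηk with ⟨hodd, hη⟩ | ⟨heven, hη⟩
    · haveI : NeZero k := ⟨by omega⟩
      obtain ⟨x, hx⟩ := Helper42.PGraphSM.model_odd (F := F) p n k r hr hr2 hrp hrk
        (by omega)
      exact ⟨x, hx⟩
    · have he1 : 1 ≤ ηk := by omega
      have hre : r ∣ Fintype.card F ^ ηk + 1 := by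
        rw [← hη, Helper42.PGraphS.q2e_sub_one _ ηk hq1] at hrk
        rcases (Nat.Prime.dvd_mul hr).mp hrk with h | h
        · exfalso
          have h1 := Helper42.PGraphL.order_dvd_of_dvd r (Fintype.card F) ηk hq1 h
          rw [← hk] at h1
          have h2 := Nat.le_of_dvd he1 h1
          omega
        · exact h
      obtain ⟨x, hx⟩ := Helper42.PGraphSM.model_even (F := F) p n ηk r he1 hr hr2 hrp hre hn'
      exact ⟨x, hx⟩
  · rintro hlt ⟨x, hx⟩
    obtain ⟨g, rfl⟩ := QuotientGroup.mk_surjective x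
    have h1 : Helper42.SpGroup.toEnd g ^ (r * p) = 1 ∨ Helper42.SpGroup.toEnd g ^ (r * p) = -1 := by
      rw [← Helper42.SpGroup.mk_pow_eq_one_iff, ← hx]
      exact pow_orderOf_eq_one _
    have hTr : ¬ (Helper42.SpGroup.toEnd g ^ r = 1 ∨ Helper42.SpGroup.toEnd g ^ r = -1) := by
      intro h2
      rw [← Helper42.SpGroup.mk_pow_eq_one_iff] at h2
      have h3 := orderOf_dvd_of_pow_eq_one h2
      rw [hx] at h3
      have h4 := Nat.le_of_dvd hr.pos h3
      have h5 : r * 2 ≤ r * p := Nat.mul_le_mul_left r hpp.two_le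
      have h6 := hr.pos
      omega
    have hTp : ¬ (Helper42.SpGroup.toEnd g ^ p = 1 ∨ Helper42.SpGroup.toEnd g ^ p = -1) := by
      intro h2
      rw [← Helper42.SpGroup.mk_pow_eq_one_iff] at h2
      have h3 := orderOf_dvd_of_pow_eq_one h2
      rw [hx] at h3
      have h4 := Nat.le_of_dvd hpp.pos h3
      have h5 : 2 * p ≤ r * p := Nat.mul_le_mul_right p hr.two_le
      have h6 := hpp.pos
      omega
    have hb := Helper42.PGraphS.bound_sp p r hr hr2 hrp k ηk hk hηk n
      (Helper42.SpForm.stdForm (F := F) n) (Helper42.SpForm.stdForm_self n)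
      (Helper42.SpForm.stdForm_nondeg n) (Helper42.SpecPSp.finrank_std n)
      (Helper42.SpGroup.toEnd g) (Helper42.SpGroup.preserves_toEnd g) h1 hTr hTp
    omega

end Cfsg.Agent.S2472
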