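import Cfsg.Statements.S2514
import Mathlib.Data.Fintype.Pigeonhole

set_option autoImplicit false
open Cfsg

namespace Cfsg.Agent.S2514

/-- The set of element orders is closed under divisors. -/
theorem dvd_closed {G : Type*} [Group G] [Finite G] {n d : ℕ}
    (hn : n ∈ Set.range (orderOf : G → ℕ)) (hd : d ∣ n) : d ∈ Set.range (orderOf : G → ℕ) := by
  obtain ⟨g, rfl⟩ := hn
  exact ⟨g ^ (orderOf g / d), orderOf_pow_orderOf_div (orderOf_pos g).ne' hd⟩

/-- Every element order divides a maximal one. -/
theorem exists_max {G : Type*} [Group G] [Finite G] {n : ℕ}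
    (hn : n ∈ Set.range (orderOf : G → ℕ)) :
    ∃ m, (m ∈ Set.range (orderOf : G → ℕ) ∧ ∀ m' ∈ Set.range (orderOf : G → ℕ), m ∣ m' → m' = m) ∧ n ∣ m := by
  classical
  have hfin : (Set.range (orderOf : G → ℕ)).Finite := Set.finite_range _
  set S : Set ℕ := {m | m ∈ Set.range (orderOf : G → ℕ) ∧ n ∣ m} with hS
  have hSfin : S.Finite := hfin.subset (fun m hm => hm.1)
  have hSne : S.Nonempty := ⟨n, hn, dvd_rfl⟩
  obtain ⟨m, hmS, hmax⟩ := Set.Finite.exists_maximalFor id S hSfin hSne
  refine ⟨m, ⟨hmS.1, ?_⟩, hmS.2⟩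
  intro m' hm' hdvd
  have hm'S : m' ∈ S := ⟨hm', hmS.2.trans hdvd⟩
  obtain ⟨g', rfl⟩ := hm'
  have hle : m ≤ orderOf g' := Nat.le_of_dvd (orderOf_pos g') hdvd
  have := hmax hm'S hle
  exact le_antisymm this hle

theorem pow_eq_one_iff_of_orderOf_eq {G H : Type*} [Group G] [Group H] {g : G} {h : H}
    (e : orderOf g = orderOf h) (n : ℕ) : g ^ n = 1 ↔ h ^ n = 1 := by
  rw [← orderOf_dvd_iff_pow_eq_one, ← orderOf_dvd_iff_pow_eq_one, e]

/-- For a finite group X write μ(X) for the set of element orders of X that are maximal under divisibility. Let G and H be finite groups and k ≥ 1 such that μ(H) ⊆ μ(G) and μ(G) has fewer than k elements outside μ(H). Then the direct product of k copies of G has the same set of element orders as the direct product of k − 1 copies of G with H. -/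
theorem result {G H : Type*} [Group G] [Finite G] [Group H] [Finite H] (k : ℕ) (hk : 1 ≤ k)
    (hsub : {n : ℕ | n ∈ Set.range (orderOf : H → ℕ) ∧ ∀ m ∈ Set.range (orderOf : H → ℕ), n ∣ m → m = n} ⊆ {n : ℕ | n ∈ Set.range (orderOf : G → ℕ) ∧ ∀ m ∈ Set.range (orderOf : G → ℕ), n ∣ m → m = n})
    (hfew : ({n : ℕ | n ∈ Set.range (orderOf : G → ℕ) ∧ ∀ m ∈ Set.range (orderOf : G → ℕ), n ∣ m → m = n} \ {n : ℕ | n ∈ Set.range (orderOf : H → ℕ) ∧ ∀ m ∈ Set.range (orderOf : H → ℕ), n ∣ m → m = n}).ncard < k) :
    Set.range (orderOf : (Fin k → G) → ℕ) = Set.range (orderOf : (Fin (k - 1) → G) × H → ℕ) := by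
  classical
  obtain ⟨j, rfl⟩ : ∃ j, k = j + 1 := ⟨k - 1, by omega⟩
  show Set.range (orderOf : (Fin (j + 1) → G) → ℕ) = Set.range (orderOf : (Fin j → G) × H → ℕ)
  -- orders of H are orders of G
  have hHG : ∀ h : H, ∃ g : G, orderOf g = orderOf h := by
    intro h
    obtain ⟨m, hm, hdvd⟩ := exists_max (G := H) ⟨h, rfl⟩
    have hmG := hsub hm
    exact dvd_closed hmG.1 hdvd
  apply Set.eq_of_subset_of_subset
  · -- ⊆
    rintro _ ⟨x, rfl⟩
    -- for each coordinate choose a maximal order above
    have hch : ∀ i : Fin (j + 1), ∃ m, (m ∈ Set.range (orderOf : G → ℕ) ∧ ∀ m' ∈ Set.range (orderOf : G → ℕ), m ∣ m' → m' = m) ∧ orderOf (x i) ∣ m :=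
      fun i => exists_max ⟨x i, rfl⟩
    choose M hM hMdvd using hch
    by_cases hcase : ∃ i, M i ∈ {n : ℕ | n ∈ Set.range (orderOf : H → ℕ) ∧ ∀ m ∈ Set.range (orderOf : H → ℕ), n ∣ m → m = n}
    · obtain ⟨i, hi⟩ := hcase
      obtain ⟨h, hh⟩ := dvd_closed hi.1 (hMdvd i)
      refine ⟨(fun l => x (i.succAbove l), h), ?_⟩
      rw [orderOf_eq_orderOf_iff]
      intro n
      have e1 := pow_eq_one_iff_of_orderOf_eq hh n
      constructor
      · intro hy
        have h1 : ∀ l : Fin j, x (i.succAbove l) ^ n = 1 := fun l => congrFun (congrArg Prod.fst hy) l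
        have h2 : h ^ n = 1 := congrArg Prod.snd hy
        funext l
        rcases Fin.eq_self_or_eq_succAbove i l with rfl | ⟨l', rfl⟩
        · exact e1.mp h2
        · exact h1 l'
      · intro hx
        have h1 : ∀ l, x l ^ n = 1 := fun l => congrFun hx l
        refine Prod.ext ?_ ?_
        · funext l
          exact h1 _
        · exact e1.mpr (h1 i)
    · -- pigeonhole
      push Not at hcase
      set T : Set ℕ := {n : ℕ | n ∈ Set.range (orderOf : G → ℕ) ∧ ∀ m ∈ Set.range (orderOf : G → ℕ), n ∣ m → m = n} \ {n : ℕ | n ∈ Set.range (orderOf : H → ℕ) ∧ ∀ m ∈ Set.range (orderOf : H → ℕ), n ∣ m → m = n} with hT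
      have hTfin : T.Finite := (Set.finite_range (orderOf : G → ℕ)).subset (fun m hm => hm.1.1)
      have : Finite T := hTfin.to_subtype
      have : Fintype T := Fintype.ofFinite T
      let F : Fin (j + 1) → T := fun i => ⟨M i, hM i, hcase i⟩
      have hcard : Fintype.card T < Fintype.card (Fin (j + 1)) := by
        rw [← Nat.card_eq_fintype_card, Nat.card_coe_set_eq, Fintype.card_fin]
        exact hfew
      obtain ⟨i, i', hne, hF⟩ := Fintype.exists_ne_map_eq_of_card_lt F hcard
      have hMeq : M i = M i' := congrArg Subtype.val hF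
      have hl : Nat.lcm (orderOf (x i)) (orderOf (x i')) ∣ M i :=
        Nat.lcm_dvd (hMdvd i) (hMeq ▸ hMdvd i')
      obtain ⟨g, hg⟩ := dvd_closed (hM i).1 hl
      refine ⟨(fun l => Function.update x i g (i'.succAbove l), 1), ?_⟩
      rw [orderOf_eq_orderOf_iff]
      intro n
      have e1 : g ^ n = 1 ↔ x i ^ n = 1 ∧ x i' ^ n = 1 := by
        rw [← orderOf_dvd_iff_pow_eq_one, ← orderOf_dvd_iff_pow_eq_one, ← orderOf_dvd_iff_pow_eq_one, hg]
        exact Nat.lcm_dvd_iff
      constructor
      · intro hy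
        have h1 : ∀ l : Fin j, Function.update x i g (i'.succAbove l) ^ n = 1 :=
          fun l => congrFun (congrArg Prod.fst hy) l
        have h2 : ∀ l, l ≠ i' → Function.update x i g l ^ n = 1 := by
          intro l hl'
          rcases Fin.eq_self_or_eq_succAbove i' l with rfl | ⟨l', rfl⟩
          · exact absurd rfl hl'
          · exact h1 l'
        have h3 : g ^ n = 1 := by
          have := h2 i hne
          simpa using this
        funext l
        by_cases hli : l = i
        · subst hli; exact (e1.mp h3).1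
        · by_cases hli' : l = i'
          · subst hli'; exact (e1.mp h3).2
          · have := h2 l hli'
            rw [Function.update_of_ne hli] at this
            exact this
      · intro hx
        have h1 : ∀ l, x l ^ n = 1 := fun l => congrFun hx l
        refine Prod.ext ?_ (by simp)
        funext l
        show Function.update x i g (i'.succAbove l) ^ n = 1
        by_cases hli : i'.succAbove l = i
        · rw [hli, Function.update_self]
          exact e1.mpr ⟨h1 i, h1 i'⟩
        · rw [Function.update_of_ne hli]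
          exact h1 _
  · -- ⊇
    rintro _ ⟨⟨f, h⟩, rfl⟩
    obtain ⟨g, hg⟩ := hHG h
    refine ⟨Fin.cons g f, ?_⟩
    rw [orderOf_eq_orderOf_iff]
    intro n
    have e1 := pow_eq_one_iff_of_orderOf_eq hg n
    constructor
    · intro hy
      have h1 : ∀ l, (Fin.cons g f : Fin (j + 1) → G) l ^ n = 1 := fun l => congrFun hy l
      refine Prod.ext ?_ ?_
      · funext l
        have := h1 l.succ
        simpa using this
      · have := h1 0
        simp only [Fin.cons_zero] at this
        exact e1.mp this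
    · intro hy
      have h1 : ∀ l : Fin j, f l ^ n = 1 := fun l => congrFun (congrArg Prod.fst hy) l
      have h2 : h ^ n = 1 := congrArg Prod.snd hy
      funext l
      refine Fin.cases ?_ (fun l' => ?_) l
      · simpa using e1.mpr h2
      · simpa using h1 l'

end Cfsg.Agent.S2514
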