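import Cfsg.Statements.S2476
import Mathlib
import Cfsg.Agent.S2514
import Cfsg.Agent.Helper42.L3Lower

set_option autoImplicit false
open Cfsg

namespace Cfsg.Agent.S2476

/-- The set of element orders of PSL(3,q): let F be a finite field of characteristic p with q elements and d = gcd(3, q − 1). The orders of elements of PSL(3,F) are exactly the divisors of (q² + q + 1)/d, of (q² − 1)/d, of q − 1, of p(q − 1)/d, and, when p = 2, of 4. -/
theorem result {F : Type*} [Field F] [Fintype F] (p : ℕ) [Fact p.Prime] [CharP F p] :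
    Set.range (orderOf : Matrix.ProjectiveSpecialLinearGroup (Fin 3) F → ℕ) =
      {m : ℕ | m ∣ (Fintype.card F ^ 2 + Fintype.card F + 1) / Nat.gcd 3 (Fintype.card F - 1) ∨
        m ∣ (Fintype.card F ^ 2 - 1) / Nat.gcd 3 (Fintype.card F - 1) ∨ m ∣ Fintype.card F - 1 ∨
        m ∣ p * (Fintype.card F - 1) / Nat.gcd 3 (Fintype.card F - 1) ∨ (p = 2 ∧ m ∣ 4)} := by
  classical
  have hpp : p.Prime := Fact.out
  have hupper := Helper42.L3Upper.upper (F := F) p
  obtain ⟨xa, hxa⟩ := Helper42.L3Lower.exists_ord_a (F := F) p hpp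
  obtain ⟨xb, hxb⟩ := Helper42.L3Lower.exists_ord_b (F := F) p hpp
  obtain ⟨xc, hxc⟩ := Helper42.L3Lower.exists_ord_c (F := F)
  obtain ⟨xd, hxd⟩ := Helper42.L3Lower.exists_ord_d (F := F) p
  have hxe := Helper42.L3Lower.exists_ord_e (F := F) p
  have hpq : p ∣ Fintype.card F :=
    (CharP.cast_eq_zero_iff F p (Fintype.card F)).mp (Nat.cast_card_eq_zero F)
  obtain ⟨q, hq⟩ : ∃ q, q = Fintype.card F := ⟨_, rfl⟩
  rw [← hq] at hupper hxa hxb hxc hxd hpq ⊢
  have hq2 : 2 ≤ q := by rw [hq]; exact Fintype.one_lt_card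
  have hdA := Helper42.L3Lemmas.gcd_dvd_A q (by omega)
  have hdQ := Helper42.L3Lemmas.gcd_dvd_sq q (by omega)
  have hcop : Nat.Coprime p (q - 1) := by
    rw [Nat.Prime.coprime_iff_not_dvd hpp]
    intro h
    have h1 : p ∣ q - (q - 1) := Nat.dvd_sub hpq h
    have h2 : q - (q - 1) = 1 := by omega
    rw [h2] at h1
    exact hpp.one_lt.ne' (Nat.dvd_one.mp h1)
  obtain ⟨d, hd⟩ : ∃ d, d = Nat.gcd 3 (q - 1) := ⟨_, rfl⟩
  rw [← hd] at hupper hxa hdA hdQ ⊢
  have hdq : d ∣ q - 1 := by rw [hd]; exact Nat.gcd_dvd_right _ _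
  have hdpos : 0 < d := by
    rw [hd]
    exact Nat.gcd_pos_of_pos_left _ (by norm_num)
  have hmul : p * (q - 1) / d = p * ((q - 1) / d) := Nat.mul_div_assoc p hdq
  rw [hmul]
  apply Set.eq_of_subset_of_subset
  · rintro _ ⟨x, rfl⟩
    have h := hupper x
    simp only [Set.mem_ofPred_eq]
    tauto
  · intro s hs
    simp only [Set.mem_ofPred_eq] at hs
    have key : ∀ (x : Matrix.ProjectiveSpecialLinearGroup (Fin 3) F) (n : ℕ),
        (∀ k, x ^ k = 1 → n ∣ k) → s ∣ n →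
        s ∈ Set.range (orderOf : Matrix.ProjectiveSpecialLinearGroup (Fin 3) F → ℕ) := by
      intro x n hx hsn
      exact S2514.dvd_closed (G := Matrix.ProjectiveSpecialLinearGroup (Fin 3) F) ⟨x, rfl⟩
        (hsn.trans (hx _ (pow_orderOf_eq_one x)))
    rcases hs with hs | hs | hs | hs | ⟨hp2, hs⟩
    · refine key xa _ (fun k hk => ?_) hs
      exact (Nat.div_dvd_iff_dvd_mul hdA hdpos).mpr (hxa k hk)
    · refine key xb _ (fun k hk => ?_) hs
      obtain ⟨h1, h2⟩ := hxb k hk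
      have h3 : q ^ 2 - 1 ∣ d * k := by
        rw [hd, ← Nat.gcd_mul_right]
        exact Nat.dvd_gcd h1 h2
      exact (Nat.div_dvd_iff_dvd_mul hdQ hdpos).mpr h3
    · exact key xc _ hxc hs
    · refine key xd _ (fun k hk => ?_) hs
      obtain ⟨h1, h2⟩ := hxd k hk
      have h3 : q - 1 ∣ d * k := by
        rw [hd, ← Nat.gcd_mul_right]
        exact Nat.dvd_gcd h2 (dvd_mul_right _ _)
      have h4 : (q - 1) / d ∣ k := (Nat.div_dvd_iff_dvd_mul hdq hdpos).mpr h3
      exact Nat.Coprime.mul_dvd_of_dvd_of_dvd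
        (Nat.Coprime.coprime_dvd_right (Nat.div_dvd_of_dvd hdq) hcop) h1 h4
    · obtain ⟨xe, hxe'⟩ := hxe hp2
      exact key xe 4 hxe' hs

end Cfsg.Agent.S2476
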