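import Cfsg.Statements.S2477
import Mathlib

set_option autoImplicit false
open Cfsg

namespace Cfsg.Agent.S2477

/-- all sorted lists with entries `≥ lo` and sum `≤ budget` (fuel-bounded). -/
def enumLists : ℕ → ℕ → ℕ → List (List ℕ)
  | 0, _, _ => [[]]
  | fuel + 1, budget, lo =>
    [] :: ((List.range (budget + 1)).filter (fun a => decide (lo ≤ a))).flatMap
      (fun a => (enumLists fuel (budget - a) a).map (fun t => a :: t))

theorem mem_enumLists : ∀ (fuel budget lo : ℕ) (l : List ℕ), l.Pairwise (· ≤ ·) →
    (∀ x ∈ l, lo ≤ x) → 1 ≤ lo → l.sum ≤ budget → budget ≤ fuel → l ∈ enumLists fuel budget lo := by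
  intro fuel
  induction fuel with
  | zero =>
    intro budget lo l _ hlo h1 hsum hb
    cases l with
    | nil => simp [enumLists]
    | cons a t =>
      exfalso
      have := hlo a (by simp)
      simp at hsum
      omega
  | succ fuel ih =>
    intro budget lo l hs hlo h1 hsum hb
    cases l with
    | nil => simp [enumLists]
    | cons a t =>
      have ha := hlo a (by simp)
      simp only [List.sum_cons] at hsum
      rw [List.pairwise_cons] at hs
      have ht := ih (budget - a) a t hs.2 hs.1 (by omega) (by omega) (by omega)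
      simp only [enumLists, List.mem_cons, List.mem_flatMap, List.mem_filter, List.mem_range,
        decide_eq_true_eq, List.mem_map]
      right
      exact ⟨a, ⟨by omega, ha⟩, t, ht, rfl⟩

def goodList (l : List ℕ) : Bool :=
  decide ((l.sum + l.length) % 2 = 0 → l.foldr Nat.lcm 1 ∈ [1, 2, 3, 4, 5, 6, 7, 8, 9, 10, 12, 15, 21])

theorem all_good : ∀ l ∈ enumLists 10 10 2, goodList l = true := by
  decide

theorem lcm_mem_of_multiset (m : Multiset ℕ) (h1 : m.sum ≤ 10) (h2 : ∀ a ∈ m, 2 ≤ a)
    (h3 : Even (m.sum + Multiset.card m)) :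
    m.lcm ∈ ({1, 2, 3, 4, 5, 6, 7, 8, 9, 10, 12, 15, 21} : Set ℕ) := by
  have hm : (↑(m.sort (· ≤ ·)) : Multiset ℕ) = m := Multiset.sort_eq m _
  have hp := Multiset.pairwise_sort m (· ≤ ·)
  generalize m.sort (· ≤ ·) = l at hm hp
  subst hm
  have hmem := mem_enumLists 10 10 2 l hp (fun x hx => h2 x (by simpa using hx)) (by norm_num)
    (by simpa using h1) le_rfl
  have hg := all_good l hmem
  simp only [goodList, decide_eq_true_eq] at hg
  have h4 : (l.sum + l.length) % 2 = 0 := by
    have := Nat.even_iff.mp h3
    simpa using this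
  have h5 := hg h4
  have h6 : (↑l : Multiset ℕ).lcm = l.foldr Nat.lcm 1 := by
    induction l with
    | nil => simp
    | cons a t _ =>
      rfl
  rw [h6]
  simp only [List.mem_cons, List.mem_nil_iff, or_false] at h5
  simp only [Set.mem_insert_iff, Set.mem_singleton_iff]
  exact h5

theorem exists_of_cycleType (m : Multiset ℕ) (k : ℕ) (h1 : m.sum ≤ 10) (h2 : ∀ a ∈ m, 2 ≤ a)
    (h3 : Even (m.sum + Multiset.card m)) (h4 : m.lcm = k) :
    k ∈ Set.range (orderOf : alternatingGroup (Fin 10) → ℕ) := by
  obtain ⟨g, hg⟩ := (Equiv.Perm.exists_with_cycleType_iff (α := Fin 10) (m := m)).mpr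
    ⟨by simpa using h1, h2⟩
  have hsign : Equiv.Perm.sign g = 1 := by
    rw [Equiv.Perm.sign_of_cycleType, hg]
    exact h3.neg_one_pow
  refine ⟨⟨g, Equiv.Perm.mem_alternatingGroup.mpr hsign⟩, ?_⟩
  rw [← Subgroup.orderOf_coe]
  simp only
  rw [← Equiv.Perm.lcm_cycleType, hg, h4]

/-- The set of element orders of the alternating group of degree 10 is {1, 2, 3, 4, 5, 6, 7, 8, 9, 10, 12, 15, 21}. -/
theorem result : Set.range (orderOf : alternatingGroup (Fin 10) → ℕ) = {1, 2, 3, 4, 5, 6, 7, 8, 9, 10, 12, 15, 21} := by
  ext k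
  constructor
  · rintro ⟨g, rfl⟩
    rw [← Subgroup.orderOf_coe, ← Equiv.Perm.lcm_cycleType]
    have hsum : (g : Equiv.Perm (Fin 10)).cycleType.sum ≤ 10 := by
      have := Equiv.Perm.sum_cycleType_le (g : Equiv.Perm (Fin 10))
      simpa using this
    have hsign : Equiv.Perm.sign (g : Equiv.Perm (Fin 10)) = 1 :=
      Equiv.Perm.mem_alternatingGroup.mp g.2
    rw [Equiv.Perm.sign_of_cycleType] at hsign
    apply lcm_mem_of_multiset _ hsum (fun x hx => Equiv.Perm.two_le_of_mem_cycleType hx)
    by_contra hodd
    rw [Nat.not_even_iff_odd] at hodd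
    rw [hodd.neg_one_pow] at hsign
    exact absurd hsign (by decide)
  · intro hk
    simp only [Set.mem_insert_iff, Set.mem_singleton_iff] at hk
    rcases hk with rfl | rfl | rfl | rfl | rfl | rfl | rfl | rfl | rfl | rfl | rfl | rfl | rfl
    · exact exists_of_cycleType 0 1 (by decide) (by decide) (by decide) (by decide)
    · exact exists_of_cycleType {2, 2} 2 (by decide) (by decide) (by decide) (by decide)
    · exact exists_of_cycleType {3} 3 (by decide) (by decide) (by decide) (by decide)
    · exact exists_of_cycleType {4, 2} 4 (by decide) (by decide) (by decide) (by decide)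
    · exact exists_of_cycleType {5} 5 (by decide) (by decide) (by decide) (by decide)
    · exact exists_of_cycleType {3, 2, 2} 6 (by decide) (by decide) (by decide) (by decide)
    · exact exists_of_cycleType {7} 7 (by decide) (by decide) (by decide) (by decide)
    · exact exists_of_cycleType {8, 2} 8 (by decide) (by decide) (by decide) (by decide)
    · exact exists_of_cycleType {9} 9 (by decide) (by decide) (by decide) (by decide)
    · exact exists_of_cycleType {5, 2, 2} 10 (by decide) (by decide) (by decide) (by decide)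
    · exact exists_of_cycleType {4, 3, 2} 12 (by decide) (by decide) (by decide) (by decide)
    · exact exists_of_cycleType {5, 3} 15 (by decide) (by decide) (by decide) (by decide)
    · exact exists_of_cycleType {7, 3} 21 (by decide) (by decide) (by decide) (by decide)

end Cfsg.Agent.S2477
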