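import Cfsg.Statements.S2496
import Mathlib
import Cfsg.Agent.Helper42.OrdQmU

set_option autoImplicit false
open Cfsg

namespace Cfsg.Agent.S2496

/-- Let q be an odd prime power, n ≥ 4 even, and U = PSU(n,q) (realised over the field with q² elements). Then U has an element of order q^(n/2) + (−1)^(n/2) — that is, q^(n/2) + 1 when n/2 is even and q^(n/2) − 1 when n/2 is odd — if and only if the 2-part of n exceeds the 2-part of q + 1. -/
theorem result {F : Type*} [Field F] [Fintype F] {q : ℕ} (hF : Fintype.card F = q ^ 2) (hodd : Odd q)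
    {n : ℕ} (hn : 4 ≤ n) (heven : Even n) :
    (∃ g : Cfsg.PSU n F q, orderOf g = if Even (n / 2) then q ^ (n / 2) + 1 else q ^ (n / 2) - 1) ↔
      padicValNat 2 (q + 1) < padicValNat 2 n := by
  classical
  obtain ⟨p, hchar⟩ := CharP.exists F
  haveI := hchar
  haveI : Fact p.Prime := ⟨CharP.char_is_prime F p⟩
  have hpp : p.Prime := Fact.out
  obtain ⟨a, rfl⟩ : ∃ a, q = p ^ a := by
    obtain ⟨k, -, hk⟩ := FiniteField.card F p
    have h1 : q ∣ p ^ (k : ℕ) := by
      rw [← hk, hF]
      exact dvd_pow_self q two_ne_zero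
    obtain ⟨a, -, ha⟩ := (Nat.dvd_prime_pow hpp).mp h1
    exact ⟨a, ha⟩
  have ha : 1 ≤ a := by
    by_contra h
    have h0 : a = 0 := by omega
    rw [h0, pow_zero, one_pow] at hF
    have := Fintype.one_lt_card (α := F)
    omega
  obtain ⟨m, hm⟩ : ∃ m, n = 2 * m := by
    rcases heven with ⟨c, hc⟩
    exact ⟨c, by omega⟩
  subst hm
  have hm2 : 2 ≤ m := by omega
  have hdiv : 2 * m / 2 = m := by omega
  rw [hdiv]
  constructor
  · rintro ⟨g, hg⟩
    by_contra hcon
    push Not at hcon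
    obtain ⟨g0, rfl⟩ := QuotientGroup.mk_surjective g
    exact Cfsg.Agent.Helper42.OrdQmU.no_elt_u p a ha hF m hm2 hodd hcon g0 hg
  · intro hval
    have hme := Cfsg.Agent.Helper42.OrdQmU.even_of_val (p ^ a) m (by omega) hodd hval
    obtain ⟨x, hx⟩ := Cfsg.Agent.Helper42.OrdQmU.exists_order_u p a ha hF m hm2 hme hodd hval
    exact ⟨x, by rw [hx, if_pos hme]⟩

end Cfsg.Agent.S2496
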