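import Cfsg.Statements.S2510
import Mathlib
import Cfsg.Agent.S2514
import Cfsg.Agent.Helper42.SpecPSL

set_option autoImplicit false
open Cfsg

namespace Cfsg.Agent.S2510

/-- Let F be a finite field with q = p^a elements, n ≥ 2 (with q ≥ 4 when n = 2), L = PSL(n, F), and let r be a prime dividing q − 1 and not dividing n. Then for every m the direct product L × L × L × (ℤ/r)^m has the same set of element orders as L × L × L; and if n − 1 ≠ p^j for every j ≥ 0 (so never when n = 2, since 1 = p^0), then already L × L × (ℤ/r)^m has the same set of element orders as L × L. -/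
theorem result {F : Type*} [Field F] [Fintype F] (p a n r m : ℕ) (hp : p.Prime) (ha : 1 ≤ a) (hF : Fintype.card F = p ^ a)
    (hn : 2 ≤ n) (hn2 : n = 2 → 4 ≤ Fintype.card F) (hr : r.Prime) (hrq : r ∣ Fintype.card F - 1) (hrn : ¬ r ∣ n) :
    Set.range (orderOf : Matrix.ProjectiveSpecialLinearGroup (Fin n) F × Matrix.ProjectiveSpecialLinearGroup (Fin n) F × Matrix.ProjectiveSpecialLinearGroup (Fin n) F × Multiplicative (Fin m → ZMod r) → ℕ) =
      Set.range (orderOf : Matrix.ProjectiveSpecialLinearGroup (Fin n) F × Matrix.ProjectiveSpecialLinearGroup (Fin n) F × Matrix.ProjectiveSpecialLinearGroup (Fin n) F → ℕ) ∧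
    ((¬ ∃ j : ℕ, n - 1 = p ^ j) →
      Set.range (orderOf : Matrix.ProjectiveSpecialLinearGroup (Fin n) F × Matrix.ProjectiveSpecialLinearGroup (Fin n) F × Multiplicative (Fin m → ZMod r) → ℕ) =
        Set.range (orderOf : Matrix.ProjectiveSpecialLinearGroup (Fin n) F × Matrix.ProjectiveSpecialLinearGroup (Fin n) F → ℕ)) := by
  classical
  haveI : Fact p.Prime := ⟨hp⟩
  haveI : CharP F p := by
    obtain ⟨p', hp'⟩ := CharP.exists F
    haveI := hp'
    have hp'prime : p'.Prime := CharP.char_is_prime F p'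
    have hdvd : p' ∣ Fintype.card F :=
      (CharP.cast_eq_zero_iff F p' (Fintype.card F)).mp (Nat.cast_card_eq_zero F)
    rw [hF] at hdvd
    have := (Nat.prime_dvd_prime_iff_eq hp'prime hp).mp (hp'prime.dvd_of_dvd_pow hdvd)
    subst this
    exact hp'
  obtain ⟨m', rfl⟩ : ∃ m', n = m' + 1 := ⟨n - 1, by omega⟩
  have hm' : 1 ≤ m' := by omega
  have hrp : r ≠ p := by
    rintro rfl
    rw [hF] at hrq
    have h1 : r ∣ r ^ a := dvd_pow_self r (by omega)
    have h2 : r ∣ 1 := by
      have h3 : r ^ a - 1 + 1 = r ^ a := Nat.sub_add_cancel (Nat.one_le_pow _ _ hp.pos)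
      exact (Nat.dvd_add_right hrq).mp (h3 ▸ h1)
    exact hp.one_lt.ne' (Nat.dvd_one.mp h2)
  have hvr : ∀ v : Multiplicative (Fin m → ZMod r), v ^ r = 1 := by
    intro v
    apply Multiplicative.toAdd.injective
    rw [toAdd_pow, toAdd_one]
    funext i
    simp
  constructor
  · apply Set.eq_of_subset_of_subset
    · rintro _ ⟨⟨x, y, z, v⟩, rfl⟩
      obtain ⟨x', y', z', hcov⟩ := Helper42.SpecPSL.cover3 p m' r hm' hr hrq hrn x y z
      apply S2514.dvd_closed (G := Matrix.ProjectiveSpecialLinearGroup (Fin (m' + 1)) F ×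
        Matrix.ProjectiveSpecialLinearGroup (Fin (m' + 1)) F ×
        Matrix.ProjectiveSpecialLinearGroup (Fin (m' + 1)) F) ⟨(x', y', z'), rfl⟩
      apply orderOf_dvd_of_pow_eq_one
      have hK := pow_orderOf_eq_one (x', y', z')
      have h1 : x' ^ orderOf (x', y', z') = 1 := congrArg Prod.fst hK
      have h2 : y' ^ orderOf (x', y', z') = 1 := congrArg (fun t => t.2.1) hK
      have h3 : z' ^ orderOf (x', y', z') = 1 := congrArg (fun t => t.2.2) hK
      obtain ⟨e1, e2, e3, e4⟩ := hcov _ h1 h2 h3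
      refine Prod.ext e1 (Prod.ext e2 (Prod.ext e3 ?_))
      obtain ⟨j, hj⟩ := e4
      show v ^ orderOf (x', y', z') = 1
      rw [hj, pow_mul, hvr, one_pow]
    · rintro _ ⟨⟨x, y, z⟩, rfl⟩
      refine ⟨(x, y, z, 1), ?_⟩
      rw [orderOf_eq_orderOf_iff]
      intro k
      simp [Prod.ext_iff]
  · intro hnp
    have hnp' : ¬ ∃ j : ℕ, m' = p ^ j := by
      rintro ⟨j, hj⟩
      exact hnp ⟨j, by rw [Nat.add_sub_cancel]; exact hj⟩
    apply Set.eq_of_subset_of_subset
    · rintro _ ⟨⟨x, y, v⟩, rfl⟩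
      obtain ⟨x', y', hcov⟩ := Helper42.SpecPSL.cover2 p m' r hm' hr hrq hrn hrp hnp' x y
      apply S2514.dvd_closed (G := Matrix.ProjectiveSpecialLinearGroup (Fin (m' + 1)) F ×
        Matrix.ProjectiveSpecialLinearGroup (Fin (m' + 1)) F) ⟨(x', y'), rfl⟩
      apply orderOf_dvd_of_pow_eq_one
      have hK := pow_orderOf_eq_one (x', y')
      have h1 : x' ^ orderOf (x', y') = 1 := congrArg Prod.fst hK
      have h2 : y' ^ orderOf (x', y') = 1 := congrArg Prod.snd hK
      obtain ⟨e1, e2, e4⟩ := hcov _ h1 h2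
      refine Prod.ext e1 (Prod.ext e2 ?_)
      obtain ⟨j, hj⟩ := e4
      show v ^ orderOf (x', y') = 1
      rw [hj, pow_mul, hvr, one_pow]
    · rintro _ ⟨⟨x, y⟩, rfl⟩
      refine ⟨(x, y, 1), ?_⟩
      rw [orderOf_eq_orderOf_iff]
      intro k
      simp [Prod.ext_iff]

end Cfsg.Agent.S2510
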