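import Cfsg.Statements.S2512
import Mathlib
import Cfsg.Agent.S2514
import Cfsg.Agent.Helper42.SpecPSp

set_option autoImplicit false
open Cfsg

namespace Cfsg.Agent.S2512

/-- Let F be a finite field of odd order q = p^a, n ≥ 2 (with q ≥ 3 automatic), and L = PSp(2n, F). Then for every m the direct product L × L × L × (ℤ/2)^m has the same set of element orders as L × L × L; and if 2n − 1 is not a power of p, then already L × L × (ℤ/2)^m has the same set of element orders as L × L. -/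
theorem result {F : Type*} [Field F] [Fintype F] (p a n m : ℕ) (hp : p.Prime) (ha : 1 ≤ a) (hF : Fintype.card F = p ^ a) (hodd : Odd (Fintype.card F))
    (hn : 2 ≤ n) :
    Set.range (orderOf : Cfsg.PSp n F × Cfsg.PSp n F × Cfsg.PSp n F × Multiplicative (Fin m → ZMod 2) → ℕ) = Set.range (orderOf : Cfsg.PSp n F × Cfsg.PSp n F × Cfsg.PSp n F → ℕ) ∧
    ((¬ ∃ j : ℕ, 2 * n - 1 = p ^ j) →
      Set.range (orderOf : Cfsg.PSp n F × Cfsg.PSp n F × Multiplicative (Fin m → ZMod 2) → ℕ) = Set.range (orderOf : Cfsg.PSp n F × Cfsg.PSp n F → ℕ)) := by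
  classical
  haveI : Fact p.Prime := ⟨hp⟩
  haveI : CharP F p := by
    obtain ⟨p', hp'⟩ := CharP.exists F
    haveI := hp'
    have hp'prime : p'.Prime := CharP.char_is_prime F p'
    have hdvd : p' ∣ Fintype.card F :=
      (CharP.cast_eq_zero_iff F p' (Fintype.card F)).mp (Nat.cast_card_eq_zero F)
    rw [hF] at hdvd
    have := (Nat.prime_dvd_prime_iff_eq hp'prime hp).mp (hp'prime.dvd_of_dvd_pow hdvd)
    subst this
    exact hp'
  have hp2 : p ≠ 2 := by
    rintro rfl
    rw [hF] at hodd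
    have h1 : Even (2 ^ a) := (Nat.even_pow' (by omega)).mpr even_two
    exact (Nat.not_odd_iff_even.mpr h1) hodd
  have hvr : ∀ v : Multiplicative (Fin m → ZMod 2), v ^ 2 = 1 := by
    intro v
    apply Multiplicative.toAdd.injective
    rw [toAdd_pow, toAdd_one]
    funext i
    have h2 : (2 : ZMod 2) = 0 := by decide
    simp [h2]
  constructor
  · apply Set.eq_of_subset_of_subset
    · rintro _ ⟨⟨x, y, z, v⟩, rfl⟩
      obtain ⟨x', y', z', hcov⟩ := Helper42.SpecPSp.cover3 p hp2 hodd (by omega) x y z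
      apply S2514.dvd_closed (G := Cfsg.PSp n F × Cfsg.PSp n F × Cfsg.PSp n F) ⟨(x', y', z'), rfl⟩
      apply orderOf_dvd_of_pow_eq_one
      have hK := pow_orderOf_eq_one (x', y', z')
      have h1 : x' ^ orderOf (x', y', z') = 1 := congrArg Prod.fst hK
      have h2 : y' ^ orderOf (x', y', z') = 1 := congrArg (fun t => t.2.1) hK
      have h3 : z' ^ orderOf (x', y', z') = 1 := congrArg (fun t => t.2.2) hK
      obtain ⟨e1, e2, e3, e4⟩ := hcov _ h1 h2 h3
      refine Prod.ext e1 (Prod.ext e2 (Prod.ext e3 ?_))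
      obtain ⟨j, hj⟩ := e4
      show v ^ orderOf (x', y', z') = 1
      rw [hj, pow_mul, hvr, one_pow]
    · rintro _ ⟨⟨x, y, z⟩, rfl⟩
      refine ⟨(x, y, z, 1), ?_⟩
      rw [orderOf_eq_orderOf_iff]
      intro k
      simp [Prod.ext_iff]
  · intro hnp
    apply Set.eq_of_subset_of_subset
    · rintro _ ⟨⟨x, y, v⟩, rfl⟩
      obtain ⟨x', y', hcov⟩ := Helper42.SpecPSp.cover2 p hp2 hodd hn hnp x y
      apply S2514.dvd_closed (G := Cfsg.PSp n F × Cfsg.PSp n F) ⟨(x', y'), rfl⟩
      apply orderOf_dvd_of_pow_eq_one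
      have hK := pow_orderOf_eq_one (x', y')
      have h1 : x' ^ orderOf (x', y') = 1 := congrArg Prod.fst hK
      have h2 : y' ^ orderOf (x', y') = 1 := congrArg Prod.snd hK
      obtain ⟨e1, e2, e4⟩ := hcov _ h1 h2
      refine Prod.ext e1 (Prod.ext e2 ?_)
      obtain ⟨j, hj⟩ := e4
      show v ^ orderOf (x', y') = 1
      rw [hj, pow_mul, hvr, one_pow]
    · rintro _ ⟨⟨x, y⟩, rfl⟩
      refine ⟨(x, y, 1), ?_⟩
      rw [orderOf_eq_orderOf_iff]
      intro k
      simp [Prod.ext_iff]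

end Cfsg.Agent.S2512
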