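import Cfsg.Statements.S2530
import Mathlib.GroupTheory.Perm.Cycle.Type
import Mathlib.SetTheory.Cardinal.Finite
import Mathlib.GroupTheory.GroupAction.Jordan

set_option autoImplicit false
open Cfsg

namespace Cfsg.Agent.S2530

section gens

variable {N : ℕ} {W : Type*} [Group W] (cs : CoxeterSystem (CoxeterMatrix.A N) W)

/-- generators indexed by natural numbers (junk value `1` out of range) -/
def sg (a : ℕ) : W := if h : a < N then cs.simple ⟨a, h⟩ else 1

theorem sg_of_lt {a : ℕ} (h : a < N) : sg cs a = cs.simple ⟨a, h⟩ := by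
  simp [sg, h]

theorem sg_of_not_lt {a : ℕ} (h : ¬ a < N) : sg cs a = 1 := by
  simp [sg, h]

theorem sg_sq (a : ℕ) : sg cs a * sg cs a = 1 := by
  by_cases h : a < N
  · rw [sg_of_lt cs h]
    exact cs.simple_mul_simple_self _
  · rw [sg_of_not_lt cs h, mul_one]

theorem sg_comm {a b : ℕ} (hab : a + 2 ≤ b) : sg cs a * sg cs b = sg cs b * sg cs a := by
  by_cases hb : b < N
  · have ha : a < N := by omega
    rw [sg_of_lt cs ha, sg_of_lt cs hb]
    have h1 := cs.simple_mul_simple_pow ⟨a, ha⟩ ⟨b, hb⟩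
    have hM : (CoxeterMatrix.A N) ⟨a, ha⟩ ⟨b, hb⟩ = 2 := by
      simp only [CoxeterMatrix.A, Matrix.of_apply, Fin.mk.injEq]
      rw [if_neg (by omega), if_neg (by omega)]
    rw [hM, pow_two] at h1
    have h2 := cs.simple_mul_simple_self ⟨a, ha⟩
    have h3 := cs.simple_mul_simple_self ⟨b, hb⟩
    have hs := inv_eq_of_mul_eq_one_left h2
    have ht := inv_eq_of_mul_eq_one_left h3
    have hst := inv_eq_of_mul_eq_one_left h1
    calc cs.simple ⟨a, ha⟩ * cs.simple ⟨b, hb⟩
        = (cs.simple ⟨a, ha⟩ * cs.simple ⟨b, hb⟩)⁻¹ := hst.symm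
      _ = cs.simple ⟨b, hb⟩ * cs.simple ⟨a, ha⟩ := by rw [mul_inv_rev, hs, ht]
  · rw [sg_of_not_lt cs hb, mul_one, one_mul]

theorem sg_braid {a : ℕ} (ha : a + 1 < N) :
    sg cs a * sg cs (a + 1) * sg cs a = sg cs (a + 1) * sg cs a * sg cs (a + 1) := by
  have ha' : a < N := by omega
  rw [sg_of_lt cs ha', sg_of_lt cs ha]
  have h1 := cs.simple_mul_simple_pow ⟨a, ha'⟩ ⟨a + 1, ha⟩
  have hM : (CoxeterMatrix.A N) ⟨a, ha'⟩ ⟨a + 1, ha⟩ = 3 := by
    simp [CoxeterMatrix.A]
  rw [hM, pow_succ, pow_two] at h1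
  have h2 := cs.simple_mul_simple_self ⟨a, ha'⟩
  have h3 := cs.simple_mul_simple_self ⟨a + 1, ha⟩
  have hs := inv_eq_of_mul_eq_one_left h2
  have ht := inv_eq_of_mul_eq_one_left h3
  set s := cs.simple ⟨a, ha'⟩
  set t := cs.simple ⟨a + 1, ha⟩
  have h4 : (s * t * s) * (t * s * t) = 1 := by
    rw [← h1]; simp only [mul_assoc]
  calc s * t * s = (t * s * t)⁻¹ := eq_inv_of_mul_eq_one_left h4
    _ = t * s * t := by rw [mul_inv_rev, mul_inv_rev, hs, ht, mul_assoc]

end gens

section cosets

variable {n : ℕ} {W : Type*} [Group W] (cs : CoxeterSystem (CoxeterMatrix.A (n + 1)) W)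

/-- `cw k = s_n s_{n-1} ⋯ s_{n-k+1}` -/
def cw : ℕ → W
  | 0 => 1
  | k + 1 => cw k * sg cs (n - k)

theorem cw_zero : cw cs 0 = 1 := rfl

theorem cw_succ (k : ℕ) : cw cs (k + 1) = cw cs k * sg cs (n - k) := rfl

theorem sg_comm_cw (k a : ℕ) (h : a + k < n) : sg cs a * cw cs k = cw cs k * sg cs a := by
  induction k with
  | zero => simp [cw_zero]
  | succ k ih =>
    rw [cw_succ, ← mul_assoc, ih (by omega), mul_assoc, sg_comm cs (by omega : a + 2 ≤ n - k),
      mul_assoc]

theorem cw_mul_sg (k i : ℕ) (hi1 : 1 ≤ i) (hin : i ≤ n) (hik : n + 2 ≤ i + k) (hk : k ≤ n + 1) :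
    cw cs k * sg cs i = sg cs (i - 1) * cw cs k := by
  induction k with
  | zero => omega
  | succ k ih =>
    rcases Nat.lt_or_ge (n + 2) (i + (k + 1)) with h | h
    · rw [cw_succ, mul_assoc, sg_comm cs (by omega : (n - k) + 2 ≤ i), ← mul_assoc,
        ih (by omega) (by omega), mul_assoc]
    · obtain ⟨k', rfl⟩ : ∃ k', k = k' + 1 := ⟨k - 1, by omega⟩
      rw [cw_succ, cw_succ]
      have e1 : n - (k' + 1) = i - 1 := by omega
      have e2 : n - k' = i := by omega
      rw [e1, e2]
      have hb := sg_braid cs (a := i - 1) (by omega)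
      rw [show i - 1 + 1 = i by omega] at hb
      have hc := sg_comm_cw cs k' (i - 1) (by omega)
      calc cw cs k' * sg cs i * sg cs (i - 1) * sg cs i
          = cw cs k' * (sg cs i * sg cs (i - 1) * sg cs i) := by simp only [mul_assoc]
        _ = cw cs k' * (sg cs (i - 1) * sg cs i * sg cs (i - 1)) := by rw [hb]
        _ = (cw cs k' * sg cs (i - 1)) * sg cs i * sg cs (i - 1) := by simp only [mul_assoc]
        _ = sg cs (i - 1) * (cw cs k' * sg cs i * sg cs (i - 1)) := by
            rw [← hc]; simp only [mul_assoc]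

theorem cw_mul_sg_exists (k i : ℕ) (hk : k ≤ n + 1) (hi : i ≤ n) :
    ∃ (h' : W) (k' : ℕ), (h' = 1 ∨ ∃ a, a < n ∧ h' = sg cs a) ∧ k' ≤ n + 1 ∧
      cw cs k * sg cs i = h' * cw cs k' := by
  rcases lt_trichotomy (i + k) n with h | h | h
  · exact ⟨sg cs i, k, Or.inr ⟨i, by omega, rfl⟩, hk, (sg_comm_cw cs k i h).symm⟩
  · refine ⟨1, k + 1, Or.inl rfl, by omega, ?_⟩
    rw [cw_succ, one_mul, show n - k = i by omega]
  · rcases Nat.eq_or_lt_of_le (show n + 1 ≤ i + k from h) with h' | h'
    · obtain ⟨k', rfl⟩ : ∃ k', k = k' + 1 := ⟨k - 1, by omega⟩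
      refine ⟨1, k', Or.inl rfl, by omega, ?_⟩
      rw [cw_succ, show n - k' = i by omega, mul_assoc, sg_sq, mul_one, one_mul]
    · exact ⟨sg cs (i - 1), k, Or.inr ⟨i - 1, by omega, rfl⟩, hk,
        cw_mul_sg cs k i (by omega) hi (by omega) hk⟩

end cosets

theorem card_le (n : ℕ) :
    Finite (CoxeterMatrix.A n).Group ∧ Nat.card (CoxeterMatrix.A n).Group ≤ (n + 1).factorial := by
  induction n with
  | zero =>
    have hone : ∀ w : (CoxeterMatrix.A 0).Group, w = 1 := by
      intro w
      exact (CoxeterMatrix.A 0).toCoxeterSystem.simple_induction_right (p := fun w => w = 1) w rfl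
        (fun w i _ => i.elim0)
    have hsub : Subsingleton (CoxeterMatrix.A 0).Group := ⟨fun a b => by rw [hone a, hone b]⟩
    refine ⟨inferInstance, ?_⟩
    rw [Nat.card_eq_one_iff_unique.mpr ⟨hsub, ⟨1⟩⟩]
    simp
  | succ n ih =>
    obtain ⟨hfin, hcard⟩ := ih
    let cs := (CoxeterMatrix.A (n + 1)).toCoxeterSystem
    let cs0 := (CoxeterMatrix.A n).toCoxeterSystem
    have hlift : (CoxeterMatrix.A n).IsLiftable (fun i : Fin n => cs.simple i.castSucc) := by
      intro i i'
      have h1 := cs.simple_mul_simple_pow i.castSucc i'.castSucc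
      have hM : (CoxeterMatrix.A (n + 1)) i.castSucc i'.castSucc = (CoxeterMatrix.A n) i i' := by
        simp [CoxeterMatrix.A, Fin.ext_iff]
      rw [hM] at h1
      exact h1
    let ι : (CoxeterMatrix.A n).Group →* (CoxeterMatrix.A (n + 1)).Group := cs0.lift ⟨_, hlift⟩
    have hι : ∀ (a : ℕ) (ha : a < n), ι (cs0.simple ⟨a, ha⟩) = sg cs a := by
      intro a ha
      rw [cs0.lift_apply_simple hlift, sg_of_lt cs (by omega)]
      rfl
    let F : (CoxeterMatrix.A n).Group × Fin (n + 2) → (CoxeterMatrix.A (n + 1)).Group :=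
      fun p => ι p.1 * cw cs p.2
    have hF : Function.Surjective F := by
      intro w
      refine cs.simple_induction_right (p := fun w => ∃ p, F p = w) w
        ⟨(1, 0), by simp [F, cw_zero]⟩ ?_
      rintro w i ⟨⟨h, k⟩, rfl⟩
      obtain ⟨h', k', hh', hk', e⟩ := cw_mul_sg_exists cs k i (by omega) (by omega)
      have hsi : cs.simple i = sg cs i := (sg_of_lt cs i.2).symm
      obtain ⟨h'', rfl⟩ : ∃ h'', ι h'' = h' := by
        rcases hh' with rfl | ⟨a, ha, rfl⟩
        · exact ⟨1, map_one _⟩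
        · exact ⟨cs0.simple ⟨a, ha⟩, hι a ha⟩
      refine ⟨(h * h'', ⟨k', by omega⟩), ?_⟩
      simp only [F]
      rw [map_mul, mul_assoc, ← e, hsi, mul_assoc]
    refine ⟨Finite.of_surjective F hF, ?_⟩
    calc Nat.card (CoxeterMatrix.A (n + 1)).Group
        ≤ Nat.card ((CoxeterMatrix.A n).Group × Fin (n + 2)) :=
          Nat.card_le_card_of_surjective F hF
      _ = Nat.card (CoxeterMatrix.A n).Group * (n + 2) := by rw [Nat.card_prod, Nat.card_fin]
      _ ≤ (n + 1).factorial * (n + 2) := Nat.mul_le_mul_right _ hcard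
      _ = (n + 1 + 1).factorial := by rw [Nat.factorial_succ (n + 1)]; ring

theorem swap_liftable (n : ℕ) :
    (CoxeterMatrix.A n).IsLiftable (fun i : Fin n => Equiv.swap i.castSucc i.succ) := by
  intro i i'
  show (Equiv.swap i.castSucc i.succ * Equiv.swap i'.castSucc i'.succ) ^
    (CoxeterMatrix.A n) i i' = 1
  have hM : (CoxeterMatrix.A n) i i' = if i = i' then 1
      else (if (i' : ℕ) + 1 = i ∨ (i : ℕ) + 1 = i' then 3 else 2) := rfl
  rw [hM]
  split_ifs with h1 h2
  · subst h1; simp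
  · rcases h2 with h2 | h2
    · have e : i.castSucc = i'.succ := Fin.ext (by simp; omega)
      rw [e, Equiv.swap_comm i'.castSucc i'.succ]
      have h3c := Equiv.Perm.isThreeCycle_swap_mul_swap_same (a := i'.succ) (b := i.succ)
        (c := i'.castSucc) (by simp [Fin.ext_iff]; omega) (by simp [Fin.ext_iff])
        (by simp [Fin.ext_iff]; omega)
      have h4 := pow_orderOf_eq_one (Equiv.swap i'.succ i.succ * Equiv.swap i'.succ i'.castSucc)
      rw [h3c.orderOf] at h4
      exact h4
    · have e : i'.castSucc = i.succ := Fin.ext (by simp; omega)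
      rw [e, Equiv.swap_comm i.castSucc i.succ]
      have h3c := Equiv.Perm.isThreeCycle_swap_mul_swap_same (a := i.succ) (b := i.castSucc)
        (c := i'.succ) (by simp [Fin.ext_iff]) (by simp [Fin.ext_iff]; omega)
        (by simp [Fin.ext_iff]; omega)
      have h4 := pow_orderOf_eq_one (Equiv.swap i.succ i.castSucc * Equiv.swap i.succ i'.succ)
      rw [h3c.orderOf] at h4
      exact h4
  · have hd : Equiv.Perm.Disjoint (Equiv.swap i.castSucc i.succ)
        (Equiv.swap i'.castSucc i'.succ) := by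
      apply Equiv.Perm.disjoint_swap_swap
      have hne : (i : ℕ) ≠ i' := fun h => h1 (Fin.ext h)
      simp [Fin.ext_iff]
      omega
    rw [hd.commute.mul_pow]
    simp [pow_two]

/-- The Coxeter presentation of the symmetric group: for every n, the symmetric group on n+1 letters is the Coxeter group of type A_n with the adjacent transpositions (i, i+1) as simple reflections; that is, it is presented by generators r_1, …, r_n subject to r_i² = 1, (r_i r_j)² = 1 for |i − j| > 1 and (r_i r_{i+1})³ = 1, with r_i mapping to (i, i+1). -/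
theorem result (n : ℕ) :
    ∃ cs : CoxeterSystem (CoxeterMatrix.A n) (Equiv.Perm (Fin (n + 1))), ∀ i : Fin n, cs.simple i = Equiv.swap i.castSucc i.succ := by
  classical
  let cs0 := (CoxeterMatrix.A n).toCoxeterSystem
  have hlift := swap_liftable n
  let φ : (CoxeterMatrix.A n).Group →* Equiv.Perm (Fin (n + 1)) := cs0.lift ⟨_, hlift⟩
  have hsurj : Function.Surjective φ := by
    have h1 : Submonoid.closure (Set.range fun i : Fin n => Equiv.swap i.castSucc i.succ) ≤
        MonoidHom.mrange φ := by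
      rw [Submonoid.closure_le]
      rintro _ ⟨i, rfl⟩
      exact ⟨cs0.simple i, cs0.lift_apply_simple hlift i⟩
    rw [Equiv.Perm.mclosure_swap_castSucc_succ] at h1
    intro σ
    exact h1 (Submonoid.mem_top σ)
  obtain ⟨hfin, hcard⟩ := card_le n
  have hbij : Function.Bijective φ := by
    apply hsurj.bijective_of_nat_card_le
    rw [Nat.card_perm, Nat.card_fin]
    exact hcard
  let e := MulEquiv.ofBijective φ hbij
  refine ⟨⟨e.symm⟩, fun i => ?_⟩
  exact cs0.lift_apply_simple hlift i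

end Cfsg.Agent.S2530
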