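import Cfsg.Statements.S2556
import Cfsg.Agent.Helper43.SylowSz

set_option autoImplicit false
open Cfsg

namespace Cfsg.Agent.S2556

/-- Let S be a Sylow 2-subgroup of the Suzuki group Sz(q), q = 2ⁿ with n = 2m + 1 ≥ 3 (realised as 4 × 4 matrices over the field with q elements). Then the largest normal 2-subgroup of the automorphism group of S is elementary abelian of order 2^(n²), and the automorphism group of S has order 2^(n²) · n · (q − 1). -/
theorem result {S : Type*} [Group S] [Finite S] (m : ℕ) (hm : 1 ≤ m)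
    {F : Type*} [Field F] [Fintype F] (hF : Fintype.card F = 2 ^ (2 * m + 1))
    (P : Sylow 2 ↥(Cfsg.Lie.Sz F (2 ^ (m + 1)))) (hS : Nonempty (S ≃* ↥(P : Subgroup ↥(Cfsg.Lie.Sz F (2 ^ (m + 1)))))) :
    Cfsg.IsElementaryAbelian 2 (Cfsg.pCore 2 (MulAut S)) ∧ Nat.card ↥(Cfsg.pCore 2 (MulAut S)) = 2 ^ ((2 * m + 1) ^ 2) ∧
      Nat.card (MulAut S) = 2 ^ ((2 * m + 1) ^ 2) * ((2 * m + 1) * (2 ^ (2 * m + 1) - 1)) := by
  obtain ⟨e⟩ := hS
  haveI : CharP F 2 := Cfsg.Agent.Helper43.SylowSz.charP_two_of_card_pow hF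
  obtain ⟨H₀⟩ := Cfsg.Agent.Helper43.SylowSz.exists_param_sylow hF P
  have HP : Cfsg.Agent.Helper43.SuzAut.SuzParam F
      (Cfsg.Agent.Helper43.SylowSz.thEquiv F (m + 1)) S := H₀.map e.symm
  haveI : Cfsg.Agent.Helper60.SzField F (m + 1) := Cfsg.Agent.Helper60.szField_of_card hF
  have hθ : ∀ x : F, Cfsg.Agent.Helper43.SylowSz.thEquiv F (m + 1)
      (Cfsg.Agent.Helper43.SylowSz.thEquiv F (m + 1) x) = x ^ 2 :=
    fun x => Cfsg.Agent.Helper60.SzField.sq x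
  have hθr : ∀ x : F, Cfsg.Agent.Helper43.SylowSz.thEquiv F (m + 1) x = x ^ 2 ^ (m + 1) :=
    fun x => Cfsg.Agent.Helper43.SylowSz.thEquiv_pow (m + 1) x
  have hn : 3 ≤ 2 * m + 1 := by omega
  have e1 : (2 * m + 1) ^ 2 = (2 * m + 1) * (2 * m + 1) := by ring
  rw [e1, Cfsg.Agent.Helper43.SuzAut.pCore_eq HP hF hn hθr hθ]
  exact ⟨Cfsg.Agent.Helper43.SuzAut.ker_elementary HP hθ,
    Cfsg.Agent.Helper43.SuzAut.card_ker HP hF hθ,
    Cfsg.Agent.Helper43.SuzAut.card_aut HP hF hn hθr hθ⟩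

end Cfsg.Agent.S2556
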