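import Cfsg.Statements.S2770
import Cfsg.Agent.Helper87.PushUpZ

set_option autoImplicit false
open Cfsg

namespace Cfsg.Agent.S2770

/-- Let G be a finite group and p a prime with C_G(O_p(G)) ≤ O_p(G), S a Sylow p-subgroup lying in exactly one maximal subgroup of G, and G/K ≅ PSL₂(p^n) for some normal K and n ≥ 1. If Z(S) is not elementary abelian, then either ℧¹(Z(S)) (the subgroup generated by the p-th powers of the elements of Z(S)) is normal in G or C_S(Z(J(S))) is normal in G, J(S) being generated by the abelian subgroups of S of largest order. -/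
theorem result {G : Type*} [Group G] [Finite G] {p : ℕ} [Fact p.Prime] (S : Sylow p G) (hE₁ : Subgroup.centralizer (Cfsg.pCore p G : Set G) ≤ Cfsg.pCore p G) (hE₂ : ∃! M : Subgroup G, IsCoatom M ∧ (S : Subgroup G) ≤ M) (K : Subgroup G) [K.Normal] (F : Type) [Field F] [Fintype F] (n : ℕ) (hn : 1 ≤ n) (hF : Fintype.card F = p ^ n) (hE₃ : Nonempty (G ⧸ K ≃* Matrix.ProjectiveSpecialLinearGroup (Fin 2) F)) (h : ¬ Cfsg.IsElementaryAbelian p ((S : Subgroup G) ⊓ Subgroup.centralizer ((S : Subgroup G) : Set G))) : (Cfsg.powerClosure p 1 ((S : Subgroup G) ⊓ Subgroup.centralizer ((S : Subgroup G) : Set G))).Normal ∨ (((S : Subgroup G) ⊓ Subgroup.centralizer (Cfsg.centerThompsonAOf (S : Subgroup G) : Set G))).Normal := by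
  have hQS : Cfsg.pCore p G ≤ S := Helper11.pCore_le_sylow S
  have hW0 := Helper87.pu_W S hE₁
  obtain ⟨W, hWdef⟩ : ∃ W : Subgroup G, W = Subgroup.normalClosure
      (((S : Subgroup G) ⊓ Subgroup.centralizer ((S : Subgroup G) : Set G) : Subgroup G) : Set G) :=
    ⟨_, rfl⟩
  rw [← hWdef] at hW0
  have hWn : W.Normal := by
    rw [hWdef]
    infer_instance
  have hZW : (S : Subgroup G) ⊓ Subgroup.centralizer ((S : Subgroup G) : Set G) ≤ W := by
    rw [hWdef]
    exact Subgroup.le_normalClosure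
  have hWQ : W ≤ Cfsg.pCore p G := hW0.trans inf_le_left
  have hWC : W ≤ Subgroup.centralizer (Cfsg.pCore p G : Set G) := hW0.trans inf_le_right
  have hWS : W ≤ S := hWQ.trans hQS
  have hWab : Helper19.Ab W := fun a ha b hb =>
    Subgroup.mem_centralizer_iff.mp (hWC hb) a (hWQ ha)
  by_cases hno : ∀ A, Helper19.MaxAb (S : Subgroup G) A → A ≤ Subgroup.centralizer (W : Set G)
  · exact Helper87.pu_no_offender S hE₂ W hZW hno
  · have hno' : ∃ A, Helper19.MaxAb (S : Subgroup G) A ∧
        ¬ A ≤ Subgroup.centralizer (W : Set G) := by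
      by_contra hcon
      exact hno (fun A hA => by_contra (fun hA' => hcon ⟨A, hA, hA'⟩))
    obtain ⟨A, hA, hAW, hWA⟩ := Helper87.pu_offender_normalizes S W hWS hWab hno'
    obtain ⟨b, hbA, hbW, hbP⟩ := Helper87.pu_offender_pow (p := p) (S : Subgroup G) W A
      S.isPGroup' hWab hA.2.1 hA.1 hWA hAW
    have hPn : (Cfsg.powerClosure p 1 W).Normal := Helper87.pu_powerClosure_normal p 1 W
    left
    have hNS : Subgroup.centralizer (Cfsg.powerClosure p 1 W : Set G) ⊔ (S : Subgroup G) = ⊤ := by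
      by_contra hne
      obtain ⟨_, hle⟩ := Helper87.pu_pmin S hE₂ _ hne
      have hbQ : b ∈ Cfsg.pCore p G := hle ⟨hA.1 hbA, hbP⟩
      apply hbW
      rw [Subgroup.mem_centralizer_iff]
      intro w hw
      exact (Subgroup.mem_centralizer_iff.mp (hWC hw) b hbQ).symm
    apply Helper87.pu_alt1 p (S : Subgroup G) _ hNS
    intro z hz
    rw [Subgroup.mem_centralizer_iff]
    intro n hn
    have hzp : z ^ p ∈ Cfsg.powerClosure p 1 W :=
      Subgroup.subset_closure ⟨z, hZW hz, by rw [pow_one]⟩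
    exact (Subgroup.mem_centralizer_iff.mp hn _ hzp).symm

end Cfsg.Agent.S2770
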