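import Cfsg.Statements.S2787
-- import your own Cfsg.Agent.* helpers here
import Cfsg.Agent.Helper91.QRQUAD
import Cfsg.Agent.Helper41.QRACT
import Cfsg.Agent.Helper41.QRCORE
import Cfsg.Agent.Helper41.QRSL2
import Cfsg.Agent.Helper55.QRQ8
import Cfsg.Agent.Helper80.QRPSL
import Cfsg.Agent.Helper88.QRREE

set_option autoImplicit false
open Cfsg

namespace Cfsg.Agent.S2787

/-- Let p be a prime and let H act by conjugation on the elementary abelian p-subgroup V of a finite group, irreducibly (no H-invariant subgroups of V other than 1 and V) and nontrivially, and suppose H/C_H(V) is isomorphic to PSL₂(F) for a field F with p^n elements, p^n odd, or p = 3 and H/C_H(V) is isomorphic to a Ree group ²G₂(3^(2m+1)), m ≥ 1. Then no subgroup A of H acting nontrivially on V acts quadratically: [V, A, A] = 1 forces [V, A] = 1. -/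
theorem result {G : Type*} [Group G] [Finite G] {p : ℕ} [Fact p.Prime] (V H : Subgroup G) (hV : Cfsg.IsElementaryAbelian p V) (hHV : H ≤ Subgroup.normalizer (V : Set G)) (hirr : ∀ U : Subgroup G, U ≤ V → H ≤ Subgroup.normalizer (U : Set G) → U = ⊥ ∨ U = V) (hnt : ¬ H ≤ Subgroup.centralizer (V : Set G)) [hn : ((Subgroup.centralizer (V : Set G)).subgroupOf H).Normal] (hq : (∃ (F : Type) (_ : Field F) (_ : Fintype F) (n : ℕ), Fintype.card F = p ^ n ∧ Odd (Fintype.card F) ∧ Nonempty (↥H ⧸ (Subgroup.centralizer (V : Set G)).subgroupOf H ≃* Matrix.ProjectiveSpecialLinearGroup (Fin 2) F)) ∨ (p = 3 ∧ Cfsg.Lie.IsoRee (↥H ⧸ (Subgroup.centralizer (V : Set G)).subgroupOf H))) (A : Subgroup G) (hA : A ≤ H) (hquad : ⁅⁅V, A⁆, A⁆ = ⊥) : ⁅V, A⁆ = ⊥ := by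
  classical
  by_contra hne
  have hp2 : p ≠ 2 := by
    rcases hq with ⟨F, _, _, n, hcard, hodd, -⟩ | ⟨h3, -⟩
    · rintro rfl
      rw [hcard] at hodd
      rcases Nat.eq_zero_or_pos n with rfl | hn0
      · have h1 : 1 < Fintype.card F := Fintype.one_lt_card
        rw [hcard] at h1
        simp at h1
      · exact (Nat.not_even_iff_odd.mpr hodd) ((Nat.even_pow).mpr ⟨even_two, hn0.ne'⟩)
    · rw [h3]; decide
  obtain ⟨a, haA, haC, haq⟩ := Cfsg.Agent.Helper91.qr_quad V A hquad hne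
  obtain ⟨φ, hφ, hφv⟩ := Cfsg.Agent.Helper41.qr_act V H hHV
  letI instV : CommGroup ↥V :=
    { (inferInstance : Group ↥V) with mul_comm := fun x y => hV.1.is_comm.comm x y }
  have hMp : ∀ x : ↥V, x ^ p = 1 := fun x => Subtype.ext (by simpa using hV.2 x x.2)
  have hirr' : ∀ U : Subgroup ↥V,
      (∀ q : ↥H ⧸ (Subgroup.centralizer (V : Set G)).subgroupOf H, ∀ u ∈ U, φ q u ∈ U) →
        U = ⊥ ∨ U = ⊤ := by
    intro U hU
    have hU' : H ≤ Subgroup.normalizer ((U.map V.subtype : Subgroup G) : Set G) := by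
      intro h hh
      rw [Subgroup.mem_normalizer_iff]
      intro x
      constructor
      · rintro ⟨u, hu, rfl⟩
        exact ⟨φ (QuotientGroup.mk ⟨h, hh⟩) u, hU _ u hu, hφv ⟨h, hh⟩ u⟩
      · rintro ⟨u, hu, hux⟩
        refine ⟨φ (QuotientGroup.mk (⟨h, hh⟩⁻¹ : ↥H)) u, hU _ u hu, ?_⟩
        have h1 := hφv (⟨h, hh⟩⁻¹ : ↥H) u
        have h2 : (V.subtype u : G) = h * x * h⁻¹ := hux
        have h3 : ((u : ↥V) : G) = h * x * h⁻¹ := h2
        change ((φ (QuotientGroup.mk (⟨h, hh⟩⁻¹ : ↥H)) u : ↥V) : G) = x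
        rw [h1, h3]
        simp [mul_assoc]
    rcases hirr _ (Subgroup.map_subtype_le U) hU' with h0 | h1
    · left
      exact (Subgroup.map_eq_bot_iff_of_injective U V.subtype_injective).mp h0
    · right
      rw [eq_top_iff]
      intro v _
      have hv : (v : G) ∈ U.map V.subtype := by rw [h1]; exact v.2
      obtain ⟨u, hu, huv⟩ := hv
      have : u = v := Subtype.ext huv
      rwa [← this]
  have hcore : ∀ N : Subgroup (↥H ⧸ (Subgroup.centralizer (V : Set G)).subgroupOf H),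
      N.Normal → IsPGroup p N → N = ⊥ :=
    fun N hNn hN => Cfsg.Agent.Helper41.qr_core p hMp φ hφ hirr' N hNn hN
  have ha1 : (QuotientGroup.mk ⟨a, hA haA⟩ :
      ↥H ⧸ (Subgroup.centralizer (V : Set G)).subgroupOf H) ≠ 1 := by
    intro h1
    rw [QuotientGroup.eq_one_iff] at h1
    exact haC (Subgroup.mem_subgroupOf.mp h1)
  have haquad : ∀ m : ↥V,
      φ (QuotientGroup.mk ⟨a, hA haA⟩) (φ (QuotientGroup.mk ⟨a, hA haA⟩) m / m) =
        φ (QuotientGroup.mk ⟨a, hA haA⟩) m / m := by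
    intro m
    apply Subtype.ext
    have h1 : ((φ (QuotientGroup.mk ⟨a, hA haA⟩) m / m : ↥V) : G) =
        a * (m : G) * a⁻¹ * (m : G)⁻¹ := by
      have h2 := hφv ⟨a, hA haA⟩ m
      change ((φ (QuotientGroup.mk ⟨a, hA haA⟩) m : ↥V) : G) / (m : G) = _
      rw [h2, div_eq_mul_inv]
    rw [hφv, h1]
    exact haq m m.2
  obtain ⟨K, θ, hθ⟩ := Cfsg.Agent.Helper41.qr_sl2 p hp2 hMp φ hφ hcore _ ha1 haquad
  obtain ⟨x, y, hT, hx, hy, hxy⟩ := Cfsg.Agent.Helper55.qr_q8 p hp2 K θ hθ
  rcases hq with ⟨F, _, _, n, hcard, hodd, ⟨e⟩⟩ | ⟨h3, K', _, _, m, hm, hK', ⟨e⟩⟩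
  · have hT' : IsPGroup 2 (Subgroup.closure
        ({e x, e y} : Set (Matrix.ProjectiveSpecialLinearGroup (Fin 2) F))) := by
      have h1 : (Subgroup.closure ({x, y} : Set _)).map e.toMonoidHom =
          Subgroup.closure ({e x, e y} : Set _) := by
        rw [MonoidHom.map_closure, Set.image_pair]
        rfl
      rw [← h1]
      exact hT.map _
    have hx' : e x * e x ≠ 1 := by
      rw [← map_mul]
      intro h
      exact hx (e.injective (by rw [h, map_one]))
    have hy' : e y * e y ≠ 1 := by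
      rw [← map_mul]
      intro h
      exact hy (e.injective (by rw [h, map_one]))
    have h2 := Cfsg.Agent.Helper80.qr_psl hodd (e x) (e y) hT' hx' hy'
    apply hxy
    apply e.injective
    rw [map_mul, map_mul]
    exact h2
  · have hT' : IsPGroup 2 (Subgroup.closure
        ({e x, e y} : Set ↥(Cfsg.Lie.twistedG2 K' (3 ^ m)))) := by
      have h1 : (Subgroup.closure ({x, y} : Set _)).map e.toMonoidHom =
          Subgroup.closure ({e x, e y} : Set _) := by
        rw [MonoidHom.map_closure, Set.image_pair]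
        rfl
      rw [← h1]
      exact hT.map _
    have h2 := Cfsg.Agent.Helper88.qr_ree hm hK' (e x) (e y) hT'
    apply hxy
    apply e.injective
    rw [map_mul, map_mul]
    exact h2

end Cfsg.Agent.S2787
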