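import Cfsg.Statements.S2794
import Cfsg.Agent.Helper11.SecFusionB
import Cfsg.Agent.Helper11.QdLikeQd
import Cfsg.Agent.Helper11.QuadQd
import Cfsg.Agent.S0659

set_option autoImplicit false
open Cfsg

namespace Cfsg.Agent.S2794

/-- For an odd prime p and a finite group G, the group Qd(p) is not involved in G if and only if in every section K/R of G, for every Sylow p-subgroup S* of K/R, the centre of J(S*) (J generated by the abelian subgroups of largest order) controls strong fusion in K/R. -/
theorem result {G : Type*} [Group G] [Finite G] {p : ℕ} [Fact p.Prime] (hp : p ≠ 2) : ¬ Cfsg.Involves ↥(Cfsg.qd p) G ↔ ∀ (K R : Subgroup G) [hR : (R.subgroupOf K).Normal], ∀ T : Sylow p (K ⧸ R.subgroupOf K), Cfsg.ControlsStrongFusion p (Cfsg.centerThompsonAOf (T : Subgroup (K ⧸ R.subgroupOf K))) := by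
  constructor
  · intro hqd K R hR T
    have hno : ∀ (K R : Subgroup G) [hR : (R.subgroupOf K).Normal],
        ¬ Cfsg.Agent.Helper33.IsSectionOf (↥K ⧸ R.subgroupOf K) ↥(Cfsg.qd p) := by
      intro K R hR hsec
      exact hqd ((Cfsg.Agent.Helper33.isSectionOf_quotient_subgroupOf K R).trans hsec).exists_equiv
    have h := Cfsg.Agent.Helper11.sf_controlsStrongFusion_sections
      (Cfsg.Agent.S0659.isCharPFunctor_zjA p) (G := G) (fun K R hR hc T => by
        rw [Cfsg.Agent.S0659.inducedFunctor_zjA, Cfsg.Agent.Helper11.centerThompsonAOf_eq_sInf]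
        have hchar := Cfsg.Agent.Helper11.zj_generic hp hc
          (fun V _ hV => fun a ha => by
            by_contra hout
            exact hno K R (Cfsg.Agent.Helper11.qd_section_of_quadratic hp V hV a ha hout)) T
          (fun A : Subgroup (↥K ⧸ R.subgroupOf K) => IsMulCommutative A) (fun A h => h)
          Cfsg.Agent.Helper11.isMulCommutative_bot_subgroup
          (fun φ A hA => by have := hA; infer_instance)
          (fun A A' _ h _ _ => h)
        exact Subgroup.normal_of_characteristic _) K R T
    rw [Cfsg.Agent.S0659.inducedFunctor_zjA] at h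
    exact h
  · intro h hinv
    obtain ⟨K, R, hR, ⟨e⟩⟩ := hinv
    obtain ⟨T⟩ : Nonempty (Sylow p (↥K ⧸ R.subgroupOf K)) := inferInstance
    exact Cfsg.Agent.Helper11.not_controls_of_qdLike
      ((Cfsg.Agent.Helper11.qdLike_qd p).of_equiv e.symm) T (h K R T)

end Cfsg.Agent.S2794
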