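import Cfsg.Statements.S2801
import Cfsg.Agent.Helper46.Basic

set_option autoImplicit false
open Cfsg

namespace Cfsg.Agent.S2801

/-- Let L be a finite group and p a prime with C_L(O_p(L)) ≤ O_p(L). Then L has a unique largest p-reduced normal subgroup: some normal elementary abelian p-subgroup Y with O_p(L/C_L(Y)) = 1 contains every other such subgroup. -/
theorem result {L : Type*} [Group L] [Finite L] {p : ℕ} [Fact p.Prime] (hchar : Subgroup.centralizer (Cfsg.pCore p L : Set L) ≤ Cfsg.pCore p L) : ∃ Y : Subgroup L, (Cfsg.IsPReducedNormal p Y ∧ ∀ V : Subgroup L, Cfsg.IsPReducedNormal p V → V ≤ Y) := by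
  refine ⟨sSup {V : Subgroup L | Helper46.PRed p V}, ?_, ?_⟩
  · rw [Helper46.isPReducedNormal_iff]
    refine ⟨Subgroup.sSup_normal _ (fun _ h => h.1), ?_, ?_⟩
    · apply Helper46.isElementaryAbelian_sSup
      · intro V hV W hW
        exact (Helper46.PRed.le_pCore' hW).trans (Helper46.PRed.pCore_le_centralizer hV)
      · intro V hV v hv
        exact hV.2.1.2 v hv
    · intro D hD hpow
      rw [Subgroup.le_centralizer_iff]
      apply sSup_le
      intro V hV
      rw [← Subgroup.le_centralizer_iff]
      apply hV.2.2 D hD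
      intro d hd
      obtain ⟨k, hk⟩ := hpow d hd
      have hle : (V : Set L) ⊆ ((sSup {V : Subgroup L | Helper46.PRed p V} : Subgroup L) : Set L) :=
        fun x hx => le_sSup (a := V) hV hx
      exact ⟨k, Subgroup.centralizer_le hle hk⟩
  · intro V hV
    exact le_sSup ((Helper46.isPReducedNormal_iff V).mp hV)

end Cfsg.Agent.S2801
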