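-- Statement S2802 (row 2802).
import Cfsg.Statements.S2802
import Cfsg.Agent.Helper46.SylowLemmas

set_option autoImplicit false
open Cfsg

namespace Cfsg.Agent.S2802

open Cfsg.Agent.Helper46 in
/-- Core of the argument, in the quotient-free form `PRed`. -/
theorem pRed_normalClosure {L : Type*} [Group L] [Finite L] {p : ℕ} [Fact p.Prime]
    (hchar : Subgroup.centralizer (Cfsg.pCore p L : Set L) ≤ Cfsg.pCore p L) (T : Sylow p L)
    (R : Subgroup L) (hTR : (T : Subgroup L) ≤ R) (X : Subgroup ↥R) (hX : PRed p X) :
    PRed p (Subgroup.normalClosure ((X.map R.subtype : Subgroup L) : Set L)) := by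
  obtain ⟨hXn, hXe, hXD⟩ := hX
  have hQR : pCore p L ≤ R := (pCore_le_sylow T).trans hTR
  -- Step 1: `O_p(L)` centralizes `X`.
  have hQX : pCore p L ≤ Subgroup.centralizer ((X.map R.subtype : Subgroup L) : Set L) := by
    have h1 := hXD ((pCore p L).subgroupOf R) ((pCore_normal p L).subgroupOf R) (by
      intro d hd
      obtain ⟨k, hk⟩ := pow_mem_pCore (Subgroup.mem_subgroupOf.mp hd)
      refine ⟨k, ?_⟩
      have : d ^ p ^ k = 1 := Subtype.ext (by simpa using hk)
      rw [this]
      exact one_mem _)
    intro q hq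
    rw [Subgroup.mem_centralizer_iff]
    rintro _ ⟨x, hx, rfl⟩
    have h2 := h1 (Subgroup.mem_subgroupOf.mpr (show ((⟨q, hQR hq⟩ : R) : L) ∈ pCore p L from hq))
    have h3 := (Subgroup.mem_centralizer_iff.mp h2) x hx
    exact congrArg Subtype.val h3
  -- Step 2: `X ≤ Ω₁(Z(O_p(L)))`.
  have hXZ : ((X.map R.subtype : Subgroup L) : Set L) ⊆ omegaZ p (pCore p L) := by
    intro x' hx'
    have hc : x' ∈ Subgroup.centralizer (pCore p L : Set L) :=
      (Subgroup.le_centralizer_iff.mp hQX) hx'
    refine ⟨hchar hc, hc, ?_⟩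
    obtain ⟨x, hx, rfl⟩ := hx'
    have := hXe.2 x hx
    simpa using congrArg Subtype.val this
  have hWZ : Subgroup.normalClosure ((X.map R.subtype : Subgroup L) : Set L) ≤
      omegaZ p (pCore p L) := by
    have := omegaZ_normal (p := p) (pCore_normal p L)
    exact Subgroup.normalClosure_le_normal hXZ
  refine ⟨Subgroup.normalClosure_normal, isElementaryAbelian_of_le hWZ
    (isElementaryAbelian_omegaZ p _), ?_⟩
  intro D hD hpow
  have hXW : ((X.map R.subtype : Subgroup L) : Set L) ⊆
      (Subgroup.normalClosure ((X.map R.subtype : Subgroup L) : Set L) : Set L) :=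
    Subgroup.subset_normalClosure
  have hCWX : Subgroup.centralizer
        ((Subgroup.normalClosure ((X.map R.subtype : Subgroup L) : Set L) : Subgroup L) : Set L) ≤
      Subgroup.centralizer ((X.map R.subtype : Subgroup L) : Set L) :=
    Subgroup.centralizer_le hXW
  -- 4a: `D ∩ R` centralizes `X`.
  have h4a : ∀ d ∈ D, d ∈ R → d ∈ Subgroup.centralizer ((X.map R.subtype : Subgroup L) : Set L) := by
    intro d hd hdR
    have h1 := hXD (D.subgroupOf R) (hD.subgroupOf R) (by
      intro e he
      obtain ⟨k, hk⟩ := hpow e (Subgroup.mem_subgroupOf.mp he)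
      refine ⟨k, ?_⟩
      rw [Subgroup.mem_centralizer_iff]
      intro x hx
      have := (Subgroup.mem_centralizer_iff.mp (hCWX hk)) x (Subgroup.mem_map_of_mem _ hx)
      exact Subtype.ext (by simpa using this))
    have h2 := h1 (Subgroup.mem_subgroupOf.mpr (show ((⟨d, hdR⟩ : R) : L) ∈ D from hd))
    rw [Subgroup.mem_centralizer_iff]
    rintro _ ⟨x, hx, rfl⟩
    exact congrArg Subtype.val ((Subgroup.mem_centralizer_iff.mp h2) x hx)
  -- 4b: `D` centralizes `X`.
  have h4b : D ≤ Subgroup.centralizer ((X.map R.subtype : Subgroup L) : Set L) := by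
    intro d hd
    have := hD
    obtain ⟨P, hP⟩ := exists_sylow_subgroupOf_normal D T
    have : (Subgroup.normalClosure ((X.map R.subtype : Subgroup L) : Set L)).Normal :=
      Subgroup.normalClosure_normal
    have : (Subgroup.centralizer ((Subgroup.normalClosure
        ((X.map R.subtype : Subgroup L) : Set L) : Subgroup L) : Set L)).Normal :=
      Subgroup.normal_centralizer
    have : ((Subgroup.centralizer ((Subgroup.normalClosure
        ((X.map R.subtype : Subgroup L) : Set L) : Subgroup L) : Set L)).subgroupOf D).Normal :=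
      Subgroup.Normal.subgroupOf inferInstance D
    obtain ⟨c, hc, t, ht, hct⟩ := exists_mul_of_pow_mem
      ((Subgroup.centralizer ((Subgroup.normalClosure
        ((X.map R.subtype : Subgroup L) : Set L) : Subgroup L) : Set L)).subgroupOf D)
      (by
        intro e
        obtain ⟨k, hk⟩ := hpow e.1 e.2
        exact ⟨k, by rw [Subgroup.mem_subgroupOf]; simpa using hk⟩) P ⟨d, hd⟩
    have hd' : d = (c : L) * (t : L) := by
      have := congrArg Subtype.val hct
      simpa using this.symm
    rw [hd']
    apply mul_mem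
    · exact hCWX (Subgroup.mem_subgroupOf.mp hc)
    · have htT : (t : L) ∈ (T : Subgroup L) := by
        have : t ∈ (P : Subgroup D) := ht
        rw [hP] at this
        exact Subgroup.mem_subgroupOf.mp this
      exact h4a t t.2 (hTR htT)
  -- 4c: `D` centralizes the normal closure.
  rw [Subgroup.le_centralizer_iff]
  have := hD
  have : (Subgroup.centralizer (D : Set L)).Normal := Subgroup.normal_centralizer
  apply Subgroup.normalClosure_le_normal
  intro x hx
  exact (Subgroup.le_centralizer_iff.mp h4b) hx

/-- Let L be a finite group and p a prime with C_L(O_p(L)) ≤ O_p(L), T a Sylow p-subgroup of L and R a subgroup with T ≤ R. If X is a p-reduced normal subgroup of R (normal in R, elementary abelian, O_p(R/C_R(X)) = 1), then the normal closure of X in L is a p-reduced normal subgroup of L. -/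
theorem result {L : Type*} [Group L] [Finite L] {p : ℕ} [Fact p.Prime] (hchar : Subgroup.centralizer (Cfsg.pCore p L : Set L) ≤ Cfsg.pCore p L) (T : Sylow p L) (R : Subgroup L) (hTR : (T : Subgroup L) ≤ R) (X : Subgroup ↥R) (hX : Cfsg.IsPReducedNormal p X) : Cfsg.IsPReducedNormal p (Subgroup.normalClosure ((X.map R.subtype : Subgroup L) : Set L)) := by
  rw [Helper46.isPReducedNormal_iff] at hX ⊢
  exact pRed_normalClosure hchar T R hTR X hX

end Cfsg.Agent.S2802
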