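-- Statement S2803 (row 2803).
import Cfsg.Statements.S2803
import Cfsg.Agent.Helper46.Frattini
import Cfsg.Agent.S2802

set_option autoImplicit false
open Cfsg

namespace Cfsg.Agent.S2803

open Cfsg.Agent.Helper46 in
/-- The quotient-free core of the statement. -/
theorem core {L : Type*} [Group L] [Finite L] {p : ℕ} [Fact p.Prime]
    (hchar : Subgroup.centralizer (Cfsg.pCore p L : Set L) ≤ Cfsg.pCore p L) (T : Sylow p L)
    (Y : Subgroup L) (hY : PRed p Y) (hmax : ∀ V : Subgroup L, PRed p V → V ≤ Y) :
    (∀ g : L, ∃ a ∈ Subgroup.normalizer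
        (((T : Subgroup L) ⊓ Subgroup.centralizer (Y : Set L) : Subgroup L) : Set L),
        ∃ c ∈ Subgroup.centralizer (Y : Set L), g = a * c) ∧
    (Cfsg.pCore p ↥(Subgroup.normalizer
        (((T : Subgroup L) ⊓ Subgroup.centralizer (Y : Set L) : Subgroup L) : Set L))).map
        (Subgroup.normalizer
          (((T : Subgroup L) ⊓ Subgroup.centralizer (Y : Set L) : Subgroup L) : Set L)).subtype =
      (T : Subgroup L) ⊓ Subgroup.centralizer (Y : Set L) ∧
    Y = omegaZ p ((T : Subgroup L) ⊓ Subgroup.centralizer (Y : Set L)) := by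
  have hYn : Y.Normal := hY.1
  have hCn : (Subgroup.centralizer (Y : Set L)).Normal := Subgroup.normal_centralizer
  have hfr := frattini_factorization (Subgroup.centralizer (Y : Set L)) T
  -- abbreviations
  generalize hTL : (T : Subgroup L) ⊓ Subgroup.centralizer (Y : Set L) = TL at hfr ⊢
  have hTLT : TL ≤ (T : Subgroup L) := hTL ▸ inf_le_left
  have hTLC : TL ≤ Subgroup.centralizer (Y : Set L) := hTL ▸ inf_le_right
  have hTLN : TL ≤ Subgroup.normalizer (TL : Set L) := Subgroup.le_normalizer
  have hmem : ∀ x : L, x ∈ (T : Subgroup L) → x ∈ Subgroup.centralizer (Y : Set L) → x ∈ TL := by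
    intro x h1 h2
    rw [← hTL]
    exact ⟨h1, h2⟩
  -- `T` normalizes `TL`
  have hTN : (T : Subgroup L) ≤ Subgroup.normalizer (TL : Set L) := by
    intro t ht
    rw [Subgroup.mem_normalizer_iff]
    intro h
    rw [← hTL, Subgroup.mem_inf, Subgroup.mem_inf]
    constructor
    · rintro ⟨h1, h2⟩
      exact ⟨mul_mem (mul_mem ht h1) (inv_mem ht), hCn.conj_mem h h2 t⟩
    · rintro ⟨h1, h2⟩
      refine ⟨?_, ?_⟩
      · have := mul_mem (mul_mem (inv_mem ht) h1) ht
        simpa [mul_assoc] using this
      · have := hCn.conj_mem _ h2 t⁻¹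
        simpa [mul_assoc] using this
  -- `Y ≤ Ω₁Z(TL)`
  have hYle : Y ≤ omegaZ p TL := by
    intro y hy
    refine ⟨?_, ?_, hY.2.1.2 y hy⟩
    · rw [← hTL]
      exact ⟨pCore_le_sylow T (PRed.le_pCore' hY hy), IsElementaryAbelian.le_centralizer hY.2.1 hy⟩
    · exact (Subgroup.le_centralizer_iff.mp hTLC) hy
  -- a normal subgroup `B` of `N(TL)` whose elements have `p`-power order modulo `C(Y)` lies in `C(Y)`
  have key : ∀ B : Subgroup ↥(Subgroup.normalizer (TL : Set L)), B.Normal →
      (∀ b ∈ B, ∃ k : ℕ, (b : L) ^ p ^ k ∈ Subgroup.centralizer (Y : Set L)) →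
      B.map (Subgroup.normalizer (TL : Set L)).subtype ≤ Subgroup.centralizer (Y : Set L) := by
    intro B hB hpow
    have hDn := sup_normal_of_factorization (Subgroup.normalizer (TL : Set L))
      (Subgroup.centralizer (Y : Set L)) hfr B hB
    have := hY.2.2 _ hDn (by
      intro d hd
      obtain ⟨b', hb', c', hc', rfl⟩ := Subgroup.mem_sup_of_normal_right.mp hd
      obtain ⟨b, hb, rfl⟩ := hb'
      obtain ⟨k, hk⟩ := hpow b hb
      exact ⟨k, pow_mul_mem_of_normal _ hc' hk⟩)
    exact le_sup_left.trans this
  refine ⟨hfr, ?_, ?_⟩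
  · -- `O_p(N(TL)) = TL`
    apply le_antisymm
    · rintro _ ⟨q, hq, rfl⟩
      apply hmem
      · have := pCore_le_sylow (T.subtype hTN) hq
        exact Subgroup.mem_subgroupOf.mp this
      · have hk := key (pCore p ↥(Subgroup.normalizer (TL : Set L))) (pCore_normal p _) (by
          intro b hb
          obtain ⟨k, hk⟩ := pow_mem_pCore hb
          refine ⟨k, ?_⟩
          have : (b : L) ^ p ^ k = 1 := by simpa using congrArg Subtype.val hk
          rw [this]; exact one_mem _)
        exact hk (Subgroup.mem_map_of_mem _ hq)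
    · have hn : (TL.subgroupOf (Subgroup.normalizer (TL : Set L))).Normal :=
        Subgroup.normal_in_normalizer
      have hp : IsPGroup p (TL.subgroupOf (Subgroup.normalizer (TL : Set L))) := by
        apply isPGroup_of_forall_pow
        intro d hd
        obtain ⟨k, hk⟩ := pow_eq_one_of_isPGroup T.isPGroup' (hTLT (Subgroup.mem_subgroupOf.mp hd))
        exact ⟨k, Subtype.ext (by simpa using hk)⟩
      have := le_pCore hn hp
      intro x hx
      exact ⟨⟨x, hTLN hx⟩, this (Subgroup.mem_subgroupOf.mpr hx), rfl⟩
  · -- `Y = Ω₁Z(TL)`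
    apply le_antisymm hYle
    -- `X = Ω₁Z(TL)` as a subgroup of `N(TL)` is `p`-reduced there
    have hZN : omegaZ p TL ≤ Subgroup.normalizer (TL : Set L) := (omegaZ_le p TL).trans hTLN
    have hXred : PRed p ((omegaZ p TL).subgroupOf (Subgroup.normalizer (TL : Set L))) := by
      refine ⟨?_, ?_, ?_⟩
      · constructor
        intro x hx n
        rw [Subgroup.mem_subgroupOf] at hx ⊢
        have := conj_mem_omegaZ n.2 hx
        simpa using this
      · refine ⟨⟨⟨fun a b => Subtype.ext (Subtype.ext ?_)⟩⟩, ?_⟩
        · have h2 : ((a : ↥(Subgroup.normalizer (TL : Set L))) : L) * b = b * a :=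
            IsElementaryAbelian.comm (isElementaryAbelian_omegaZ p TL)
              (Subgroup.mem_subgroupOf.mp a.2) (Subgroup.mem_subgroupOf.mp b.2)
          exact h2
        · intro a ha
          have := (Subgroup.mem_subgroupOf.mp ha).2.2
          exact Subtype.ext (by simpa using this)
      · intro D hD hpow
        -- translate the centralizer condition
        have hcent : ∀ d : ↥(Subgroup.normalizer (TL : Set L)),
            (d : L) ∈ Subgroup.centralizer ((omegaZ p TL : Subgroup L) : Set L) →
            d ∈ Subgroup.centralizer (((omegaZ p TL).subgroupOf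
              (Subgroup.normalizer (TL : Set L)) : Subgroup _) : Set _) := by
          intro d hd
          rw [Subgroup.mem_centralizer_iff]
          intro x hx
          exact Subtype.ext ((Subgroup.mem_centralizer_iff.mp hd) x (Subgroup.mem_subgroupOf.mp hx))
        have hcent' : ∀ d : ↥(Subgroup.normalizer (TL : Set L)),
            d ∈ Subgroup.centralizer (((omegaZ p TL).subgroupOf
              (Subgroup.normalizer (TL : Set L)) : Subgroup _) : Set _) →
            (d : L) ∈ Subgroup.centralizer ((omegaZ p TL : Subgroup L) : Set L) := by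
          intro d hd
          rw [Subgroup.mem_centralizer_iff]
          intro x hx
          have := (Subgroup.mem_centralizer_iff.mp hd) ⟨x, hZN hx⟩ (Subgroup.mem_subgroupOf.mpr hx)
          exact congrArg Subtype.val this
        have hCC : Subgroup.centralizer ((omegaZ p TL : Subgroup L) : Set L) ≤
            Subgroup.centralizer (Y : Set L) := Subgroup.centralizer_le hYle
        -- Step 1: `D ≤ C(Y)`
        have hDC := key D hD (by
          intro b hb
          obtain ⟨k, hk⟩ := hpow b hb
          exact ⟨k, hCC (by simpa using hcent' _ hk)⟩)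
        -- Step 2
        intro d hd
        apply hcent
        obtain ⟨k, hk⟩ := hpow d hd
        obtain ⟨u, e, hde, hez, hep⟩ := exists_zpow_mul_pElement (p := p) (d : L) k
        rw [hde]
        apply mul_mem
        · apply Subgroup.zpow_mem
          simpa using hcent' _ hk
        · have heC : e ∈ Subgroup.centralizer (Y : Set L) := by
            obtain ⟨i, rfl⟩ := Subgroup.mem_zpowers_iff.mp hez
            exact Subgroup.zpow_mem _ (hDC (Subgroup.mem_map_of_mem _ hd)) i
          have heN : e ∈ Subgroup.normalizer (TL : Set L) := by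
            obtain ⟨i, rfl⟩ := Subgroup.mem_zpowers_iff.mp hez
            exact Subgroup.zpow_mem _ d.2 i
          have heTL : e ∈ TL := by
            have := mem_sylow_inf_of_normalizes (Subgroup.centralizer (Y : Set L)) T heC
              (by rw [hTL]; exact heN) hep
            rwa [hTL] at this
          exact (Subgroup.le_centralizer_iff.mp (omegaZ_le_centralizer p TL)) heTL
    have hW := Cfsg.Agent.S2802.pRed_normalClosure hchar T (Subgroup.normalizer (TL : Set L)) hTN _ hXred
    have hWY := hmax _ hW
    rw [Subgroup.map_subgroupOf_eq_of_le hZN] at hWY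
    exact Subgroup.le_normalClosure.trans hWY

/-- Let L be a finite group and p a prime with C_L(O_p(L)) ≤ O_p(L), T a Sylow p-subgroup, and Y the largest p-reduced normal subgroup of L. Put T_L = C_T(Y) and L_T = N_L(T_L). Then L = L_T · C_L(Y) (elementwise), T_L = O_p(L_T), and Y = Ω₁(Z(T_L)). -/
theorem result {L : Type*} [Group L] [Finite L] {p : ℕ} [Fact p.Prime] (hchar : Subgroup.centralizer (Cfsg.pCore p L : Set L) ≤ Cfsg.pCore p L) (T : Sylow p L) (Y : Subgroup L) (hY : (Cfsg.IsPReducedNormal p Y ∧ ∀ V : Subgroup L, Cfsg.IsPReducedNormal p V → V ≤ Y)) (TL : Subgroup L) (hTL : TL = (T : Subgroup L) ⊓ Subgroup.centralizer (Y : Set L)) : (∀ g : L, ∃ a ∈ Subgroup.normalizer (TL : Set L), ∃ c ∈ Subgroup.centralizer (Y : Set L), g = a * c) ∧ (Cfsg.pCore p ↥(Subgroup.normalizer (TL : Set L))).map (Subgroup.normalizer (TL : Set L)).subtype = TL ∧ Y = Cfsg.omegaOne p (TL ⊓ Subgroup.centralizer (TL : Set L)) := by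
  subst hTL
  rw [Helper46.omegaOne_inf_centralizer]
  exact core hchar T Y ((Helper46.isPReducedNormal_iff Y).mp hY.1)
    (fun V hV => hY.2 V ((Helper46.isPReducedNormal_iff V).mpr hV))

end Cfsg.Agent.S2803
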