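-- Statement S2804 (row 2804).
import Cfsg.Statements.S2804
import Cfsg.Agent.Helper46.Coprime

set_option autoImplicit false
open Cfsg

namespace Cfsg.Agent.S2804

open Cfsg.Agent.Helper46 in
/-- Let L be a finite group and p a prime with C_L(O_p(L)) ≤ O_p(L), V a p-reduced normal subgroup of L and K a subnormal subgroup of L. Then [V, O^p(K)] is contained in K and is a p-reduced normal subgroup of K, where O^p(K) is the subgroup of K generated by its elements of order prime to p. -/
theorem result {L : Type*} [Group L] [Finite L] {p : ℕ} [Fact p.Prime] (hchar : Subgroup.centralizer (Cfsg.pCore p L : Set L) ≤ Cfsg.pCore p L) (V : Subgroup L) (hV : Cfsg.IsPReducedNormal p V) (K : Subgroup L) (hK : K.IsSubnormal) : ⁅V, (Cfsg.pResidual p ↥K).map K.subtype⁆ ≤ K ∧ Cfsg.IsPReducedNormal p ((⁅V, (Cfsg.pResidual p ↥K).map K.subtype⁆).subgroupOf K) := by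
  rw [isPReducedNormal_iff] at hV
  obtain ⟨hVn, hVe, hVD⟩ := id hV
  have hRK : (pResidual p ↥K).map K.subtype ≤ K := by
    rintro _ ⟨x, _, rfl⟩
    exact x.2
  -- `R` is generated by `p'`-elements
  have hRgen : (pResidual p ↥K).map K.subtype =
      Subgroup.closure (K.subtype '' {g : ↥K | (orderOf g).Coprime p}) := by
    unfold pResidual
    rw [MonoidHom.map_closure]
  have hS : ∀ x ∈ K.subtype '' {g : ↥K | (orderOf g).Coprime p}, (orderOf x).Coprime p := by
    rintro _ ⟨g, hg, rfl⟩
    have : orderOf (K.subtype g) = orderOf g := Subgroup.orderOf_coe g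
    rw [this]; exact hg
  have h1 : ⁅V, (pResidual p ↥K).map K.subtype⁆ ≤
      ⁅⁅V, (pResidual p ↥K).map K.subtype⁆, (pResidual p ↥K).map K.subtype⁆ := by
    rw [hRgen]
    exact commutator_le_commutator_commutator V hVn hVe _ hS
  have hWK : ⁅V, (pResidual p ↥K).map K.subtype⁆ ≤ K :=
    commutator_le_of_isSubnormal hVn hK hRK h1
  have hWV : ⁅V, (pResidual p ↥K).map K.subtype⁆ ≤ V := by
    haveI := hVn
    exact Subgroup.commutator_le_left V _
  refine ⟨hWK, ?_⟩
  rw [isPReducedNormal_iff]
  refine ⟨?_, isElementaryAbelian_subgroupOf K (isElementaryAbelian_of_le hWV hVe), ?_⟩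
  · -- normality in `K`
    constructor
    intro w hw k
    rw [Subgroup.mem_subgroupOf] at hw ⊢
    have := conj_mem_commutator (g := (k : L)) (A := V) (B := (pResidual p ↥K).map K.subtype)
      (fun a ha => hVn.conj_mem a ha k)
      (by
        rintro _ ⟨r, hr, rfl⟩
        exact ⟨k * r * k⁻¹, (pResidual_normal p ↥K).conj_mem r hr k, by simp⟩) _ hw
    simpa using this
  · intro D hD hpow
    -- `D` as a subnormal subgroup of `L`
    have hDsub : (D.map K.subtype).IsSubnormal := Subgroup.IsSubnormal.trans' hD.isSubnormal hK
    -- translate centralizer membership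
    have hcentK : ∀ d : ↥K, d ∈ Subgroup.centralizer
          (((⁅V, (pResidual p ↥K).map K.subtype⁆).subgroupOf K : Subgroup ↥K) : Set ↥K) ↔
        (d : L) ∈ Subgroup.centralizer
          ((⁅V, (pResidual p ↥K).map K.subtype⁆ : Subgroup L) : Set L) := by
      intro d
      rw [Subgroup.mem_centralizer_iff, Subgroup.mem_centralizer_iff]
      constructor
      · intro h x hx
        have := h ⟨x, hWK hx⟩ (Subgroup.mem_subgroupOf.mpr hx)
        exact congrArg Subtype.val this
      · intro h x hx
        exact Subtype.ext (h x (Subgroup.mem_subgroupOf.mp hx))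
    -- Claim A: every `p'`-element of `D` centralizes `V`
    have hA : ∀ d ∈ D, (orderOf d).Coprime p →
        (d : L) ∈ Subgroup.centralizer (V : Set L) := by
      intro d hd hcop
      obtain ⟨k, hk⟩ := hpow d hd
      -- `d` is a power of `d ^ p ^ k`
      have hdC : (d : L) ∈ Subgroup.centralizer
          ((⁅V, (pResidual p ↥K).map K.subtype⁆ : Subgroup L) : Set L) := by
        obtain ⟨u, e, hde, hez, j, hej⟩ := exists_zpow_mul_pElement (p := p) (d : L) k
        have he1 : e = 1 := by
          apply eq_one_of_pow_of_coprime hej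
          have hdvd : orderOf e ∣ orderOf (d : L) := orderOf_dvd_of_mem_zpowers hez
          have : orderOf (d : L) = orderOf d := Subgroup.orderOf_coe d
          rw [this] at hdvd
          exact Nat.Coprime.coprime_dvd_left hdvd hcop
        rw [hde, he1, mul_one]
        apply Subgroup.zpow_mem
        have := (hcentK _).mp hk
        simpa using this
      have hdR : (d : L) ∈ (pResidual p ↥K).map K.subtype :=
        Subgroup.mem_map_of_mem _ (Subgroup.subset_closure hcop)
      have hchain := coprime_chain (V := V) (W₁ := ⁅V, (pResidual p ↥K).map K.subtype⁆)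
        (U := ⊥) (x := (d : L)) (n := orderOf (d : L)) (m := p)
        (fun a ha b hb => IsElementaryAbelian.comm hVe ha hb) hWV bot_le
        (pow_orderOf_eq_one _) (by rw [Subgroup.orderOf_coe]; exact hcop)
        (by
          intro v hv
          have h1 := Subgroup.commutator_mem_commutator hv hdR
          have h2 := inv_mem h1
          rw [commutatorElement_inv, commutatorElement_def] at h2
          exact h2)
        (by
          intro w hw
          rw [Subgroup.mem_bot]
          have := (Subgroup.mem_centralizer_iff.mp hdC) w hw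
          rw [← this]; group)
        (fun w hw => hVe.2 w (hWV hw))
      rw [Subgroup.mem_centralizer_iff]
      intro v hv
      have := hchain v hv
      rw [Subgroup.mem_bot] at this
      have h3 : (d : L) * v * (d : L)⁻¹ = v := by
        have h4 := mul_eq_one_iff_eq_inv.mp this
        rwa [inv_inv] at h4
      exact (mul_inv_eq_iff_eq_mul.mp h3).symm
    -- Claim B + C: `D ≤ C(V)`
    have hDV : D.map K.subtype ≤ Subgroup.centralizer (V : Set L) := by
      apply PRed.le_centralizer_of_isSubnormal hV hDsub
      rintro _ ⟨d, hd, rfl⟩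
      have hpos : 0 < orderOf d := orderOf_pos d
      obtain ⟨j, m, hm, hjm⟩ :=
        Nat.exists_eq_pow_mul_and_not_dvd hpos.ne' p (Fact.out : p.Prime).ne_one
      refine ⟨j, ?_⟩
      have h1 : orderOf (d ^ p ^ j) ∣ m := by
        apply orderOf_dvd_of_pow_eq_one
        rw [← pow_mul, ← hjm, pow_orderOf_eq_one]
      have hmp : Nat.Coprime m p :=
        (Nat.coprime_comm).mp ((Nat.Prime.coprime_iff_not_dvd Fact.out).mpr hm)
      have := hA (d ^ p ^ j) (pow_mem hd _) (Nat.Coprime.coprime_dvd_left h1 hmp)
      simpa using this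
    intro d hd
    rw [hcentK]
    exact Subgroup.centralizer_le (fun x hx => hWV hx) (hDV (Subgroup.mem_map_of_mem _ hd))

end Cfsg.Agent.S2804
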