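import Cfsg.Statements.S2806
import Cfsg.Agent.Helper50.LocKieler

set_option autoImplicit false
open Cfsg

namespace Cfsg.Agent.S2806

open Cfsg.Agent.Helper46 Cfsg.Agent.Helper72 Cfsg.Agent.Helper50

/-- the generating set of `O^{p'}(C_L(Z))` -/
def gen {H : Type*} [Group H] (p : ℕ) (Z L : Subgroup H) : Set H :=
  {x : H | x ∈ L ⊓ Subgroup.centralizer (Z : Set H) ∧ ∃ k : ℕ, orderOf x = p ^ k}

theorem pointStabilizer_eq {H : Type*} [Group H] [Finite H] {p : ℕ} [Fact p.Prime]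
    (hH : Cfsg.IsOfLocalCharacteristic p H) (T : Sylow p H) {L : Subgroup H}
    (hL : L.IsSubnormal) :
    Cfsg.pointStabilizer p L ((T : Subgroup H) ⊓ L) =
      Subgroup.closure (gen p (omegaZ p (T : Subgroup H)) L) := by
  have hp := (Fact.out : p.Prime)
  have hTne : (T : Subgroup H) ≠ ⊥ := by
    intro hbot
    have h1 := T.card_eq_multiplicity
    rw [hbot, Subgroup.card_bot] at h1
    have h2 : (Nat.card H).factorization p = 0 := by
      by_contra h0
      have : 1 < p ^ (Nat.card H).factorization p := Nat.one_lt_pow h0 hp.one_lt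
      omega
    have h3 := (Nat.Prime.dvd_iff_one_le_factorization hp Nat.card_pos.ne').mp hH.1
    omega
  unfold Cfsg.pointStabilizer
  rw [omegaOne_inf_centralizer]
  congr 1
  ext x
  simp only [gen, Set.mem_setOf_eq, Subgroup.mem_inf]
  constructor
  · rintro ⟨⟨hxL, hxC⟩, k, hk⟩
    refine ⟨⟨hxL, ?_⟩, k, hk⟩
    by_cases hne : (T : Subgroup H) ⊓ L = ⊥
    · -- `L` is a `p'`-group, so `x = 1`
      have h1 := card_sylow_inf_of_isSubnormal T hL
      rw [hne, Subgroup.card_bot] at h1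
      have h2 : (Nat.card ↥L).factorization p = 0 := by
        by_contra h0
        have : 1 < p ^ (Nat.card ↥L).factorization p := Nat.one_lt_pow h0 hp.one_lt
        omega
      have h3 : orderOf x ∣ Nat.card ↥L := by
        have := orderOf_dvd_natCard (⟨x, hxL⟩ : ↥L)
        rwa [← Subgroup.orderOf_coe] at this
      have hk0 : k = 0 := by
        by_contra h0
        have h4 : p ∣ Nat.card ↥L := (dvd_pow_self p h0).trans (hk ▸ h3)
        have := (Nat.Prime.dvd_iff_one_le_factorization hp Nat.card_pos.ne').mp h4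
        omega
      rw [hk0, pow_zero, orderOf_eq_one_iff] at hk
      rw [hk]
      exact Subgroup.one_mem _
    · exact loc_kieler_ge hH.2 T hL hne x hxL hxC
  · rintro ⟨⟨hxL, hxC⟩, k, hk⟩
    exact ⟨⟨hxL, loc_kieler_le hH.2 T hTne hL hxL hxC⟩, k, hk⟩

theorem gen_conj {H : Type*} [Group H] (p : ℕ) (Z L : Subgroup H) :
    ∀ g ∈ L ⊓ Subgroup.centralizer (Z : Set H), ∀ x ∈ gen p Z L, g * x * g⁻¹ ∈ gen p Z L := by
  rintro g hg x ⟨hx, k, hk⟩
  refine ⟨mul_mem (mul_mem hg hx) (inv_mem hg), k, ?_⟩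
  rw [← hk]
  exact MulEquiv.orderOf_eq (MulAut.conj g) x

theorem closure_gen_le {H : Type*} [Group H] (p : ℕ) (Z L : Subgroup H) :
    Subgroup.closure (gen p Z L) ≤ L ⊓ Subgroup.centralizer (Z : Set H) := by
  rw [Subgroup.closure_le]
  rintro x ⟨hx, -⟩
  exact hx

/-- Let H be a finite group of local characteristic p, T a Sylow p-subgroup, and L₁, L₂ subnormal subgroups of H generating the subgroup L. Then the point stabilizer of L with respect to T ∩ L is generated by the point stabilizers of L₁ and L₂ with respect to T ∩ L₁ and T ∩ L₂ (point stabilizer of X w.r.t. R: the subgroup generated by the p-elements of X centralizing Ω₁(Z(R))). -/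
theorem result {H : Type*} [Group H] [Finite H] {p : ℕ} [Fact p.Prime] (hH : Cfsg.IsOfLocalCharacteristic p H) (T : Sylow p H) (L₁ L₂ : Subgroup H) (h₁ : L₁.IsSubnormal) (h₂ : L₂.IsSubnormal) : Cfsg.pointStabilizer p (L₁ ⊔ L₂) ((T : Subgroup H) ⊓ (L₁ ⊔ L₂)) = Cfsg.pointStabilizer p L₁ ((T : Subgroup H) ⊓ L₁) ⊔ Cfsg.pointStabilizer p L₂ ((T : Subgroup H) ⊓ L₂) := by
  have hp := (Fact.out : p.Prime)
  have hsup : (L₁ ⊔ L₂).IsSubnormal := Cfsg.Agent.Helper50.isSubnormal_sup h₁ h₂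
  rw [pointStabilizer_eq hH T hsup, pointStabilizer_eq hH T h₁, pointStabilizer_eq hH T h₂]
  set Z := omegaZ p (T : Subgroup H) with hZ
  set C := Subgroup.centralizer (Z : Set H) with hC
  set R := Subgroup.closure (gen p Z L₁) ⊔ Subgroup.closure (gen p Z L₂) with hR
  set D := (L₁ ⊔ L₂) ⊓ C with hD
  apply le_antisymm
  swap
  · apply sup_le
    · apply Subgroup.closure_mono
      rintro x ⟨hx, hk⟩
      exact ⟨⟨(le_sup_left : L₁ ≤ L₁ ⊔ L₂) hx.1, hx.2⟩, hk⟩
    · apply Subgroup.closure_mono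
      rintro x ⟨hx, hk⟩
      exact ⟨⟨(le_sup_right : L₂ ≤ L₁ ⊔ L₂) hx.1, hx.2⟩, hk⟩
  -- `R` is subnormal in `D`
  have hsub : ∀ L : Subgroup H, L.IsSubnormal → SubnIn C (Subgroup.closure (gen p Z L)) := by
    intro L hL
    have h1 : SubnIn C (L ⊓ C) := by
      have := subnIn_inf (subnIn_of_isSubnormal hL) C
      rwa [top_inf_eq] at this
    exact h1.of_normal (closure_gen_le p Z L) (le_normalizer_closure (gen_conj p Z L))
  have hRC : SubnIn C R := (hsub L₁ h₁).join (hsub L₂ h₂)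
  have hRD : R ≤ D := by
    apply sup_le
    · exact (closure_gen_le p Z L₁).trans (inf_le_inf_right _ le_sup_left)
    · exact (closure_gen_le p Z L₂).trans (inf_le_inf_right _ le_sup_right)
  have hRDs : SubnIn D R := subnIn_of_le hRC hRD inf_le_right
  -- `T ∩ L ≤ R`
  have hTC : (T : Subgroup H) ≤ C := by
    intro t ht
    rw [hC, Subgroup.mem_centralizer_iff]
    intro z hz
    exact ((Subgroup.mem_centralizer_iff.mp (omegaZ_le_centralizer p _ hz)) t ht).symm
  have hTgen : ∀ L : Subgroup H, L ⊓ (T : Subgroup H) ≤ Subgroup.closure (gen p Z L) := by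
    intro L x hx
    apply Subgroup.subset_closure
    refine ⟨⟨hx.1, hTC hx.2⟩, ?_⟩
    obtain ⟨k, hk⟩ := (IsPGroup.iff_orderOf.mp T.isPGroup') ⟨x, hx.2⟩
    exact ⟨k, by rw [← hk, Subgroup.orderOf_mk]⟩
  have hTR : (L₁ ⊔ L₂) ⊓ (T : Subgroup H) ≤ R := by
    rw [sylow_inf_sup_of_isSubnormal T L₁ L₂ h₁ h₂]
    exact sup_le_sup (hTgen L₁) (hTgen L₂)
  -- index of `R` in `D` is prime to `p`
  have hidx : ¬ p ∣ R.relIndex D := by
    intro hd
    have hTL : (T : Subgroup H) ⊓ (L₁ ⊔ L₂) ≤ R := by rw [inf_comm]; exact hTR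
    have e1 : ((T : Subgroup H) ⊓ (L₁ ⊔ L₂)).relIndex R * R.relIndex D
        = ((T : Subgroup H) ⊓ (L₁ ⊔ L₂)).relIndex D :=
      Subgroup.relIndex_mul_relIndex _ _ _ hTL hRD
    have e2 : ((T : Subgroup H) ⊓ (L₁ ⊔ L₂)).relIndex D * D.relIndex (L₁ ⊔ L₂)
        = ((T : Subgroup H) ⊓ (L₁ ⊔ L₂)).relIndex (L₁ ⊔ L₂) :=
      Subgroup.relIndex_mul_relIndex _ _ _ (hTL.trans hRD) inf_le_left
    have e3 : Nat.card ↥((T : Subgroup H) ⊓ (L₁ ⊔ L₂))
        * ((T : Subgroup H) ⊓ (L₁ ⊔ L₂)).relIndex (L₁ ⊔ L₂) = Nat.card ↥(L₁ ⊔ L₂) := by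
      have := Subgroup.relIndex_mul_relIndex ⊥ ((T : Subgroup H) ⊓ (L₁ ⊔ L₂)) (L₁ ⊔ L₂)
        bot_le inf_le_right
      rwa [Subgroup.relIndex_bot_left, Subgroup.relIndex_bot_left] at this
    have e4 := card_sylow_inf_of_isSubnormal T hsup
    have hd' : p ∣ ((T : Subgroup H) ⊓ (L₁ ⊔ L₂)).relIndex (L₁ ⊔ L₂) := by
      rw [← e2, ← e1]
      exact Dvd.dvd.mul_right (Dvd.dvd.mul_left hd _) _
    have hpos : Nat.card ↥(L₁ ⊔ L₂) ≠ 0 := Nat.card_pos.ne'
    generalize (Nat.card ↥(L₁ ⊔ L₂)).factorization p = v at e4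
    have h5 : p ^ (v + 1) ∣ Nat.card ↥(L₁ ⊔ L₂) := by
      rw [← e3, e4, pow_succ]
      exact Nat.mul_dvd_mul_left _ hd'
    have h6 := (Nat.Prime.pow_dvd_iff_le_factorization hp hpos).mp h5
    have h7 : (Nat.card ↥(L₁ ⊔ L₂)).factorization p = v := by
      have h8 : p ^ v ∣ Nat.card ↥(L₁ ⊔ L₂) := by
        rw [← e3, e4]; exact Dvd.intro _ rfl
      have h9 := (Nat.Prime.pow_dvd_iff_le_factorization hp hpos).mp h8
      have h10 := card_sylow_inf_of_isSubnormal T hsup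
      rw [e4] at h10
      exact (Nat.pow_right_injective hp.two_le h10).symm
    omega
  rw [Subgroup.closure_le]
  rintro x ⟨hx, k, hk⟩
  exact mem_of_orderOf_pow_of_subnIn hRDs hidx hx hk

end Cfsg.Agent.S2806
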