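import Cfsg.Statements.S2809
import Cfsg.Agent.Helper47.Coprime

set_option autoImplicit false
open Cfsg

namespace Cfsg.Agent.S2809

open scoped commutatorElement
open Cfsg.Agent.Helper47

/-- Let H be a finite group, p a prime, R a p-subgroup of H with C_H(R) ≤ R, and L a subgroup of N_H(R) acting nilpotently on R (some iterated commutator [R, L, …, L] is trivial). Then L is a p-group. -/
theorem result {H : Type*} [Group H] [Finite H] {p : ℕ} [Fact p.Prime] (R : Subgroup H) (hR : IsPGroup p ↥R) (hC : Subgroup.centralizer (R : Set H) ≤ R) (L : Subgroup H) (hL : L ≤ Subgroup.normalizer (R : Set H)) (hnil : ∃ n : ℕ, Cfsg.iterCommutator R L n = ⊥) : IsPGroup p ↥L := by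
  obtain ⟨n, hn⟩ := hnil
  have hRL : ⁅R, L⁆ ≤ R := Subgroup.le_normalizer_iff_commutator_le_left.mp hL
  have iter_le : ∀ i, Cfsg.iterCommutator R L i ≤ R := by
    intro i
    induction i with
    | zero => exact le_rfl
    | succ i ih =>
      show ⁅Cfsg.iterCommutator R L i, L⁆ ≤ R
      exact (Subgroup.commutator_mono ih le_rfl).trans hRL
  have hRpow : ∀ c ∈ R, ∃ k : ℕ, c ^ (p ^ k) = 1 := by
    intro c hc
    obtain ⟨k, hk⟩ := hR ⟨c, hc⟩
    exact ⟨k, by simpa using congrArg Subtype.val hk⟩
  have key : ∀ x ∈ L, (orderOf x).Coprime p → x = 1 := by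
    intro x hx hcop
    have hcent : ∀ j i, i + j = n → ∀ r ∈ Cfsg.iterCommutator R L i, r * x = x * r := by
      intro j
      induction j with
      | zero =>
        intro i hi r hr
        have : i = n := by omega
        subst this
        rw [hn, Subgroup.mem_bot] at hr
        subst hr
        simp
      | succ j ih =>
        intro i hi r hr
        have hc : ⁅r, x⁆ ∈ Cfsg.iterCommutator R L (i + 1) :=
          Subgroup.commutator_mem_commutator hr hx
        have hcomm : Commute ⁅r, x⁆ x := ih (i + 1) (by omega) _ hc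
        obtain ⟨k, hk⟩ := hRpow _ (iter_le _ hc)
        exact commute_of_coprime_step (pow_orderOf_eq_one x) hcop hcomm hk
    have hxR : x ∈ R := by
      apply hC
      rw [Subgroup.mem_centralizer_iff]
      intro r hr
      exact hcent n 0 (by omega) r hr
    obtain ⟨k, hk⟩ := hRpow x hxR
    exact eq_one_of_pow_prime_pow_of_pow_coprime hk (pow_orderOf_eq_one x) hcop
  apply isPGroup_of_forall_coprime_eq_one
  intro x hx
  have := key (x : H) x.2 (by rwa [Subgroup.orderOf_coe])
  exact Subtype.ext this

end Cfsg.Agent.S2809
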