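import Cfsg.Statements.S2810
import Cfsg.Agent.Helper47.Coprime

set_option autoImplicit false
open Cfsg

namespace Cfsg.Agent.S2810

open scoped commutatorElement
open Cfsg.Agent.Helper47

/-- the stabilizer of a chain of normal subgroups -/
def chainStab {H : Type*} [Group H] (n : ℕ) (A : Fin (n + 1) → Subgroup H)
    (hnorm : ∀ i, (A i).Normal) : Subgroup H where
  carrier := {g | ∀ i : Fin n, ∀ a ∈ A i.succ, ⁅a, g⁆ ∈ A i.castSucc}
  one_mem' := by
    intro i a _
    rw [commutatorElement_one_right]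
    exact (A i.castSucc).one_mem
  mul_mem' := by
    intro g h hg hh i a ha
    rw [commutatorElement_mul_right_eq_mul_conj, mul_assoc, mul_assoc, ← mul_assoc g]
    exact (A i.castSucc).mul_mem (hg i a ha) ((hnorm i.castSucc).conj_mem _ (hh i a ha) g)
  inv_mem' := by
    intro g hg i a ha
    rw [commutatorElement_inv_right]
    have h1 : ⁅g, a⁆ ∈ A i.castSucc := by
      rw [← commutatorElement_inv]
      exact (A i.castSucc).inv_mem (hg i a ha)
    have := (hnorm i.castSucc).conj_mem _ h1 g⁻¹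
    rwa [inv_inv] at this

theorem chainStab_normal {H : Type*} [Group H] (n : ℕ) (A : Fin (n + 1) → Subgroup H)
    (hnorm : ∀ i, (A i).Normal) : (chainStab n A hnorm).Normal := by
  refine ⟨fun g hg h i a ha => ?_⟩
  have h1 : ⁅a, h * g * h⁻¹⁆ = h * ⁅h⁻¹ * a * h⁻¹⁻¹, g⁆ * h⁻¹ := by
    rw [conjugate_commutatorElement]
    congr 1
    group
  rw [h1]
  exact (hnorm i.castSucc).conj_mem _ (hg i _ ((hnorm i.succ).conj_mem a ha h⁻¹)) h

/-- Let H be a finite group of characteristic p and L a subgroup of H centralizing every factor of some H-invariant chain 1 = A₀ ≤ A₁ ≤ … ≤ Aₙ = O_p(H) of normal subgroups (that is, [A_{i+1}, L] ≤ Aᵢ for each i). Then L ≤ O_p(H). -/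
theorem result {H : Type*} [Group H] [Finite H] {p : ℕ} [Fact p.Prime] (hchar : Subgroup.centralizer (Cfsg.pCore p H : Set H) ≤ Cfsg.pCore p H) (L : Subgroup H) (n : ℕ) (A : Fin (n + 1) → Subgroup H) (h0 : A 0 = ⊥) (hn : A (Fin.last n) = Cfsg.pCore p H) (hmono : Monotone A) (hnorm : ∀ i, (A i).Normal) (hcent : ∀ i : Fin n, ⁅A i.succ, L⁆ ≤ A i.castSucc) : L ≤ Cfsg.pCore p H := by
  have hcore : IsPGroup p ↥(Cfsg.pCore p H) :=
    Sylow.sSup_of_normal _ (fun K hK => hK.2) (fun K hK => hK.1)
  have hpow : ∀ c ∈ Cfsg.pCore p H, ∃ k : ℕ, c ^ (p ^ k) = 1 := by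
    intro c hc
    obtain ⟨k, hk⟩ := hcore ⟨c, hc⟩
    exact ⟨k, by simpa using congrArg Subtype.val hk⟩
  have hLC : L ≤ chainStab n A hnorm := by
    intro g hg i a ha
    exact hcent i (Subgroup.commutator_mem_commutator ha hg)
  have hCp : IsPGroup p ↥(chainStab n A hnorm) := by
    apply isPGroup_of_forall_coprime_eq_one
    intro x hx
    have hx' : (orderOf (x : H)).Coprime p := by rwa [Subgroup.orderOf_coe]
    have hall : ∀ i : Fin (n + 1), ∀ a ∈ A i, a * (x : H) = x * a := by
      intro i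
      induction i using Fin.induction with
      | zero =>
        intro a ha
        rw [h0, Subgroup.mem_bot] at ha
        subst ha
        simp
      | succ i ih =>
        intro a ha
        have hc : ⁅a, (x : H)⁆ ∈ A i.castSucc := x.2 i a ha
        have hcomm : Commute ⁅a, (x : H)⁆ x := ih _ hc
        have hcP : ⁅a, (x : H)⁆ ∈ Cfsg.pCore p H := by
          rw [← hn]
          exact hmono (Fin.le_last _) hc
        obtain ⟨k, hk⟩ := hpow _ hcP
        exact commute_of_coprime_step (pow_orderOf_eq_one _) hx' hcomm hk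
    have hxP : (x : H) ∈ Cfsg.pCore p H := by
      apply hchar
      rw [Subgroup.mem_centralizer_iff]
      intro r hr
      rw [← hn] at hr
      exact hall _ r hr
    obtain ⟨k, hk⟩ := hpow _ hxP
    exact Subtype.ext (eq_one_of_pow_prime_pow_of_pow_coprime hk (pow_orderOf_eq_one _) hx')
  exact hLC.trans (le_sSup ⟨chainStab_normal n A hnorm, hCp⟩)

end Cfsg.Agent.S2810
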