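import Cfsg.Statements.S2813

set_option autoImplicit false
open Cfsg

namespace Cfsg.Agent.S2813

open scoped commutatorElement

/-- Let K be a subgroup of the finite group H with O_p(K) = 1 and Y a p-subgroup of N_H(K) with [K, Y, Y] = 1. Then [K, Y] = 1. -/
theorem result {H : Type*} [Group H] [Finite H] {p : ℕ} [Fact p.Prime] (K : Subgroup H) (hO : Cfsg.pCore p ↥K = ⊥) (Y : Subgroup H) (hY : IsPGroup p ↥Y) (hYK : Y ≤ Subgroup.normalizer (K : Set H)) (hq : ⁅⁅K, Y⁆, Y⁆ = ⊥) : ⁅K, Y⁆ = ⊥ := by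
  have hYK' : ∀ y ∈ Y, ∀ k ∈ K, y * k * y⁻¹ ∈ K := Subgroup.le_normalizer_iff.mp hYK
  -- [K,Y] ≤ K
  have hle : ⁅K, Y⁆ ≤ K := by
    rw [Subgroup.commutator_le]
    intro k hk y hy
    have h1 : ⁅k, y⁆ = k * (y * k⁻¹ * y⁻¹) := by rw [commutatorElement_def]; group
    rw [h1]
    exact K.mul_mem hk (hYK' y hy _ (K.inv_mem hk))
  -- Y centralizes [K,Y]
  have hcent : ∀ c ∈ ⁅K, Y⁆, ∀ y ∈ Y, y * c = c * y := by
    have := Subgroup.commutator_eq_bot_iff_le_centralizer.mp hq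
    intro c hc y hy
    exact (Subgroup.mem_centralizer_iff.mp (this hc)) y hy
  -- K normalizes [K,Y]
  have hnorm : ∀ k ∈ K, ∀ c ∈ ⁅K, Y⁆, k * c * k⁻¹ ∈ ⁅K, Y⁆ := by
    intro k hk c hc
    induction hc using Subgroup.closure_induction with
    | mem x hx =>
      obtain ⟨a, ha, b, hb, rfl⟩ := hx
      have h1 : k * ⁅a, b⁆ * k⁻¹ = ⁅k * a, b⁆ * ⁅k, b⁆⁻¹ := by
        simp only [commutatorElement_def]; group
      rw [h1]
      exact Subgroup.mul_mem _ (Subgroup.commutator_mem_commutator (K.mul_mem hk ha) hb)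
        (Subgroup.inv_mem _ (Subgroup.commutator_mem_commutator hk hb))
    | one => simp
    | mul x y _ _ ihx ihy =>
      have h1 : k * (x * y) * k⁻¹ = (k * x * k⁻¹) * (k * y * k⁻¹) := by group
      rw [h1]; exact Subgroup.mul_mem _ ihx ihy
    | inv x _ ihx =>
      have h1 : k * x⁻¹ * k⁻¹ = (k * x * k⁻¹)⁻¹ := by group
      rw [h1]; exact Subgroup.inv_mem _ ihx
  -- [K,Y] is abelian
  have hab : ∀ c ∈ ⁅K, Y⁆, ∀ d ∈ ⁅K, Y⁆, c * d = d * c := by
    intro c hc
    induction hc using Subgroup.closure_induction with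
    | mem x hx =>
      obtain ⟨a, ha, b, hb, rfl⟩ := hx
      intro d hd
      have h1 := hcent (a⁻¹ * d * a⁻¹⁻¹) (hnorm a⁻¹ (K.inv_mem ha) d hd) b hb
      have h2 := hcent d hd b⁻¹ (Y.inv_mem hb)
      have h3 : a * b * a⁻¹ * d = d * (a * b * a⁻¹) := by
        have : b * (a⁻¹ * d * a) = (a⁻¹ * d * a) * b := by simpa using h1
        calc a * b * a⁻¹ * d = a * (b * (a⁻¹ * d * a)) * a⁻¹ := by group
          _ = a * ((a⁻¹ * d * a) * b) * a⁻¹ := by rw [this]
          _ = d * (a * b * a⁻¹) := by group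
      calc ⁅a, b⁆ * d = a * b * a⁻¹ * (b⁻¹ * d) := by rw [commutatorElement_def]; group
        _ = a * b * a⁻¹ * (d * b⁻¹) := by rw [h2]
        _ = (a * b * a⁻¹ * d) * b⁻¹ := by group
        _ = d * (a * b * a⁻¹) * b⁻¹ := by rw [h3]
        _ = d * ⁅a, b⁆ := by rw [commutatorElement_def]; group
    | one => intro d _; simp
    | mul x y _ _ ihx ihy =>
      intro d hd
      rw [mul_assoc, ihy d hd, ← mul_assoc, ihx d hd, mul_assoc]
    | inv x _ ihx =>
      intro d hd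
      have := ihx d hd
      calc x⁻¹ * d = x⁻¹ * (d * x) * x⁻¹ := by group
        _ = x⁻¹ * (x * d) * x⁻¹ := by rw [this]
        _ = d * x⁻¹ := by group
  -- every element of [K,Y] has p-power order
  have hpow : ∀ c ∈ ⁅K, Y⁆, ∃ n : ℕ, c ^ (p ^ n) = 1 := by
    intro c hc
    induction hc using Subgroup.closure_induction with
    | mem x hx =>
      obtain ⟨a, ha, b, hb, rfl⟩ := hx
      obtain ⟨n, hn⟩ := hY ⟨b, hb⟩
      have hn' : b ^ (p ^ n) = 1 := by
        have := congrArg Subtype.val hn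
        simpa using this
      refine ⟨n, ?_⟩
      have hc' : ⁅a, b⁆ ∈ ⁅K, Y⁆ := Subgroup.commutator_mem_commutator ha hb
      have hcomm : Commute ⁅a, b⁆ b := (hcent _ hc' b hb).symm
      have h1 : a * b * a⁻¹ = ⁅a, b⁆ * b := by rw [commutatorElement_def]; group
      have h2 : (a * b * a⁻¹) ^ (p ^ n) = 1 := by
        rw [conj_pow, hn']; group
      rw [h1, hcomm.mul_pow, hn', mul_one] at h2
      exact h2
    | one => exact ⟨0, by simp⟩
    | mul x y hx hy ihx ihy =>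
      obtain ⟨n, hn⟩ := ihx
      obtain ⟨m, hm⟩ := ihy
      refine ⟨n + m, ?_⟩
      have hcomm : Commute x y := hab x hx y hy
      rw [hcomm.mul_pow, pow_add, pow_mul, hn, one_pow, one_mul, mul_comm (p ^ n) (p ^ m), pow_mul, hm, one_pow]
    | inv x _ ihx =>
      obtain ⟨n, hn⟩ := ihx
      exact ⟨n, by rw [inv_pow, hn, inv_one]⟩
  -- conclude
  have hD : (⁅K, Y⁆).subgroupOf K ≤ Cfsg.pCore p ↥K := by
    apply le_sSup
    refine ⟨⟨fun x hx k => ?_⟩, ?_⟩
    · rw [Subgroup.mem_subgroupOf] at hx ⊢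
      exact hnorm k k.2 x hx
    · intro g
      obtain ⟨n, hn⟩ := hpow (g : ↥K) g.2
      refine ⟨n, ?_⟩
      ext
      simpa using hn
  rw [hO, le_bot_iff, Subgroup.subgroupOf_eq_bot] at hD
  exact (disjoint_of_le_iff_left_eq_bot hle).mp hD

end Cfsg.Agent.S2813
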