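import Mathlib
import Cfsg.Statements.S2814

set_option autoImplicit false
open Cfsg

namespace Cfsg.Agent.S2814

open scoped commutatorElement

theorem subnormal_sInf {G : Type*} [Group G] [Finite G] (T : Set (Subgroup G))
    (hT : ∀ U ∈ T, U.IsSubnormal) : (sInf T).IsSubnormal := by
  have hfin : T.Finite := Set.toFinite T
  induction T, hfin using Set.Finite.induction_on with
  | empty => rw [sInf_empty]; exact Subgroup.IsSubnormal.top
  | @insert a s ha hs ih =>
    rw [sInf_insert]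
    exact (hT a (Set.mem_insert _ _)).inf (ih (fun U hU => hT U (Set.mem_insert_of_mem _ hU)))

theorem isSubnormal_of_isPGroup {Q : Type*} [Group Q] [Finite Q] {p : ℕ} [Fact p.Prime]
    (hQ : IsPGroup p Q) (U : Subgroup Q) : U.IsSubnormal := by
  have hnil : Group.IsNilpotent Q := hQ.isNilpotent
  have hNC := Group.normalizerCondition_of_isNilpotent (G := Q)
  induction U using WellFoundedGT.induction with
  | _ U ih =>
    by_cases hU : U = ⊤
    · rw [hU]; exact .top
    · have hlt := hNC U (lt_top_iff_ne_top.mpr hU)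
      exact Subgroup.IsSubnormal.step U (Subgroup.normalizer (U : Set Q)) hlt.le (ih _ hlt)
        (Subgroup.normal_subgroupOf_of_le_normalizer le_rfl)

theorem closure_normal_of_conj {G : Type*} [Group G] (S : Set G)
    (hS : ∀ s ∈ S, ∀ g : G, g * s * g⁻¹ ∈ S) : (Subgroup.closure S).Normal := by
  refine ⟨fun x hx g => ?_⟩
  have h : Subgroup.closure S ≤ (Subgroup.closure S).comap (MulAut.conj g).toMonoidHom :=
    (Subgroup.closure_le _).mpr (fun s hs => Subgroup.subset_closure (hS s hs g))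
  exact h hx

theorem pResidual_normal (p : ℕ) (K : Type*) [Group K] : (Cfsg.pResidual p K).Normal := by
  apply closure_normal_of_conj
  intro s hs g
  have h : orderOf (g * s * g⁻¹) = orderOf s := (MulAut.conj g).orderOf_eq s
  show Nat.Coprime (orderOf (g * s * g⁻¹)) p
  rw [h]; exact hs

theorem quot_isPGroup {K : Type*} [Group K] [Finite K] (p : ℕ) [Fact p.Prime] (R : Subgroup K)
    [R.Normal] (hR : ∀ x : K, (orderOf x).Coprime p → x ∈ R) : IsPGroup p (K ⧸ R) := by
  have hp : p.Prime := Fact.out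
  intro y
  obtain ⟨x, rfl⟩ := QuotientGroup.mk_surjective y
  refine ⟨(orderOf x).factorization p, ?_⟩
  rw [← QuotientGroup.mk_pow, QuotientGroup.eq_one_iff]
  apply hR
  rw [orderOf_pow, Nat.gcd_eq_right (Nat.ordProj_dvd _ _)]
  exact (Nat.coprime_ordCompl hp (orderOf_pos x).ne').symm

theorem comm_normalized_left {G : Type*} [Group G] [Finite G] (X Y : Subgroup G) :
    X ≤ Subgroup.normalizer ((⁅X, Y⁆ : Subgroup G) : Set G) := by
  intro x' hx'
  apply Subgroup.mem_normalizer_fintype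
  have h : ⁅X, Y⁆ ≤ (⁅X, Y⁆ : Subgroup G).comap (MulAut.conj x').toMonoidHom := by
    rw [Subgroup.commutator_def, Subgroup.closure_le]
    rintro _ ⟨x, hx, y, hy, rfl⟩
    show x' * ⁅x, y⁆ * x'⁻¹ ∈ Subgroup.closure {g | ∃ g₁ ∈ X, ∃ g₂ ∈ Y, ⁅g₁, g₂⁆ = g}
    rw [← Subgroup.commutator_def]
    have h1 : x' * ⁅x, y⁆ * x'⁻¹ = ⁅x' * x, y⁆ * ⁅x', y⁆⁻¹ := by
      simp only [commutatorElement_def]; group
    rw [h1]
    exact Subgroup.mul_mem _ (Subgroup.commutator_mem_commutator (X.mul_mem hx' hx) hy)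
      (Subgroup.inv_mem _ (Subgroup.commutator_mem_commutator hx' hy))
  intro n hn
  exact h hn

theorem comm_normalized_right {G : Type*} [Group G] [Finite G] (X Y : Subgroup G) :
    Y ≤ Subgroup.normalizer ((⁅X, Y⁆ : Subgroup G) : Set G) := by
  intro y' hy'
  apply Subgroup.mem_normalizer_fintype
  have h : ⁅X, Y⁆ ≤ (⁅X, Y⁆ : Subgroup G).comap (MulAut.conj y').toMonoidHom := by
    rw [Subgroup.commutator_def, Subgroup.closure_le]
    rintro _ ⟨x, hx, y, hy, rfl⟩
    show y' * ⁅x, y⁆ * y'⁻¹ ∈ Subgroup.closure {g | ∃ g₁ ∈ X, ∃ g₂ ∈ Y, ⁅g₁, g₂⁆ = g}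
    rw [← Subgroup.commutator_def]
    have h1 : y' * ⁅x, y⁆ * y'⁻¹ = ⁅x, y'⁆⁻¹ * ⁅x, y' * y⁆ := by
      simp only [commutatorElement_def]; group
    rw [h1]
    exact Subgroup.mul_mem _ (Subgroup.inv_mem _ (Subgroup.commutator_mem_commutator hx hy'))
      (Subgroup.commutator_mem_commutator hx (Y.mul_mem hy' hy))
  intro n hn
  exact h hn

theorem part4 {H : Type*} [Group H] [Finite H] {p : ℕ} [Fact p.Prime] (A K R' : Subgroup H)
    (hAK : A ≤ K) (hKsn : K.IsSubnormal) (hmin : ∀ L : Subgroup H, A ≤ L → L.IsSubnormal → K ≤ L)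
    (h3 : A ⊔ R' = K) (hKR' : K ≤ Subgroup.normalizer (R' : Set H))
    (hR'cl : ∀ L : Subgroup H, (∀ x ∈ K, (orderOf x).Coprime p → x ∈ L) → R' ≤ L)
    (hA : IsPGroup p ↥A) : ⁅R', A⁆ = R' := by
  have hRK : R' ≤ K := by rw [← h3]; exact le_sup_right
  have hle : ⁅R', A⁆ ≤ R' := by
    rw [Subgroup.commutator_le]
    intro r hr a ha
    have h1 : a * r⁻¹ * a⁻¹ ∈ R' :=
      (Subgroup.mem_normalizer_iff.mp (hKR' (hAK ha)) r⁻¹).mp (R'.inv_mem hr)
    have h2 : ⁅r, a⁆ = r * (a * r⁻¹ * a⁻¹) := by rw [commutatorElement_def]; group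
    rw [h2]; exact R'.mul_mem hr h1
  apply le_antisymm hle
  have hAR₀ := comm_normalized_right R' A
  have hR'R₀ := comm_normalized_left R' A
  have hKB : K ≤ Subgroup.normalizer ((A ⊔ ⁅R', A⁆ : Subgroup H) : Set H) := by
    rw [← h3]
    refine sup_le ?_ ?_
    · exact le_sup_left.trans Subgroup.le_normalizer
    · intro r hr
      apply Subgroup.mem_normalizer_fintype
      have h : A ⊔ ⁅R', A⁆ ≤ (A ⊔ ⁅R', A⁆).comap (MulAut.conj r).toMonoidHom := by
        refine sup_le ?_ ?_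
        · intro a ha
          show r * a * r⁻¹ ∈ A ⊔ ⁅R', A⁆
          have h1 : r * a * r⁻¹ = ⁅r, a⁆ * a := by rw [commutatorElement_def]; group
          rw [h1]
          exact Subgroup.mul_mem _ (Subgroup.mem_sup_right (Subgroup.commutator_mem_commutator hr ha))
            (Subgroup.mem_sup_left ha)
        · intro x hx
          exact Subgroup.mem_sup_right ((Subgroup.mem_normalizer_iff.mp (hR'R₀ hr) x).mp hx)
      intro x hx; exact h hx
  have hR₀K : ⁅R', A⁆ ≤ K := hle.trans hRK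
  have hBK : A ⊔ ⁅R', A⁆ ≤ K := sup_le hAK hR₀K
  have hKB' : K ≤ A ⊔ ⁅R', A⁆ := by
    apply hmin _ le_sup_left
    exact Subgroup.IsSubnormal.trans hBK
      ((Subgroup.normal_subgroupOf_iff_le_normalizer hBK).mpr hKB).isSubnormal hKsn
  have hR₀n : ((⁅R', A⁆ : Subgroup H).subgroupOf K).Normal := by
    rw [Subgroup.normal_subgroupOf_iff_le_normalizer hR₀K, ← h3]
    exact sup_le hAR₀ hR'R₀
  have hQ : IsPGroup p (↥K ⧸ (⁅R', A⁆ : Subgroup H).subgroupOf K) := by
    have h5 : A.subgroupOf K ⊔ (⁅R', A⁆ : Subgroup H).subgroupOf K = ⊤ := by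
      rw [← Subgroup.subgroupOf_sup hAK hR₀K, Subgroup.subgroupOf_eq_top]
      exact hKB'
    have htop : (A.subgroupOf K).map (QuotientGroup.mk' ((⁅R', A⁆ : Subgroup H).subgroupOf K)) = ⊤ := by
      have h6 := congrArg (Subgroup.map (QuotientGroup.mk' ((⁅R', A⁆ : Subgroup H).subgroupOf K))) h5
      rw [Subgroup.map_sup, Subgroup.map_top_of_surjective _ (QuotientGroup.mk'_surjective _)] at h6
      have h7 : ((⁅R', A⁆ : Subgroup H).subgroupOf K).map
          (QuotientGroup.mk' ((⁅R', A⁆ : Subgroup H).subgroupOf K)) = ⊥ := by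
        rw [Subgroup.map_eq_bot_iff, QuotientGroup.ker_mk']
      rw [h7, sup_bot_eq] at h6
      exact h6
    have hpA : IsPGroup p ↥(A.subgroupOf K) := hA.comap_subtype
    have h8 := hpA.map (QuotientGroup.mk' ((⁅R', A⁆ : Subgroup H).subgroupOf K))
    rw [htop] at h8
    exact h8.of_equiv Subgroup.topEquiv
  apply hR'cl
  intro x hxK hx
  have hord : orderOf (⟨x, hxK⟩ : ↥K) = orderOf x := (Subgroup.orderOf_mk x hxK)
  have h7 : (QuotientGroup.mk' ((⁅R', A⁆ : Subgroup H).subgroupOf K)) ⟨x, hxK⟩ = 1 := by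
    obtain ⟨j, hj⟩ := (IsPGroup.iff_orderOf.mp hQ)
      ((QuotientGroup.mk' ((⁅R', A⁆ : Subgroup H).subgroupOf K)) ⟨x, hxK⟩)
    have hdvd : orderOf ((QuotientGroup.mk' ((⁅R', A⁆ : Subgroup H).subgroupOf K)) ⟨x, hxK⟩) ∣
        orderOf (⟨x, hxK⟩ : ↥K) := orderOf_map_dvd _ _
    rw [hj, hord] at hdvd
    have hcop : Nat.Coprime (p ^ j) (orderOf x) := Nat.Coprime.pow_left j hx.symm
    have h1 : p ^ j = 1 := Nat.Coprime.eq_one_of_dvd hcop hdvd
    rw [h1] at hj
    exact orderOf_eq_one_iff.mp hj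
  rw [QuotientGroup.mk'_apply, QuotientGroup.eq_one_iff] at h7
  exact Subgroup.mem_subgroupOf.mp h7

/-- Let A be a subgroup of the finite group H and K the subnormal closure of A (intersection of the subnormal subgroups containing A). Then K is the normal closure of A inside K and N_H(A) ≤ N_H(K); K = A·O^p(K), O^p(K) being generated by the elements of K of order prime to p; and if A is a p-group, O^p(K) = [O^p(K), A]. -/
theorem result {H : Type*} [Group H] [Finite H] {p : ℕ} [Fact p.Prime] (A : Subgroup H) (K : Subgroup H) (hK : K = Cfsg.subnormalClosure A) : (Subgroup.normalClosure ((A.subgroupOf K : Subgroup ↥K) : Set ↥K)).map K.subtype = K ∧ Subgroup.normalizer (A : Set H) ≤ Subgroup.normalizer (K : Set H) ∧ A ⊔ (Cfsg.pResidual p ↥K).map K.subtype = K ∧ (IsPGroup p ↥A → ⁅(Cfsg.pResidual p ↥K).map K.subtype, A⁆ = (Cfsg.pResidual p ↥K).map K.subtype) := by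
  classical
  have hp : p.Prime := Fact.out
  have hAK : A ≤ K := by rw [hK]; exact le_sInf (fun L hL => hL.1)
  have hKsn : K.IsSubnormal := by rw [hK]; exact subnormal_sInf _ (fun L hL => hL.2)
  have hmin : ∀ L : Subgroup H, A ≤ L → L.IsSubnormal → K ≤ L := by
    intro L h1 h2; rw [hK]; exact sInf_le ⟨h1, h2⟩
  have hRn : (Cfsg.pResidual p ↥K).Normal := pResidual_normal p ↥K
  have hRK : (Cfsg.pResidual p ↥K).map K.subtype ≤ K := Subgroup.map_subtype_le _
  have h3 : A ⊔ (Cfsg.pResidual p ↥K).map K.subtype = K := by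
    apply le_antisymm (sup_le hAK hRK)
    apply hmin _ le_sup_left
    have hQ : IsPGroup p (↥K ⧸ Cfsg.pResidual p ↥K) :=
      quot_isPGroup p _ (fun x hx => Subgroup.subset_closure hx)
    have h1 : ((A.subgroupOf K ⊔ Cfsg.pResidual p ↥K).map
        (QuotientGroup.mk' (Cfsg.pResidual p ↥K))).IsSubnormal := isSubnormal_of_isPGroup hQ _
    have h2 := h1.comap (QuotientGroup.mk' (Cfsg.pResidual p ↥K))
    rw [Subgroup.comap_map_eq, QuotientGroup.ker_mk', sup_assoc, sup_idem] at h2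
    have h4 := h2.trans' hKsn
    rw [Subgroup.map_sup, Subgroup.map_subgroupOf_eq_of_le hAK] at h4
    exact h4
  refine ⟨?_, ?_, h3, ?_⟩
  · apply le_antisymm (Subgroup.map_subtype_le _)
    apply hmin
    · intro a ha
      exact ⟨⟨a, hAK ha⟩, Subgroup.subset_normalClosure (Subgroup.mem_subgroupOf.mpr ha), rfl⟩
    · exact (Subgroup.normalClosure_normal.isSubnormal).trans' hKsn
  · intro g hg
    apply Subgroup.mem_normalizer_fintype
    have h : K ≤ K.comap (MulAut.conj g).toMonoidHom := by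
      apply hmin
      · intro a ha
        exact hAK ((Subgroup.mem_normalizer_iff.mp hg a).mp ha)
      · exact hKsn.comap _
    intro k hk; exact h hk
  · intro hA
    apply part4 A K _ hAK hKsn hmin h3 ?_ ?_ hA
    · intro k hk
      apply Subgroup.mem_normalizer_fintype
      rintro _ ⟨x, hx, rfl⟩
      exact ⟨⟨k, hk⟩ * x * ⟨k, hk⟩⁻¹, hRn.conj_mem x hx ⟨k, hk⟩, rfl⟩
    · intro L hL
      unfold Cfsg.pResidual
      rw [MonoidHom.map_closure, Subgroup.closure_le]
      rintro _ ⟨x, hx, rfl⟩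
      apply hL _ x.2
      have : orderOf (x : H) = orderOf x := Subgroup.orderOf_coe x
      rw [this]; exact hx

end Cfsg.Agent.S2814
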