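import Cfsg.Statements.S2815
import Cfsg.Agent.Helper54.QsResidual

set_option autoImplicit false
open Cfsg

namespace Cfsg.Agent.S2815

/-- Let H be a finite group and p a prime dividing its order with O_p(H) = 1, and suppose K = O^p(H) (generated by the elements of order prime to p) is quasisimple. Then K = F*(H); for every nontrivial p-subgroup Y of H, K = [K, Y] and K lies in the subgroup generated by the K-conjugates of Y; every normal subgroup of H not containing K has order prime to p; and H is p-irreducible. -/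
theorem result {H : Type*} [Group H] [Finite H] {p : ℕ} [Fact p.Prime] (hp : p ∣ Nat.card H) (hO : Cfsg.pCore p H = ⊥) (hq : Cfsg.IsQuasisimple ↥(Cfsg.pResidual p H)) : Cfsg.pResidual p H = Cfsg.generalizedFittingSubgroup H ∧ (∀ Y : Subgroup H, IsPGroup p ↥Y → Y ≠ ⊥ → ⁅Cfsg.pResidual p H, Y⁆ = Cfsg.pResidual p H ∧ Cfsg.pResidual p H ≤ ⨆ k : ↥(Cfsg.pResidual p H), Y.map (MulAut.conj (k : H)).toMonoidHom) ∧ (∀ C : Subgroup H, C.Normal → ¬ Cfsg.pResidual p H ≤ C → (Nat.card ↥C).Coprime p) ∧ Cfsg.IsPIrreducible p H := by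
  exact ⟨Cfsg.Agent.Helper54.qsres_eq_generalizedFitting hO hq,
    fun Y hY hne => ⟨Cfsg.Agent.Helper54.qsres_commutator_eq hO hq Y hY hne,
      Cfsg.Agent.Helper54.qsres_le_iSup_conj hO hq Y hY hne⟩,
    fun C hC hKC => Cfsg.Agent.Helper54.qsres_coprime_card_of_normal hO hq C hC hKC,
    Cfsg.Agent.Helper54.qsres_isPIrreducible hp hO hq⟩

end Cfsg.Agent.S2815
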