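import Cfsg.Statements.S2818
import Cfsg.Agent.Helper47.Coprime

set_option autoImplicit false
open Cfsg

namespace Cfsg.Agent.S2818

open scoped commutatorElement IsMulCommutative
open Cfsg.Agent.Helper47

/-- Let P be a finite p-subgroup of a group G and H a subgroup of N_G(P) with [P, H] ≤ Ω₁(Z(P)) (the elements of order dividing p in the centre of P). Then H centralizes the Frattini subgroup of P. -/
theorem result {G : Type*} [Group G] [Finite G] {p : ℕ} [Fact p.Prime] (P : Subgroup G) (hP : IsPGroup p ↥P) (H : Subgroup G) (hH : H ≤ Subgroup.normalizer (P : Set G)) (h : ⁅P, H⁆ ≤ Cfsg.omegaOne p (P ⊓ Subgroup.centralizer (P : Set G))) : ⁅(frattini ↥P).map P.subtype, H⁆ = ⊥ := by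
  have hΩle : Cfsg.omegaOne p (P ⊓ Subgroup.centralizer (P : Set G)) ≤
      P ⊓ Subgroup.centralizer (P : Set G) := by
    unfold Cfsg.omegaOne
    rw [Subgroup.closure_le]
    intro x hx
    exact hx.1
  have hcomm : ∀ x ∈ P, ∀ z ∈ P ⊓ Subgroup.centralizer (P : Set G), x * z = z * x := by
    intro x hx z hz
    exact (Subgroup.mem_centralizer_iff.mp hz.2) x hx
  have hΩpow : ∀ z ∈ Cfsg.omegaOne p (P ⊓ Subgroup.centralizer (P : Set G)), z ^ p = 1 := by
    intro z hz
    have hz' := hz
    unfold Cfsg.omegaOne at hz'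
    induction hz' using Subgroup.closure_induction with
    | mem x hx => exact hx.2
    | one => simp
    | mul x y hx hy ihx ihy =>
      have hx1 : x ∈ Cfsg.omegaOne p (P ⊓ Subgroup.centralizer (P : Set G)) := hx
      have hy1 : y ∈ Cfsg.omegaOne p (P ⊓ Subgroup.centralizer (P : Set G)) := hy
      have hc : Commute x y := hcomm x (hΩle hx1).1 y (hΩle hy1)
      rw [hc.mul_pow, ihx hx1, ihy hy1, one_mul]
    | inv x hx ihx =>
      rw [inv_pow, ihx hx, inv_one]
  rw [Subgroup.commutator_eq_bot_iff_le_centralizer]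
  intro y hy
  rw [Subgroup.mem_centralizer_iff]
  intro g hg
  have hmem : ∀ x : ↥P, ⁅(x : G), g⁆ ∈ Cfsg.omegaOne p (P ⊓ Subgroup.centralizer (P : Set G)) :=
    fun x => h (Subgroup.commutator_mem_commutator x.2 hg)
  let φ : ↥P →* ↥(Subgroup.center ↥P) := MonoidHom.mk'
    (fun x => ⟨⟨⁅(x : G), g⁆, (hΩle (hmem x)).1⟩, by
      rw [Subgroup.mem_center_iff]
      intro y
      apply Subtype.ext
      exact hcomm y y.2 _ (hΩle (hmem x))⟩)
    (by
      intro x y
      apply Subtype.ext
      apply Subtype.ext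
      show ⁅((x * y : ↥P) : G), g⁆ = ⁅(x : G), g⁆ * ⁅(y : G), g⁆
      have h1 := hcomm x x.2 _ (hΩle (hmem y))
      have h2 := hcomm _ (hΩle (hmem x)).1 _ (hΩle (hmem y))
      rw [Subgroup.coe_mul, commutatorElement_mul_left_eq_conj_mul, h1, mul_assoc, mul_assoc,
        ← mul_assoc (x : G), mul_inv_cancel, one_mul, h2])
  have hφ : ∀ x, φ x ^ p = 1 := by
    intro x
    apply Subtype.ext
    apply Subtype.ext
    show ⁅(x : G), g⁆ ^ p = 1
    exact hΩpow _ (hmem x)
  obtain ⟨x, hx, rfl⟩ := hy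
  have hker := frattini_le_ker (A := ↥(Subgroup.center ↥P)) p φ hφ hx
  rw [MonoidHom.mem_ker] at hker
  have h3 : ⁅(x : G), g⁆ = 1 := by
    have := congrArg (fun z : ↥(Subgroup.center ↥P) => ((z : ↥P) : G)) hker
    exact this
  exact (commutatorElement_eq_one_iff_mul_comm.mp h3).symm

end Cfsg.Agent.S2818
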