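import Cfsg.Statements.S2819
import Cfsg.Agent.Helper47.Coprime
import Mathlib.GroupTheory.Abelianization.Defs

set_option autoImplicit false
open Cfsg

namespace Cfsg.Agent.S2819

open scoped commutatorElement
open Cfsg.Agent.Helper47

/-- the stabilizer in `H` of the chain `Φ ≥ P' ≥ 1` -/
def stab {G : Type*} [Group G] (H P' Φ : Subgroup G) : Subgroup G where
  carrier := {g | g ∈ H ∧ (∀ c ∈ P', g * c = c * g) ∧ ∀ x ∈ Φ, ⁅x, g⁆ ∈ P'}
  one_mem' := by
    refine ⟨H.one_mem, fun c _ => by simp, fun x _ => ?_⟩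
    rw [commutatorElement_one_right]
    exact P'.one_mem
  mul_mem' := by
    rintro g h ⟨hg1, hg2, hg3⟩ ⟨hh1, hh2, hh3⟩
    refine ⟨H.mul_mem hg1 hh1, fun c hc => ?_, fun x hx => ?_⟩
    · rw [mul_assoc, hh2 c hc, ← mul_assoc, hg2 c hc, mul_assoc]
    · rw [commutatorElement_mul_right_eq_mul_conj, mul_assoc, mul_assoc, ← mul_assoc g,
        hg2 _ (hh3 x hx), mul_assoc, mul_inv_cancel, mul_one]
      exact P'.mul_mem (hg3 x hx) (hh3 x hx)
  inv_mem' := by
    rintro g ⟨hg1, hg2, hg3⟩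
    have hinv : ∀ c ∈ P', g⁻¹ * c = c * g⁻¹ := by
      intro c hc
      have := hg2 c hc
      calc g⁻¹ * c = g⁻¹ * (c * g) * g⁻¹ := by group
        _ = g⁻¹ * (g * c) * g⁻¹ := by rw [this]
        _ = c * g⁻¹ := by group
    refine ⟨H.inv_mem hg1, hinv, fun x hx => ?_⟩
    have h1 : ⁅g, x⁆ ∈ P' := by
      rw [← commutatorElement_inv]
      exact P'.inv_mem (hg3 x hx)
    rw [commutatorElement_inv_right, hinv _ h1, mul_assoc, inv_mul_cancel, mul_one]
    exact h1

/-- Let P be a finite p-subgroup of a group G, H a subgroup of N_G(P), and Y a subgroup of H centralizing the derived subgroup P' such that [P, Y] is elementary abelian. Then O^p(⟨Y^H⟩), the subgroup of the normal closure of Y in H generated by its elements of order prime to p, centralizes the Frattini subgroup of P. -/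
theorem result {G : Type*} [Group G] [Finite G] {p : ℕ} [Fact p.Prime] (P : Subgroup G) (hP : IsPGroup p ↥P) (H : Subgroup G) (hH : H ≤ Subgroup.normalizer (P : Set G)) (Y : Subgroup G) (hYH : Y ≤ H) (hYc : Y ≤ Subgroup.centralizer ((⁅P, P⁆ : Subgroup G) : Set G)) (hel : Cfsg.IsElementaryAbelian p ⁅P, Y⁆) (NY : Subgroup G) (hNY : NY = (Subgroup.normalClosure ((Y.subgroupOf H : Subgroup ↥H) : Set ↥H)).map H.subtype) : (Cfsg.pResidual p ↥NY).map NY.subtype ≤ Subgroup.centralizer (((frattini ↥P).map P.subtype : Subgroup G) : Set G) := by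
  set Φ := (frattini ↥P).map P.subtype with hΦ
  have hP'eq : (_root_.commutator ↥P).map P.subtype = ⁅P, P⁆ := Subgroup.map_subtype_commutator P
  have hP'le : ⁅P, P⁆ ≤ P := Subgroup.commutator_le_self P
  have hPpow : ∀ c ∈ P, ∃ k : ℕ, c ^ (p ^ k) = 1 := by
    intro c hc
    obtain ⟨k, hk⟩ := hP ⟨c, hc⟩
    exact ⟨k, by simpa using congrArg Subtype.val hk⟩
  -- H normalizes P' and Φ
  have hHP' : ∀ h ∈ H, ∀ c ∈ ⁅P, P⁆, h * c * h⁻¹ ∈ ⁅P, P⁆ := by
    intro h hh c hc
    haveI : (_root_.commutator ↥P).Characteristic := by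
      rw [_root_.commutator_def]; infer_instance
    rw [← hP'eq] at hc ⊢
    exact conj_mem_map_of_characteristic P _ (hH hh) hc
  have hHΦ : ∀ h ∈ H, ∀ c ∈ Φ, h * c * h⁻¹ ∈ Φ := by
    intro h hh c hc
    exact conj_mem_map_of_characteristic P _ (hH hh) hc
  -- Y lies in the stabilizer
  have hYS : Y ≤ stab H ⁅P, P⁆ Φ := by
    intro y hy
    refine ⟨hYH hy, fun c hc => ?_, ?_⟩
    · exact (Subgroup.mem_centralizer_iff.mp (hYc hy) c hc).symm
    · have hyN := Subgroup.mem_normalizer_iff.mp (hH (hYH hy))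
      have hmem : ∀ x : ↥P, ⁅(x : G), y⁆ ∈ P := by
        intro x
        have h1 : ⁅(x : G), y⁆ = x * (y * (x : G)⁻¹ * y⁻¹) := by
          rw [commutatorElement_def]; group
        rw [h1]
        exact P.mul_mem x.2 ((hyN _).mp (P.inv_mem x.2))
      let φ : ↥P →* Abelianization ↥P := MonoidHom.mk'
        (fun x => Abelianization.of ⟨⁅(x : G), y⁆, hmem x⟩)
        (by
          intro a b
          have h1 : (⟨⁅((a * b : ↥P) : G), y⁆, hmem (a * b)⟩ : ↥P) =
              a * ⟨⁅(b : G), y⁆, hmem b⟩ * a⁻¹ * ⟨⁅(a : G), y⁆, hmem a⟩ := by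
            apply Subtype.ext
            simp only [Subgroup.coe_mul, Subgroup.coe_inv]
            rw [commutatorElement_mul_left_eq_conj_mul]
          rw [h1]
          simp only [map_mul, map_inv]
          rw [mul_comm (Abelianization.of a), mul_assoc, mul_assoc, ← mul_assoc (Abelianization.of a),
            mul_inv_cancel, one_mul, mul_comm])
      have hφ : ∀ x, φ x ^ p = 1 := by
        intro x
        show Abelianization.of (⟨⁅(x : G), y⁆, hmem x⟩ : ↥P) ^ p = 1
        rw [← map_pow]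
        have : (⟨⁅(x : G), y⁆, hmem x⟩ : ↥P) ^ p = 1 := by
          apply Subtype.ext
          simp only [Subgroup.coe_pow, Subgroup.coe_one]
          exact hel.2 _ (Subgroup.commutator_mem_commutator x.2 hy)
        rw [this, map_one]
      intro x hx
      obtain ⟨x', hx', rfl⟩ := hx
      have hker := frattini_le_ker p φ hφ hx'
      rw [MonoidHom.mem_ker] at hker
      have h2 : (⟨⁅(x' : G), y⁆, hmem x'⟩ : ↥P) ∈ (Abelianization.of : ↥P →* _).ker :=
        MonoidHom.mem_ker.mpr hker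
      rw [Abelianization.ker_of] at h2
      rw [← hP'eq]
      exact ⟨_, h2, rfl⟩
  -- the stabilizer is normalized by H
  have hSnorm : ((stab H ⁅P, P⁆ Φ).subgroupOf H).Normal := by
    refine ⟨fun n hn h => ?_⟩
    rw [Subgroup.mem_subgroupOf] at hn ⊢
    obtain ⟨hn1, hn2, hn3⟩ := hn
    refine ⟨(h * n * h⁻¹).2, fun c hc => ?_, fun x hx => ?_⟩
    · have h1 := hn2 _ (hHP' (h : G)⁻¹ (H.inv_mem h.2) c hc)
      simp only [inv_inv] at h1
      simp only [Subgroup.coe_mul, Subgroup.coe_inv]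
      calc (h : G) * n * (h : G)⁻¹ * c = h * (n * ((h : G)⁻¹ * c * h)) * (h : G)⁻¹ := by group
        _ = h * (((h : G)⁻¹ * c * h) * n) * (h : G)⁻¹ := by rw [h1]
        _ = c * ((h : G) * n * (h : G)⁻¹) := by group
    · have h1 := hn3 _ (hHΦ (h : G)⁻¹ (H.inv_mem h.2) x hx)
      have h2 := hHP' (h : G) h.2 _ h1
      rw [conjugate_commutatorElement] at h2
      simp only [inv_inv] at h2
      have e : (h : G) * ((h : G)⁻¹ * x * h) * (h : G)⁻¹ = x := by group
      rw [e] at h2
      simpa using h2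
  have hNYS : NY ≤ stab H ⁅P, P⁆ Φ := by
    rw [hNY]
    have : Subgroup.normalClosure ((Y.subgroupOf H : Subgroup ↥H) : Set ↥H) ≤
        (stab H ⁅P, P⁆ Φ).subgroupOf H := by
      apply Subgroup.normalClosure_le_normal
      intro y hy
      rw [SetLike.mem_coe, Subgroup.mem_subgroupOf] at hy ⊢
      exact hYS hy
    rintro _ ⟨z, hz, rfl⟩
    exact this hz
  -- p'-elements of the stabilizer centralize Φ
  unfold Cfsg.pResidual
  rw [MonoidHom.map_closure, Subgroup.closure_le]
  rintro _ ⟨g, hg, rfl⟩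
  have hgS := hNYS g.2
  obtain ⟨_, hg2, hg3⟩ := hgS
  have hcop : (orderOf (g : G)).Coprime p := by
    rw [Subgroup.orderOf_coe]; exact hg
  rw [SetLike.mem_coe, Subgroup.mem_centralizer_iff]
  intro r hr
  have hc := hg3 r hr
  have hcomm : Commute ⁅r, (g : G)⁆ g := (hg2 _ hc).symm
  obtain ⟨k, hk⟩ := hPpow _ (hP'le hc)
  exact commute_of_coprime_step (pow_orderOf_eq_one _) hcop hcomm hk

end Cfsg.Agent.S2819
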