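import Cfsg.Statements.S2820
import Cfsg.Agent.Helper47.SN2

set_option autoImplicit false
open Cfsg

namespace Cfsg.Agent.S2820

/-- Let A and B be subnormal subgroups of the finite group H with A a p-group and B = O^p(B) (B generated by its elements of order prime to p). Then A normalizes B and B = O^p(AB), the subgroup of ⟨A, B⟩ generated by its elements of order prime to p. -/
theorem result {H : Type*} [Group H] [Finite H] {p : ℕ} [Fact p.Prime] (A B : Subgroup H) (hA : A.IsSubnormal) (hB : B.IsSubnormal) (hAp : IsPGroup p ↥A) (hBres : (Cfsg.pResidual p ↥B).map B.subtype = B) : A ≤ Subgroup.normalizer (B : Set H) ∧ (Cfsg.pResidual p ↥(A ⊔ B)).map (A ⊔ B).subtype = B := by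
  open Cfsg.Agent.Helper47 in
  have hAP : A ≤ Cfsg.pCore p H := le_pCore_of_isSubnormal hA hAp
  open Cfsg.Agent.Helper47 in
  have hle : A ⊔ B ≤ B ⊔ Cfsg.pCore p H := sup_le (hAP.trans le_sup_right) le_sup_left
  open Cfsg.Agent.Helper47 in
  have h1 : (Cfsg.pResidual p ↥(A ⊔ B)).map (A ⊔ B).subtype ≤ B :=
    pResidual_map_le_of_le_sup_subnormal hB (pCore_isPGroup p H) hle
  open Cfsg.Agent.Helper47 in
  have h2 : (Cfsg.pResidual p ↥(A ⊔ B)).map (A ⊔ B).subtype = B := by
    refine le_antisymm h1 ?_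
    conv_lhs => rw [← hBres]
    exact pResidual_map_mono le_sup_right
  refine ⟨?_, h2⟩
  open Cfsg.Agent.Helper47 in
  have h3 := le_normalizer_pResidual_map (p := p) (A ⊔ B)
  rw [h2] at h3
  exact le_sup_left.trans h3

end Cfsg.Agent.S2820
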