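import Cfsg.Statements.S2826
import Cfsg.Agent.Helper47.Avg

set_option autoImplicit false
open Cfsg

namespace Cfsg.Agent.S2826

/-- Let H be a finite group of characteristic p, T a Sylow p-subgroup, and V a normal elementary abelian p-subgroup of H containing Ω₁(Z(T)). Then C_H(Ω₁(Z(T))) = C_H([V, O^p(H)] ∩ Ω₁(Z(T))), O^p(H) being generated by the elements of order prime to p. -/
theorem result {H : Type*} [Group H] [Finite H] {p : ℕ} [Fact p.Prime] (hH : Subgroup.centralizer (Cfsg.pCore p H : Set H) ≤ Cfsg.pCore p H) (T : Sylow p H) (V : Subgroup H) [V.Normal] (hV : Cfsg.IsElementaryAbelian p V) (hZV : (Cfsg.omegaOne p ((T : Subgroup H) ⊓ Subgroup.centralizer (((T : Subgroup H) : Subgroup H) : Set H))) ≤ V) : Subgroup.centralizer ((Cfsg.omegaOne p ((T : Subgroup H) ⊓ Subgroup.centralizer (((T : Subgroup H) : Subgroup H) : Set H))) : Set H) = Subgroup.centralizer (((⁅V, Cfsg.pResidual p H⁆ ⊓ (Cfsg.omegaOne p ((T : Subgroup H) ⊓ Subgroup.centralizer (((T : Subgroup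 H) : Subgroup H) : Set H)))) : Subgroup H) : Set H) := by
  classical
  apply le_antisymm (Subgroup.centralizer_le inf_le_right)
  intro g hg
  have hVn : (⊤ : Subgroup H) ≤ Subgroup.normalizer (V : Set H) := by
    rw [Subgroup.normalizer_eq_top_iff.mpr inferInstance]
  have hWV : ⁅V, Cfsg.pResidual p H⁆ ≤ V := Subgroup.commutator_le_left V _
  have hle : Cfsg.omegaOne p ((T : Subgroup H) ⊓ Subgroup.centralizer (((T : Subgroup H) : Subgroup H) : Set H)) ≤
      Subgroup.centralizer ({g} : Set H) := by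
    show Subgroup.closure _ ≤ _
    rw [Subgroup.closure_le]
    rintro z ⟨hzT, hzp⟩
    have hzΩ := Cfsg.Agent.Helper47.mem_omegaOne hzT hzp
    have hzV : z ∈ V := hZV hzΩ
    have hzc : ∀ t ∈ (T : Subgroup H), t * z = z * t := fun t ht =>
      Subgroup.mem_centralizer_iff.mp (Subgroup.mem_inf.mp hzT).2 t ht
    have hWz : ∀ x ∈ (⊤ : Subgroup H), x * z * x⁻¹ * z⁻¹ ∈ ⁅V, Cfsg.pResidual p H⁆ := by
      intro x _
      have hx : x ∈ ((Cfsg.pResidual p H ⊔ (T : Subgroup H) : Subgroup H) : Set H) := by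
        rw [Cfsg.Agent.Helper47.pResidual_sup_sylow T]; exact Subgroup.mem_top x
      rw [Subgroup.normal_mul] at hx
      obtain ⟨r, hr, t, ht, rfl⟩ := Set.mem_mul.mp hx
      have e : r * t * z * (r * t)⁻¹ * z⁻¹ = r * z * r⁻¹ * z⁻¹ := by
        rw [mul_assoc r t z, hzc t ht]
        group
      rw [e, Subgroup.commutator_comm]
      have h5 := Subgroup.commutator_mem_commutator hr hzV
      rwa [commutatorElement_def] at h5
    obtain ⟨w, hwV, hwc, hwW⟩ := Cfsg.Agent.Helper47.exists_central_of_sylow T (L := ⊤) le_top hVn hV hzV hzc hWV hWz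
    have hwΩ := Cfsg.Agent.Helper47.mem_omegaOne_center_sylow_of_central T (L := ⊤) le_top
      (Subgroup.mem_top w) hwc (hV.2 w hwV)
    have hu : w * z⁻¹ ∈ ⁅V, Cfsg.pResidual p H⁆ ⊓ (Cfsg.omegaOne p ((T : Subgroup H) ⊓ Subgroup.centralizer (((T : Subgroup H) : Subgroup H) : Set H))) :=
      Subgroup.mem_inf.mpr ⟨hwW, Subgroup.mul_mem _ hwΩ (Subgroup.inv_mem _ hzΩ)⟩
    have h1 : (w * z⁻¹) * g = g * (w * z⁻¹) := Subgroup.mem_centralizer_iff.mp hg _ hu
    have h2 : g * w = w * g := hwc g (Subgroup.mem_top g)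
    rw [SetLike.mem_coe, Subgroup.mem_centralizer_iff]
    intro x hx
    rw [Set.mem_singleton_iff] at hx
    rw [hx]
    have hc1 : Commute g (w * z⁻¹) := h1.symm
    have hc2 : Commute g w := h2
    have hc3 : Commute g ((w * z⁻¹)⁻¹ * w) := hc1.inv_right.mul_right hc2
    have e : (w * z⁻¹)⁻¹ * w = z := by group
    rw [e] at hc3
    exact hc3.eq
  rw [Subgroup.mem_centralizer_iff]
  intro h hh
  exact ((Subgroup.mem_centralizer_iff.mp (hle hh)) g rfl).symm

end Cfsg.Agent.S2826
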