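import Cfsg.Statements.S2827
import Cfsg.Agent.Helper47.PIrr

set_option autoImplicit false
open Cfsg

namespace Cfsg.Agent.S2827

open scoped Pointwise
open Cfsg.Agent.Helper47

/-- Let H be a finite p-irreducible group (not p-closed, and O^p(H) lies in every normal subgroup that is not p-closed) and T a Sylow p-subgroup. Then H is generated by the conjugates of T and H = H'·T; O^p(H) ≤ H'; and for every normal subgroup Y of T not contained in O_p(H), O^p(H) = [O^p(H), Y] and O^p(H) is contained in the normal closure of Y in H. -/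
theorem result {H : Type*} [Group H] [Finite H] {p : ℕ} [Fact p.Prime] (hH : Cfsg.IsPIrreducible p H) (T : Sylow p H) : Subgroup.normalClosure ((T : Subgroup H) : Set H) = ⊤ ∧ commutator H ⊔ (T : Subgroup H) = ⊤ ∧ Cfsg.pResidual p H ≤ commutator H ∧ ∀ Y : Subgroup H, Y ≤ (T : Subgroup H) → (T : Subgroup H) ≤ Subgroup.normalizer (Y : Set H) → ¬ Y ≤ Cfsg.pCore p H → ⁅Cfsg.pResidual p H, Y⁆ = Cfsg.pResidual p H ∧ Cfsg.pResidual p H ≤ Subgroup.normalClosure (Y : Set H) := by
  obtain ⟨hncl, hirr⟩ := hH
  -- key: a normal subgroup containing a p-subgroup outside O_p contains O^p(H)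
  have key : ∀ (N : Subgroup H), N.Normal → ∀ Y : Subgroup H, IsPGroup p ↥Y → Y ≤ N →
      ¬ Y ≤ Cfsg.pCore p H → Cfsg.pResidual p H ≤ N := by
    intro N hN Y hY hYN hYO
    apply hirr N hN
    intro hcl
    exact hYO (le_pCore_of_le_normal_pClosed hcl hY hYN)
  have h1 : Subgroup.normalClosure ((T : Subgroup H) : Set H) = ⊤ := by
    have hR := key _ Subgroup.normalClosure_normal (T : Subgroup H) T.isPGroup'
      Subgroup.le_normalClosure (sylow_not_le_pCore hncl T)
    rw [eq_top_iff, ← pResidual_sup_sylow T]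
    exact sup_le hR Subgroup.le_normalClosure
  have h2 : commutator H ⊔ (T : Subgroup H) = ⊤ := by
    have hn : (commutator H ⊔ (T : Subgroup H)).Normal := Subgroup.Normal.of_commutator_le _ le_sup_left
    rw [eq_top_iff, ← h1]
    exact Subgroup.normalClosure_le_normal (SetLike.coe_subset_coe.mpr le_sup_right)
  refine ⟨h1, h2, ?_, ?_⟩
  · exact pResidual_le_of_quotient_isPGroup (quotient_isPGroup_of_sup_eq_top T.isPGroup' h2)
  · intro Y hYT hTY hYO
    have hYp : IsPGroup p ↥Y := T.isPGroup'.to_le hYT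
    have hcl := key _ Subgroup.normalClosure_normal Y hYp Subgroup.le_normalClosure hYO
    refine ⟨?_, hcl⟩
    set R := Cfsg.pResidual p H with hR
    have hCR : ⁅R, Y⁆ ≤ R := Subgroup.commutator_le_left R Y
    have hRn : Subgroup.normalizer (R : Set H) = ⊤ := Subgroup.normalizer_eq_top_iff.mpr inferInstance
    have hTC : (T : Subgroup H) ≤ Subgroup.normalizer ((⁅R, Y⁆ : Subgroup H) : Set H) := by
      refine le_trans ?_ (normalizer_inf_normalizer_le_normalizer_commutator R Y)
      exact le_inf (by rw [hRn]; exact le_top) hTY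
    have hCn : (⁅R, Y⁆ : Subgroup H).Normal := by
      rw [← Subgroup.normalizer_eq_top_iff, eq_top_iff, ← pResidual_sup_sylow T]
      exact sup_le (Subgroup.normalizer_commutator_ge_left R Y) hTC
    have hMn : (⁅R, Y⁆ ⊔ Y).Normal := by
      rw [← Subgroup.normalizer_eq_top_iff, eq_top_iff, ← pResidual_sup_sylow T]
      refine sup_le ?_ ?_
      · rw [Subgroup.le_normalizer_iff]
        intro r hr k hk
        have hk' : k ∈ ((⁅R, Y⁆ ⊔ Y : Subgroup H) : Set H) := hk
        rw [Subgroup.normal_mul] at hk'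
        obtain ⟨c, hc, y, hy, rfl⟩ := Set.mem_mul.mp hk'
        have e : r * (c * y) * r⁻¹ = (r * c * r⁻¹) * (r * y * r⁻¹ * y⁻¹) * y := by group
        rw [e]
        exact Subgroup.mul_mem _ (Subgroup.mul_mem _ (Subgroup.mem_sup_left (hCn.conj_mem c hc r))
          (Subgroup.mem_sup_left (Subgroup.commutator_mem_commutator hr hy)))
          (Subgroup.mem_sup_right hy)
      · refine le_trans ?_ (Subgroup.normalizer_inf_normalizer_le_normalizer_sup _ _)
        exact le_inf hTC hTY
    have hRM : R ≤ ⁅R, Y⁆ ⊔ Y := key _ hMn Y hYp le_sup_right hYO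
    apply le_antisymm hCR
    apply pResidual_le_of_forall_pow_mem
    intro g hg
    exact pow_mem_of_mem_sup_normal hYp (hRM (mem_pResidual_of_coprime hg))

end Cfsg.Agent.S2827
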