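import Cfsg.Statements.S2828
import Cfsg.Agent.Helper47.PCl

set_option autoImplicit false
open Cfsg

namespace Cfsg.Agent.S2828

open Cfsg.Agent.Helper47


/-- Let H be a finite group, p a prime and D a normal p-subgroup of H. Then H is p-irreducible if and only if H/D is p-irreducible, and H is strongly p-irreducible if and only if H/D is strongly p-irreducible. -/
theorem result {H : Type*} [Group H] [Finite H] {p : ℕ} [Fact p.Prime] (D : Subgroup H) [D.Normal] (hD : IsPGroup p ↥D) : (Cfsg.IsPIrreducible p H ↔ Cfsg.IsPIrreducible p (H ⧸ D)) ∧ (Cfsg.IsStronglyPIrreducible p H ↔ Cfsg.IsStronglyPIrreducible p (H ⧸ D)) := by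
  set f := QuotientGroup.mk' D with hf
  have hs : Function.Surjective f := QuotientGroup.mk'_surjective D
  have hker : IsPGroup p ↥f.ker := by rw [QuotientGroup.ker_mk']; exact hD
  have hcl : Cfsg.IsPClosed p H ↔ Cfsg.IsPClosed p (H ⧸ D) := by
    rw [isPClosed_iff_PCl_top, isPClosed_iff_PCl_top, ← PCl_comap f hs hker ⊤, Subgroup.comap_top]
  have hres : (Cfsg.pResidual p H).map f = Cfsg.pResidual p (H ⧸ D) :=
    pResidual_map_of_surjective f hs
  have hcore : (Cfsg.pCore p H).map f = Cfsg.pCore p (H ⧸ D) :=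
    pCore_map_of_surjective f hs hker
  have hback : ∀ N : Subgroup H, N.Normal → Cfsg.pResidual p (H ⧸ D) ≤ N.map f →
      Cfsg.pResidual p H ≤ N := by
    intro N hN hle
    have h1 : Cfsg.pResidual p H ≤ N ⊔ D := by
      have : Cfsg.pResidual p H ≤ (N.map f).comap f := by
        rw [← Subgroup.map_le_iff_le_comap, hres]; exact hle
      rwa [Subgroup.comap_map_eq, QuotientGroup.ker_mk'] at this
    unfold Cfsg.pResidual
    rw [Subgroup.closure_le]
    intro g hg
    exact mem_of_coprime_of_mem_sup hD (h1 (mem_pResidual_of_coprime hg)) hg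
  have hfwd : ∀ N' : Subgroup (H ⧸ D), Cfsg.pResidual p H ≤ N'.comap f →
      Cfsg.pResidual p (H ⧸ D) ≤ N' := by
    intro N' hle
    rw [← hres]
    exact Subgroup.map_le_iff_le_comap.mpr hle
  refine ⟨⟨?_, ?_⟩, ⟨?_, ?_⟩⟩
  · rintro ⟨h1, h2⟩
    refine ⟨fun h => h1 (hcl.mpr h), fun N' hN' hncl => ?_⟩
    apply hfwd
    apply h2 _ (Subgroup.Normal.comap hN' f)
    rw [isPClosed_subgroup_iff, PCl_comap f hs hker, ← isPClosed_subgroup_iff]
    exact hncl
  · rintro ⟨h1, h2⟩
    refine ⟨fun h => h1 (hcl.mp h), fun N hN hncl => ?_⟩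
    apply hback N hN
    apply h2 _ (Subgroup.Normal.map hN f hs)
    rw [isPClosed_subgroup_iff, ← PCl_comap f hs hker]
    intro hcl'
    apply hncl
    rw [isPClosed_subgroup_iff]
    exact PCl_mono (Subgroup.le_comap_map f N) hcl'
  · rintro ⟨h1, h2⟩
    refine ⟨fun h => h1 (hcl.mpr h), fun N' hN' hnc => ?_⟩
    apply hfwd
    apply h2 _ (Subgroup.Normal.comap hN' f)
    intro hle
    apply hnc
    rw [← hcore, ← Subgroup.map_comap_eq_self_of_surjective hs N',
      ← Subgroup.map_top_of_surjective f hs, ← Subgroup.map_commutator]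
    exact Subgroup.map_mono hle
  · rintro ⟨h1, h2⟩
    refine ⟨fun h => h1 (hcl.mp h), fun N hN hnc => ?_⟩
    apply hback N hN
    apply h2 _ (Subgroup.Normal.map hN f hs)
    intro hle
    apply hnc
    rw [← hcore, ← Subgroup.map_top_of_surjective f hs, ← Subgroup.map_commutator] at hle
    have h3 : ⁅N, (⊤ : Subgroup H)⁆ ≤ ((Cfsg.pCore p H).map f).comap f :=
      Subgroup.map_le_iff_le_comap.mp hle
    rw [Subgroup.comap_map_eq, QuotientGroup.ker_mk'] at h3
    exact h3.trans (sup_le le_rfl (le_pCore inferInstance hD))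

end Cfsg.Agent.S2828
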