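import Cfsg.Statements.S2829

set_option autoImplicit false
open Cfsg

namespace Cfsg.Agent.S2829

/-- Every strongly p-irreducible finite group is p-irreducible. -/
theorem result {H : Type*} [Group H] [Finite H] {p : ℕ} [Fact p.Prime] (hH : Cfsg.IsStronglyPIrreducible p H) : Cfsg.IsPIrreducible p H := by
  refine ⟨hH.1, fun N hN hNcl => hH.2 N hN fun hcomm => hNcl ?_⟩
  intro P
  have hDp : IsPGroup p ↥((Cfsg.pCore p H).subgroupOf N) := by
    have hcore : IsPGroup p ↥(Cfsg.pCore p H) :=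
      Sylow.sSup_of_normal _ (fun K hK => hK.2) (fun K hK => hK.1)
    exact hcore.comap_of_injective (N.subtype) (Subgroup.subtype_injective N)
  have hDle : (Cfsg.pCore p H).subgroupOf N ≤ (P : Subgroup ↥N) :=
    hDp.le_sylow_of_normal P
  refine ⟨fun x hx n => ?_⟩
  have hmem : n * x * n⁻¹ * x⁻¹ ∈ (Cfsg.pCore p H).subgroupOf N := by
    rw [Subgroup.mem_subgroupOf]
    apply hcomm
    exact Subgroup.commutator_mem_commutator n.2 (Subgroup.mem_top (x : H))
  have h2 : n * x * n⁻¹ = (n * x * n⁻¹ * x⁻¹) * x := by group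
  rw [h2]
  exact (P : Subgroup ↥N).mul_mem (hDle hmem) hx

end Cfsg.Agent.S2829
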