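import Cfsg.Statements.S2830
import Cfsg.Agent.Helper47.PCl2

set_option autoImplicit false
open Cfsg

namespace Cfsg.Agent.S2830

open Cfsg.Agent.Helper47


/-- Let H act by conjugation on the elementary abelian p-subgroup V of a finite group G (H ≤ N(V)), with H p-irreducible and O^p(H) not centralizing V. Then C_H(V) is p-closed and C_T(V) ≤ O_p(H) for every p-subgroup T of H. If in addition O_p(H) centralizes V, then C_T(V) = T ∩ O_p(H) for every p-subgroup T of H, and V is p-reduced for H: O_p(H/C_H(V)) = 1. -/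
theorem result {G : Type*} [Group G] [Finite G] {p : ℕ} [Fact p.Prime] (V H : Subgroup G) (hV : Cfsg.IsElementaryAbelian p V) (hHV : H ≤ Subgroup.normalizer (V : Set G)) (hH : Cfsg.IsPIrreducible p ↥H) (hnc : ¬ (Cfsg.pResidual p ↥H).map H.subtype ≤ Subgroup.centralizer (V : Set G)) [hn : ((Subgroup.centralizer (V : Set G)).subgroupOf H).Normal] : Cfsg.IsPClosed p ↥(H ⊓ Subgroup.centralizer (V : Set G)) ∧ (∀ T : Subgroup G, T ≤ H → IsPGroup p ↥T → T ⊓ Subgroup.centralizer (V : Set G) ≤ Cfsg.pCoreOf p H) ∧ (Cfsg.pCoreOf p H ≤ Subgroup.centralizer (V : Set G) → (∀ T : Subgroup G, T ≤ H → IsPGroup p ↥T → T ⊓ Subgroup.centralizer (V : Set G) = T ⊓ Cfsg.pCoreOf p H) ∧ Cfsg.pCore p (↥H ⧸ (Subgroup.centralizer (V : Set G)).subgroupOf H) = ⊥) := by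
  set C := Subgroup.centralizer (V : Set G) with hC
  have hres : ¬ Cfsg.pResidual p ↥H ≤ C.subgroupOf H := by
    intro h
    apply hnc
    rintro _ ⟨x, hx, rfl⟩
    exact Subgroup.mem_subgroupOf.mp (h hx)
  have hDn : H ≤ Subgroup.normalizer ((H ⊓ C : Subgroup G) : Set G) := by
    intro h hh
    have h1 : h ∈ Subgroup.normalizer (C : Set G) :=
      normalizer_le_normalizer_centralizer V (hHV hh)
    have h2 : h ∈ Subgroup.normalizer (H : Set G) := Subgroup.le_normalizer hh
    rw [Subgroup.mem_normalizer_iff] at h1 h2 ⊢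
    intro x
    rw [Subgroup.mem_inf, Subgroup.mem_inf, h1 x, h2 x]
  have ha : Cfsg.IsPClosed p ↥(H ⊓ C) := by
    rw [← isPClosed_subgroupOf_iff]
    by_contra hcl
    exact hres (hH.2 _ hn hcl)
  have hb : ∀ T : Subgroup G, T ≤ H → IsPGroup p ↥T → T ⊓ C ≤ Cfsg.pCoreOf p H := by
    intro T hTH hT
    exact (le_pCoreOf_of_isPClosed ha (hT.to_le inf_le_left)
      (le_inf (inf_le_left.trans hTH) inf_le_right)).trans (pCoreOf_le_pCoreOf inf_le_left hDn)
  refine ⟨ha, hb, fun hO => ⟨fun T hTH hT => ?_, ?_⟩⟩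
  · exact le_antisymm (le_inf inf_le_left (hb T hTH hT))
      (le_inf inf_le_left (inf_le_right.trans hO))
  · apply pCore_quotient_eq_bot_of_isPClosed
    · by_contra hcl
      have hle := hH.2 _ (Subgroup.Normal.comap inferInstance _) hcl
      apply hres
      unfold Cfsg.pResidual
      rw [Subgroup.closure_le]
      intro g hg
      obtain ⟨k, hk⟩ := mem_pCore_pow (Subgroup.mem_comap.mp (hle (mem_pResidual_of_coprime hg)))
      have hk' : g ^ (p ^ k) ∈ C.subgroupOf H := by
        rw [← map_pow] at hk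
        exact (QuotientGroup.eq_one_iff _).mp hk
      exact mem_of_pow_mem_of_coprime (Nat.Coprime.pow_left k (Nat.Coprime.symm hg)) hk'
    · intro x hx
      exact Subgroup.mem_subgroupOf.mpr (hO ⟨x, hx, rfl⟩)

end Cfsg.Agent.S2830
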