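import Cfsg.Statements.S2831
import Cfsg.Agent.Helper47.Basic

set_option autoImplicit false
open Cfsg

namespace Cfsg.Agent.S2831

open scoped Pointwise
open Cfsg.Agent.Helper47

/-- Let H be a finite group with Sylow p-subgroup T such that H is T-minimal (H is generated by the conjugates of T and T lies in exactly one maximal subgroup of H). Then H is p-irreducible: H is not p-closed and O^p(H) lies in every normal subgroup of H that is not p-closed. -/
theorem result {H : Type*} [Group H] [Finite H] {p : ℕ} [Fact p.Prime] (T : Sylow p H) (hmin : Cfsg.IsMinimalOver (T : Subgroup H)) : Cfsg.IsPIrreducible p H := by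
  obtain ⟨hcl, M, ⟨hM, hTM⟩, hMuniq⟩ := hmin
  refine ⟨fun hpc => ?_, fun N hN hNcl => ?_⟩
  · haveI := hpc T
    rw [Subgroup.normalClosure_eq_self] at hcl
    exact hM.1 (top_le_iff.mp (hcl ▸ hTM))
  · have hsup : N ⊔ (T : Subgroup H) = ⊤ := by
      by_contra hne
      obtain ⟨M', hM', hle⟩ := (eq_top_or_exists_le_coatom (N ⊔ (T : Subgroup H))).resolve_left hne
      have hM'M : M' = M := hMuniq M' ⟨hM', le_sup_right.trans hle⟩
      have hfr := Sylow.normalizer_sup_eq_top (sylowInfNormal T N)
      rw [sylowInfNormal_map] at hfr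
      have hTn : (T : Subgroup H) ≤ Subgroup.normalizer (((T : Subgroup H) ⊓ N : Subgroup H) : Set H) := by
        refine le_trans ?_ Subgroup.inf_normalizer_le_normalizer_inf
        refine le_inf Subgroup.le_normalizer ?_
        rw [Subgroup.normalizer_eq_top_iff.mpr hN]
        exact le_top
      by_cases hnt : Subgroup.normalizer (((T : Subgroup H) ⊓ N : Subgroup H) : Set H) = ⊤
      · apply hNcl
        have hnorm : ((T : Subgroup H) ⊓ N).Normal := Subgroup.normalizer_eq_top_iff.mp hnt
        apply isPClosed_of_normal_sylow (sylowInfNormal T N)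
        rw [sylowInfNormal_coe, ← Subgroup.inf_subgroupOf_right]
        exact hnorm.subgroupOf N
      · obtain ⟨M'', hM'', hle''⟩ := (eq_top_or_exists_le_coatom _).resolve_left hnt
        have hM''M : M'' = M := hMuniq M'' ⟨hM'', hTn.trans hle''⟩
        have : (⊤ : Subgroup H) ≤ M := by
          rw [← hfr]
          exact sup_le (hM''M ▸ hle'') (hM'M ▸ (le_sup_left.trans hle))
        exact hM.1 (top_le_iff.mp this)
    apply pResidual_le_of_quotient_isPGroup
    intro q
    obtain ⟨g, rfl⟩ := QuotientGroup.mk_surjective q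
    have hg : g ∈ ((N ⊔ (T : Subgroup H) : Subgroup H) : Set H) := by
      rw [hsup]; exact Subgroup.mem_top g
    rw [Subgroup.normal_mul] at hg
    obtain ⟨n, hn, t, ht, rfl⟩ := Set.mem_mul.mp hg
    obtain ⟨k, hk⟩ := isPGroup_pow T.isPGroup' ht
    refine ⟨k, ?_⟩
    have h1 : ((n * t : H) : H ⧸ N) = (t : H ⧸ N) := by
      rw [QuotientGroup.mk_mul, (QuotientGroup.eq_one_iff n).mpr hn, one_mul]
    rw [h1, ← QuotientGroup.mk_pow, hk]
    rfl

end Cfsg.Agent.S2831
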