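import Cfsg.Statements.S2832
import Cfsg.Agent.Helper47.Quot

set_option autoImplicit false
open Cfsg

namespace Cfsg.Agent.S2832

open scoped Pointwise
open Cfsg.Agent.Helper47

/-- Let H be a finite group with Sylow p-subgroup T such that H is T-minimal (generated by the conjugates of T, with T in exactly one maximal subgroup), and let N be a normal subgroup of H. Then either H/N is a p-group or H/N is minimal over the image of T in the same sense. -/
theorem result {H : Type*} [Group H] [Finite H] {p : ℕ} [Fact p.Prime] (T : Sylow p H) (hmin : Cfsg.IsMinimalOver (T : Subgroup H)) (N : Subgroup H) [N.Normal] : IsPGroup p (H ⧸ N) ∨ Cfsg.IsMinimalOver ((T : Subgroup H).map (QuotientGroup.mk' N)) := by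
  obtain ⟨hcl, M, ⟨hM, hTM⟩, hMuniq⟩ := hmin
  by_cases hsup : N ⊔ (T : Subgroup H) = ⊤
  · exact Or.inl (quotient_isPGroup_of_sup_eq_top T.isPGroup' hsup)
  · right
    have hsurj : Function.Surjective (QuotientGroup.mk' N) := QuotientGroup.mk'_surjective N
    have hkerN : (QuotientGroup.mk' N).ker = N := QuotientGroup.ker_mk' N
    obtain ⟨M', hM', hle⟩ := (eq_top_or_exists_le_coatom (N ⊔ (T : Subgroup H))).resolve_left hsup
    have hM'M : M' = M := hMuniq M' ⟨hM', le_sup_right.trans hle⟩
    subst hM'M
    have hNM : N ≤ M' := le_sup_left.trans hle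
    refine ⟨?_, M'.map (QuotientGroup.mk' N), ⟨?_, Subgroup.map_mono hTM⟩, ?_⟩
    · rw [Subgroup.coe_map, ← Subgroup.map_normalClosure _ _ hsurj, hcl,
        Subgroup.map_top_of_surjective _ hsurj]
    · exact isCoatom_map_of_surjective hsurj (hkerN.le.trans hNM) hM
    · rintro K ⟨hK, hTK⟩
      have hKc := isCoatom_comap_of_surjective hsurj hK
      have hTc : (T : Subgroup H) ≤ K.comap (QuotientGroup.mk' N) :=
        (Subgroup.le_comap_map _ _).trans (Subgroup.comap_mono hTK)
      have := hMuniq _ ⟨hKc, hTc⟩
      rw [← this, Subgroup.map_comap_eq_self_of_surjective hsurj]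

end Cfsg.Agent.S2832
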