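import Cfsg.Statements.S2833
import Mathlib.Tactic.Group

set_option autoImplicit false
open Cfsg

namespace Cfsg.Agent.S2833

open scoped commutatorElement Pointwise

theorem mem_sup_prod {G : Type*} [Group G] {A B : Subgroup G}
    (hAB : A ≤ Subgroup.normalizer (B : Set G)) {w : G} (hw : w ∈ A ⊔ B) :
    ∃ a ∈ A, ∃ b ∈ B, a * b = w := by
  have h := Subgroup.coe_mul_of_left_le_normalizer_right A B hAB
  have hw' : w ∈ ((A ⊔ B : Subgroup G) : Set G) := hw
  rw [h] at hw'
  exact Set.mem_mul.mp hw'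

/-- the key containment: `[V, L] ≤ U` when `U ≤ V` contains `[V, A]` and `[V, B]` and `L = A ⊔ B ≤ N(V)`. -/
theorem comm_sup_le {G : Type*} [Group G] (V A B U : Subgroup G)
    (hA : A ≤ Subgroup.normalizer (V : Set G)) (hB : B ≤ Subgroup.normalizer (V : Set G))
    (hUV : U ≤ V) (hAU : ⁅V, A⁆ ≤ U) (hBU : ⁅V, B⁆ ≤ U) : ⁅V, A ⊔ B⁆ ≤ U := by
  rw [Subgroup.commutator_le]
  intro v hv l hl
  rw [Subgroup.sup_eq_closure] at hl
  have hN : ∀ l ∈ Subgroup.closure ((A : Set G) ∪ B), ∀ v ∈ V, l * v * l⁻¹ ∈ V := by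
    intro l hl
    have : Subgroup.closure ((A : Set G) ∪ B) ≤ Subgroup.normalizer (V : Set G) := by
      rw [Subgroup.closure_le]
      rintro x (hx | hx)
      · exact hA hx
      · exact hB hx
    exact Subgroup.le_normalizer_iff.mp this l hl
  revert v
  induction hl using Subgroup.closure_induction with
  | mem x hx =>
    intro v hv
    rcases hx with hx | hx
    · exact hAU (Subgroup.commutator_mem_commutator hv hx)
    · exact hBU (Subgroup.commutator_mem_commutator hv hx)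
  | one => intro v _; simp
  | mul x y hx hy ihx ihy =>
    intro v hv
    have h1 : ⁅v, x * y⁆ = ⁅v, x⁆ * (⁅⁅v, y⁆, x⁆⁻¹ * ⁅v, y⁆) := by
      simp only [commutatorElement_def]; group
    rw [h1]
    have hvy : ⁅v, y⁆ ∈ U := ihy v hv
    exact U.mul_mem (ihx v hv) (U.mul_mem (U.inv_mem (ihx _ (hUV hvy))) hvy)
  | inv x hx ihx =>
    intro v hv
    have h1 : ⁅v, x⁻¹⁆ = ⁅x⁻¹ * v * x⁻¹⁻¹, x⁆⁻¹ := by
      simp only [commutatorElement_def]; group
    rw [h1]
    exact U.inv_mem (ihx _ (hN x⁻¹ (Subgroup.inv_mem _ hx) v hv))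

/-- Let V be a subgroup of a finite group G normalized by the subgroup L, let X ≤ L and g ∈ L with [V, X, X] = 1 and L generated by X and gXg⁻¹. Put W = [V, L]. Then W = [V, X]·[V, gXg⁻¹], C_W(X) = [V, X], and C_W(L) = [V, X] ∩ [V, gXg⁻¹]. -/
theorem result {G : Type*} [Group G] [Finite G] (V L : Subgroup G) (hLV : L ≤ Subgroup.normalizer (V : Set G)) (X : Subgroup G) (hX : X ≤ L) (g : G) (hg : g ∈ L) (hq : ⁅⁅V, X⁆, X⁆ = ⊥) (hgen : X ⊔ X.map (MulAut.conj g).toMonoidHom = L) (W : Subgroup G) (hW : W = ⁅V, L⁆) : ⁅V, X⁆ ⊔ ⁅V, X.map (MulAut.conj g).toMonoidHom⁆ = W ∧ W ⊓ Subgroup.centralizer (X : Set G) = ⁅V, X⁆ ∧ W ⊓ Subgroup.centralizer (L : Set G) = ⁅V, X⁆ ⊓ ⁅V, X.map (MulAut.conj g).toMonoidHom⁆ := by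
  set Xg := X.map (MulAut.conj g).toMonoidHom with hXg
  have hVL : ⁅V, L⁆ ≤ V := Subgroup.le_normalizer_iff_commutator_le_left.mp hLV
  have hXgL : Xg ≤ L := by rw [← hgen]; exact le_sup_right
  have hVX : ⁅V, X⁆ ≤ V := (Subgroup.commutator_mono le_rfl hX).trans hVL
  have hVXg : ⁅V, Xg⁆ ≤ V := (Subgroup.commutator_mono le_rfl hXgL).trans hVL
  have hgV : V.map (MulAut.conj g).toMonoidHom = V :=
    Subgroup.mem_normalizer_iff_map_conj_eq.mp (hLV hg)
  have hmap : ⁅V, Xg⁆ = (⁅V, X⁆).map (MulAut.conj g).toMonoidHom := by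
    rw [Subgroup.map_commutator, hgV]
  have hq' : ⁅⁅V, Xg⁆, Xg⁆ = ⊥ := by
    rw [hmap, hXg, ← Subgroup.map_commutator, hq, Subgroup.map_bot]
  have hcX : ⁅V, X⁆ ≤ Subgroup.centralizer (X : Set G) :=
    Subgroup.commutator_eq_bot_iff_le_centralizer.mp hq
  have hcXg : ⁅V, Xg⁆ ≤ Subgroup.centralizer (Xg : Set G) :=
    Subgroup.commutator_eq_bot_iff_le_centralizer.mp hq'
  -- (1)
  have h1 : ⁅V, X⁆ ⊔ ⁅V, Xg⁆ = W := by
    apply le_antisymm
    · rw [hW]
      exact sup_le (Subgroup.commutator_mono le_rfl hX) (Subgroup.commutator_mono le_rfl hXgL)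
    · rw [hW, ← hgen]
      exact comm_sup_le V X Xg _ (hX.trans hLV) (hXgL.trans hLV) (sup_le hVX hVXg)
        le_sup_left le_sup_right
  have hnorm : ⁅V, X⁆ ≤ Subgroup.normalizer ((⁅V, Xg⁆ : Subgroup G) : Set G) :=
    hVX.trans (Subgroup.normalizer_commutator_ge_left V Xg)
  -- centralised by X and Xg implies centralised by L
  have hL : ∀ b : G, b ∈ Subgroup.centralizer (X : Set G) → b ∈ Subgroup.centralizer (Xg : Set G) →
      b ∈ Subgroup.centralizer (L : Set G) := by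
    intro b hb1 hb2
    have : L ≤ Subgroup.centralizer ({b} : Set G) := by
      rw [← hgen]
      refine sup_le ?_ ?_
      · intro x hx
        rw [Subgroup.mem_centralizer_iff]
        intro h hh
        rw [Set.mem_singleton_iff] at hh
        subst hh
        exact ((Subgroup.mem_centralizer_iff.mp hb1) x hx).symm
      · intro x hx
        rw [Subgroup.mem_centralizer_iff]
        intro h hh
        rw [Set.mem_singleton_iff] at hh
        subst hh
        exact ((Subgroup.mem_centralizer_iff.mp hb2) x hx).symm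
    rw [Subgroup.mem_centralizer_iff]
    intro l hl
    exact ((Subgroup.mem_centralizer_iff.mp (this hl)) b rfl).symm
  -- (2)
  have h2 : W ⊓ Subgroup.centralizer (X : Set G) = ⁅V, X⁆ := by
    apply le_antisymm
    · rintro w ⟨hw, hwc⟩
      rw [← h1] at hw
      obtain ⟨a, ha, b, hb, rfl⟩ := mem_sup_prod hnorm hw
      have hbX : b ∈ Subgroup.centralizer (X : Set G) := by
        have : b = a⁻¹ * (a * b) := by group
        rw [this]
        exact Subgroup.mul_mem _ (Subgroup.inv_mem _ (hcX ha)) hwc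
      have hbL := hL b hbX (hcXg hb)
      rw [hmap] at hb
      obtain ⟨b', hb', rfl⟩ := hb
      have hgb : g⁻¹ * (MulAut.conj g).toMonoidHom b' = (MulAut.conj g).toMonoidHom b' * g⁻¹ :=
        (Subgroup.mem_centralizer_iff.mp hbL) g⁻¹ (L.inv_mem hg)
      have : (MulAut.conj g).toMonoidHom b' = b' := by
        simp only [MulEquiv.toMonoidHom_eq_coe, MonoidHom.coe_coe, MulAut.conj_apply] at hgb ⊢
        have h3 : g⁻¹ * (g * b' * g⁻¹) = b' * g⁻¹ := by group
        rw [h3] at hgb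
        have h4 : b' = g * b' * g⁻¹ * g⁻¹ * g := by
          rw [← hgb]; group
        calc g * b' * g⁻¹ = g * b' * g⁻¹ * g⁻¹ * g := by group
          _ = b' := h4.symm
      rw [this]
      exact Subgroup.mul_mem _ ha hb'
    · refine le_inf ?_ hcX
      rw [hW]; exact Subgroup.commutator_mono le_rfl hX
  -- (2')
  have h2' : W ⊓ Subgroup.centralizer (Xg : Set G) = ⁅V, Xg⁆ := by
    apply le_antisymm
    · rintro w ⟨hw, hwc⟩
      rw [← h1] at hw
      obtain ⟨a, ha, b, hb, rfl⟩ := mem_sup_prod hnorm hw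
      have haXg : a ∈ Subgroup.centralizer (Xg : Set G) := by
        have : a = (a * b) * b⁻¹ := by group
        rw [this]
        exact Subgroup.mul_mem _ hwc (Subgroup.inv_mem _ (hcXg hb))
      have haL := hL a (hcX ha) haXg
      have hga : g * a = a * g := (Subgroup.mem_centralizer_iff.mp haL) g hg
      have : a ∈ ⁅V, Xg⁆ := by
        rw [hmap]
        refine ⟨a, ha, ?_⟩
        simp only [MulEquiv.toMonoidHom_eq_coe, MonoidHom.coe_coe, MulAut.conj_apply]
        rw [hga]; group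
      exact Subgroup.mul_mem _ this hb
    · refine le_inf ?_ hcXg
      rw [hW]; exact Subgroup.commutator_mono le_rfl hXgL
  refine ⟨h1, h2, ?_⟩
  apply le_antisymm
  · rintro w ⟨hw, hwc⟩
    have hwX : w ∈ Subgroup.centralizer (X : Set G) :=
      Subgroup.centralizer_le (show (X : Set G) ⊆ L from hX) hwc
    have hwXg : w ∈ Subgroup.centralizer (Xg : Set G) :=
      Subgroup.centralizer_le (show (Xg : Set G) ⊆ L from hXgL) hwc
    exact ⟨h2 ▸ (⟨hw, hwX⟩ : w ∈ W ⊓ Subgroup.centralizer (X : Set G)),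
      h2' ▸ (⟨hw, hwXg⟩ : w ∈ W ⊓ Subgroup.centralizer (Xg : Set G))⟩
  · rintro w ⟨hw1, hw2⟩
    refine ⟨?_, hL w (hcX hw1) (hcXg hw2)⟩
    rw [← h1]; exact Subgroup.mem_sup_left hw1

end Cfsg.Agent.S2833
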