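import Cfsg.Statements.S2835
import Cfsg.Agent.Helper47.Syl

set_option autoImplicit false
open Cfsg

namespace Cfsg.Agent.S2835

open scoped Pointwise
open Cfsg.Agent.Helper47

/-- Let L be a finite group, L₀ a maximal subgroup, T a Sylow p-subgroup of L₀ and Y ≤ T, and suppose L is Y-minimal (generated by the conjugates of Y, with Y in exactly one maximal subgroup, necessarily L₀). Then N_L(T) ≤ L₀, O_p(L) ≤ L₀ and T is a Sylow p-subgroup of L; N_L(L₀) = L₀; L = ⟨Y, gYg⁻¹⟩ for each g ∈ L outside L₀; and if Y is abelian then Y ∩ gYg⁻¹ = C_Y(L) for each such g. -/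
theorem result {L : Type*} [Group L] [Finite L] {p : ℕ} [Fact p.Prime] (L₀ : Subgroup L) (hL₀ : IsCoatom L₀) (T : Sylow p ↥L₀) (Y : Subgroup L) (hYT : Y ≤ (T : Subgroup ↥L₀).map L₀.subtype) (hmin : Cfsg.IsMinimalOver Y) : Subgroup.normalizer (((T : Subgroup ↥L₀).map L₀.subtype : Subgroup L) : Set L) ≤ L₀ ∧ Cfsg.pCore p L ≤ L₀ ∧ (∃ P : Sylow p L, (P : Subgroup L) = (T : Subgroup ↥L₀).map L₀.subtype) ∧ Subgroup.normalizer (L₀ : Set L) = L₀ ∧ (∀ g : L, g ∉ L₀ → Y ⊔ Y.map (MulAut.conj g).toMonoidHom = ⊤) ∧ (IsMulCommutative ↥Y → ∀ g : L, g ∉ L₀ → Y ⊓ Y.map (MulAut.conj g).toMonoidHom = Y ⊓ Subgroup.center L) := by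
  obtain ⟨hcl, M, ⟨hM, hYM⟩, hMuniq⟩ := hmin
  set T0 := (T : Subgroup ↥L₀).map L₀.subtype with hT0
  have hT0L : T0 ≤ L₀ := Subgroup.map_subtype_le _
  have hYL : Y ≤ L₀ := hYT.trans hT0L
  have hML : M = L₀ := (hMuniq L₀ ⟨hL₀, hYL⟩).symm
  subst hML
  -- (U): proper subgroups containing Y lie in L₀
  have hU : ∀ K : Subgroup L, K ≠ ⊤ → Y ≤ K → K ≤ M := by
    intro K hK hYK
    obtain ⟨M', hM', hle⟩ := exists_coatom_ge hK
    rw [← hMuniq M' ⟨hM', hYK.trans hle⟩]
    exact hle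
  have hnn : ∀ K : Subgroup L, K.Normal → Y ≤ K → K = ⊤ := by
    intro K hK hYK
    rw [eq_top_iff, ← hcl]
    exact Subgroup.normalClosure_le_normal (SetLike.coe_subset_coe.mpr hYK)
  have hT0p : IsPGroup p ↥T0 := T.isPGroup'.map _
  -- (1)
  have h1 : Subgroup.normalizer (T0 : Set L) ≤ M := by
    apply hU
    · intro htop
      have := hnn T0 (Subgroup.normalizer_eq_top_iff.mp htop) hYT
      exact hM.1 (top_le_iff.mp (this ▸ hT0L))
    · exact hYT.trans Subgroup.le_normalizer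
  -- (3)
  have h3 : ∃ P : Sylow p L, (P : Subgroup L) = T0 := by
    obtain ⟨P, hP⟩ := hT0p.exists_le_sylow
    refine ⟨P, eq_sylow_of_normalizer_inf_le P hP ?_⟩
    intro x hx
    have hxL : x ∈ M := h1 hx.2
    have hK : IsPGroup p ↥(((P : Subgroup L) ⊓ M).subgroupOf M) :=
      (P.isPGroup'.to_inf_left).comap_subtype
    have hTK : (T : Subgroup ↥M) ≤ ((P : Subgroup L) ⊓ M).subgroupOf M := by
      intro t ht
      rw [Subgroup.mem_subgroupOf]
      exact ⟨hP ⟨t, ht, rfl⟩, t.2⟩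
    have := T.is_maximal' hK hTK
    have hx' : (⟨x, hxL⟩ : ↥M) ∈ ((P : Subgroup L) ⊓ M).subgroupOf M := by
      rw [Subgroup.mem_subgroupOf]
      exact ⟨hx.1, hxL⟩
    rw [this] at hx'
    exact ⟨⟨x, hxL⟩, hx', rfl⟩
  -- (4)
  have h4 : Subgroup.normalizer (M : Set L) = M := by
    by_contra hne
    have hlt : M < Subgroup.normalizer (M : Set L) := lt_of_le_of_ne Subgroup.le_normalizer (Ne.symm hne)
    have := hnn M (Subgroup.normalizer_eq_top_iff.mp (hM.2 _ hlt)) hYL
    exact hM.1 this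
  -- (5)
  have h5 : ∀ g : L, g ∉ M → Y ⊔ Y.map (MulAut.conj g).toMonoidHom = ⊤ := by
    intro g hg
    by_contra hne
    have hle := hU _ hne le_sup_left
    have hYg : Y.map (MulAut.conj g).toMonoidHom ≤ M := le_sup_right.trans hle
    have hY' : Y ≤ M.map (MulAut.conj g⁻¹).toMonoidHom := by
      intro y hy
      refine ⟨g * y * g⁻¹, hYg ⟨y, hy, by simp⟩, ?_⟩
      simp only [MulEquiv.toMonoidHom_eq_coe, MonoidHom.coe_coe, MulAut.conj_apply]
      group
    have heq := hMuniq _ ⟨isCoatom_map_conj hM g⁻¹, hY'⟩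
    have hmem : g⁻¹ ∈ Subgroup.normalizer (M : Set L) :=
      Subgroup.mem_normalizer_iff_map_conj_eq.mpr heq
    rw [h4] at hmem
    exact hg (by simpa using M.inv_mem hmem)
  refine ⟨h1, ?_, h3, h4, h5, ?_⟩
  · obtain ⟨P, hP⟩ := h3
    exact (pCore_le_sylow P).trans (hP ▸ hT0L)
  · intro hcomm g hg
    have hYc : ∀ a ∈ Y, ∀ b ∈ Y, a * b = b * a := by
      intro a ha b hb
      have := mul_comm' (⟨a, ha⟩ : ↥Y) ⟨b, hb⟩
      exact congrArg Subtype.val this
    apply le_antisymm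
    · rintro z ⟨hz1, hz2⟩
      refine ⟨hz1, ?_⟩
      have hcent : Y ⊔ Y.map (MulAut.conj g).toMonoidHom ≤ Subgroup.centralizer ({z} : Set L) := by
        refine sup_le ?_ ?_
        · intro y hy
          rw [Subgroup.mem_centralizer_iff]
          intro h hh
          rw [Set.mem_singleton_iff] at hh
          subst hh
          exact hYc _ hz1 _ hy
        · rintro _ ⟨y, hy, rfl⟩
          obtain ⟨z', hz', rfl⟩ := hz2
          rw [Subgroup.mem_centralizer_iff]
          intro h hh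
          rw [Set.mem_singleton_iff] at hh
          subst hh
          simp only [MulEquiv.toMonoidHom_eq_coe, MonoidHom.coe_coe, MulAut.conj_apply]
          have := hYc z' hz' y hy
          calc g * z' * g⁻¹ * (g * y * g⁻¹) = g * (z' * y) * g⁻¹ := by group
            _ = g * (y * z') * g⁻¹ := by rw [this]
            _ = g * y * g⁻¹ * (g * z' * g⁻¹) := by group
      rw [h5 g hg] at hcent
      show z ∈ Subgroup.center L
      rw [Subgroup.mem_center_iff]
      intro x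
      exact ((Subgroup.mem_centralizer_iff.mp (hcent (Subgroup.mem_top x))) z rfl).symm
    · rintro z ⟨hz1, hz2⟩
      refine ⟨hz1, z, hz1, ?_⟩
      simp only [MulEquiv.toMonoidHom_eq_coe, MonoidHom.coe_coe, MulAut.conj_apply]
      have hz2' : z ∈ Subgroup.center L := hz2
      rw [Subgroup.mem_center_iff] at hz2'
      rw [hz2' g]; group

end Cfsg.Agent.S2835
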