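import Cfsg.Statements.S2838
import Cfsg.Agent.Helper47.WC

set_option autoImplicit false
open Cfsg

namespace Cfsg.Agent.S2838

open scoped Pointwise
open Cfsg.Agent.Helper47

local notation "cj(" g "," Q ")" => Subgroup.map (MulEquiv.toMonoidHom (MulAut.conj g)) Q

theorem normal_in_sylow {H : Type*} [Group H] [Finite H] {p : ℕ} [Fact p.Prime] (Q : Subgroup H)
    (hB : ∀ g : H, ⁅Q, cj(g, Q)⁆ ≤ Q ⊓ cj(g, Q) → cj(g, Q) = Q) (T : Sylow p H)
    (hQT : Q ≤ (T : Subgroup H)) : (T : Subgroup H) ≤ Subgroup.normalizer (Q : Set H) := by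
  have key := eq_sylow_of_normalizer_inf_le T
    (Q := (T : Subgroup H) ⊓ Subgroup.normalizer (Q : Set H)) inf_le_left ?_
  · rw [key]; exact inf_le_right
  · intro x hx
    obtain ⟨hxT, hxN⟩ := Subgroup.mem_inf.mp hx
    refine Subgroup.mem_inf.mpr ⟨hxT, ?_⟩
    rw [← cj_eq_self_iff]
    have hN := cj_eq_self_iff.mpr hxN
    have hQN : Q ≤ (T : Subgroup H) ⊓ Subgroup.normalizer (Q : Set H) :=
      le_inf hQT Subgroup.le_normalizer
    apply hB x
    refine le_inf ?_ ?_
    · rw [← Subgroup.le_normalizer_iff_commutator_le_left]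
      calc cj(x, Q) ≤ cj(x, (T : Subgroup H) ⊓ Subgroup.normalizer (Q : Set H)) := cj_mono hQN
        _ = (T : Subgroup H) ⊓ Subgroup.normalizer (Q : Set H) := hN
        _ ≤ Subgroup.normalizer (Q : Set H) := inf_le_right
    · rw [← Subgroup.le_normalizer_iff_commutator_le_right, normalizer_cj]
      calc Q ≤ (T : Subgroup H) ⊓ Subgroup.normalizer (Q : Set H) := hQN
        _ = cj(x, (T : Subgroup H) ⊓ Subgroup.normalizer (Q : Set H)) := hN.symm
        _ ≤ cj(x, Subgroup.normalizer (Q : Set H)) := cj_mono inf_le_right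

/-- For a nontrivial p-subgroup Q of a finite group H the following are equivalent: Q is a weakly closed subgroup (it is the only H-conjugate of itself inside some Sylow p-subgroup containing it); Q = P for every conjugate P of Q with [Q, P] ≤ Q ∩ P; Q is normal in N_H(R) for every p-subgroup R of H containing Q. -/
theorem result {H : Type*} [Group H] [Finite H] {p : ℕ} [Fact p.Prime] (Q : Subgroup H) (hQp : IsPGroup p ↥Q) (hQ1 : Q ≠ ⊥) : (Cfsg.IsWeaklyClosedSubgroup p Q ↔ ∀ g : H, ⁅Q, ((Q : Subgroup H).map (MulAut.conj (g : H)).toMonoidHom)⁆ ≤ Q ⊓ ((Q : Subgroup H).map (MulAut.conj (g : H)).toMonoidHom) → ((Q : Subgroup H).map (MulAut.conj (g : H)).toMonoidHom) = Q) ∧ (Cfsg.IsWeaklyClosedSubgroup p Q ↔ ∀ R : Subgroup H, IsPGroup p ↥R → Q ≤ R → Subgroup.normalizer ((R : Subgroup H) : Set H) ≤ Subgroup.normalizer ((Q : Subgroup H) : Set H)) := by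
  refine ⟨⟨fun hwc g hg => ?_, fun hB => ?_⟩, ⟨fun hwc R hR hQR => wc_normalizer_le hwc hR hQR, fun hC => ?_⟩⟩
  · have hn : Q ≤ Subgroup.normalizer ((cj(g, Q) : Subgroup H) : Set H) :=
      Subgroup.le_normalizer_iff_commutator_le_right.mpr (hg.trans inf_le_right)
    have hR : IsPGroup p ↥(Q ⊔ cj(g, Q)) := hQp.to_sup_of_normal_right' (isPGroup_cj hQp g) hn
    exact wc_of_le_pgroup hwc hR le_sup_left le_sup_right
  · obtain ⟨T, hQT⟩ := hQp.exists_le_sylow
    refine ⟨T, hQT, fun g hg => ?_⟩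
    have hT1 := normal_in_sylow Q hB T hQT
    have hQT' : Q ≤ ((g⁻¹ • T : Sylow p H) : Subgroup H) := by
      rw [sylow_smul_coe, ← cj_le_iff]; exact hg
    have hT2 := normal_in_sylow Q hB (g⁻¹ • T) hQT'
    rw [sylow_smul_coe, cj_le_iff, inv_inv, ← normalizer_cj] at hT2
    apply hB g
    refine le_inf ?_ ?_
    · rw [← Subgroup.le_normalizer_iff_commutator_le_left]
      exact hg.trans hT1
    · rw [← Subgroup.le_normalizer_iff_commutator_le_right]
      exact hQT.trans hT2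
  · obtain ⟨T, hQT⟩ := hQp.exists_le_sylow
    refine ⟨T, hQT, fun g hg => ?_⟩
    have hT1 : (T : Subgroup H) ≤ Subgroup.normalizer (Q : Set H) :=
      Subgroup.le_normalizer.trans (hC _ T.isPGroup' hQT)
    have hNT := hC _ T.isPGroup' hQT
    have hQT' : Q ≤ cj(g⁻¹, (T : Subgroup H)) := by rw [← cj_le_iff]; exact hg
    have hT2 : cj(g⁻¹, (T : Subgroup H)) ≤ Subgroup.normalizer (Q : Set H) :=
      Subgroup.le_normalizer.trans (hC _ (isPGroup_cj T.isPGroup' g⁻¹) hQT')
    rw [cj_le_iff, inv_inv, ← normalizer_cj] at hT2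
    have hT3 : cj(g, (T : Subgroup H)) ≤ Subgroup.normalizer ((cj(g, Q) : Subgroup H) : Set H) := by
      rw [normalizer_cj]; exact cj_mono hT1
    obtain ⟨k, hk, hkT⟩ := exists_cj_le_sylow_subgroup (isPGroup_cj T.isPGroup' g) hT3 (T.subtype hT2)
    rw [Sylow.coe_subtype, Subgroup.subgroupOf_map_subtype, cj_cj] at hkT
    have hkT' : cj(k * g, (T : Subgroup H)) = T := cj_eq_of_le (hkT.trans inf_le_left)
    have h1 : cj(k * g, Q) = Q := cj_eq_self_iff.mpr (hNT (cj_eq_self_iff.mp hkT'))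
    have h2 : cj(k, cj(g, Q)) = cj(g, Q) := cj_eq_self_iff.mpr hk
    rw [← h2, cj_cj, h1]

end Cfsg.Agent.S2838
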