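import Cfsg.Statements.S2839
import Cfsg.Agent.Helper47.WC2

set_option autoImplicit false
open Cfsg

namespace Cfsg.Agent.S2839

open scoped Pointwise
open Cfsg.Agent.Helper47

local notation "cj(" g "," Q ")" => Subgroup.map (MulEquiv.toMonoidHom (MulAut.conj g)) Q

/-- Let Q be a nontrivial p-subgroup of the finite group H that is a weakly closed subgroup, K a subgroup containing Q and N a normal subgroup of H. Then Q is a weakly closed subgroup of K; every H-conjugate of Q contained in K is a K-conjugate of Q; N_K(Q) contains a Sylow p-subgroup of K; N = N_N(Q)·O^p(N); and QN/N is a weakly closed subgroup of H/N. -/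
theorem result {H : Type*} [Group H] [Finite H] {p : ℕ} [Fact p.Prime] (Q : Subgroup H) (hQp : IsPGroup p ↥Q) (hQ1 : Q ≠ ⊥) (hwc : Cfsg.IsWeaklyClosedSubgroup p Q) (K : Subgroup H) (hQK : Q ≤ K) (N' : Subgroup H) [N'.Normal] : Cfsg.IsWeaklyClosedSubgroup p (Q.subgroupOf K) ∧ (∀ g : H, ((Q : Subgroup H).map (MulAut.conj (g : H)).toMonoidHom) ≤ K → ∃ k ∈ K, ((Q : Subgroup H).map (MulAut.conj (g : H)).toMonoidHom) = ((Q : Subgroup H).map (MulAut.conj (k : H)).toMonoidHom)) ∧ Cfsg.IsParabolic p ((Subgroup.normalizer ((Q : Subgroup H) : Set H)).subgroupOf K) ∧ (N' ⊓ Subgroup.normalizer ((Q : Subgroup H) : Set H)) ⊔ (Cfsg.pResidual p ↥N').map N'.subtype = N' ∧ Cfsg.IsWeaklyClosedSubgroup p (Q.map (QuotientGroup.mk' N')) := by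
  obtain ⟨TK, hTK⟩ := (hQp.comap_subtype (K := K)).exists_le_sylow
  have hQR : Q ≤ (TK : Subgroup ↥K).map K.subtype := by
    intro x hx
    exact ⟨⟨x, hQK hx⟩, hTK (Subgroup.mem_comap.mpr hx), rfl⟩
  have hRp : IsPGroup p ↥((TK : Subgroup ↥K).map K.subtype) := TK.isPGroup'.map _
  refine ⟨⟨TK, hTK, fun k hk => ?_⟩, fun g hg => wc_conj_in_subgroup hQp hwc hQK hg, ⟨TK, ?_⟩, ?_, ?_⟩
  · have h1 : cj((k : H), Q) ≤ (TK : Subgroup ↥K).map K.subtype := by
      intro x hx
      have hxK : x ∈ K := by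
        rw [mem_cj] at hx
        have := K.mul_mem (K.mul_mem k.2 (hQK hx)) (K.inv_mem k.2)
        have e : (k : H) * ((k : H)⁻¹ * x * k) * (k : H)⁻¹ = x := by group
        rwa [e] at this
      exact ⟨⟨x, hxK⟩, hk ((mem_cj_subgroupOf k ⟨x, hxK⟩).mpr hx), rfl⟩
    have h2 := wc_of_le_pgroup hwc hRp hQR h1
    ext x
    rw [mem_cj_subgroupOf, h2, Subgroup.mem_subgroupOf]
  · intro x hx
    rw [Subgroup.mem_subgroupOf]
    exact (Subgroup.le_normalizer.trans (wc_normalizer_le hwc hRp hQR)) ⟨x, hx, rfl⟩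
  · apply le_antisymm
    · exact sup_le inf_le_left (pResidual_map_le N')
    · intro n hn
      obtain ⟨r, hr, s, hs, rfl⟩ := wc_normal_factor hQp hwc N' hn
      exact Subgroup.mul_mem _ (Subgroup.mem_sup_right hr) (Subgroup.mem_sup_left hs)
  · obtain ⟨T, hQT⟩ := hQp.exists_le_sylow
    have hsurj : Function.Surjective (QuotientGroup.mk' N') := QuotientGroup.mk'_surjective N'
    refine ⟨T.mapSurjective hsurj, ?_, ?_⟩
    · rw [Sylow.coe_mapSurjective]
      exact Subgroup.map_mono hQT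
    · intro gbar hg
      obtain ⟨g, rfl⟩ := hsurj gbar
      rw [Sylow.coe_mapSurjective, ← map_cj, Subgroup.map_le_iff_le_comap, Subgroup.comap_map_eq,
        QuotientGroup.ker_mk'] at hg
      obtain ⟨x, hx, hxQ⟩ := wc_conj_in_subgroup hQp hwc (hQT.trans le_sup_left) hg
      have hx' : x ∈ (((T : Subgroup H) ⊔ N' : Subgroup H) : Set H) := hx
      rw [Subgroup.mul_normal] at hx'
      obtain ⟨t, ht, n, hn, rfl⟩ := Set.mem_mul.mp hx'
      have htN : t ∈ Subgroup.normalizer (Q : Set H) :=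
        (Subgroup.le_normalizer.trans (wc_normalizer_le hwc T.isPGroup' hQT)) ht
      rw [← map_cj, hxQ, map_cj]
      have e : (QuotientGroup.mk' N') (t * n) = (QuotientGroup.mk' N') t := by
        rw [map_mul]
        have : (QuotientGroup.mk' N') n = 1 := (QuotientGroup.eq_one_iff n).mpr hn
        rw [this, mul_one]
      rw [e, ← map_cj, cj_eq_self_iff.mpr htN]

end Cfsg.Agent.S2839
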