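import Cfsg.Statements.S2840
import Cfsg.Agent.Helper47.SN

set_option autoImplicit false
open Cfsg

namespace Cfsg.Agent.S2840

open scoped Pointwise commutatorElement
open Cfsg.Agent.Helper47

local notation "cj(" g "," Q ")" => Subgroup.map (MulEquiv.toMonoidHom (MulAut.conj g)) Q

/-- Let Q be a nontrivial p-subgroup of the finite group H that is a weakly closed subgroup and K a subgroup containing Q; let K° be the weak closure of Q in K (generated by the H-conjugates of Q inside K). Then K° is generated by the K-conjugates of Q, and K° is the subnormal closure of Q in K. -/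
theorem result {H : Type*} [Group H] [Finite H] {p : ℕ} [Fact p.Prime] (Q : Subgroup H) (hQp : IsPGroup p ↥Q) (hQ1 : Q ≠ ⊥) (hwc : Cfsg.IsWeaklyClosedSubgroup p Q) (K : Subgroup H) (hQK : Q ≤ K) (Kc : Subgroup H) (hKc : Kc = Cfsg.weakClosure Q K) : Kc = ⨆ k : ↥K, ((Q : Subgroup H).map (MulAut.conj ((k : H) : H)).toMonoidHom) ∧ Kc = (Cfsg.subnormalClosure (Q.subgroupOf K)).map K.subtype := by
  have hcjK : ∀ k : ↥K, cj((k : H), Q) ≤ K := by
    intro k x hx
    rw [mem_cj] at hx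
    have := K.mul_mem (K.mul_mem k.2 (hQK hx)) (K.inv_mem k.2)
    have e : (k : H) * ((k : H)⁻¹ * x * k) * (k : H)⁻¹ = x := by group
    rwa [e] at this
  have h1 : Kc = ⨆ k : ↥K, cj((k : H), Q) := by
    rw [hKc]
    unfold Cfsg.weakClosure
    apply le_antisymm
    · apply iSup_le
      rintro ⟨g, hg⟩
      obtain ⟨k, hk, hkQ⟩ := wc_conj_in_subgroup hQp hwc hQK hg
      show cj(g, Q) ≤ _
      rw [hkQ]
      exact le_iSup (fun k : ↥K => cj((k : H), Q)) ⟨k, hk⟩
    · apply iSup_le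
      intro k
      exact le_iSup (fun g : {g : H // cj(g, Q) ≤ K} => cj((g : H), Q)) ⟨(k : H), hcjK k⟩
  refine ⟨h1, ?_⟩
  set W := ⨆ k : ↥K, cj((k : H), Q) with hW
  have hWK : W ≤ K := iSup_le hcjK
  have hQW : Q ≤ W := by
    have := le_iSup (fun k : ↥K => cj((k : H), Q)) (1 : ↥K)
    have e : cj((((1 : ↥K) : ↥K) : H), Q) = Q := by
      rw [show (((1 : ↥K) : ↥K) : H) = 1 from rfl, cj_one]
    rw [e] at this
    exact this
  have hKW : K ≤ Subgroup.normalizer (W : Set H) := by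
    intro k hk
    rw [← cj_eq_self_iff]
    apply cj_eq_of_le
    rw [hW, Subgroup.map_iSup]
    apply iSup_le
    intro k'
    rw [cj_cj]
    exact le_iSup (fun k : ↥K => cj((k : H), Q)) (⟨k, hk⟩ * k')
  have hWn : (W.subgroupOf K).Normal := (Subgroup.normal_subgroupOf_iff_le_normalizer hWK).mpr hKW
  have hwcK := wc_subgroupOf hQp hwc hQK
  have hQpK : IsPGroup p ↥(Q.subgroupOf K) := hQp.comap_subtype
  rw [h1]
  apply le_antisymm
  · intro x hx
    have hxK : x ∈ K := hWK hx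
    refine ⟨⟨x, hxK⟩, ?_, rfl⟩
    show (⟨x, hxK⟩ : ↥K) ∈ sInf {K_1 : Subgroup ↥K | Q.subgroupOf K ≤ K_1 ∧ K_1.IsSubnormal}
    rw [Subgroup.mem_sInf]
    rintro S ⟨hQS, hS⟩
    have hWS : W ≤ S.map K.subtype := by
      apply iSup_le
      intro k y hy
      have hyK : y ∈ K := hcjK k hy
      exact ⟨⟨y, hyK⟩, wc_conj_le_of_isSubnormal hQpK hwcK hS hQS k
        ((mem_cj_subgroupOf k ⟨y, hyK⟩).mpr hy), rfl⟩
    obtain ⟨z, hz, hzx⟩ := hWS hx
    have : z = ⟨x, hxK⟩ := Subtype.ext hzx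
    rw [← this]; exact hz
  · have hle : Cfsg.subnormalClosure (Q.subgroupOf K) ≤ W.subgroupOf K := by
      apply subnormalClosure_le _ hWn.isSubnormal
      intro x hx
      rw [Subgroup.mem_subgroupOf] at hx ⊢
      exact hQW hx
    rintro _ ⟨z, hz, rfl⟩
    exact Subgroup.mem_subgroupOf.mp (hle hz)

end Cfsg.Agent.S2840
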