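import Cfsg.Statements.S2841
import Cfsg.Agent.Helper47.WC2

set_option autoImplicit false
open Cfsg

namespace Cfsg.Agent.S2841

open scoped Pointwise commutatorElement
open Cfsg.Agent.Helper47

local notation "cj(" g "," Q ")" => Subgroup.map (MulEquiv.toMonoidHom (MulAut.conj g)) Q

theorem cj_le_commutator_sup {G : Type*} [Group G] {A Q : Subgroup G} {a : G} (ha : a ∈ A) :
    cj(a, Q) ≤ ⁅A, Q⁆ ⊔ Q := by
  rintro _ ⟨q, hq, rfl⟩
  have e : (MulEquiv.toMonoidHom (MulAut.conj a)) q = ⁅a, q⁆ * q := by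
    simp [commutatorElement_def]
  rw [e]
  exact Subgroup.mul_mem _ (Subgroup.mem_sup_left (Subgroup.commutator_mem_commutator ha hq))
    (Subgroup.mem_sup_right hq)

/-- conjugates of `Q` by elements of `A ⊔ Q`-type products: if `cj(g,Q) ≤ ⁅A,Q⁆ ⊔ Q` with `Q`
weakly closed then `cj(g,Q) = cj(c,Q)` for some `c ∈ ⁅A,Q⁆`. -/
theorem exists_comm_conj {G : Type*} [Group G] [Finite G] {p : ℕ} [Fact p.Prime] {Q : Subgroup G}
    (hQp : IsPGroup p ↥Q) (hwc : Cfsg.IsWeaklyClosedSubgroup p Q) (A : Subgroup G) {g : G}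
    (hg : cj(g, Q) ≤ ⁅A, Q⁆ ⊔ Q) : ∃ c ∈ ⁅A, Q⁆, cj(g, Q) = cj(c, Q) := by
  obtain ⟨k, hk, hkQ⟩ := wc_conj_in_subgroup hQp hwc le_sup_right hg
  have hk' : k ∈ (((⁅A, Q⁆ ⊔ Q : Subgroup G)) : Set G) := hk
  rw [Subgroup.coe_mul_of_right_le_normalizer_left _ _ (Subgroup.normalizer_commutator_ge_right A Q)]
    at hk'
  obtain ⟨c, hc, q, hq, rfl⟩ := Set.mem_mul.mp hk'
  exact ⟨c, hc, by rw [hkQ, cj_mul_of_mem_normalizer (Subgroup.le_normalizer hq)]⟩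

/-- Let Q be a nontrivial p-subgroup of the finite group H that is a weakly closed subgroup and N a normal subgroup of H. Then N = N_N(Q)·[N, Q] and [N, Q] = (Q ∩ [N, Q])·[N, Q, Q]. -/
theorem result {H : Type*} [Group H] [Finite H] {p : ℕ} [Fact p.Prime] (Q : Subgroup H) (hQp : IsPGroup p ↥Q) (hQ1 : Q ≠ ⊥) (hwc : Cfsg.IsWeaklyClosedSubgroup p Q) (N' : Subgroup H) [N'.Normal] : (∀ n : H, n ∈ N' → ∃ a ∈ N' ⊓ Subgroup.normalizer ((Q : Subgroup H) : Set H), ∃ b ∈ ⁅N', Q⁆, n = a * b) ∧ (∀ c : H, c ∈ ⁅N', Q⁆ → ∃ a ∈ Q ⊓ ⁅N', Q⁆, ∃ b ∈ ⁅⁅N', Q⁆, Q⁆, c = a * b) := by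
  have hCN : ⁅N', Q⁆ ≤ N' := Subgroup.commutator_le_left N' Q
  constructor
  · intro n hn
    obtain ⟨c, hc, hcQ⟩ := exists_comm_conj hQp hwc N' (cj_le_commutator_sup (Q := Q) (N'.inv_mem hn))
    refine ⟨n * c, Subgroup.mem_inf.mpr ⟨N'.mul_mem hn (hCN hc), ?_⟩, c⁻¹, Subgroup.inv_mem _ hc, by group⟩
    rw [← cj_eq_self_iff, ← cj_cj, ← hcQ, cj_cj, mul_inv_cancel, cj_one]
  · intro c hc
    -- [N,Q] ≤ [[N,Q],Q] Q
    have hle : ⁅N', Q⁆ ≤ ⁅⁅N', Q⁆, Q⁆ ⊔ Q := by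
      rw [Subgroup.commutator_le]
      intro n hn q hq
      obtain ⟨c', hc', hcQ⟩ := exists_comm_conj hQp hwc N' (cj_le_commutator_sup (Q := Q) hn)
      have h1 : n * q * n⁻¹ ∈ ⁅⁅N', Q⁆, Q⁆ ⊔ Q := by
        have : n * q * n⁻¹ ∈ cj(n, Q) := cj_mem hq
        rw [hcQ] at this
        exact cj_le_commutator_sup hc' this
      rw [commutatorElement_def]
      exact Subgroup.mul_mem _ h1 (Subgroup.mem_sup_right (Q.inv_mem hq))
    have hc' : c ∈ (((⁅⁅N', Q⁆, Q⁆ ⊔ Q : Subgroup H)) : Set H) := hle hc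
    rw [Subgroup.coe_mul_of_right_le_normalizer_left _ _
      (Subgroup.normalizer_commutator_ge_right ⁅N', Q⁆ Q)] at hc'
    obtain ⟨d, hd, q, hq, rfl⟩ := Set.mem_mul.mp hc'
    have hdC : d ∈ ⁅N', Q⁆ :=
      (Subgroup.le_normalizer_iff_commutator_le_left.mp
        (Subgroup.normalizer_commutator_ge_right N' Q)) hd
    have hqC : q ∈ ⁅N', Q⁆ := by
      have : q = d⁻¹ * (d * q) := by group
      rw [this]
      exact Subgroup.mul_mem _ (Subgroup.inv_mem _ hdC) hc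
    refine ⟨q, Subgroup.mem_inf.mpr ⟨hq, hqC⟩, q⁻¹ * d * q, ?_, by group⟩
    have hn := Subgroup.normalizer_commutator_ge_right ⁅N', Q⁆ Q (Q.inv_mem hq)
    have := (Subgroup.mem_normalizer_iff.mp hn d).mp hd
    simpa using this

end Cfsg.Agent.S2841
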