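import Cfsg.Statements.S2843
import Cfsg.Agent.Helper47.WCL

set_option autoImplicit false
open Cfsg

namespace Cfsg.Agent.S2843

open scoped commutatorElement Pointwise
open Cfsg.Agent.Helper47

local notation "cj(" g "," Q ")" => Subgroup.map (MulEquiv.toMonoidHom (MulAut.conj g)) Q

/-- Let Q be a nontrivial large p-subgroup of the finite group H, Q ≤ L ≤ H, and Y a nontrivial p-subgroup of H normalized by L. Let L° be the weak closure of Q in L (generated by the conjugates of Q inside L). Then L° equals the weak closure of Q in L·C_H(Y), and [L°, C_H(Y)] ≤ O_p(L°); in particular C_H(Y) normalizes L°. -/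
theorem result {H : Type*} [Group H] [Finite H] {p : ℕ} [Fact p.Prime] (Q : Subgroup H) (hQp : IsPGroup p ↥Q) (hQ1 : Q ≠ ⊥) (hL : Cfsg.IsLarge Q) (L : Subgroup H) (hQL : Q ≤ L) (Y : Subgroup H) (hYp : IsPGroup p ↥Y) (hY1 : Y ≠ ⊥) (hLY : L ≤ Subgroup.normalizer ((Y : Subgroup H) : Set H)) : Cfsg.weakClosure Q L = Cfsg.weakClosure Q (L ⊔ Subgroup.centralizer ((Y : Subgroup H) : Set H)) ∧ ⁅Cfsg.weakClosure Q L, Subgroup.centralizer ((Y : Subgroup H) : Set H)⁆ ≤ (Cfsg.pCoreOf p (Cfsg.weakClosure Q L)) ∧ Subgroup.centralizer ((Y : Subgroup H) : Set H) ≤ Subgroup.normalizer (((Cfsg.weakClosure Q L) : Subgroup H) : Set H) := by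
  have hwc := isWeaklyClosedSubgroup_of_isLarge hQp hQ1 hL
  set C := Subgroup.centralizer ((Y : Subgroup H) : Set H) with hC
  have hLC : L ≤ Subgroup.normalizer (C : Set H) :=
    hLY.trans (normalizer_le_normalizer_centralizer Y)
  have hCQ : C ≤ Subgroup.normalizer (Q : Set H) :=
    isLarge_centralizer_le_normalizer hQp hL hYp hY1 (hQL.trans hLY)
  have key : ∀ g : H, cj(g, Q) ≤ L ⊔ C →
      cj(g, Q) ≤ L ∧ C ≤ Subgroup.normalizer ((cj(g, Q) : Subgroup H) : Set H) := by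
    intro g hg
    obtain ⟨h, hh, hgh⟩ := wc_conj_in_subgroup hQp hwc (hQL.trans le_sup_left) hg
    have hh' : h ∈ ((L ⊔ C : Subgroup H) : Set H) := hh
    rw [Subgroup.coe_mul_of_left_le_normalizer_right L C hLC] at hh'
    obtain ⟨l, hl, c, hc, rfl⟩ := Set.mem_mul.mp hh'
    rw [cj_mul_of_mem_normalizer (hCQ hc)] at hgh
    rw [hgh]
    constructor
    · calc cj(l, Q) ≤ cj(l, L) := cj_mono hQL
        _ = L := cj_eq_self_of_mem hl
    · rw [normalizer_cj]
      calc C = cj(l, C) := (cj_eq_self_iff.mpr (hLC hl)).symm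
        _ ≤ cj(l, Subgroup.normalizer (Q : Set H)) := cj_mono hCQ
  have h1 : Cfsg.weakClosure Q L = Cfsg.weakClosure Q (L ⊔ C) := by
    apply le_antisymm
    · unfold Cfsg.weakClosure
      apply iSup_le
      rintro ⟨g, hg⟩
      exact le_iSup (fun g : {g : H // cj(g, Q) ≤ L ⊔ C} => cj((g : H), Q))
        ⟨g, hg.trans le_sup_left⟩
    · show (⨆ g : {g : H // cj(g, Q) ≤ L ⊔ C}, cj((g : H), Q)) ≤ Cfsg.weakClosure Q L
      apply iSup_le
      rintro ⟨g, hg⟩
      exact le_weakClosure (key g hg).1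
  have h3 : C ≤ Subgroup.normalizer ((Cfsg.weakClosure Q L : Subgroup H) : Set H) := by
    intro c hc
    rw [← cj_eq_self_iff]
    unfold Cfsg.weakClosure
    rw [Subgroup.map_iSup]
    apply iSup_congr
    rintro ⟨g, hg⟩
    exact cj_eq_self_iff.mpr ((key g (hg.trans le_sup_left)).2 hc)
  refine ⟨h1, ?_, h3⟩
  set W := Cfsg.weakClosure Q L with hW
  have hWL : W ≤ L := weakClosure_le Q L
  set N₁ := Cfsg.pCoreOf p C ⊓ W with hN₁
  have hWN₁ : W ≤ Subgroup.normalizer (N₁ : Set H) := by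
    intro w hw
    rw [← cj_eq_self_iff, cj_inf,
      cj_eq_self_iff.mpr (normalizer_le_normalizer_pCoreOf C (hLC (hWL hw))), cj_eq_self_of_mem hw]
  have hN₁le : N₁ ≤ Cfsg.pCoreOf p W :=
    le_pCoreOf inf_le_right ((pCoreOf_isPGroup C).to_le inf_le_left) hWN₁
  refine le_trans ?_ hN₁le
  have hcomm := commutator_iSup_le (fun g : {g : H // cj(g, Q) ≤ L} => cj((g : H), Q)) C N₁
    hWN₁ (by
      rintro ⟨g, hg⟩ a ha c hc
      have hCn := (key g (hg.trans le_sup_left)).2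
      have hcQ : ⁅a, c⁆ ∈ cj(g, Q) := by
        have : c * a⁻¹ * c⁻¹ ∈ cj(g, Q) :=
          (Subgroup.mem_normalizer_iff.mp (hCn hc) _).mp (Subgroup.inv_mem _ ha)
        have e : ⁅a, c⁆ = a * (c * a⁻¹ * c⁻¹) := by rw [commutatorElement_def]; group
        rw [e]; exact Subgroup.mul_mem _ ha this
      have hcC : ⁅a, c⁆ ∈ C := by
        have : a * c * a⁻¹ ∈ C := (Subgroup.mem_normalizer_iff.mp (hLC (hg ha)) _).mp hc
        have e : ⁅a, c⁆ = (a * c * a⁻¹) * c⁻¹ := by rw [commutatorElement_def]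
        rw [e]; exact C.mul_mem this (C.inv_mem hc)
      have hle : cj(g, Q) ⊓ C ≤ Cfsg.pCoreOf p C :=
        le_pCoreOf inf_le_right ((isPGroup_cj hQp g).to_le inf_le_left) (by
          intro d hd
          rw [← cj_eq_self_iff, cj_inf, cj_eq_self_iff.mpr (hCn hd), cj_eq_self_of_mem hd])
      exact Subgroup.mem_inf.mpr ⟨hle (Subgroup.mem_inf.mpr ⟨hcQ, hcC⟩), le_weakClosure hg hcQ⟩)
  exact hcomm

end Cfsg.Agent.S2843
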