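import Cfsg.Statements.S2845
import Cfsg.Agent.Helper47.LargeP

set_option autoImplicit false
open Cfsg

namespace Cfsg.Agent.S2845

open Cfsg.Agent.Helper47

/-- Let Q be a nontrivial large p-subgroup of the finite group H. Then for every subgroup L ≥ Q with O_p(L) ≠ 1, C_H(O_p(L)) is a p-group and L has characteristic p, and either the weak closure L° of Q in L equals Q or C_H(L°) = 1; for every subgroup R of H containing a Sylow p-subgroup of H with O_p(R) ≠ 1, C_H(O_p(R)) ≤ O_p(R); and H has parabolic characteristic p. -/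
theorem result {H : Type*} [Group H] [Finite H] {p : ℕ} [Fact p.Prime] (Q : Subgroup H) (hQp : IsPGroup p ↥Q) (hQ1 : Q ≠ ⊥) (hL : Cfsg.IsLarge Q) : (∀ L : Subgroup H, Q ≤ L → Cfsg.pCore p ↥L ≠ ⊥ → IsPGroup p ↥(Subgroup.centralizer (((Cfsg.pCoreOf p L) : Subgroup H) : Set H)) ∧ Subgroup.centralizer (Cfsg.pCore p ↥L : Set ↥L) ≤ Cfsg.pCore p ↥L ∧ (Cfsg.weakClosure Q L = Q ∨ Subgroup.centralizer (((Cfsg.weakClosure Q L) : Subgroup H) : Set H) = ⊥)) ∧ (∀ R : Subgroup H, Cfsg.IsParabolic p R → Cfsg.pCore p ↥R ≠ ⊥ → Subgroup.centralizer (((Cfsg.pCoreOf p R) : Subgroup H) : Set H) ≤ (Cfsg.pCoreOf p R)) ∧ Cfsg.IsOfParabolicCharacteristic p H := by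
  refine ⟨?_, ?_, ?_⟩
  · intro L hQL hP1
    obtain ⟨h1, h2, h3⟩ := isLarge_charP hQp hQ1 hL hQL ((pCore_ne_bot_iff p L).mp hP1)
    exact ⟨h3, (wc_charP_consequences hQL h1 h2 h3).2,
      weakClosure_eq_or_centralizer_eq_bot hQp hQ1 hL hQL⟩
  · intro R hR hP1
    exact isLarge_parabolic_charP hQp hQ1 hL hR ((pCore_ne_bot_iff p R).mp hP1)
  · intro R hRp hR1 hpar
    rw [charP_subtype_iff]
    refine inf_le_right.trans (isLarge_parabolic_charP hQp hQ1 hL hpar ?_)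
    intro hbot
    apply hR1
    rw [← le_bot_iff, ← hbot]
    exact le_pCoreOf Subgroup.le_normalizer hRp le_rfl

end Cfsg.Agent.S2845
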