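import Cfsg.Statements.S2848
import Cfsg.Agent.Helper47.YL

set_option autoImplicit false
open Cfsg

namespace Cfsg.Agent.S2848

open Cfsg.Agent.Helper47

local notation "cj(" g "," Q ")" => Subgroup.map (MulEquiv.toMonoidHom (MulAut.conj g)) Q

/-- Standing hypotheses: G a finite group, S a Sylow p-subgroup, Q a nontrivial large p-subgroup of G contained in S (C_G(Q) ≤ Q and N_G(U) ≤ N_G(Q) for all nontrivial U ≤ C_G(Q)), and M a subgroup containing S with the basic property (M ∈ 𝔐_G(S)); Y_M denotes the largest p-reduced normal subgroup of M and M† = M·C_G(Y_M). Then O_p(M) is a weakly closed subgroup of M† (for p): it is the only M†-conjugate of itself inside some Sylow p-subgroup of M† containing it. -/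
theorem result {G : Type*} [Group G] [Finite G] {p : ℕ} [Fact p.Prime] (S : Sylow p G) (Q : Subgroup G) (hQp : IsPGroup p ↥Q) (hQ1 : Q ≠ ⊥) (hQS : Q ≤ (S : Subgroup G)) (hQ : Cfsg.IsLarge Q) (M : Subgroup G) (hSM : (S : Subgroup G) ≤ M) (hM : Cfsg.IsInFrakM p M) : Cfsg.IsWeaklyClosedSubgroup p (((Cfsg.pCoreOf p M)).subgroupOf (M ⊔ Subgroup.centralizer (((Cfsg.largestPReducedOf p M) : Subgroup G) : Set G))) := by
  obtain ⟨_, _, _, _, hcl, _⟩ := hM
  have hO := pCoreOf_eq_sylow_inf_centralizer S hSM hcl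
  set Y := Cfsg.largestPReducedOf p M with hY
  set C := Subgroup.centralizer (Y : Set G) with hC
  have hMC : M ⊔ C ≤ Subgroup.normalizer (C : Set G) :=
    sup_le ((le_normalizer_largestPReducedOf p M).trans (normalizer_le_normalizer_centralizer Y))
      Subgroup.le_normalizer
  refine ⟨S.subtype (hSM.trans le_sup_left), ?_, ?_⟩
  · intro x hx
    rw [Subgroup.mem_subgroupOf] at hx
    show x ∈ (S : Subgroup G).subgroupOf (M ⊔ C)
    rw [Subgroup.mem_subgroupOf]
    exact pCoreOf_le_sylow S hSM hx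
  · intro g hg
    apply cj_eq_of_le
    intro x hx
    have hxS : x ∈ (S : Subgroup G).subgroupOf (M ⊔ C) := hg hx
    rw [Subgroup.mem_subgroupOf] at hxS
    rw [mem_cj_subgroupOf] at hx
    rw [Subgroup.mem_subgroupOf, hO]
    refine Subgroup.mem_inf.mpr ⟨hxS, ?_⟩
    have h3 : cj((g : G), Cfsg.pCoreOf p M) ≤ cj((g : G), C) := by
      apply cj_mono
      rw [hO]
      exact inf_le_right
    rw [cj_eq_self_iff.mpr (hMC g.2)] at h3
    exact h3 hx

end Cfsg.Agent.S2848
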