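import Cfsg.Statements.S2849
import Cfsg.Agent.Helper47.EA

set_option autoImplicit false
open Cfsg

namespace Cfsg.Agent.S2849

open Cfsg.Agent.Helper47

local notation "cj(" g "," Q ")" => Subgroup.map (MulEquiv.toMonoidHom (MulAut.conj g)) Q

/-- Standing hypotheses: G a finite group, S a Sylow p-subgroup, Q a nontrivial large p-subgroup of G contained in S (C_G(Q) ≤ Q and N_G(U) ≤ N_G(Q) for all nontrivial U ≤ C_G(Q)), and M a subgroup containing S with the basic property (M ∈ 𝔐_G(S)); Y_M denotes the largest p-reduced normal subgroup of M and M† = M·C_G(Y_M). Suppose Y_M is asymmetric in G. Then for every subgroup R with Y_M ≤ R ≤ M†, the normal closure of Y_M in N_G(R) is elementary abelian. -/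
theorem result {G : Type*} [Group G] [Finite G] {p : ℕ} [Fact p.Prime] (S : Sylow p G) (Q : Subgroup G) (hQp : IsPGroup p ↥Q) (hQ1 : Q ≠ ⊥) (hQS : Q ≤ (S : Subgroup G)) (hQ : Cfsg.IsLarge Q) (M : Subgroup G) (hSM : (S : Subgroup G) ≤ M) (hM : Cfsg.IsInFrakM p M) (hasym : ¬ Cfsg.IsSymmetricIn (Cfsg.largestPReducedOf p M)) (R : Subgroup G) (hYR : (Cfsg.largestPReducedOf p M) ≤ R) (hRM : R ≤ (M ⊔ Subgroup.centralizer (((Cfsg.largestPReducedOf p M) : Subgroup G) : Set G))) : Cfsg.IsElementaryAbelian p ((Subgroup.normalClosure ((((Cfsg.largestPReducedOf p M)).subgroupOf (Subgroup.normalizer ((R : Subgroup G) : Set G)) : Subgroup ↥(Subgroup.normalizer ((R : Subgroup G) : Set G))) : Set ↥(Subgroup.normalizer ((R : Subgroup G) : Set G)))).map (Subgroup.normalizer ((R : Subgroup G) : Set G)).subtype) := by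
  have hYea := largestPReducedOf_isElementaryAbelian (p := p) M
  set Y := Cfsg.largestPReducedOf p M with hY
  set N := Subgroup.normalizer ((R : Subgroup G) : Set G) with hN
  have hMY : M ⊔ Subgroup.centralizer (Y : Set G) ≤ Subgroup.normalizer (Y : Set G) :=
    sup_le (le_normalizer_largestPReducedOf p M) (Subgroup.centralizer_le_normalizer _)
  have hRY : R ≤ Subgroup.normalizer (Y : Set G) := hRM.trans hMY
  -- key: Y commutes with its conjugates under N
  have key : ∀ n ∈ N, ⁅Y, cj(n, Y)⁆ = ⊥ := by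
    intro n hn
    by_contra hne
    apply hasym
    refine ⟨n, hne, le_inf ?_ ?_⟩
    · apply Subgroup.le_normalizer_iff_commutator_le_left.mp
      calc cj(n, Y) ≤ cj(n, R) := cj_mono hYR
        _ = R := cj_eq_self_iff.mpr hn
        _ ≤ Subgroup.normalizer (Y : Set G) := hRY
    · apply Subgroup.le_normalizer_iff_commutator_le_right.mp
      rw [normalizer_cj]
      calc Y ≤ R := hYR
        _ = cj(n, R) := (cj_eq_self_iff.mpr hn).symm
        _ ≤ cj(n, Subgroup.normalizer (Y : Set G)) := cj_mono hRY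
  have key2 : ∀ n ∈ N, ∀ y ∈ Y, ∀ y' ∈ Y, y * (n * y' * n⁻¹) = (n * y' * n⁻¹) * y := by
    intro n hn y hy y' hy'
    have h := Subgroup.commutator_eq_bot_iff_le_centralizer.mp (key n hn) hy
    rw [Subgroup.mem_centralizer_iff] at h
    exact (h _ (cj_mem hy')).symm
  show Cfsg.IsElementaryAbelian p ((Subgroup.closure (Group.conjugatesOfSet
    ((Y.subgroupOf N : Subgroup ↥N) : Set ↥N))).map N.subtype)
  rw [MonoidHom.map_closure]
  have hU : ∀ u ∈ (N.subtype '' Group.conjugatesOfSet ((Y.subgroupOf N : Subgroup ↥N) : Set ↥N)),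
      ∃ n ∈ N, ∃ y ∈ Y, u = n * y * n⁻¹ := by
    rintro _ ⟨u, hu, rfl⟩
    rw [Group.mem_conjugatesOfSet_iff] at hu
    obtain ⟨a, ha, hau⟩ := hu
    rw [isConj_iff] at hau
    obtain ⟨c, rfl⟩ := hau
    exact ⟨c, c.2, a, Subgroup.mem_subgroupOf.mp ha, rfl⟩
  apply isElementaryAbelian_closure
  · intro a ha b hb
    obtain ⟨n, hn, y, hy, rfl⟩ := hU a ha
    obtain ⟨n', hn', y', hy', rfl⟩ := hU b hb
    have h := key2 (n⁻¹ * n') (N.mul_mem (N.inv_mem hn) hn') y hy y' hy'
    calc n * y * n⁻¹ * (n' * y' * n'⁻¹)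
        = n * (y * (n⁻¹ * n' * y' * (n⁻¹ * n')⁻¹)) * n⁻¹ := by group
      _ = n * ((n⁻¹ * n' * y' * (n⁻¹ * n')⁻¹) * y) * n⁻¹ := by rw [h]
      _ = n' * y' * n'⁻¹ * (n * y * n⁻¹) := by group
  · intro a ha
    obtain ⟨n, hn, y, hy, rfl⟩ := hU a ha
    rw [conj_pow, hYea.2 y hy]
    group

end Cfsg.Agent.S2849
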