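import Cfsg.Statements.S2850
import Cfsg.Agent.Helper47.FrakM

set_option autoImplicit false
open Cfsg

namespace Cfsg.Agent.S2850

open scoped Pointwise
open Cfsg.Agent.Helper47

local notation "cj(" g "," Q ")" => Subgroup.map (MulEquiv.toMonoidHom (MulAut.conj g)) Q

/-- Standing hypotheses: G a finite group, S a Sylow p-subgroup, Q a nontrivial large p-subgroup of G contained in S (C_G(Q) ≤ Q and N_G(U) ≤ N_G(Q) for all nontrivial U ≤ C_G(Q)), and M a subgroup containing S with the basic property (M ∈ 𝔐_G(S)); Y_M denotes the largest p-reduced normal subgroup of M and M† = M·C_G(Y_M). Suppose Y_M is asymmetric in G. Then N_G(L) ≤ N_G(O_p(M)) ≤ M† for every p-subgroup L containing O_p(M); O_p(M) is a weakly closed subgroup of G; for every subgroup L containing O_p(M), L ∩ M† contains a Sylow p-subgroup of L; and two elements of Y_M conjugate in G are conjugate in M. -/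
theorem result {G : Type*} [Group G] [Finite G] {p : ℕ} [Fact p.Prime] (S : Sylow p G) (Q : Subgroup G) (hQp : IsPGroup p ↥Q) (hQ1 : Q ≠ ⊥) (hQS : Q ≤ (S : Subgroup G)) (hQ : Cfsg.IsLarge Q) (M : Subgroup G) (hSM : (S : Subgroup G) ≤ M) (hM : Cfsg.IsInFrakM p M) (hasym : ¬ Cfsg.IsSymmetricIn (Cfsg.largestPReducedOf p M)) : (∀ L : Subgroup G, IsPGroup p ↥L → (Cfsg.pCoreOf p M) ≤ L → Subgroup.normalizer ((L : Subgroup G) : Set G) ≤ Subgroup.normalizer (((Cfsg.pCoreOf p M) : Subgroup G) : Set G) ∧ Subgroup.normalizer (((Cfsg.pCoreOf p M) : Subgroup G) : Set G) ≤ (M ⊔ Subgroup.centralizer (((Cfsg.largestPReducedOf p M) : Subgroup G) : Set G))) ∧ Cfsg.IsWeaklyClosedSubgroup p (Cfsg.pCoreOf p M) ∧ (∀ L : Subgroup G, (Cfsg.pCoreOf p M) ≤ L → Cfsg.IsParabolic p ((L ⊓ (M ⊔ Subgroup.centralizer (((Cfsg.largestPReducedOf p M) : Subgroup G) : Set G))).subgroupOf L)) ∧ (∀ x ∈ (Cfsg.largestPReducedOf p M), ∀ g : G, g * x * g⁻¹ ∈ (Cfsg.largestPReducedOf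 p M) → ∃ m ∈ M, m * x * m⁻¹ = g * x * g⁻¹) := by
  have hwc : Cfsg.IsWeaklyClosedSubgroup p (Cfsg.pCoreOf p M) :=
    ⟨S, frakM_asym_wc S hQp hQ1 hQ hSM hM hasym⟩
  have hNO := frakM_normalizer_pCoreOf_le hM
  have hOp : IsPGroup p ↥(Cfsg.pCoreOf p M) := pCoreOf_isPGroup M
  set O := Cfsg.pCoreOf p M with hOdef
  set Y := Cfsg.largestPReducedOf p M with hYdef
  have h1 : ∀ L : Subgroup G, IsPGroup p ↥L → O ≤ L →
      Subgroup.normalizer (L : Set G) ≤ Subgroup.normalizer (O : Set G) :=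
    fun L hLp hOL => wc_normalizer_le hwc hLp hOL
  refine ⟨fun L hLp hOL => ⟨h1 L hLp hOL, hNO⟩, hwc, ?_, ?_⟩
  · intro L hOL
    obtain ⟨T, hT⟩ := (hOp.comap_subtype (K := L)).exists_le_sylow
    refine ⟨T, ?_⟩
    have hT'p : IsPGroup p ↥((T : Subgroup ↥L).map L.subtype) := T.isPGroup'.map _
    have hOT' : O ≤ (T : Subgroup ↥L).map L.subtype := by
      intro x hx
      exact ⟨⟨x, hOL hx⟩, hT (Subgroup.mem_subgroupOf.mpr hx), rfl⟩
    have hT'M : (T : Subgroup ↥L).map L.subtype ≤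
        M ⊔ Subgroup.centralizer (Y : Set G) :=
      Subgroup.le_normalizer.trans ((h1 _ hT'p hOT').trans hNO)
    intro t ht
    rw [Subgroup.mem_subgroupOf]
    exact Subgroup.mem_inf.mpr ⟨t.2, hT'M ⟨t, ht, rfl⟩⟩
  · intro x hx g hgx
    have hOC : O ≤ Subgroup.centralizer (Y : Set G) := pCoreOf_le_centralizer_largestPReducedOf M
    have hOK : O ≤ Subgroup.centralizer ({g * x * g⁻¹} : Set G) := by
      intro o ho
      rw [Subgroup.mem_centralizer_iff]
      intro h hh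
      rw [Set.mem_singleton_iff] at hh
      subst hh
      exact Subgroup.mem_centralizer_iff.mp (hOC ho) _ hgx
    have hOgK : cj(g, O) ≤ Subgroup.centralizer ({g * x * g⁻¹} : Set G) := by
      intro z hz
      rw [mem_cj] at hz
      rw [Subgroup.mem_centralizer_iff]
      intro h hh
      rw [Set.mem_singleton_iff] at hh
      subst hh
      have hc := Subgroup.mem_centralizer_iff.mp (hOC hz) x hx
      calc g * x * g⁻¹ * z = g * (x * (g⁻¹ * z * g)) * g⁻¹ := by group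
        _ = g * ((g⁻¹ * z * g) * x) * g⁻¹ := by rw [hc]
        _ = z * (g * x * g⁻¹) := by group
    obtain ⟨k, hk, hgk⟩ := wc_conj_in_subgroup hOp hwc hOK hOgK
    have hkg : k⁻¹ * g ∈ Subgroup.normalizer (O : Set G) := by
      rw [← cj_eq_self_iff, ← cj_cj, hgk, cj_cj, inv_mul_cancel, cj_one]
    have hkgM := hNO hkg
    have hkgM' : k⁻¹ * g ∈ ((M ⊔ Subgroup.centralizer (Y : Set G) : Subgroup G) : Set G) := hkgM
    rw [Subgroup.coe_mul_of_left_le_normalizer_right M _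
      ((le_normalizer_largestPReducedOf p M).trans (normalizer_le_normalizer_centralizer _))]
      at hkgM'
    obtain ⟨m, hm, c, hc, hmc⟩ := Set.mem_mul.mp hkgM'
    refine ⟨m, hm, ?_⟩
    have hcx : c * x * c⁻¹ = x := by
      have := Subgroup.mem_centralizer_iff.mp hc x hx
      rw [← this]; group
    have hkx : k⁻¹ * (g * x * g⁻¹) * k = g * x * g⁻¹ := by
      have := Subgroup.mem_centralizer_iff.mp hk (g * x * g⁻¹) (Set.mem_singleton _)
      calc k⁻¹ * (g * x * g⁻¹) * k = k⁻¹ * ((g * x * g⁻¹) * k) := by group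
        _ = k⁻¹ * (k * (g * x * g⁻¹)) := by rw [this]
        _ = g * x * g⁻¹ := by group
    calc m * x * m⁻¹ = m * (c * x * c⁻¹) * m⁻¹ := by rw [hcx]
      _ = (m * c) * x * (m * c)⁻¹ := by group
      _ = (k⁻¹ * g) * x * (k⁻¹ * g)⁻¹ := by rw [hmc]
      _ = k⁻¹ * (g * x * g⁻¹) * k := by group
      _ = g * x * g⁻¹ := hkx

end Cfsg.Agent.S2850
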