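import Cfsg.Statements.S2851
import Cfsg.Agent.Helper47.FStarRed2
import Cfsg.Agent.S2850

set_option autoImplicit false
open Cfsg

namespace Cfsg.Agent.S2851

open Cfsg.Agent.Helper47


/-- Standing hypotheses: G a finite group, S a Sylow p-subgroup, Q a nontrivial large p-subgroup of G contained in S, M a subgroup containing S with the basic property (M ∈ 𝔐_G(S)); Y_M the largest p-reduced normal subgroup of M and M† = M·C_G(Y_M). Let F be the preimage in M† of the generalized Fitting subgroup of M†/C_{M†}(Y_M). If Y_M is asymmetric in G and H is a subgroup of characteristic p containing F, then Y_M ≤ Y_H. -/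
theorem result {G : Type*} [Group G] [Finite G] {p : ℕ} [Fact p.Prime] (S : Sylow p G) (Q : Subgroup G) (hQp : IsPGroup p ↥Q) (hQ1 : Q ≠ ⊥) (hQS : Q ≤ (S : Subgroup G)) (hQ : Cfsg.IsLarge Q) (M : Subgroup G) (hSM : (S : Subgroup G) ≤ M) (hM : Cfsg.IsInFrakM p M) (hasym : ¬ Cfsg.IsSymmetricIn (Cfsg.largestPReducedOf p M)) [hn : ((Subgroup.centralizer (((Cfsg.largestPReducedOf p M) : Subgroup G) : Set G)).subgroupOf (M ⊔ Subgroup.centralizer (((Cfsg.largestPReducedOf p M) : Subgroup G) : Set G))).Normal] (F : Subgroup G) (hF : F = ((Cfsg.generalizedFittingSubgroup (↥(M ⊔ Subgroup.centralizer (((Cfsg.largestPReducedOf p M) : Subgroup G) : Set G)) ⧸ (Subgroup.centralizer (((Cfsg.largestPReducedOf p M) : Subgroup G) : Set G)).subgroupOf (M ⊔ Subgroup.centralizer (((Cfsg.largestPReducedOf p M) : Subgroup G) : Set G)))).comap (QuotientGroup.mk' ((Subgroup.centralizer (((Cfsg.largestPReducedOf p M) : Subgroup G) : Set G)).subgroupOf (M ⊔ Subgroup.centralizer (((Cfsg.largestPReducedOf p M)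 : Subgroup G) : Set G))))).map ((M ⊔ Subgroup.centralizer (((Cfsg.largestPReducedOf p M) : Subgroup G) : Set G))).subtype) (H : Subgroup G) (hFH : F ≤ H) (hH : Subgroup.centralizer (Cfsg.pCore p ↥H : Set ↥H) ≤ Cfsg.pCore p ↥H) : (Cfsg.largestPReducedOf p M) ≤ Cfsg.largestPReducedOf p H := by
  obtain ⟨-, -, hC, -⟩ := Cfsg.Agent.S2850.result S Q hQp hQ1 hQS hQ M hSM hM hasym
  have hYred : PRedIn p (M ⊔ Subgroup.centralizer (Cfsg.largestPReducedOf p M : Set G))
      (Cfsg.largestPReducedOf p M) := by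
    have h1 := PRedIn_largestPReducedOf (p := p)
      (M ⊔ Subgroup.centralizer (Cfsg.largestPReducedOf p M : Set G))
    rw [← hM.2.2.2.1] at h1
    exact h1
  have hCF : Subgroup.centralizer (Cfsg.largestPReducedOf p M : Set G) ≤ F :=
    le_fstar_preimage le_sup_right hF
  have hOH : Cfsg.pCoreOf p M ≤ H :=
    ((pCoreOf_le_centralizer_largestPReducedOf M).trans hCF).trans hFH
  obtain ⟨T', hT'⟩ := hC H hOH
  have hT'' : (T' : Subgroup ↥H).map H.subtype ≤
      M ⊔ Subgroup.centralizer (Cfsg.largestPReducedOf p M : Set G) := by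
    rintro _ ⟨x, hx, rfl⟩
    exact (Subgroup.mem_inf.mp (Subgroup.mem_subgroupOf.mp (hT' hx))).2
  exact le_largestPReducedOf_of_fstar_le hYred le_sup_right hF hFH
    ((charP_subtype_iff p H).mp hH) T' hT''

end Cfsg.Agent.S2851
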