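import Cfsg.Statements.S2852
import Cfsg.Agent.Helper47.FrakH

set_option autoImplicit false
open Cfsg

namespace Cfsg.Agent.S2852

open scoped Pointwise
open Cfsg.Agent.Helper47

local notation "cj(" g "," Q ")" => Subgroup.map (MulEquiv.toMonoidHom (MulAut.conj g)) Q

/-- Standing hypotheses: G a finite group, S a Sylow p-subgroup, Q a nontrivial large p-subgroup of G contained in S, M a subgroup containing S with the basic property (M ∈ 𝔐_G(S)); Y_M the largest p-reduced normal subgroup of M. If Y_M is char-p-tall and asymmetric in G, then some subgroup H of G lies in ℌ_G(O_p(M)): H has characteristic p, O_p(M) ≤ H, Y_M ≰ O_p(H), and Y_M ≤ O_p(P) for every proper subgroup P of H containing O_p(M). -/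
theorem result {G : Type*} [Group G] [Finite G] {p : ℕ} [Fact p.Prime] (S : Sylow p G) (Q : Subgroup G) (hQp : IsPGroup p ↥Q) (hQ1 : Q ≠ ⊥) (hQS : Q ≤ (S : Subgroup G)) (hQ : Cfsg.IsLarge Q) (M : Subgroup G) (hSM : (S : Subgroup G) ≤ M) (hM : Cfsg.IsInFrakM p M) (htall : Cfsg.IsCharPTall p (Cfsg.largestPReducedOf p M)) (hasym : ¬ Cfsg.IsSymmetricIn (Cfsg.largestPReducedOf p M)) : ∃ H : Subgroup G, Cfsg.IsInFrakH p M H := by
  have hwc : Cfsg.IsWeaklyClosedSubgroup p (Cfsg.pCoreOf p M) :=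
    ⟨S, frakM_asym_wc S hQp hQ1 hQ hSM hM hasym⟩
  have hOp : IsPGroup p ↥(Cfsg.pCoreOf p M) := pCoreOf_isPGroup M
  have hCO := frakM_centralizer_pCoreOf_le hM
  have hOC : Cfsg.pCoreOf p M ≤ Subgroup.centralizer (Cfsg.largestPReducedOf p M : Set G) :=
    pCoreOf_le_centralizer_largestPReducedOf M
  set O := Cfsg.pCoreOf p M with hOdef
  set Y := Cfsg.largestPReducedOf p M with hYdef
  obtain ⟨T, L, hTL, hLchar, hYL⟩ := htall
  rw [charP_subtype_iff] at hLchar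
  obtain ⟨c, hc, hcT⟩ := exists_cj_le_sylow_subgroup hOp hOC T
  have hcL : cj(c, O) ≤ L := hcT.trans hTL
  -- the set of candidates
  let 𝒮 : Set (Subgroup G) := {H | O ≤ H ∧
    H ⊓ Subgroup.centralizer (Cfsg.pCoreOf p H : Set G) ≤ Cfsg.pCoreOf p H ∧
    ¬ Y ≤ Cfsg.pCoreOf p H}
  have hL₀ : cj(c⁻¹, L) ∈ 𝒮 := by
    refine ⟨?_, charP_cj hLchar c⁻¹, ?_⟩
    · rw [le_cj_iff, inv_inv]; exact hcL
    · rw [pCoreOf_cj, le_cj_iff, inv_inv,
        cj_eq_self_iff.mpr (Subgroup.centralizer_le_normalizer _ hc)]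
      exact hYL
  obtain ⟨H, -, hmin⟩ := (Set.toFinite 𝒮).exists_le_minimal hL₀
  obtain ⟨hOH, hHchar, hYH⟩ := hmin.prop
  refine ⟨H, (charP_subtype_iff p H).mpr hHchar, hOH, hYH, ?_⟩
  intro P hOP hPH
  by_contra hYP
  have hPchar := wc_charP_between hOp hwc (inf_le_right.trans hCO) hHchar hOP hPH.le
  have hPS : P ∈ 𝒮 := ⟨hOP, hPchar, hYP⟩
  exact absurd (hmin.le_of_le hPS hPH.le) (not_le_of_gt hPH)

end Cfsg.Agent.S2852
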