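import Cfsg.Statements.S2854
import Cfsg.Agent.Helper47.FrakH4
import Cfsg.Agent.S2850

set_option autoImplicit false
open Cfsg

namespace Cfsg.Agent.S2854

open Cfsg.Agent.Helper47


/-- Standing hypotheses: G a finite group, S a Sylow p-subgroup, Q a nontrivial large p-subgroup of G contained in S, M a subgroup containing S with the basic property (M ∈ 𝔐_G(S)); Y_M the largest p-reduced normal subgroup of M and M† = M·C_G(Y_M). Suppose Y_M is asymmetric in G, H ∈ ℌ_G(O_p(M)), and H ≤ N_G(gQg⁻¹) for some g ∈ G. Then gQg⁻¹ ≤ O_p(H·gQg⁻¹) ≤ N_G(O_p(M)) ≤ N_G(Y_M) = M†; H is normal in H·gQg⁻¹ with O^p(H) = O^p(H·gQg⁻¹); and H·gQg⁻¹ is p-irreducible. -/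
theorem result {G : Type*} [Group G] [Finite G] {p : ℕ} [Fact p.Prime] (S : Sylow p G) (Q : Subgroup G) (hQp : IsPGroup p ↥Q) (hQ1 : Q ≠ ⊥) (hQS : Q ≤ (S : Subgroup G)) (hQ : Cfsg.IsLarge Q) (M : Subgroup G) (hSM : (S : Subgroup G) ≤ M) (hM : Cfsg.IsInFrakM p M) (hasym : ¬ Cfsg.IsSymmetricIn (Cfsg.largestPReducedOf p M)) (H : Subgroup G) (hH : Cfsg.IsInFrakH p M H) (g : G) (hHQ : H ≤ Subgroup.normalizer ((((Q : Subgroup G).map (MulAut.conj (g : G)).toMonoidHom) : Subgroup G) : Set G)) : ((Q : Subgroup G).map (MulAut.conj (g : G)).toMonoidHom) ≤ Cfsg.pCoreOf p (H ⊔ ((Q : Subgroup G).map (MulAut.conj (g : G)).toMonoidHom)) ∧ Cfsg.pCoreOf p (H ⊔ ((Q : Subgroup G).map (MulAut.conj (g : G)).toMonoidHom)) ≤ Subgroup.normalizer (((Cfsg.pCoreOf p M) : Subgroup G) : Set G) ∧ Subgroup.normalizer (((Cfsg.pCoreOf p M) : Subgroup G) : Set G) ≤ Subgroup.normalizer (((Cfsg.largestPReducedOf p M) : Subgroup G) : Set G) ∧ Subgroup.normalizer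 (((Cfsg.largestPReducedOf p M) : Subgroup G) : Set G) = (M ⊔ Subgroup.centralizer (((Cfsg.largestPReducedOf p M) : Subgroup G) : Set G)) ∧ (H.subgroupOf (H ⊔ ((Q : Subgroup G).map (MulAut.conj (g : G)).toMonoidHom))).Normal ∧ (Cfsg.pResidual p ↥H).map H.subtype = (Cfsg.pResidual p ↥(H ⊔ ((Q : Subgroup G).map (MulAut.conj (g : G)).toMonoidHom))).map (H ⊔ ((Q : Subgroup G).map (MulAut.conj (g : G)).toMonoidHom)).subtype ∧ Cfsg.IsPIrreducible p ↥(H ⊔ ((Q : Subgroup G).map (MulAut.conj (g : G)).toMonoidHom)) := by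
  obtain ⟨hA, -, -, -⟩ := Cfsg.Agent.S2850.result S Q hQp hQ1 hQS hQ M hSM hM hasym
  have hOp : IsPGroup p ↥(Cfsg.pCoreOf p M) := pCoreOf_isPGroup M
  have hN1 := (hA _ hOp le_rfl).2
  have hN2 : Subgroup.normalizer (Cfsg.pCoreOf p M : Set G) ≤
      Subgroup.normalizer (Cfsg.largestPReducedOf p M : Set G) :=
    hN1.trans (frakM_dagger_le_normalizer M)
  obtain ⟨hb, hc1, hc2, hd, he⟩ :=
    frakH_structure hH (fun L hLp hOL => (hA L hLp hOL).1) hN2
  have hQgp : IsPGroup p ↥((Q : Subgroup G).map (MulAut.conj (g : G)).toMonoidHom) := hQp.map _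
  have hOH : Cfsg.pCoreOf p M ≤ H := hH.2.1
  have h1 : ((Q : Subgroup G).map (MulAut.conj (g : G)).toMonoidHom) ≤
      Cfsg.pCoreOf p (H ⊔ ((Q : Subgroup G).map (MulAut.conj (g : G)).toMonoidHom)) :=
    le_pCoreOf le_sup_right hQgp (sup_le hHQ Subgroup.le_normalizer)
  have h2 : Cfsg.pCoreOf p (H ⊔ ((Q : Subgroup G).map (MulAut.conj (g : G)).toMonoidHom)) ≤
      Subgroup.normalizer (Cfsg.pCoreOf p M : Set G) := by
    have hLp := isPGroup_sup_of_le_normalizer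
      (pCoreOf_isPGroup (p := p) (H ⊔ ((Q : Subgroup G).map (MulAut.conj (g : G)).toMonoidHom))) hOp
      ((hOH.trans le_sup_left).trans (le_normalizer_pCoreOf _))
    exact (le_sup_left.trans Subgroup.le_normalizer).trans ((hA _ hLp le_sup_right).1)
  have h4 : Subgroup.normalizer (Cfsg.largestPReducedOf p M : Set G) =
      M ⊔ Subgroup.centralizer (Cfsg.largestPReducedOf p M : Set G) := by
    apply le_antisymm _ (frakM_dagger_le_normalizer M)
    apply frakM_le_dagger S hQp hQ1 hQ hSM hM (le_normalizer_largestPReducedOf p M)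
    intro hbot
    have hYne := largestPReducedOf_ne_bot S hSM hM.1
    have hYle : Cfsg.largestPReducedOf p M ≤
        Cfsg.pCoreOf p (Subgroup.normalizer (Cfsg.largestPReducedOf p M : Set G)) :=
      le_pCoreOf Subgroup.le_normalizer
        ((pCoreOf_isPGroup M).to_le (largestPReducedOf_le_pCoreOf M)) le_rfl
    exact hYne (le_bot_iff.mp (hbot ▸ hYle))
  obtain ⟨h5, h6, h7⟩ := frakH_sup_pgroup hH hc1 hQgp hHQ (h1.trans h2)
  exact ⟨h1, h2, hN2, h4, h5, h6, h7⟩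

end Cfsg.Agent.S2854
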