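import Cfsg.Statements.S2859
import Cfsg.Agent.Helper47.WCF2

set_option autoImplicit false
open Cfsg

namespace Cfsg.Agent.S2859

open Cfsg.Agent.Helper47


/-- Let Q be a nontrivial p-subgroup of the finite group H that is a weakly closed subgroup, H° the weak closure of Q in H (generated by the conjugates of Q) and H_∘ = O^p(H°). Suppose H₁, H₂ are normal subgroups of H° with H° = H₁H₂ and [H₁, H₂] ≤ N_H(Q), and put Kᵢ = O^p of the weak closure of Q in HᵢQ. Then for i = 1, 2: Kᵢ = [Kᵢ, Q] = [Kᵢ, Hᵢ] ≤ Hᵢ′ and Kᵢ is normal in H°; H_∘ = K₁K₂; and [K₁, K₂] ≤ O_p(H°). -/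
theorem result {G : Type*} [Group G] [Finite G] {p : ℕ} [Fact p.Prime] (Q : Subgroup G) (hQp : IsPGroup p ↥Q) (hQ1 : Q ≠ ⊥) (hwc : Cfsg.IsWeaklyClosedSubgroup p Q) (Hc : Subgroup G) (hHc : Hc = Cfsg.weakClosure Q ⊤) (H₁ H₂ : Subgroup G) (hn₁ : H₁ ≤ Hc ∧ Hc ≤ Subgroup.normalizer ((H₁ : Subgroup G) : Set G)) (hn₂ : H₂ ≤ Hc ∧ Hc ≤ Subgroup.normalizer ((H₂ : Subgroup G) : Set G)) (hprod : H₁ ⊔ H₂ = Hc) (hcomm : ⁅H₁, H₂⁆ ≤ Subgroup.normalizer ((Q : Subgroup G) : Set G)) (K₁ K₂ : Subgroup G) (hK₁ : K₁ = ((Cfsg.pResidual p ↥(Cfsg.weakClosure Q (H₁ ⊔ Q))).map ((Cfsg.weakClosure Q (H₁ ⊔ Q))).subtype)) (hK₂ : K₂ = ((Cfsg.pResidual p ↥(Cfsg.weakClosure Q (H₂ ⊔ Q))).map ((Cfsg.weakClosure Q (H₂ ⊔ Q))).subtype)) : (⁅K₁, Q⁆ = K₁ ∧ ⁅K₁, H₁⁆ = K₁ ∧ K₁ ≤ ⁅H₁, H₁⁆ ∧ Hc ≤ Subgroup.normalizer ((K₁ : Subgroup G) : Set G)) ∧ (⁅K₂, Q⁆ = K₂ ∧ ⁅K₂, H₂⁆ = K₂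 ∧ K₂ ≤ ⁅H₂, H₂⁆ ∧ Hc ≤ Subgroup.normalizer ((K₂ : Subgroup G) : Set G)) ∧ K₁ ⊔ K₂ = ((Cfsg.pResidual p ↥Hc).map (Hc).subtype) ∧ ⁅K₁, K₂⁆ ≤ (Cfsg.pCoreOf p Hc) := by
  obtain ⟨hH₁, hn₁'⟩ := hn₁
  obtain ⟨hH₂, hn₂'⟩ := hn₂
  have hcomm' : ⁅H₂, H₁⁆ ≤ Subgroup.normalizer ((Q : Subgroup G) : Set G) := by
    rw [Subgroup.commutator_comm]; exact hcomm
  have hprod' : H₂ ⊔ H₁ = Hc := by rw [sup_comm]; exact hprod
  obtain ⟨a1, a2, a3, a4, a5, a6, a7, a8⟩ :=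
    wcf_half hQp hwc hHc hH₁ hn₁' hH₂ hn₂' hprod hcomm hK₁
  obtain ⟨b1, b2, b3, b4, b5, b6, b7, b8⟩ :=
    wcf_half hQp hwc hHc hH₂ hn₂' hH₁ hn₁' hprod' hcomm' hK₂
  refine ⟨⟨a1, a2, a3, a4⟩, ⟨b1, b2, b3, b4⟩, ?_, ?_⟩
  · apply le_antisymm (sup_le a8 b8)
    have hQHc : Q ≤ Hc := by rw [hHc]; exact self_le_weakClosure le_top
    have hQK : Q ≤ Subgroup.normalizer ((K₁ ⊔ K₂ : Subgroup G) : Set G) :=
      le_trans (le_inf (hQHc.trans a4) (hQHc.trans b4))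
        (Subgroup.normalizer_inf_normalizer_le_normalizer_sup _ _)
    apply wcf_pResidual_map_le_of_le_sup rfl hQp hQK
    refine (Subgroup.map_subtype_le _).trans ?_
    have hHcle : Cfsg.weakClosure Q ⊤ ≤ Q ⊔ (K₁ ⊔ K₂) := by
      unfold Cfsg.weakClosure
      apply iSup_le
      rintro ⟨g, hg⟩
      have hQ'Hc : Subgroup.map (MulEquiv.toMonoidHom (MulAut.conj g)) Q ≤ Hc := by
        rw [hHc]; exact le_weakClosure hg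
      obtain ⟨h, hh, e⟩ := wc_conj_in_subgroup hQp hwc hQHc hQ'Hc
      have hh' : h ∈ ((H₁ ⊔ H₂ : Subgroup G) : Set G) := by rw [hprod]; exact hh
      rw [Subgroup.coe_mul_of_left_le_normalizer_right H₁ H₂ (hH₁.trans hn₂')] at hh'
      obtain ⟨a, ha, b, hb, rfl⟩ := Set.mem_mul.mp hh'
      obtain ⟨r₂, hr₂, e₂⟩ := b7 b hb
      obtain ⟨r₁, hr₁, e₁⟩ := a7 a ha
      have hx : a * r₂ * a⁻¹ ∈ K₂ := (Subgroup.mem_normalizer_iff.mp (b4 (hH₁ ha)) _).mp hr₂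
      have e3 : Subgroup.map (MulEquiv.toMonoidHom (MulAut.conj (a * b))) Q =
          Subgroup.map (MulEquiv.toMonoidHom (MulAut.conj (a * r₂ * a⁻¹ * r₁))) Q := by
        have e4 : a * r₂ = (a * r₂ * a⁻¹) * a := by group
        calc Subgroup.map (MulEquiv.toMonoidHom (MulAut.conj (a * b))) Q
            = Subgroup.map (MulEquiv.toMonoidHom (MulAut.conj (a * r₂))) Q := by
              rw [← cj_cj, e₂, cj_cj]
          _ = Subgroup.map (MulEquiv.toMonoidHom (MulAut.conj ((a * r₂ * a⁻¹) * a))) Q := by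
              rw [← e4]
          _ = Subgroup.map (MulEquiv.toMonoidHom (MulAut.conj (a * r₂ * a⁻¹ * r₁))) Q := by
              rw [← cj_cj, e₁, cj_cj]
      show Subgroup.map (MulEquiv.toMonoidHom (MulAut.conj g)) Q ≤ _
      rw [e, e3]
      have hmem : a * r₂ * a⁻¹ * r₁ ∈ Q ⊔ (K₁ ⊔ K₂) :=
        Subgroup.mem_sup_right (Subgroup.mul_mem _ (Subgroup.mem_sup_right hx)
          (Subgroup.mem_sup_left hr₁))
      calc Subgroup.map (MulEquiv.toMonoidHom (MulAut.conj (a * r₂ * a⁻¹ * r₁))) Q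
          ≤ Subgroup.map (MulEquiv.toMonoidHom (MulAut.conj (a * r₂ * a⁻¹ * r₁)))
              (Q ⊔ (K₁ ⊔ K₂)) := cj_mono le_sup_left
        _ = Q ⊔ (K₁ ⊔ K₂) := cj_eq_self_of_mem hmem
    rw [hHc]
    exact hHcle
  · exact (Subgroup.commutator_mono le_rfl b5).trans a6

end Cfsg.Agent.S2859
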