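import Cfsg.Statements.S2872
import Cfsg.Agent.Helper48.Transfer2

set_option autoImplicit false
open Cfsg

namespace Cfsg.Agent.S2872

/-- Let S be a Sylow 2-subgroup of the finite group G. Then G has a proper normal subgroup of 2-power index (O²(G) ≠ G), or Ω₁(Z(S)) is contained in the Frattini subgroup of S, or N_G(S) acts nontrivially on Ω₁(Z(S)) by conjugation. -/
theorem result {G : Type*} [Group G] [Finite G] (S : Sylow 2 G) : Cfsg.pResidual 2 G ≠ ⊤ ∨ Cfsg.omegaOne 2 ((S : Subgroup G) ⊓ Subgroup.centralizer ((S : Subgroup G) : Set G)) ≤ (frattini ↥(S : Subgroup G)).map (S : Subgroup G).subtype ∨ ∃ g ∈ Subgroup.normalizer ((S : Subgroup G) : Set G), ∃ z ∈ Cfsg.omegaOne 2 ((S : Subgroup G) ⊓ Subgroup.centralizer ((S : Subgroup G) : Set G)), g * z * g⁻¹ ≠ z := by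
  by_contra hcon
  push Not at hcon
  obtain ⟨h1, h2, h3⟩ := hcon
  apply h2
  unfold Cfsg.omegaOne
  rw [Subgroup.closure_le]
  intro z hz
  obtain ⟨hzm, hz2⟩ := hz
  have hzS : z ∈ (S : Subgroup G) := hzm.1
  have hzc : ∀ s ∈ (S : Subgroup G), s * z = z * s := fun s hs =>
    Subgroup.mem_centralizer_iff.mp hzm.2 s hs
  have hzO : z ∈ Cfsg.omegaOne 2 ((S : Subgroup G) ⊓
      Subgroup.centralizer ((S : Subgroup G) : Set G)) :=
    Subgroup.subset_closure ⟨hzm, hz2⟩
  have hN : ∀ g ∈ Subgroup.normalizer ((S : Subgroup G) : Set G), g * z * g⁻¹ = z :=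
    fun g hg => h3 g hg z hzO
  by_contra hzF
  have hzF' : (⟨z, hzS⟩ : (S : Subgroup G)) ∉ frattini ↥(S : Subgroup G) := by
    intro hmem
    apply hzF
    exact ⟨⟨z, hzS⟩, hmem, rfl⟩
  obtain ⟨M, hM, hzM⟩ := Cfsg.Agent.Helper48.exists_isCoatom_not_mem_of_not_mem_frattini hzF'
  obtain ⟨f, hf⟩ := Cfsg.Agent.Helper48.exists_hom_units_of_central_involution S z hzS hzc hz2
    M hM hzM hN
  have hle := Cfsg.Agent.Helper48.closure_coprime_two_le_ker f
  have hzk : z ∈ f.ker := by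
    apply hle
    have : z ∈ Cfsg.pResidual 2 G := by rw [h1]; exact Subgroup.mem_top z
    exact this
  rw [MonoidHom.mem_ker, hf] at hzk
  exact absurd hzk (by decide)

end Cfsg.Agent.S2872
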