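import Cfsg.Statements.S2873
import Cfsg.Agent.Helper48.DihQuot
import Cfsg.Agent.Helper22.Fitting

set_option autoImplicit false
open Cfsg

namespace Cfsg.Agent.S2873

/-- Let G be a finite group and r an odd prime such that G ⧸ O₂(G) is dihedral of order 2r, and let R be a Sylow r-subgroup of G with C_{O₂(G)}(R) = 1. Then N_G(R) is dihedral of order 2r; for any involution a of N_G(R), every involution of G outside O₂(G) is conjugate to a; and |C_{O₂(G)}(a)|² = |O₂(G)|. -/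
theorem result {G : Type*} [Group G] [Finite G] {r : ℕ} [Fact r.Prime] (hr : r ≠ 2) [hN : (Cfsg.pCore 2 G).Normal] (hquot : Nonempty (G ⧸ Cfsg.pCore 2 G ≃* DihedralGroup r)) (R : Sylow r G) (hC : Cfsg.pCore 2 G ⊓ Subgroup.centralizer ((R : Subgroup G) : Set G) = ⊥) : Nonempty (↥(Subgroup.normalizer ((R : Subgroup G) : Set G)) ≃* DihedralGroup r) ∧ ∀ a : G, a ∈ Subgroup.normalizer ((R : Subgroup G) : Set G) → orderOf a = 2 → (∀ b : G, orderOf b = 2 → b ∉ Cfsg.pCore 2 G → ∃ g : G, g * a * g⁻¹ = b) ∧ Nat.card ↥(Cfsg.pCore 2 G ⊓ Subgroup.centralizer ({a} : Set G)) ^ 2 = Nat.card ↥(Cfsg.pCore 2 G) := by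
  obtain ⟨e⟩ := hquot
  have hQ : IsPGroup 2 (Cfsg.pCore 2 G) := Cfsg.Agent.Helper22.pCore_isPGroup 2 G
  refine ⟨Cfsg.Agent.Helper48.dq_equiv hr _ hQ e R hC, ?_⟩
  intro a haN ha
  have ha2 : a * a = 1 := by
    rw [← sq, ← ha]
    exact pow_orderOf_eq_one a
  have ha1 : a ≠ 1 := by
    rintro rfl
    rw [orderOf_one] at ha
    omega
  refine ⟨?_, Cfsg.Agent.Helper48.dq_card_centralizer hr _ hQ e R hC a haN ha2 ha1⟩
  intro b hb hbQ
  have hb2 : b * b = 1 := by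
    rw [← sq, ← hb]
    exact pow_orderOf_eq_one b
  exact Cfsg.Agent.Helper48.dq_conj hr _ hQ e R hC a haN ha2 ha1 b hb2 hbQ

end Cfsg.Agent.S2873
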