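import Cfsg.Statements.S2879
import Cfsg.Agent.Helper48.CycMax

set_option autoImplicit false
open Cfsg

namespace Cfsg.Agent.S2879

/-- Let G be a finite solvable group with O(G) = 1 whose Sylow 2-subgroup T is dihedral of order at least 8 or semidihedral, with G ≠ T and Z(T) normal in G. Then G has a normal subgroup isomorphic to SL₂(3). -/
theorem result {G : Type*} [Group G] [Finite G] (hsol : IsSolvable G) (hO : Cfsg.oddCore G = ⊥) (T : Sylow 2 G) (hT : (∃ n : ℕ, 4 ≤ n ∧ Nonempty (↥(T : Subgroup G) ≃* DihedralGroup n)) ∨ Cfsg.IsQuasiDihedral ↥(T : Subgroup G)) (hne : (T : Subgroup G) ≠ ⊤) (hZ : ((T : Subgroup G) ⊓ Subgroup.centralizer ((T : Subgroup G) : Set G)).Normal) : ∃ U : Subgroup G, U.Normal ∧ Nonempty (↥U ≃* Matrix.SpecialLinearGroup (Fin 2) (ZMod 3)) := by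
  have : Group.IsSolvable G := hsol
  have hmc : Cfsg.Agent.Helper48.HasCycMax ↥(T : Subgroup G) := by
    rcases hT with ⟨n, hn, ⟨e⟩⟩ | hqd
    · have hcard : Nat.card ↥(T : Subgroup G) = 2 * n := by
        rw [Nat.card_congr e.toEquiv, DihedralGroup.nat_card]
      have : Fact (Nat.Prime 2) := ⟨Nat.prime_two⟩
      obtain ⟨a, ha⟩ := IsPGroup.iff_card.mp T.isPGroup'
      rw [hcard] at ha
      have hn2 : n ∣ 2 ^ a := ⟨2, by rw [← ha]; ring⟩
      obtain ⟨b, hb, rfl⟩ := (Nat.dvd_prime_pow Nat.prime_two).mp hn2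
      obtain ⟨c, rfl⟩ : ∃ c, b = c + 1 := by
        rcases b with _ | b
        · simp at hn
        · exact ⟨b, rfl⟩
      have e' : ↥(T : Subgroup G) ≃* DihedralGroup (2 * 2 ^ c) := by
        rw [← pow_succ']; exact e
      refine Cfsg.Agent.Helper48.HasCycMax.of_mulEquiv e'
        (Cfsg.Agent.Helper48.hasCycMax_dihedral ?_)
      rw [pow_succ] at hn
      omega
    · exact Cfsg.Agent.Helper48.hasCycMax_of_isQuasiDihedral hqd
  exact Cfsg.Agent.Helper48.exists_normal_sl23_of_hasCycMax hO T hne hZ hmc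

end Cfsg.Agent.S2879
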