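import Cfsg.Statements.S2881
import Cfsg.Agent.Helper48.Extraspecial2

set_option autoImplicit false
open Cfsg

namespace Cfsg.Agent.S2881

open Subgroup Cfsg.Agent.Helper48

theorem four_dvd_of_five_dvd (m : ℕ) (h : 5 ∣ 2 ^ (2 * m) - 2 ^ m) : 4 ∣ m := by
  have hle : 2 ^ m ≤ 2 ^ (2 * m) := Nat.pow_le_pow_right (by norm_num) (by omega)
  have h1 : 2 ^ (2 * m) % 5 = 2 ^ m % 5 := by
    have := (Nat.modEq_iff_dvd' hle).mpr h
    exact this.symm
  have h2 : ∀ q r : ℕ, 2 ^ (4 * q + r) % 5 = 2 ^ r % 5 := by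
    intro q r
    rw [pow_add, pow_mul, Nat.mul_mod, Nat.pow_mod]
    norm_num
  have hm : m = 4 * (m / 4) + m % 4 := (Nat.div_add_mod m 4).symm
  have h3 : 2 ^ m % 5 = 2 ^ (m % 4) % 5 := by
    conv_lhs => rw [hm]
    exact h2 _ _
  have h4 : 2 ^ (2 * m) % 5 = (2 ^ m % 5) * (2 ^ m % 5) % 5 := by
    rw [two_mul, pow_add, Nat.mul_mod]
  rw [h4, h3] at h1
  have h5 : m % 4 < 4 := Nat.mod_lt _ (by norm_num)
  have h7 : ∀ r < 4, (2 ^ r % 5) * (2 ^ r % 5) % 5 = 2 ^ r % 5 → r = 0 := by decide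
  have h6 : m % 4 = 0 := h7 (m % 4) h5 h1
  exact Nat.dvd_of_mod_eq_zero h6

/-- Let E be an extraspecial 2-group of order 2^(2m+1) of plus type (containing an elementary abelian subgroup of order 2^(m+1)), and let ω be an automorphism of E of order 5 whose fixed points are exactly the centre of E. Then m is divisible by 4. -/
theorem result {E : Type*} [Group E] [Finite E] (m : ℕ) (hm : 1 ≤ m) (hE : Cfsg.IsExtraspecial 2 E) (hcard : Nat.card E = 2 ^ (2 * m + 1)) (hplus : ∃ A : Subgroup E, Cfsg.IsElementaryAbelian 2 A ∧ Nat.card A = 2 ^ (m + 1)) (ω : E ≃* E) (hω : orderOf ω = 5) (hfix : ∀ x : E, ω x = x ↔ x ∈ Subgroup.center E) : 4 ∣ m := by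
  obtain ⟨A, hA, hAc⟩ := hplus
  have hc := comm_mem_center_of_isExtraspecial hE
  have h2 := hE.2
  have hcount := card_orderOf_four_of_central hc h2 m hcard A hA hAc
  apply four_dvd_of_five_dvd
  rw [← hcount]
  have : Fact (Nat.Prime 5) := ⟨Nat.prime_five⟩
  -- the action of `⟨ω⟩` on the elements of order 4
  let _ : MulAction (zpowers (ω : MulAut E)) {x : E // orderOf x = 4} :=
    { smul := fun g x => ⟨(g : MulAut E) x.1, by rw [MulEquiv.orderOf_eq]; exact x.2⟩
      one_smul := fun x => Subtype.ext rfl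
      mul_smul := fun g h x => Subtype.ext rfl }
  have hP : IsPGroup 5 (zpowers (ω : MulAut E)) := by
    apply IsPGroup.of_card (n := 1)
    rw [Nat.card_zpowers, pow_one]; exact hω
  have hmod := hP.card_modEq_card_fixedPoints {x : E // orderOf x = 4}
  have hfp : Nat.card (MulAction.fixedPoints (zpowers (ω : MulAut E)) {x : E // orderOf x = 4}) = 0 := by
    have : IsEmpty (MulAction.fixedPoints (zpowers (ω : MulAut E)) {x : E // orderOf x = 4}) := by
      constructor
      rintro ⟨x, hx⟩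
      have h1 := hx ⟨ω, mem_zpowers ω⟩
      have h3 : ω x.1 = x.1 := congrArg Subtype.val h1
      have h4 : x.1 ∈ center E := (hfix x.1).mp h3
      have h5 := center_mul_self h2 ⟨x.1, h4⟩
      have h6 : x.1 * x.1 = 1 := congrArg Subtype.val h5
      have h7 : orderOf x.1 ∣ 2 := orderOf_dvd_of_pow_eq_one (by rw [pow_two]; exact h6)
      rw [x.2] at h7
      exact absurd h7 (by norm_num)
    exact Nat.card_of_isEmpty
  rw [hfp] at hmod
  exact (Nat.modEq_zero_iff_dvd).mp hmod

end Cfsg.Agent.S2881
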