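import Cfsg.Statements.S2933
-- import your own Cfsg.Agent.* helpers here
import Cfsg.Agent.Helper50.A6c
import Cfsg.Agent.Helper50.U34
import Cfsg.Agent.Helper50.UT3

set_option autoImplicit false
open Cfsg

namespace Cfsg.Agent.S2933

open Cfsg.Agent.Helper50

/-- Let T be a 2-subgroup of a finite group G, V ≤ Z(T) a four-group, and t, ρ ∈ N_G(V) ∩ N_G(T) elements of order 2 and 3 with t commuting with ρ and with V. If [V, ρ] = V and C_T(t) = V, then T is elementary abelian of order 16, or homocyclic of rank 2 (ℤ/2ⁿ × ℤ/2ⁿ for some n ≥ 1), or isomorphic to a Sylow 2-subgroup of PSL₃(4) or of PSU₃(4). -/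
theorem result {G : Type*} [Group G] [Finite G] (T V : Subgroup G) (hT : IsPGroup 2 ↥T) (hVT : V ≤ T ⊓ Subgroup.centralizer (T : Set G)) (hV : Nat.card ↥V = 4 ∧ ∀ v ∈ V, v ^ 2 = 1) (t ρ : G) (ht : orderOf t = 2) (hρ : orderOf ρ = 3) (htn : t ∈ Subgroup.normalizer (V : Set G) ⊓ Subgroup.normalizer (T : Set G)) (hρn : ρ ∈ Subgroup.normalizer (V : Set G) ⊓ Subgroup.normalizer (T : Set G)) (htρ : t * ρ = ρ * t) (htV : t ∈ Subgroup.centralizer (V : Set G)) (hVρ : ⁅V, Subgroup.zpowers ρ⁆ = V) (hCt : T ⊓ Subgroup.centralizer ({t} : Set G) = V) : (Nat.card ↥T = 16 ∧ ∀ x ∈ T, x ^ 2 = 1) ∨ (∃ n : ℕ, 1 ≤ n ∧ Nonempty (↥T ≃* Multiplicative (ZMod (2 ^ n)) × Multiplicative (ZMod (2 ^ n)))) ∨ (∃ (F : Type) (_ : Field F) (_ : Fintype F), Fintype.card F = 4 ∧ ∀ P : Sylow 2 (Matrix.ProjectiveSpecialLinearGroup (Fin 3) F), Nonempty (↥T ≃* ↥(P : Subgroup (Matrix.ProjectiveSpecialLinearGroup (Fin 3) F)))) ∨ (∃ (F : Type) (_ : Field F) (_ : Fintype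 F), Fintype.card F = 16 ∧ ∀ P : Sylow 2 (Cfsg.PSU 3 F 4), Nonempty (↥T ≃* ↥(P : Subgroup (Cfsg.PSU 3 F 4)))) := by
  classical
  have hp2 : Fact (Nat.Prime 2) := ⟨Nat.prime_two⟩
  obtain ⟨hV4, hVe⟩ := hV
  have ht2 : t * t = 1 := by rw [← pow_two, ← ht]; exact pow_orderOf_eq_one t
  have hρ3 : ρ * ρ * ρ = 1 := by
    have h1 : ρ ^ 3 = 1 := by rw [← hρ]; exact pow_orderOf_eq_one ρ
    rw [pow_succ, pow_two] at h1
    exact h1
  have htT := (Subgroup.mem_inf.1 htn).2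
  have hρT := (Subgroup.mem_inf.1 hρn).2
  have hρV := (Subgroup.mem_inf.1 hρn).1
  have hVT' : ∀ v ∈ V, v ∈ T := fun v hv => (Subgroup.mem_inf.1 (hVT hv)).1
  have hVmem : ∀ x : G, x ∈ V ↔ x ∈ T ∧ t * x = x * t := by
    intro x
    rw [← hCt, Subgroup.mem_inf, Subgroup.mem_centralizer_iff]
    simp only [Set.mem_singleton_iff, forall_eq]
  -- conjugation automorphisms of `T`
  have mkAut : ∀ g : G, g ∈ Subgroup.normalizer (T : Set G) →
      ∃ φ : MulAut ↥T, ∀ x : ↥T, ((φ x : ↥T) : G) = g * x * g⁻¹ := by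
    intro g hg
    have h1 : ∀ x : G, x ∈ T → g * x * g⁻¹ ∈ T := fun x hx =>
      (Subgroup.mem_normalizer_iff.1 hg x).1 hx
    have h2 : ∀ x : G, x ∈ T → g⁻¹ * x * g ∈ T := fun x hx =>
      (Subgroup.mem_normalizer_iff''.1 hg x).1 hx
    exact ⟨{ toFun := fun x => ⟨g * x * g⁻¹, h1 x x.2⟩
             invFun := fun x => ⟨g⁻¹ * x * g, h2 x x.2⟩
             left_inv := fun x => Subtype.ext (by
               show g⁻¹ * (g * (x : G) * g⁻¹) * g = x
               group)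
             right_inv := fun x => Subtype.ext (by
               show g * (g⁻¹ * (x : G) * g) * g⁻¹ = x
               group)
             map_mul' := fun x y => Subtype.ext (by
               show g * ((x : G) * y) * g⁻¹ = (g * x * g⁻¹) * (g * y * g⁻¹)
               group) }, fun x => rfl⟩
  obtain ⟨α, hα⟩ := mkAut t htT
  obtain ⟨r, hr⟩ := mkAut ρ hρT
  have hsq : ∀ x : ↥T, α (α x) = x := by
    intro x
    apply Subtype.ext
    rw [hα, hα]
    calc t * (t * (x : G) * t⁻¹) * t⁻¹ = (t * t) * x * (t * t)⁻¹ := by group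
      _ = x := by rw [ht2]; group
  have hcube : ∀ x : ↥T, r (r (r x)) = x := by
    intro x
    apply Subtype.ext
    rw [hr, hr, hr]
    calc ρ * (ρ * (ρ * (x : G) * ρ⁻¹) * ρ⁻¹) * ρ⁻¹ = (ρ * ρ * ρ) * x * (ρ * ρ * ρ)⁻¹ := by group
      _ = x := by rw [hρ3]; group
  have hcomm : ∀ x : ↥T, α (r x) = r (α x) := by
    intro x
    apply Subtype.ext
    rw [hα, hr, hr, hα]
    calc t * (ρ * (x : G) * ρ⁻¹) * t⁻¹ = (t * ρ) * x * (t * ρ)⁻¹ := by group
      _ = (ρ * t) * x * (ρ * t)⁻¹ := by rw [htρ]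
      _ = ρ * (t * (x : G) * t⁻¹) * ρ⁻¹ := by group
  have hαfix : ∀ x : ↥T, α x = x ↔ (x : G) ∈ V := by
    intro x
    rw [hVmem]
    constructor
    · intro h
      have h1 : t * (x : G) * t⁻¹ = x := by rw [← hα, h]
      refine ⟨x.2, ?_⟩
      calc t * (x : G) = (t * x * t⁻¹) * t := by group
        _ = x * t := by rw [h1]
    · rintro ⟨-, h⟩
      apply Subtype.ext
      rw [hα, h]; group
  have hcard : Nat.card {x : ↥T // α x = x} = 4 := by
    rw [← hV4]
    refine Nat.card_congr (Equiv.ofBijective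
      (fun x : {x : ↥T // α x = x} => (⟨((x : ↥T) : G), (hαfix x.1).1 x.2⟩ : ↥V)) ⟨?_, ?_⟩)
    · intro a b hab
      have h1 : ((a : ↥T) : G) = ((b : ↥T) : G) := congrArg (fun v : ↥V => (v : G)) hab
      exact Subtype.ext (Subtype.ext h1)
    · rintro ⟨v, hv⟩
      exact ⟨⟨⟨v, hVT' v hv⟩, (hαfix _).2 hv⟩, rfl⟩
  -- `ρ` is fixed-point-free
  have hfpf : ∀ x : ↥T, r x = x → x = 1 := by
    intro x hx
    by_contra hx1
    have hCne : fixSub r ≠ ⊥ := by
      intro h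
      have h1 : x ∈ fixSub r := hx
      rw [h, Subgroup.mem_bot] at h1
      exact hx1 h1
    have hCα : ∀ s ∈ fixSub r, α s ∈ fixSub r := by
      intro s hs
      show r (α s) = α s
      rw [← hcomm, show r s = s from hs]
    obtain ⟨s, hs, hs1, hsfix⟩ := exists_fixed_ne_one hT α hsq (fixSub r) hCα hCne
    obtain ⟨y0, hy0⟩ : ∃ y0 : G, y0 = (s : G) := ⟨_, rfl⟩
    have hy0V : y0 ∈ V := by rw [hy0]; exact (hαfix s).1 hsfix
    have hy01 : y0 ≠ 1 := by
      intro h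
      apply hs1
      apply Subtype.ext
      rw [← hy0, h]; rfl
    have hy0ρ : ρ * y0 * ρ⁻¹ = y0 := by
      have h1 : r s = s := hs
      have h2 := congrArg Subtype.val h1
      rw [hr] at h2
      rw [hy0]; exact h2
    have hy0sq : y0 * y0 = 1 := by rw [← pow_two]; exact hVe y0 hy0V
    have hσV : ∀ a ∈ V, ρ * a * ρ⁻¹ ∈ V := fun a ha =>
      (Subgroup.mem_normalizer_iff.1 hρV a).1 ha
    have hσinj : ∀ a b : G, ρ * a * ρ⁻¹ = ρ * b * ρ⁻¹ → a = b := by
      intro a b h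
      calc a = ρ⁻¹ * (ρ * a * ρ⁻¹) * ρ := by group
        _ = ρ⁻¹ * (ρ * b * ρ⁻¹) * ρ := by rw [h]
        _ = b := by group
    have hcentV : ∀ a ∈ V, ρ * a * ρ⁻¹ = a := by
      intro a ha
      by_contra hne
      have ha1 : a ≠ 1 := by
        intro h
        apply hne
        rw [h]; group
      have hay : a ≠ y0 := by
        intro h
        apply hne
        rw [h]; exact hy0ρ
      have hσ1 : ρ * a * ρ⁻¹ ≠ 1 := by
        intro h
        apply ha1
        apply hσinj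
        rw [h]; group
      have hσy : ρ * a * ρ⁻¹ ≠ y0 := by
        intro h
        apply hay
        apply hσinj
        rw [h, hy0ρ]
      have e := eq_of_card_four hV4 (a := 1) (b := y0) (c := a) (d := ρ * a * ρ⁻¹)
        (z := y0 * a) V.one_mem hy0V ha (hσV a ha)
        (Ne.symm hy01) (Ne.symm ha1) (Ne.symm hσ1) (Ne.symm hay) (Ne.symm hσy)
        (Ne.symm hne) (V.mul_mem hy0V ha)
      have hya : y0 * a = ρ * a * ρ⁻¹ := by
        rcases e with h | h | h | h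
        · exfalso
          apply hay
          calc a = y0 * (y0 * a) := by rw [← mul_assoc, hy0sq, one_mul]
            _ = y0 := by rw [h, mul_one]
        · exfalso
          exact ha1 (mul_eq_left.1 h)
        · exfalso
          exact hy01 (mul_eq_right.1 h)
        · exact h
      have h2 : ρ * (ρ * a * ρ⁻¹) * ρ⁻¹ = a := by
        rw [← hya]
        calc ρ * (y0 * a) * ρ⁻¹ = (ρ * y0 * ρ⁻¹) * (ρ * a * ρ⁻¹) := by group
          _ = y0 * (y0 * a) := by rw [hy0ρ, hya]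
          _ = a := by rw [← mul_assoc, hy0sq, one_mul]
      have h3 : ρ * (ρ * (ρ * a * ρ⁻¹) * ρ⁻¹) * ρ⁻¹ = a := by
        calc ρ * (ρ * (ρ * a * ρ⁻¹) * ρ⁻¹) * ρ⁻¹ = (ρ * ρ * ρ) * a * (ρ * ρ * ρ)⁻¹ := by group
          _ = a := by rw [hρ3]; group
      rw [h2] at h3
      exact hne h3
    have hρcent : ρ ∈ Subgroup.centralizer (V : Set G) := by
      rw [Subgroup.mem_centralizer_iff]
      intro a ha
      have h1 := hcentV a ha
      calc a * ρ = (ρ * a * ρ⁻¹) * ρ := by rw [h1]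
        _ = ρ * a := by group
    have h1 : Subgroup.zpowers ρ ≤ Subgroup.centralizer (V : Set G) :=
      Subgroup.zpowers_le.2 hρcent
    have h2 : V ≤ Subgroup.centralizer (Subgroup.zpowers ρ : Set G) :=
      Subgroup.le_centralizer_iff.1 h1
    have h3 : ⁅V, Subgroup.zpowers ρ⁆ = ⊥ := Subgroup.commutator_eq_bot_iff_le_centralizer.2 h2
    rw [hVρ] at h3
    rw [h3, Subgroup.card_bot] at hV4
    omega
  have H6 : A6 α r := ⟨hT, ⟨hcube, hfpf⟩, hsq, hcomm, hcard⟩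
  rcases H6.main with ⟨hexp, h16⟩ | ⟨n, hn, ⟨e⟩⟩ | ⟨h64, hna⟩
  · left
    refine ⟨h16, fun x hx => ?_⟩
    have h1 := congrArg Subtype.val (hexp ⟨x, hx⟩)
    rw [pow_two]
    exact h1
  · right; left
    exact ⟨n, hn, ⟨e.trans (MulEquiv.prodMultiplicative _ _)⟩⟩
  · obtain ⟨hZ4, hexpZ, hsqZ⟩ := fpf3_struct h64 hna H6.fp
    have HF : Fpf64 r := ⟨H6.fp, h64, hZ4, hexpZ, hsqZ⟩
    by_cases han : ∀ e : ↥T, e * e = 1 → e ∈ Subgroup.center ↥T
    · right; right; right
      let _ : Fintype (GaloisField 2 4) := Fintype.ofFinite _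
      have hF16 : Fintype.card (GaloisField 2 4) = 16 := by
        rw [← Nat.card_eq_fintype_card, GaloisField.card 2 4 (by norm_num)]
        norm_num
      exact ⟨GaloisField 2 4, inferInstance, inferInstance, hF16,
        fun P => nonempty_equiv_sylow_psu34 hF16 P HF han⟩
    · right; right; left
      push Not at han
      obtain ⟨e1, he1sq, he1⟩ := han
      obtain ⟨e2, he2, h12⟩ := HF.exists_hyp he1 he1sq
      obtain ⟨E⟩ := HF.nonempty_sqExt e1 e2 he1sq he2 h12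
      have h2 : ∀ a : Cfsg.Agent.Helper98.F4, a + a = 0 := by intro a; cases a <;> rfl
      obtain ⟨S, ⟨e⟩⟩ := exists_sylow_ut3 Cfsg.Agent.Helper98.F4.card_eq
      have hfin : Finite ↥(UT3 Cfsg.Agent.Helper98.F4) := inferInstance
      obtain ⟨e0⟩ := SqExt.nonempty_mulEquiv E (ut3_sqExt h2)
      exact ⟨Cfsg.Agent.Helper98.F4, inferInstance, inferInstance,
        Cfsg.Agent.Helper98.F4.card_eq, fun P => ⟨(e0.trans e).trans (Sylow.equiv S P)⟩⟩

end Cfsg.Agent.S2933
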