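import Cfsg.Statements.S2968
import Cfsg.Agent.Helper49.Isolated

set_option autoImplicit false
open Cfsg

namespace Cfsg.Agent.S2968

open Cfsg.Agent.Helper49

/-- Let G be a finite group, p a prime, P a Sylow p-subgroup of G and x ∈ P an element of p-power order which is isolated in G (the only conjugate of x commuting with x is x itself). Then x lies in the centre of P, and the subgroup generated by x is both strongly closed and weakly closed in P with respect to G. -/
theorem result {G : Type*} [Group G] [Finite G] {p : ℕ} [Fact p.Prime] (P : Sylow p G) (x : G) (hxP : x ∈ (P : Subgroup G)) (hx : ∃ k : ℕ, orderOf x = p ^ k) (hiso : Cfsg.IsIsolated x) : x ∈ (P : Subgroup G) ⊓ Subgroup.centralizer ((P : Subgroup G) : Set G) ∧ Cfsg.IsStronglyClosed (Subgroup.zpowers x) (P : Subgroup G) ∧ Cfsg.IsWeaklyClosed (Subgroup.zpowers x) (P : Subgroup G) := by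
  have hc : ∀ r ∈ (P : Subgroup G), r * x = x * r := isolated_commute_of_mem_pgroup hiso P.isPGroup' hxP
  have hle : Subgroup.zpowers x ≤ (P : Subgroup G) := (Subgroup.zpowers_le).mpr hxP
  refine ⟨Subgroup.mem_inf.mpr ⟨hxP, Subgroup.mem_centralizer_iff.mpr hc⟩, ⟨hle, ?_⟩, ⟨hle, ?_⟩⟩
  · intro z hz g hg
    obtain ⟨m, rfl⟩ := Subgroup.mem_zpowers_iff.mp hz
    have hcomm : Commute x (g * x ^ m * g⁻¹) := (hc _ hg).symm
    rw [isolated_conj_zpow_eq hx hiso m g hcomm]
    exact hz
  · intro g hg
    have h1 : g * x * g⁻¹ ∈ (P : Subgroup G) := hg ⟨x, Subgroup.mem_zpowers x, rfl⟩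
    have h2 : g * x * g⁻¹ = x := hiso g (hc _ h1).symm
    rw [MonoidHom.map_zpowers]
    simp only [MulEquiv.toMonoidHom_eq_coe, MonoidHom.coe_coe, MulAut.conj_apply]
    rw [h2]

end Cfsg.Agent.S2968
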