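import Cfsg.Statements.S2971
import Mathlib.GroupTheory.Transfer
import Cfsg.Agent.Helper49.IsolatedCyclic
import Cfsg.Agent.Helper49.PPrimeCore
import Cfsg.Agent.Helper49.OddCyclic

set_option autoImplicit false
open Cfsg

namespace Cfsg.Agent.S2971

open Cfsg.Agent.Helper49

/-- Let G be a finite group and p an odd prime such that G has p-rank at most 1 (no elementary abelian subgroup of order p²). If x ∈ G is an isolated element of order p, then x is central modulo the largest normal subgroup of G of order prime to p. -/
theorem result {G : Type*} [Group G] [Finite G] {p : ℕ} [Fact p.Prime] (hp : p ≠ 2) (hrk : Cfsg.PRankLE p 1 G) (x : G) (hx : orderOf x = p) (hiso : Cfsg.IsIsolated x) : Cfsg.InZStar p x := by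
  have hpp : p.Prime := Fact.out
  have hx' : ∃ k : ℕ, orderOf x = p ^ k := ⟨1, by rw [hx, pow_one]⟩
  have hx1 : x ≠ 1 := by
    rintro rfl
    rw [orderOf_one] at hx
    exact hpp.one_lt.ne hx
  obtain ⟨P, hP⟩ := (zpowers_isPGroup hx').exists_le_sylow
  have hxP : x ∈ (P : Subgroup G) := hP (Subgroup.mem_zpowers x)
  have hcyc : IsCyclic ↥(P : Subgroup G) := isCyclic_sylow_of_pRankLE_one hp hrk P
  have hNC := isolated_normalizer_le_centralizer_of_cyclic hx' hx1 hiso P hxP hcyc
  have hcompl := MonoidHom.ker_transferSylow_isComplement' P hNC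
  have hKc : (Nat.card (MonoidHom.transferSylow P hNC).ker).Coprime p := by
    have h1 : (P : Subgroup G).index = Nat.card (MonoidHom.transferSylow P hNC).ker :=
      hcompl.index_eq_card
    rw [← h1]
    exact Nat.Coprime.symm ((Nat.Prime.coprime_iff_not_dvd hpp).mpr P.not_dvd_index)
  intro g
  apply le_pPrimeCore' (inferInstance : (MonoidHom.transferSylow P hNC).ker.Normal) hKc
  rw [MonoidHom.mem_ker, map_mul, map_mul, map_mul, map_inv, map_inv]
  have hcomm := mul_comm' (MonoidHom.transferSylow P hNC g) (MonoidHom.transferSylow P hNC x)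
  rw [hcomm]
  group

end Cfsg.Agent.S2971
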