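import Cfsg.Statements.S2972
-- import your own Cfsg.Agent.* helpers here
import Cfsg.Agent.Helper49.ZStarMin
import Cfsg.Agent.Helper49.MinNormal
import Cfsg.Agent.Helper49.AxB

set_option autoImplicit false
open Cfsg

namespace Cfsg.Agent.S2972

open Cfsg.Agent.Helper49
open scoped commutatorElement

/-- `x ∈ ⟨x ^ k⟩` when `x` has prime order `p` and `p ∤ k`. -/
theorem mem_zpowers_zpow {G : Type*} [Group G] {p : ℕ} [Fact p.Prime] {x : G} (hx : orderOf x = p)
    {k : ℤ} (hk : ¬ (p : ℤ) ∣ k) : x ∈ Subgroup.zpowers (x ^ k) := by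
  have hp : p.Prime := Fact.out
  have h0 : ¬ p ∣ k.natAbs := fun hd => hk (Int.natCast_dvd.mpr hd)
  have hg : Int.gcd k p = 1 := by
    rw [Int.gcd, Int.natAbs_natCast]
    exact Nat.Coprime.symm ((Nat.Prime.coprime_iff_not_dvd hp).mpr h0)
  have hab : (1 : ℤ) = k * Int.gcdA k p + p * Int.gcdB k p := by
    have := Int.gcd_eq_gcd_ab k p
    rw [hg] at this
    simpa using this
  refine Subgroup.mem_zpowers_iff.mpr ⟨Int.gcdA k p, ?_⟩
  have h1 : x ^ (p : ℤ) = 1 := by rw [zpow_natCast, ← hx, pow_orderOf_eq_one]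
  calc (x ^ k) ^ Int.gcdA k p = x ^ (k * Int.gcdA k p) := by rw [← zpow_mul]
    _ = x ^ (k * Int.gcdA k p + p * Int.gcdB k p) := by rw [zpow_add, zpow_mul x p, h1, one_zpow, mul_one]
    _ = x := by rw [← hab, zpow_one]

/-- In a minimal counterexample with `G = N⟨x⟩` for a minimal normal subgroup `N`, every `N`-invariant
subgroup of `N` is trivial or `N`. -/
theorem invariant_eq_bot_or_eq {G : Type*} [Group G] [Finite G] {p : ℕ} [Fact p.Prime] {x : G}
    (h : MinCex p x) {N : Subgroup G} [hNn : N.Normal] (hNtop : N ⊔ Subgroup.zpowers x = ⊤)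
    (hNmin : ∀ N' : Subgroup G, N' ≠ ⊥ → N' ≤ N →
      (⊤ : Subgroup G) ≤ Subgroup.normalizer (N' : Set G) → N' = N)
    (B : Subgroup G) (hBN : B ≤ N) (hNB : N ≤ Subgroup.normalizer (B : Set G)) : B = ⊥ ∨ B = N := by
  by_contra hcon
  push Not at hcon
  obtain ⟨hB0, hBN'⟩ := hcon
  obtain ⟨M, hM0, hMB, hNM, hMmin⟩ := exists_minimal_invariant N hB0 hNB
  have hMN : M ≤ N := hMB.trans hBN
  have hp : p.Prime := Fact.out
  by_cases hxM : x ∈ Subgroup.normalizer (M : Set G)
  · have h1 : (⊤ : Subgroup G) ≤ Subgroup.normalizer (M : Set G) := by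
      rw [← hNtop]; exact sup_le hNM ((Subgroup.zpowers_le).mpr hxM)
    have h2 := hNmin M hM0 hMN h1
    apply hBN'
    exact le_antisymm hBN (h2 ▸ hMB)
  · have hpM : p ∣ Nat.card M := by
      by_contra hnd
      have hc : (Nat.card M).Coprime p :=
        Nat.Coprime.symm ((Nat.Prime.coprime_iff_not_dvd hp).mpr hnd)
      exact hM0 (eq_bot_of_normal_coprime h.pPrimeCore_eq_bot hMN hNM hc)
    obtain ⟨t, htM, ht⟩ := exists_mem_orderOf_eq_prime hpM
    have hxN : ∀ k : ℤ, x ^ k ∈ Subgroup.normalizer (N : Set G) := fun k => by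
      rw [Subgroup.normalizer_eq_top_iff.mpr hNn]; exact Subgroup.mem_top _
    have key : ∀ k : ℤ, Commute t (x ^ k * t * (x ^ k)⁻¹) := by
      intro k
      by_cases hk : (p : ℤ) ∣ k
      · have h1 : x ^ k = 1 := by
          obtain ⟨c, rfl⟩ := hk
          rw [zpow_mul, zpow_natCast, ← h.hx, pow_orderOf_eq_one, one_zpow]
        rw [h1]; simp
      · have hkM : x ^ k ∉ Subgroup.normalizer (M : Set G) := by
          intro hmem
          apply hxM
          exact (Subgroup.zpowers_le.mpr hmem) (mem_zpowers_zpow h.hx hk)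
        exact (commute_conj_of_minimal_invariant hMN hNM hMmin (hxN k) hkM).2 t htM t htM
    set S : Set G := {g | ∃ k : ℤ, g = x ^ k * t * (x ^ k)⁻¹} with hS
    have hScomm : ∀ a ∈ S, ∀ b ∈ S, a * b = b * a := by
      rintro _ ⟨i, rfl⟩ _ ⟨j, rfl⟩
      have h1 := (key (j - i)).eq
      have h2 : x ^ j * t * (x ^ j)⁻¹ =
          x ^ i * (x ^ (j - i) * t * (x ^ (j - i))⁻¹) * (x ^ i)⁻¹ := by
        rw [zpow_sub]; group
      rw [h2]
      calc x ^ i * t * (x ^ i)⁻¹ * (x ^ i * (x ^ (j - i) * t * (x ^ (j - i))⁻¹) * (x ^ i)⁻¹)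
          = x ^ i * (t * (x ^ (j - i) * t * (x ^ (j - i))⁻¹)) * (x ^ i)⁻¹ := by group
        _ = x ^ i * ((x ^ (j - i) * t * (x ^ (j - i))⁻¹) * t) * (x ^ i)⁻¹ := by rw [h1]
        _ = _ := by group
    have hSp : ∀ a ∈ S, a ^ p = 1 := by
      rintro _ ⟨i, rfl⟩
      rw [conj_pow, ← ht, pow_orderOf_eq_one]; group
    set E := Subgroup.closure S with hE
    have hEp : IsPGroup p E := isPGroup_closure_of_commute hScomm hSp
    have htE : t ∈ E := Subgroup.subset_closure ⟨0, by simp⟩
    have hxE : x ∈ Subgroup.normalizer (E : Set G) := by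
      apply Subgroup.mem_normalizer_fintype
      intro g hg
      have hmap : E.map (MulAut.conj x).toMonoidHom ≤ E := by
        rw [hE, MonoidHom.map_closure, Subgroup.closure_le]
        rintro _ ⟨_, ⟨i, rfl⟩, rfl⟩
        apply Subgroup.subset_closure
        refine ⟨i + 1, ?_⟩
        simp only [MulEquiv.coe_toMonoidHom, MulAut.conj_apply]
        rw [zpow_add_one]; group
      exact hmap ⟨g, hg, rfl⟩
    have hR : IsPGroup p (E ⊔ Subgroup.zpowers x : Subgroup G) :=
      hEp.to_sup_of_normal_left' (zpowers_isPGroup h.hx') ((Subgroup.zpowers_le).mpr hxE)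
    have hcomm := isolated_commute_of_mem_pgroup h.hiso hR
      ((le_sup_right : _ ≤ E ⊔ Subgroup.zpowers x) (Subgroup.mem_zpowers x)) t
      ((le_sup_left : E ≤ E ⊔ Subgroup.zpowers x) htE)
    have h1 : x * t * x⁻¹ = t := by rw [← hcomm]; group
    have hxN1 : x ∈ Subgroup.normalizer (N : Set G) := by simpa using hxN 1
    have h2 := (commute_conj_of_minimal_invariant hMN hNM hMmin hxN1 hxM).1
    have h3 : t ∈ M ⊓ M.map (MulAut.conj x).toMonoidHom := ⟨htM, ⟨t, htM, by simpa using h1⟩⟩
    rw [h2, Subgroup.mem_bot] at h3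
    rw [h3, orderOf_one] at ht
    exact hp.one_lt.ne ht

/-- In the situation of `invariant_eq_bot_or_eq`, `N` is not abelian. -/
theorem not_comm {G : Type*} [Group G] [Finite G] {p : ℕ} [Fact p.Prime] {x : G}
    (h : MinCex p x) {N : Subgroup G} [hNn : N.Normal] (hN0 : N ≠ ⊥)
    (hNtop : N ⊔ Subgroup.zpowers x = ⊤)
    (hsimple : ∀ B : Subgroup G, B ≤ N → N ≤ Subgroup.normalizer (B : Set G) → B = ⊥ ∨ B = N) :
    ¬ IsMulCommutative ↥N := by
  intro hcomm
  have hp : p.Prime := Fact.out
  have hc : ∀ a ∈ N, ∀ b ∈ N, a * b = b * a := by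
    intro a ha b hb
    have := (isMulCommutative_iff.mp hcomm) ⟨a, ha⟩ ⟨b, hb⟩
    exact congrArg Subtype.val this
  have hpN : p ∣ Nat.card N := by
    by_contra hnd
    have hcop : (Nat.card N).Coprime p :=
      Nat.Coprime.symm ((Nat.Prime.coprime_iff_not_dvd hp).mpr hnd)
    exact hN0 (eq_bot_of_normal_coprime h.pPrimeCore_eq_bot le_rfl Subgroup.le_normalizer hcop)
  obtain ⟨t, htN, ht⟩ := exists_mem_orderOf_eq_prime hpN
  have hZ : Subgroup.zpowers t ≤ N := (Subgroup.zpowers_le).mpr htN
  have hNZ : N ≤ Subgroup.normalizer ((Subgroup.zpowers t : Subgroup G) : Set G) := by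
    intro n hn
    rw [Subgroup.mem_normalizer_iff]
    intro k
    constructor
    · intro hk
      have e : n * k * n⁻¹ = k := by rw [hc n hn k (hZ hk)]; group
      rw [e]; exact hk
    · intro hk
      have hk' : k ∈ N := by
        have h1 := hZ hk
        have e : k = n⁻¹ * (n * k * n⁻¹) * n := by group
        rw [e]; exact N.mul_mem (N.mul_mem (N.inv_mem hn) h1) hn
      have e : n * k * n⁻¹ = k := by rw [hc n hn k hk']; group
      rw [← e]; exact hk
  rcases hsimple _ hZ hNZ with h1 | h1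
  · have h2 : t ∈ (⊥ : Subgroup G) := by rw [← h1]; exact Subgroup.mem_zpowers t
    rw [Subgroup.mem_bot] at h2
    rw [h2, orderOf_one] at ht
    exact hp.one_lt.ne ht
  · have hNp : IsPGroup p N := by rw [← h1]; exact zpowers_isPGroup ⟨1, by rw [ht, pow_one]⟩
    have hxN : Subgroup.zpowers x ≤ Subgroup.normalizer (N : Set G) := by
      rw [Subgroup.normalizer_eq_top_iff.mpr hNn]; exact le_top
    have hR : IsPGroup p (N ⊔ Subgroup.zpowers x : Subgroup G) :=
      hNp.to_sup_of_normal_left' (zpowers_isPGroup h.hx') hxN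
    apply h.not_central
    intro g
    exact isolated_commute_of_mem_pgroup h.hiso hR
      ((le_sup_right : _ ≤ N ⊔ Subgroup.zpowers x) (Subgroup.mem_zpowers x)) g
      (by rw [hNtop]; exact Subgroup.mem_top g)

/-- In a minimal counterexample, `G = N⟨x⟩` for every nontrivial normal subgroup `N` centralized... in fact
for every minimal normal subgroup: the case `N⟨x⟩ ≠ G` is impossible. -/
theorem case_proper {G : Type*} [Group G] [Finite G] {p : ℕ} [Fact p.Prime] {x : G}
    (h : MinCex p x) {N : Subgroup G} [hNn : N.Normal] (hN0 : N ≠ ⊥)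
    (hH : N ⊔ Subgroup.zpowers x ≠ ⊤) : False := by
  have hp : p.Prime := Fact.out
  set H := N ⊔ Subgroup.zpowers x with hHdef
  have hxH : x ∈ H := (le_sup_right : _ ≤ N ⊔ Subgroup.zpowers x) (Subgroup.mem_zpowers x)
  have hNH : N ≤ H := le_sup_left
  have hZ := h.hmin H hxH hH
  have hI : N ⊓ pPrimeCoreOf p H = ⊥ := by
    apply eq_bot_of_normal_coprime h.pPrimeCore_eq_bot (N := N) inf_le_left
    · intro n hn
      rw [Subgroup.mem_normalizer_iff]
      intro k
      rw [Subgroup.mem_inf, Subgroup.mem_inf,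
        ← Subgroup.mem_normalizer_iff.mp (Subgroup.le_normalizer hn) k,
        ← Subgroup.mem_normalizer_iff.mp (le_normalizer_pPrimeCoreOf p H (hNH hn)) k]
    · exact Nat.Coprime.coprime_dvd_left (Subgroup.card_dvd_of_le inf_le_right)
        (pPrimeCoreOf_coprime p H)
  have hcent : ∀ n ∈ N, n * x = x * n := by
    intro n hn
    have h1 : n * x * n⁻¹ * x⁻¹ ∈ N ⊓ pPrimeCoreOf p H := by
      refine ⟨?_, mem_pPrimeCoreOf_of_inZStar hxH hZ (hNH hn)⟩
      have h2 : x * n⁻¹ * x⁻¹ ∈ N := hNn.conj_mem _ (N.inv_mem hn) x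
      have h3 : n * x * n⁻¹ * x⁻¹ = n * (x * n⁻¹ * x⁻¹) := by group
      rw [h3]; exact N.mul_mem hn h2
    rw [hI, Subgroup.mem_bot] at h1
    calc n * x = (n * x * n⁻¹ * x⁻¹) * (x * n) := by group
      _ = x * n := by rw [h1, one_mul]
  have hCN : Subgroup.centralizer (N : Set G) = ⊤ := by
    apply h.eq_top_of_normal_of_mem
    rw [Subgroup.mem_centralizer_iff]
    intro n hn
    exact hcent n hn
  have hcentral : ∀ n ∈ N, ∀ g : G, n * g = g * n := by
    intro n hn g
    have hg : g ∈ Subgroup.centralizer (N : Set G) := by rw [hCN]; exact Subgroup.mem_top g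
    exact Subgroup.mem_centralizer_iff.mp hg n hn
  obtain ⟨M, hMn, hNM, hMtop, hMp⟩ := h.quot_data hN0
  obtain ⟨P, hP⟩ := (zpowers_isPGroup h.hx').exists_le_sylow
  have hxP : x ∈ (P : Subgroup G) := hP (Subgroup.mem_zpowers x)
  have hPle : (P : Subgroup G) ≤ N ⊔ Subgroup.zpowers x := by
    intro u hu
    have hu' : u ∈ M ⊔ Subgroup.zpowers x := by rw [hMtop]; exact Subgroup.mem_top u
    rw [← SetLike.mem_coe, Subgroup.normal_mul] at hu'
    obtain ⟨m, hm, z, hz, rfl⟩ := Set.mem_mul.mp hu'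
    have hzP : z ∈ (P : Subgroup G) := hP hz
    have hmP : m ∈ (P : Subgroup G) := by
      have e : m = (m * z) * z⁻¹ := by group
      rw [e]; exact Subgroup.mul_mem _ hu (Subgroup.inv_mem _ hzP)
    have hmN : m ∈ N := hMp m hm (pow_eq_one_of_mem_isPGroup P.isPGroup' hmP)
    exact Subgroup.mul_mem _ ((le_sup_left : N ≤ N ⊔ Subgroup.zpowers x) hmN)
      ((le_sup_right : _ ≤ N ⊔ Subgroup.zpowers x) hz)
  have hNC : Subgroup.normalizer ((P : Subgroup G) : Set G) ≤
      Subgroup.centralizer ((P : Subgroup G) : Set G) := by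
    intro n hn
    have hnx : n ∈ Subgroup.centralizer ({x} : Set G) :=
      isolated_normalizer_le_centralizer h.hiso P.isPGroup' hxP hn
    have hle : N ⊔ Subgroup.zpowers x ≤ Subgroup.centralizer ({n} : Set G) := by
      apply sup_le
      · intro a ha
        rw [Subgroup.mem_centralizer_singleton_iff]
        exact hcentral a ha n
      · rw [Subgroup.zpowers_le, Subgroup.mem_centralizer_singleton_iff]
        exact (Subgroup.mem_centralizer_singleton_iff.mp hnx).symm
    rw [Subgroup.mem_centralizer_iff]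
    intro u hu
    exact Subgroup.mem_centralizer_singleton_iff.mp (hle (hPle hu))
  have hcompl := MonoidHom.ker_transferSylow_isComplement' P hNC
  have hKc : (Nat.card (MonoidHom.transferSylow P hNC).ker).Coprime p := by
    have h1 : (P : Subgroup G).index = Nat.card (MonoidHom.transferSylow P hNC).ker :=
      hcompl.index_eq_card
    rw [← h1]
    exact Nat.Coprime.symm ((Nat.Prime.coprime_iff_not_dvd hp).mpr P.not_dvd_index)
  have hK0 : (MonoidHom.transferSylow P hNC).ker = ⊥ := by
    have h2 := le_pPrimeCore' (inferInstance : (MonoidHom.transferSylow P hNC).ker.Normal) hKc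
    rw [h.pPrimeCore_eq_bot] at h2
    exact le_bot_iff.mp h2
  rw [hK0] at hcompl
  have hPtop : (P : Subgroup G) = ⊤ := Subgroup.isComplement'_bot_left.mp hcompl
  apply h.not_central
  intro g
  exact isolated_commute_of_mem_pgroup h.hiso P.isPGroup' hxP g (by rw [hPtop]; exact Subgroup.mem_top g)

/-- Let G be a finite group, p a prime and x ∈ G an isolated element of order p (the only conjugate of x commuting with x is x) which is not central modulo the largest normal subgroup of order prime to p, while x is central modulo the largest normal subgroup of order prime to p in every proper subgroup containing x, and the image of x is so in every quotient of G by a nontrivial normal subgroup (a minimal counterexample to the Z*_p statement). Then the derived subgroup G' is a non-abelian simple group and G = G'⟨x⟩. -/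
theorem result {G : Type*} [Group G] [Finite G] {p : ℕ} [Fact p.Prime] (x : G) (hx : orderOf x = p) (hiso : Cfsg.IsIsolated x) (hnz : ¬ Cfsg.InZStar p x) (hmin : ∀ (H : Subgroup G) (hxH : x ∈ H), H ≠ ⊤ → Cfsg.InZStar p (⟨x, hxH⟩ : ↥H)) (hquot : ∀ (N : Subgroup G) [N.Normal], N ≠ ⊥ → Cfsg.InZStar p (QuotientGroup.mk x : G ⧸ N)) : IsSimpleGroup ↥(commutator G) ∧ ¬ IsMulCommutative ↥(commutator G) ∧ commutator G ⊔ Subgroup.zpowers x = ⊤ := by
  have h : MinCex p x := ⟨hx, hiso, hnz, hmin, hquot⟩
  have hG'0 : commutator G ≠ ⊥ := by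
    intro h0
    apply h.not_central
    intro g
    have h1 : ⁅g, x⁆ ∈ commutator G :=
      Subgroup.commutator_mem_commutator (Subgroup.mem_top g) (Subgroup.mem_top x)
    rw [h0, Subgroup.mem_bot, commutatorElement_def] at h1
    calc g * x = (g * x * g⁻¹ * x⁻¹) * (x * g) := by group
      _ = x * g := by rw [h1, one_mul]
  have hG'n : (⊤ : Subgroup G) ≤ Subgroup.normalizer ((commutator G : Subgroup G) : Set G) := by
    rw [Subgroup.normalizer_eq_top_iff.mpr inferInstance]
  obtain ⟨N, hN0, hNG', hNn', hNmin⟩ := exists_minimal_invariant ⊤ hG'0 hG'n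
  have hNn : N.Normal := Subgroup.normalizer_eq_top_iff.mp (top_le_iff.mp hNn')
  by_cases hH : N ⊔ Subgroup.zpowers x = ⊤
  · have hmk : ∀ g : G, (QuotientGroup.mk' N g) ∈ Subgroup.zpowers (QuotientGroup.mk' N x) := by
      intro g
      have hg : g ∈ N ⊔ Subgroup.zpowers x := by rw [hH]; exact Subgroup.mem_top g
      have h1 : QuotientGroup.mk' N g ∈ (N ⊔ Subgroup.zpowers x).map (QuotientGroup.mk' N) :=
        ⟨g, hg, rfl⟩
      rw [Subgroup.map_sup, MonoidHom.map_zpowers] at h1
      have hNmap : N.map (QuotientGroup.mk' N) = ⊥ := by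
        rw [← le_bot_iff]
        rintro _ ⟨n, hn, rfl⟩
        rw [Subgroup.mem_bot]
        exact (QuotientGroup.eq_one_iff n).mpr hn
      rw [hNmap, bot_sup_eq] at h1
      exact h1
    have hG'N : commutator G ≤ N := by
      rw [commutator_def, Subgroup.commutator_le]
      intro a _ b _
      obtain ⟨i, hi⟩ := Subgroup.mem_zpowers_iff.mp (hmk a)
      obtain ⟨j, hj⟩ := Subgroup.mem_zpowers_iff.mp (hmk b)
      have h1 : QuotientGroup.mk' N ⁅a, b⁆ = 1 := by
        rw [commutatorElement_def, map_mul, map_mul, map_mul, map_inv, map_inv, ← hi, ← hj]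
        have hc : Commute (QuotientGroup.mk' N x ^ i) (QuotientGroup.mk' N x ^ j) :=
          (Commute.refl _).zpow_zpow i j
        rw [hc.eq]; group
      rw [← QuotientGroup.ker_mk' N]; exact h1
    have hNeq : commutator G = N := le_antisymm hG'N hNG'
    rw [hNeq]
    have hsimple := invariant_eq_bot_or_eq h hH hNmin
    exact ⟨isSimpleGroup_of_forall_invariant hN0 hsimple, not_comm h hN0 hH hsimple, hH⟩
  · exact (case_proper h hN0 hH).elim

end Cfsg.Agent.S2972
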