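import Cfsg.Statements.S2975
import Cfsg.Agent.Helper49.Isolated
import Cfsg.Agent.Helper49.AxB
import Cfsg.Agent.Helper49.SupCoprime
import Cfsg.Agent.Helper49.PPrimeCore
import Cfsg.Agent.Helper35.CoprimeSylow

set_option autoImplicit false
open Cfsg

namespace Cfsg.Agent.S2975

open Cfsg.Agent.Helper49

/-- Two `x`-invariant Sylow `q`-subgroups are conjugate under the centralizer of the isolated element `x`. -/
theorem part2 {G : Type*} [Group G] [Finite G] {p : ℕ} [Fact p.Prime] (x : G) (hx : orderOf x = p)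
    (hiso : IsIsolated x) (q : ℕ) [Fact q.Prime] (S₁ S₂ : Sylow q G)
    (h1 : x ∈ Subgroup.normalizer ((S₁ : Subgroup G) : Set G))
    (h2 : x ∈ Subgroup.normalizer ((S₂ : Subgroup G) : Set G)) :
    ∃ c ∈ Subgroup.centralizer ({x} : Set G),
      (S₁ : Subgroup G).map (MulAut.conj c).toMonoidHom = (S₂ : Subgroup G) := by
  obtain ⟨g, hg⟩ := MulAction.exists_smul_eq G S₁ S₂
  have hgx : g * x * g⁻¹ ∈ Subgroup.normalizer ((S₂ : Subgroup G) : Set G) := by
    apply Sylow.smul_eq_iff_mem_normalizer.mp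
    rw [← hg, ← mul_smul]
    have e : g * x * g⁻¹ * g = g * x := by group
    rw [e, mul_smul, Sylow.smul_eq_iff_mem_normalizer.mpr h1]
  obtain ⟨n, hnN, hn⟩ := isolated_exists_conj_eq ⟨1, by rw [hx, pow_one]⟩ hiso h2 hgx
  refine ⟨n * g, ?_, ?_⟩
  · rw [Subgroup.mem_centralizer_singleton_iff]
    calc n * g * x = (n * (g * x * g⁻¹) * n⁻¹) * (n * g) := by group
      _ = x * (n * g) := by rw [hn]
  · have e : ((n * g) • S₁ : Sylow q G) = S₂ := by
      rw [mul_smul, hg, Sylow.smul_eq_iff_mem_normalizer.mpr hnN]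
    rw [← e]
    rfl

/-- The case `q = p` of the first part. -/
theorem part1_eq {G : Type*} [Group G] [Finite G] {p : ℕ} [Fact p.Prime] (x : G) (hx : orderOf x = p)
    (Q : Subgroup G) (hQ : IsPGroup p ↥Q) (hxQ : x ∈ Subgroup.normalizer (Q : Set G))
    (hmax : ∀ R : Subgroup G, IsPGroup p ↥R → x ∈ Subgroup.normalizer (R : Set G) → Q ≤ R → R = Q) :
    ∃ S : Sylow p G, (S : Subgroup G) = Q := by
  have hz : IsPGroup p (Subgroup.zpowers x) := zpowers_isPGroup ⟨1, by rw [hx, pow_one]⟩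
  have hzn : Subgroup.zpowers x ≤ Subgroup.normalizer (Q : Set G) := (Subgroup.zpowers_le).mpr hxQ
  have hR : IsPGroup p (Q ⊔ Subgroup.zpowers x : Subgroup G) := hQ.to_sup_of_normal_left' hz hzn
  have hxR : x ∈ Subgroup.normalizer ((Q ⊔ Subgroup.zpowers x : Subgroup G) : Set G) :=
    Subgroup.le_normalizer ((le_sup_right : _ ≤ Q ⊔ Subgroup.zpowers x) (Subgroup.mem_zpowers x))
  have hQR := hmax _ hR hxR le_sup_left
  have hxQ' : x ∈ Q := by
    rw [← hQR]; exact (le_sup_right : _ ≤ Q ⊔ Subgroup.zpowers x) (Subgroup.mem_zpowers x)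
  obtain ⟨S, hS⟩ := hQ.exists_le_sylow
  exact ⟨S, hmax S S.isPGroup' (Subgroup.le_normalizer (hS hxQ')) hS⟩

/-- The case `q ≠ p` of the first part. -/
theorem part1_ne {G : Type*} [Group G] [Finite G] {p : ℕ} [Fact p.Prime] (x : G) (hx : orderOf x = p)
    (hnz : ¬ InZStar p x)
    (hmin : ∀ (H : Subgroup G) (hxH : x ∈ H), H ≠ ⊤ → InZStar p (⟨x, hxH⟩ : ↥H))
    (hquot : ∀ (N : Subgroup G) [N.Normal], N ≠ ⊥ → InZStar p (QuotientGroup.mk x : G ⧸ N))
    (q : ℕ) [Fact q.Prime] (hqp : q ≠ p)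
    (Q : Subgroup G) (hQ : IsPGroup q ↥Q) (hxQ : x ∈ Subgroup.normalizer (Q : Set G))
    (hmax : ∀ R : Subgroup G, IsPGroup q ↥R → x ∈ Subgroup.normalizer (R : Set G) → Q ≤ R → R = Q)
    (hQne : Q ≠ ⊥) : ∃ S : Sylow q G, (S : Subgroup G) = Q := by
  have hp : p.Prime := Fact.out
  have hq : q.Prime := Fact.out
  have hcop_qp : Nat.Coprime q p := (Nat.coprime_primes hq hp).mpr hqp
  -- `Q` has order prime to `p`
  have hQc : (Nat.card Q).Coprime p := by
    obtain ⟨k, hk⟩ := IsPGroup.iff_card.mp hQ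
    rw [hk]; exact Nat.Coprime.pow_left k hcop_qp
  set N : Subgroup G := Subgroup.normalizer (Q : Set G) with hN
  have hNtop : N ≠ ⊤ := by
    intro htop
    have hQn : Q.Normal := Subgroup.normalizer_eq_top_iff.mp htop
    exact hnz (inZStar_of_quotient Q hQc (hquot Q hQne))
  have hZ := hmin N hxQ hNtop
  set K : Subgroup G := pPrimeCoreOf p N with hK
  have hKN : K ≤ N := pPrimeCoreOf_le p N
  have hNK : N ≤ Subgroup.normalizer (K : Set G) := le_normalizer_pPrimeCoreOf p N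
  have hKc : (Nat.card K).Coprime p := pPrimeCoreOf_coprime p N
  obtain ⟨T₀⟩ := (inferInstance : Nonempty (Sylow q ↥N))
  set T : Subgroup G := (T₀ : Subgroup ↥N).map N.subtype with hT
  have hTs : T ∈ Helper35.sylowSet q N := Helper35.sylow_map_mem_sylowSet T₀
  have hTq : IsPGroup q T := Helper35.isPGroup_of_mem_sylowSet hTs
  have hTN : T ≤ N := hTs.1
  have hQT : Q ≤ T :=
    Helper35.le_of_mem_sylowSet_of_le_normalizer hTs Subgroup.le_normalizer hQ le_rfl
  set L : Subgroup G := T ⊔ K with hL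
  have hLN : L ≤ N := sup_le hTN hKN
  have hxL : x ∈ Subgroup.normalizer (L : Set G) := by
    apply Subgroup.mem_normalizer_fintype
    intro h hh
    have hh' : h ∈ L := hh
    have hmap : L.map (MulAut.conj x).toMonoidHom ≤ L := by
      rw [hL, Subgroup.map_sup]
      apply sup_le
      · rintro _ ⟨t, ht, rfl⟩
        have h1 : t * x * t⁻¹ * x⁻¹ ∈ K := mem_pPrimeCoreOf_of_inZStar hxQ hZ (hTN ht)
        have h2 : x * t * x⁻¹ = (t * x * t⁻¹ * x⁻¹)⁻¹ * t := by group
        show x * t * x⁻¹ ∈ T ⊔ K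
        rw [h2]
        exact Subgroup.mul_mem _ (Subgroup.inv_mem _ ((le_sup_right : K ≤ T ⊔ K) h1))
          ((le_sup_left : T ≤ T ⊔ K) ht)
      · rintro _ ⟨k, hk, rfl⟩
        have h1 : x * k * x⁻¹ ∈ K := (Subgroup.mem_normalizer_iff.mp (hNK hxQ) k).mp hk
        exact (le_sup_right : K ≤ T ⊔ K) h1
    exact hmap ⟨h, hh', rfl⟩
  have hA : Subgroup.zpowers x ≤ Subgroup.normalizer (L : Set G) := (Subgroup.zpowers_le).mpr hxL
  have hLc : (Nat.card L).Coprime p := by
    apply coprime_card_of_forall_orderOf_ne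
    intro g hgL hg
    have hgK : g ∈ K := by
      apply mem_of_mem_sup_of_coprime hTq (hTN.trans hNK) (by rw [sup_comm]; exact hgL)
      rw [hg]; exact hcop_qp.symm
    exact not_mem_of_orderOf_eq_prime_of_coprime hKc hg hgK
  have hcop : (Nat.card (Subgroup.zpowers x)).Coprime (Nat.card L) := by
    rw [Nat.card_zpowers, hx]; exact hLc.symm
  obtain ⟨P, hP, hQP, hPA⟩ := Helper35.exists_invariant_sylow_ge hA hcop (Or.inl inferInstance)
    (hQT.trans le_sup_left) hQ ((Subgroup.zpowers_le).mpr hxQ)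
  have hPQ : P = Q :=
    hmax P (Helper35.isPGroup_of_mem_sylowSet hP) (hPA (Subgroup.mem_zpowers x)) hQP
  rw [hPQ] at hP
  have hTQ : T = Q := Helper35.eq_of_mem_sylowSet_of_le hP le_sup_left hTq hQT
  rw [hTQ] at hTs
  obtain ⟨S, hS⟩ := hQ.exists_le_sylow
  refine ⟨S, ?_⟩
  by_contra hne
  obtain ⟨s, hsS, hsN, hsQ⟩ := exists_mem_normalizer_not_mem S.isPGroup' hS (Ne.symm hne)
  have hRS : Q ⊔ Subgroup.zpowers s ≤ (S : Subgroup G) := sup_le hS ((Subgroup.zpowers_le).mpr hsS)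
  have hRq : IsPGroup q (Q ⊔ Subgroup.zpowers s : Subgroup G) := S.isPGroup'.to_le hRS
  have hRN : Q ⊔ Subgroup.zpowers s ≤ N :=
    sup_le Subgroup.le_normalizer ((Subgroup.zpowers_le).mpr hsN)
  have hRQ := Helper35.eq_of_mem_sylowSet_of_le hTs hRN hRq le_sup_left
  apply hsQ
  rw [← hRQ]
  exact (le_sup_right : _ ≤ Q ⊔ Subgroup.zpowers s) (Subgroup.mem_zpowers s)

/-- Let G be a finite group, p a prime and x ∈ G an isolated element of order p (the only conjugate of x commuting with x is x) which is not central modulo the largest normal subgroup of order prime to p, while x is central modulo the largest normal subgroup of order prime to p in every proper subgroup containing x, and the image of x is so in every quotient of G by a nontrivial normal subgroup (a minimal counterexample to the Z*_p statement). Then for every prime q, every q-subgroup of G that is normalized by x and maximal among the q-subgroups normalized by x is either trivial or a Sylow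 q-subgroup of G; and C_G(x) permutes the x-invariant Sylow q-subgroups of G transitively by conjugation. -/
theorem result {G : Type*} [Group G] [Finite G] {p : ℕ} [Fact p.Prime] (x : G) (hx : orderOf x = p) (hiso : Cfsg.IsIsolated x) (hnz : ¬ Cfsg.InZStar p x) (hmin : ∀ (H : Subgroup G) (hxH : x ∈ H), H ≠ ⊤ → Cfsg.InZStar p (⟨x, hxH⟩ : ↥H)) (hquot : ∀ (N : Subgroup G) [N.Normal], N ≠ ⊥ → Cfsg.InZStar p (QuotientGroup.mk x : G ⧸ N)) (q : ℕ) [Fact q.Prime] : (∀ Q : Subgroup G, IsPGroup q ↥Q → x ∈ Subgroup.normalizer (Q : Set G) → (∀ R : Subgroup G, IsPGroup q ↥R → x ∈ Subgroup.normalizer (R : Set G) → Q ≤ R → R = Q) → Q = ⊥ ∨ ∃ S : Sylow q G, (S : Subgroup G) = Q) ∧ (∀ S₁ S₂ : Sylow q G, x ∈ Subgroup.normalizer ((S₁ : Subgroup G) : Set G) → x ∈ Subgroup.normalizer ((S₂ : Subgroup G) : Set G) → ∃ c ∈ Subgroup.centralizer ({x} : Set G), (S₁ : Subgroup G).map (MulAut.conj c).toMonoidHom = (S₂ : Subgroup G)) := by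
  refine ⟨?_, fun S₁ S₂ h1 h2 => part2 x hx hiso q S₁ S₂ h1 h2⟩
  intro Q hQ hxQ hmax
  by_cases hqp : q = p
  · subst hqp
    exact Or.inr (part1_eq x hx Q hQ hxQ hmax)
  · by_cases hQne : Q = ⊥
    · exact Or.inl hQne
    · exact Or.inr (part1_ne x hx hnz hmin hquot q hqp Q hQ hxQ hmax hQne)

end Cfsg.Agent.S2975
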