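import Cfsg.Statements.S3031
-- import your own Cfsg.Agent.* helpers here
import Cfsg.Agent.Helper50.HSub
import Cfsg.Agent.Helper50.SubnSylow
import Cfsg.Agent.Helper2.Tate
import Cfsg.Agent.S5093
import Cfsg.Agent.Helper86.Hyperfocal
import Cfsg.Agent.Helper84.FusionAut

set_option autoImplicit false
open Cfsg

namespace Cfsg.Agent.S3031

open Cfsg.Agent.Helper50 in
/-- Every element of a group whose order has no prime divisor below `p` has order prime to `p - 1`. -/
theorem coprime_pred_of_min {G : Type*} [Group G] [Finite G] {p : ℕ} [hp : Fact p.Prime]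
    (hmin : ∀ q : ℕ, q.Prime → q ∣ Nat.card G → p ≤ q) (g : G) : (orderOf g).Coprime (p - 1) := by
  by_contra h
  obtain ⟨q, hq, hqd⟩ := Nat.exists_prime_and_dvd h
  have h1 : q ∣ orderOf g := hqd.trans (Nat.gcd_dvd_left _ _)
  have h2 : q ∣ p - 1 := hqd.trans (Nat.gcd_dvd_right _ _)
  have h3 : p ≤ q := hmin q hq (h1.trans (orderOf_dvd_natCard g))
  have h4 : q ≤ p - 1 := Nat.le_of_dvd (by have := hp.out.two_le; omega) h2
  have := hp.out.two_le
  omega

open Cfsg.Agent.Helper50 in
/-- The two local facts: a normalizing element acts trivially modulo `Φ(P)` on small subgroups, and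
a normalizing `p'`-element centralizes large subgroups. -/
theorem key {G : Type*} [Group G] [Finite G] {p : ℕ} [hp : Fact p.Prime]
    (hmin : ∀ q : ℕ, q.Prime → q ∣ Nat.card G → p ≤ q) (P : Sylow p G)
    (D : Subgroup G) (hDP : D ≤ (P : Subgroup G)) (hD1 : 1 < Nat.card D)
    (hD2 : Nat.card D < Nat.card (P : Subgroup G))
    (hH : ∀ E : Subgroup G, E ≤ (P : Subgroup G) →
      (Nat.card E = Nat.card D ∨ (Nat.card D = 2 ∧ Nat.card E = 4)) →
        ∀ g : G, E.map (MulAut.conj g).toMonoidHom ⊓ Subgroup.normalizer (E : Set G) ≤ E)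
    (Q : Subgroup G) (hQP : Q ≤ (P : Subgroup G)) (g : G)
    (hgQ : g ∈ Subgroup.normalizer (Q : Set G)) :
    (Nat.card Q ≤ Nat.card D → ∀ x ∈ Q, x⁻¹ * (g * x * g⁻¹) ∈
      (frattini ↥(P : Subgroup G)).map (P : Subgroup G).subtype) ∧
    (Nat.card D < Nat.card Q → (orderOf g).Coprime p →
      Q ≤ Subgroup.centralizer (Subgroup.zpowers g : Set G)) := by
  have hPp : IsPGroup p (P : Subgroup G) := P.isPGroup'
  have hQp : IsPGroup p Q := hPp.to_le hQP
  have hcopg : (orderOf g).Coprime (p - 1) := coprime_pred_of_min hmin g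
  obtain ⟨n, hn⟩ := IsPGroup.iff_card.mp hPp
  obtain ⟨k, hk⟩ := IsPGroup.iff_card.mp (hPp.to_le hDP)
  obtain ⟨j, hj⟩ := IsPGroup.iff_card.mp hQp
  have hkn : k < n := by
    rw [hk, hn] at hD2
    exact (Nat.pow_lt_pow_iff_right hp.out.one_lt).mp hD2
  have hconjQ : ∀ z ∈ Q, g * z * g⁻¹ ∈ Q := fun z hz =>
    (Subgroup.mem_normalizer_iff.mp hgQ z).mp hz
  constructor
  · intro hle x hx
    have hjk : j ≤ k := by
      rw [hj, hk] at hle
      exact (Nat.pow_le_pow_iff_right hp.out.one_lt).mp hle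
    obtain ⟨R, hRcard, hQR, hRP⟩ : ∃ R : Subgroup G, Nat.card R = p ^ (k + 1) ∧ Q ≤ R ∧
        R ≤ (P : Subgroup G) :=
      Cfsg.Agent.S3803.exists_between p (P : Subgroup G) Q hQP hj (by omega)
        (by rw [hn]; exact pow_dvd_pow p hkn)
    apply mem_frattini_of_forall_mem hPp hRP k hRcard
      (R.mul_mem (R.inv_mem (hQR hx)) (hQR (hconjQ x hx)))
    intro M hMR hMcard
    obtain ⟨hRnM, hidxM⟩ := normal_data_of_card hMR k hRcard hMcard
    have hgM : g ∈ Subgroup.normalizer ((Q ⊓ M : Subgroup G) : Set G) := by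
      apply mem_normalizer_of_conj_mem
      intro z hz
      refine ⟨hconjQ z hz.1, ?_⟩
      exact hH M (hMR.trans hRP) (Or.inl (hMcard.trans hk.symm)) g
        ⟨conj_mem_map_conj M g hz.2, hRnM (hQR (hconjQ z hz.1))⟩
    have hQn : Q ≤ Subgroup.normalizer ((Q ⊓ M : Subgroup G) : Set G) := fun q hq =>
      normalizer_inf_le_normalizer_inf Q M ⟨Subgroup.le_normalizer hq, hRnM (hQR hq)⟩
    have hidx : (Q ⊓ M).relIndex Q ∣ p := by
      rw [Subgroup.inf_relIndex_left, ← Subgroup.relIndex_subgroupOf hQR]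
      have hMn : (M.subgroupOf R).Normal := by
        refine ⟨fun m hm r => ?_⟩
        rw [Subgroup.mem_subgroupOf] at hm ⊢
        exact (Subgroup.mem_normalizer_iff.mp (hRnM r.2) m).mp hm
      have h1 := Subgroup.relIndex_dvd_index_of_normal (M.subgroupOf R) (Q.subgroupOf R)
      have h2 : (M.subgroupOf R).index = p := hidxM
      rwa [h2] at h1
    exact (inv_mul_conj_mem_of_relIndex_dvd_prime hQn hidx hgQ hgM hcopg x hx).2
  · intro hlt hcop
    have hkj : k < j := by
      rw [hj, hk] at hlt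
      exact (Nat.pow_lt_pow_iff_right hp.out.one_lt).mp hlt
    obtain ⟨D', hD'card, -, hD'Q⟩ : ∃ D' : Subgroup G, Nat.card D' = p ^ k ∧ (⊥ : Subgroup G) ≤ D' ∧
        D' ≤ Q :=
      Cfsg.Agent.S3803.exists_between p Q ⊥ bot_le (n := 0) (by simp) (Nat.zero_le k)
        (by rw [hj]; exact pow_dvd_pow p hkj.le)
    have hD'D : Nat.card D' = Nat.card D := hD'card.trans hk.symm
    apply centralizes_of_normalizes_card Q D' g hQp hcop hcopg hgQ hD'Q (hD'D ▸ hD1) (hD'D ▸ hlt)
    intro E hEQ hc
    have hc' : Nat.card E = Nat.card D ∨ (Nat.card D = 2 ∧ Nat.card E = 4) := by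
      rw [hD'D] at hc
      exact hc
    have hHE := hH E (hEQ.trans hQP) hc'
    have hEn : (P : Subgroup G) ≤ Subgroup.normalizer (E : Set G) :=
      le_normalizer_of_hSub hPp (hEQ.trans hQP) hHE
    apply mem_normalizer_of_conj_mem
    intro e he
    exact hHE g ⟨conj_mem_map_conj E g he, hEn (hQP (hconjQ e (hEQ he)))⟩

/-- Let G be a finite group, p the smallest prime dividing |G| and P a Sylow p-subgroup. Suppose that P is cyclic, or that P has a subgroup D with 1 < |D| < |P| such that every subgroup E of P of order |D|, and also every subgroup E of P of order 4 when |D| = 2, satisfies g E g⁻¹ ∩ N_G(E) ≤ E for all g ∈ G (E is strongly closed in its normalizer with respect to G). Then G has a normal p-complement. -/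
theorem result {G : Type*} [Group G] [Finite G] {p : ℕ} [Fact p.Prime] (hdiv : p ∣ Nat.card G)
    (hmin : ∀ q : ℕ, q.Prime → q ∣ Nat.card G → p ≤ q) (P : Sylow p G)
    (h : IsCyclic ↥(P : Subgroup G) ∨ ∃ D : Subgroup G, D ≤ (P : Subgroup G) ∧ 1 < Nat.card D ∧ Nat.card D < Nat.card (P : Subgroup G) ∧
      ∀ E : Subgroup G, E ≤ (P : Subgroup G) → (Nat.card E = Nat.card D ∨ (Nat.card D = 2 ∧ Nat.card E = 4)) →
        ∀ g : G, E.map (MulAut.conj g).toMonoidHom ⊓ Subgroup.normalizer (E : Set G) ≤ E) :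
    Cfsg.HasNormalPComplement p G := by
  classical
  have hp : p.Prime := Fact.out
  rcases h with hcyc | ⟨D, hDP, hD1, hD2, hH⟩
  · have hmf : (Nat.card G).minFac = p := by
      apply le_antisymm
      · exact Nat.minFac_le_of_dvd hp.two_le hdiv
      · refine hmin _ (Nat.minFac_prime ?_) (Nat.minFac_dvd _)
        intro h1
        rw [h1] at hdiv
        exact hp.one_lt.ne' (Nat.dvd_one.mp hdiv)
    exact ⟨P, _, MonoidHom.normal_ker _, IsCyclic.isComplement' hmf hcyc⟩
  · have hPp : IsPGroup p (P : Subgroup G) := P.isPGroup'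
    apply Cfsg.Agent.Helper2.hasNormalPComplement_of_inf_pResidual_le_frattini P
    rw [← Cfsg.Agent.S5093.result p P]
    apply Cfsg.Agent.Helper86.hyperfocal_le_of_forall_coprime
    intro Q hQP a hacop x
    have hmem : Q.subtype.comp (a : MulAut Q).toMonoidHom ∈
        (Cfsg.groupFusionSystem (P : Subgroup G)).Hom Q :=
      (Cfsg.Agent.Helper84.mem_autGroup_iff _ hQP _).mp a.2
    obtain ⟨-, -, g, hg⟩ := hmem
    have hg' : ∀ y : Q, (((a : MulAut Q) y : Q) : G) = g * y * g⁻¹ := hg
    have hpow : ∀ (n : ℕ) (y : Q), ((((a : MulAut Q) ^ n) y : Q) : G) = g ^ n * y * (g ^ n)⁻¹ := by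
      intro n
      induction n with
      | zero => intro y; simp
      | succ n ih =>
        intro y
        rw [pow_succ, MulAut.mul_apply, ih, hg', pow_succ]
        group
    have hgQ : g ∈ Subgroup.normalizer (Q : Set G) := by
      apply Cfsg.Agent.Helper50.mem_normalizer_of_conj_mem
      intro z hz
      have h1 := hg' ⟨z, hz⟩
      rw [← h1]
      exact ((a : MulAut Q) ⟨z, hz⟩).2
    by_cases hc : Nat.card Q ≤ Nat.card D
    · rw [hg' x]
      exact (key hmin P D hDP hD1 hD2 hH Q hQP g hgQ).1 hc x x.2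
    · have hc' : Nat.card D < Nat.card Q := not_le.mp hc
      have hg2Q : g ^ Nat.card (P : Subgroup G) ∈ Subgroup.normalizer (Q : Set G) :=
        Subgroup.pow_mem _ hgQ _
      have hcop2 : (orderOf (g ^ Nat.card (P : Subgroup G))).Coprime p := by
        have h1 : (g ^ Nat.card (P : Subgroup G)) ^ (P : Subgroup G).index = 1 := by
          rw [← pow_mul, Subgroup.card_mul_index, pow_card_eq_one']
        have h2 : orderOf (g ^ Nat.card (P : Subgroup G)) ∣ (P : Subgroup G).index :=
          orderOf_dvd_of_pow_eq_one h1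
        have h3 : ((P : Subgroup G).index).Coprime p := by
          have h4 := P.card_coprime_index
          obtain ⟨n, hn⟩ := IsPGroup.iff_card.mp hPp
          rw [hn] at h4
          have hn0 : n ≠ 0 := by
            rintro rfl
            rw [hn] at hD2
            simp at hD2
            omega
          exact ((Nat.coprime_pow_left_iff (Nat.pos_of_ne_zero hn0) _ _).mp h4).symm
        exact Nat.Coprime.coprime_dvd_left h2 h3
      have hcent := (key hmin P D hDP hD1 hD2 hH Q hQP _ hg2Q).2 hc' hcop2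
      have ha1 : (a : MulAut Q) ^ Nat.card (P : Subgroup G) = 1 := by
        ext y
        rw [hpow]
        have h1 := Subgroup.mem_centralizer_iff.mp (hcent y.2) _
          (Subgroup.mem_zpowers (g ^ Nat.card (P : Subgroup G)))
        rw [h1]
        simp
      have ha2 : orderOf (a : MulAut Q) ∣ Nat.card (P : Subgroup G) := orderOf_dvd_of_pow_eq_one ha1
      have ha3 : orderOf (a : MulAut Q) = 1 := by
        obtain ⟨n, hn⟩ := IsPGroup.iff_card.mp hPp
        rw [hn] at ha2
        rw [Subgroup.orderOf_coe]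
        rw [Subgroup.orderOf_coe] at ha2
        exact Nat.Coprime.eq_one_of_dvd (Nat.Coprime.pow_right n hacop) ha2
      have ha4 : (a : MulAut Q) = 1 := orderOf_eq_one_iff.mp ha3
      rw [ha4]
      simp

end Cfsg.Agent.S3031
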