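import Cfsg.Statements.S3032
-- import your own Cfsg.Agent.* helpers here
import Cfsg.Agent.Helper50.SSolvP
import Cfsg.Agent.S3031

set_option autoImplicit false
open Cfsg

namespace Cfsg.Agent.S3032

open Cfsg.Agent.Helper50 Subgroup in
/-- The `H`-subgroup condition restricts to a subgroup. -/
theorem hsub_restrict {G : Type*} [Group G] [Finite G] (E : Subgroup G) (E' : Subgroup E)
    (hH : ∀ g : G, (E'.map E.subtype).map (MulAut.conj g).toMonoidHom ⊓
      normalizer ((E'.map E.subtype : Subgroup G) : Set G) ≤ E'.map E.subtype) :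
    ∀ g : E, E'.map (MulAut.conj g).toMonoidHom ⊓ normalizer (E' : Set E) ≤ E' := by
  rintro g z ⟨hz1, hz2⟩
  obtain ⟨e, he, hez⟩ := (mem_map_conj E' g z).mp hz1
  have h1 : (z : G) ∈ E'.map E.subtype := by
    apply hH (g : G)
    refine ⟨?_, ?_⟩
    · rw [← hez]
      exact conj_mem_map_conj _ (g : G) (Subgroup.mem_map_of_mem E.subtype he)
    · apply mem_normalizer_of_conj_mem
      rintro f ⟨f', hf', rfl⟩
      exact ⟨z * f' * z⁻¹, (mem_normalizer_iff.mp hz2 f').mp hf', rfl⟩
  obtain ⟨y, hy, hyz⟩ := h1
  have hyz' : y = z := Subtype.ext hyz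
  rw [← hyz']
  exact hy

open Cfsg.Agent.Helper50 Subgroup in
/-- Induction on `|E|`. -/
theorem main_aux {G : Type*} [Group G] [Finite G] (n : ℕ) :
    ∀ (E : Subgroup G) [E.Normal], Nat.card E ≤ n → Cfsg.IsSupersolvable (G ⧸ E) →
    (∀ (p : ℕ), p.Prime → ∀ P : Subgroup G, P ≤ E → IsPGroup p P → ¬ p ∣ P.relIndex E → ¬ IsCyclic ↥P →
      ∃ D : Subgroup G, D ≤ P ∧ 1 < Nat.card D ∧ Nat.card D < Nat.card P ∧
        ∀ F : Subgroup G, F ≤ P → (Nat.card F = Nat.card D ∨ (Nat.card D = 2 ∧ Nat.card F = 4)) →
          ∀ g : G, F.map (MulAut.conj g).toMonoidHom ⊓ Subgroup.normalizer (F : Set G) ≤ F) →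
    Cfsg.IsSupersolvable G := by
  induction n with
  | zero =>
    intro E _ hcard
    exact absurd hcard (by have := Nat.card_pos (α := E); omega)
  | succ n ih =>
    intro E hEn hcard hGE h
    by_cases hEbot : E = ⊥
    · subst hEbot
      exact Helper9.ss_of_mulEquiv QuotientGroup.quotientBot hGE
    have hcardE1 : Nat.card E ≠ 1 := fun h1 => hEbot (Subgroup.card_eq_one.mp h1)
    obtain ⟨p, hpdef⟩ : ∃ p, p = (Nat.card E).minFac := ⟨_, rfl⟩
    have hp : p.Prime := hpdef ▸ Nat.minFac_prime hcardE1
    have hpF : Fact p.Prime := ⟨hp⟩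
    have hpE : p ∣ Nat.card E := hpdef ▸ Nat.minFac_dvd _
    have hmin : ∀ q : ℕ, q.Prime → q ∣ Nat.card E → p ≤ q := fun q hq hqd =>
      hpdef ▸ Nat.minFac_le_of_dvd hq.two_le hqd
    -- data of a Sylow subgroup of `E`
    have hsyl : ∀ P' : Sylow p E, IsPGroup p ((P' : Subgroup E).map E.subtype) ∧
        ¬ p ∣ ((P' : Subgroup E).map E.subtype).relIndex E := by
      intro P'
      refine ⟨P'.isPGroup'.map _, ?_⟩
      have h1 : ((P' : Subgroup E).map E.subtype).relIndex E = (P' : Subgroup E).index := by
        have h2 := Subgroup.relIndex_mul_relIndex ⊥ ((P' : Subgroup E).map E.subtype) E bot_le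
          (map_subtype_le _)
        rw [Subgroup.relIndex_bot_left, Subgroup.relIndex_bot_left,
          Subgroup.card_map_of_injective E.subtype_injective] at h2
        have h3 := (P' : Subgroup E).card_mul_index
        exact Nat.eq_of_mul_eq_mul_left Nat.card_pos (h2.trans h3.symm)
      rw [h1]
      exact P'.not_dvd_index
    -- the normal `p`-complement of `E`
    obtain ⟨P₁, N', hN'n, hcompl⟩ : Cfsg.HasNormalPComplement p E := by
      have P' : Sylow p E := default
      apply Cfsg.Agent.S3031.result hpE hmin P'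
      by_cases hcyc : IsCyclic ((P' : Subgroup E).map E.subtype)
      · left
        exact ((P' : Subgroup E).equivMapOfInjective E.subtype E.subtype_injective).isCyclic.mpr hcyc
      · right
        obtain ⟨D, hDP, hD1, hD2, hH⟩ := h p hp _ (map_subtype_le _) (hsyl P').1 (hsyl P').2 hcyc
        have hDE : D ≤ E := hDP.trans (map_subtype_le _)
        have hDc : Nat.card (D.subgroupOf E) = Nat.card D :=
          Nat.card_congr (subgroupOfEquivOfLe hDE).toEquiv
        have hPc : Nat.card ((P' : Subgroup E).map E.subtype) = Nat.card (P' : Subgroup E) :=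
          Subgroup.card_map_of_injective E.subtype_injective
        refine ⟨D.subgroupOf E, ?_, by rw [hDc]; exact hD1, by rw [hDc, ← hPc]; exact hD2, ?_⟩
        · intro d hd
          obtain ⟨y, hy, hyd⟩ := hDP (mem_subgroupOf.mp hd)
          have hyd' : y = d := Subtype.ext hyd
          rw [← hyd']
          exact hy
        · intro E' hE'P hE'c
          apply hsub_restrict E E'
          apply hH _ (Subgroup.map_mono hE'P)
          rw [Subgroup.card_map_of_injective E.subtype_injective]
          rw [hDc] at hE'c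
          exact hE'c
    obtain ⟨P, hPdef⟩ : ∃ P : Subgroup G, P = (P₁ : Subgroup E).map E.subtype := ⟨_, rfl⟩
    obtain ⟨K, hKdef⟩ : ∃ K : Subgroup G, K = N'.map E.subtype := ⟨_, rfl⟩
    have hPE : P ≤ E := hPdef ▸ map_subtype_le _
    have hKE : K ≤ E := hKdef ▸ map_subtype_le _
    have hPp : IsPGroup p P := hPdef ▸ (hsyl P₁).1
    have hPnd : ¬ p ∣ P.relIndex E := hPdef ▸ (hsyl P₁).2
    have hcardP : Nat.card P = Nat.card (P₁ : Subgroup E) := by
      rw [hPdef]; exact Subgroup.card_map_of_injective E.subtype_injective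
    have hcardK : Nat.card K = Nat.card N' := by
      rw [hKdef]; exact Subgroup.card_map_of_injective E.subtype_injective
    have hcardKP : Nat.card K * Nat.card P = Nat.card E := by
      rw [hcardP, hcardK]; exact hcompl.card_mul_card
    have hN'cop : (Nat.card N').Coprime p := by
      rw [Nat.coprime_comm, Nat.Prime.coprime_iff_not_dvd hp, ← hcompl.index_eq_card]
      exact P₁.not_dvd_index
    have hKcop : (Nat.card K).Coprime p := hcardK ▸ hN'cop
    obtain ⟨a, ha⟩ := IsPGroup.iff_card.mp hPp
    -- `K` consists of the `p'`-elements of `E`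
    have hKmem : ∀ x : G, x ∈ K ↔ x ∈ E ∧ (orderOf x).Coprime p := by
      intro x
      constructor
      · intro hx
        rw [hKdef] at hx
        obtain ⟨y, hy, rfl⟩ := hx
        refine ⟨y.2, ?_⟩
        have h1 : orderOf (⟨y, hy⟩ : N') ∣ Nat.card N' := orderOf_dvd_natCard _
        rw [Subgroup.orderOf_mk] at h1
        have h2 : orderOf (E.subtype y) = orderOf y := Subgroup.orderOf_coe y
        rw [h2]
        exact Nat.Coprime.coprime_dvd_left h1 hN'cop
      · rintro ⟨hxE, hcop⟩
        rw [hKdef]
        refine ⟨⟨x, hxE⟩, ?_, rfl⟩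
        have h1 : (QuotientGroup.mk' N' ⟨x, hxE⟩) ^ orderOf x = 1 := by
          rw [← map_pow]
          have h0 : (⟨x, hxE⟩ : E) ^ orderOf x = 1 := Subtype.ext (pow_orderOf_eq_one x)
          rw [h0, map_one]
        have h2 : (QuotientGroup.mk' N' ⟨x, hxE⟩) ^ (p ^ a) = 1 := by
          have h3 : Nat.card (E ⧸ N') = p ^ a := by
            rw [← Subgroup.index_eq_card, hcompl.symm.index_eq_card, ← hcardP, ha]
          rw [← h3]
          exact pow_card_eq_one'
        have h3 : QuotientGroup.mk' N' ⟨x, hxE⟩ = 1 :=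
          orderOf_eq_one_iff.mp (Nat.eq_one_of_dvd_coprimes (Nat.Coprime.pow_right a hcop)
            (orderOf_dvd_of_pow_eq_one h1) (orderOf_dvd_of_pow_eq_one h2))
        exact (QuotientGroup.eq_one_iff _).mp h3
    have hKn : K.Normal := by
      refine ⟨fun x hx g => (hKmem _).mpr ⟨hEn.conj_mem x ((hKmem x).mp hx).1 g, ?_⟩⟩
      have h1 := orderOf_injective (MulAut.conj g).toMonoidHom (MulAut.conj g).injective x
      have h2 : (MulAut.conj g).toMonoidHom x = g * x * g⁻¹ := rfl
      rw [h2] at h1
      rw [h1]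
      exact ((hKmem x).mp hx).2
    have hPK : P ⊓ K = ⊥ := by
      apply Disjoint.eq_bot
      apply Subgroup.disjoint_of_coprime_natCard
      rw [ha]
      exact Nat.Coprime.pow_left a hKcop.symm
    -- `G ⧸ K` is supersolvable
    have hss : Cfsg.IsSupersolvable (G ⧸ K) := by
      have hfs : Function.Surjective (QuotientGroup.mk' K) := QuotientGroup.mk'_surjective K
      have hĒn : (E.map (QuotientGroup.mk' K)).Normal := Subgroup.Normal.map hEn _ hfs
      have hcardPbar : Nat.card (P.map (QuotientGroup.mk' K)) = Nat.card P := by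
        have h1 := card_map_mul_card_inf_ker (QuotientGroup.mk' K) P
        rw [QuotientGroup.ker_mk', hPK, Subgroup.card_bot, mul_one] at h1
        exact h1
      have hcardEbar : Nat.card (E.map (QuotientGroup.mk' K)) = Nat.card P := by
        have h1 := card_map_mul_card_inf_ker (QuotientGroup.mk' K) E
        rw [QuotientGroup.ker_mk', inf_eq_right.mpr hKE, ← hcardKP, mul_comm] at h1
        exact Nat.eq_of_mul_eq_mul_left Nat.card_pos h1
      have hEbar : E.map (QuotientGroup.mk' K) = P.map (QuotientGroup.mk' K) :=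
        (eq_of_le_of_card_ge (Subgroup.map_mono hPE) (by rw [hcardEbar, hcardPbar])).symm
      have hĒp : IsPGroup p (E.map (QuotientGroup.mk' K)) := by
        rw [hEbar]; exact hPp.map _
      apply ss_of_normal_pSubgroup p (E.map (QuotientGroup.mk' K)) hĒp
        (Helper9.ss_of_mulEquiv (QuotientGroup.quotientQuotientEquivQuotient K E hKE).symm hGE)
      by_cases hcyc : IsCyclic P
      · left
        rw [hEbar]
        exact isCyclic_of_surjective ((QuotientGroup.mk' K).subgroupMap P)
          (MonoidHom.subgroupMap_surjective _ _)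
      · right
        obtain ⟨D, hDP, hD1, hD2, hH⟩ := h p hp P hPE hPp hPnd hcyc
        obtain ⟨k, hk⟩ := IsPGroup.iff_card.mp (hPp.to_le hDP)
        have hk1 : 1 ≤ k := by
          by_contra hk0
          have h0 : k = 0 := by omega
          rw [hk, h0] at hD1
          simp at hD1
        refine ⟨k, hk1, by rw [hcardEbar, ← hk]; exact hD2, ?_⟩
        intro Fb hFb hFbcard
        obtain ⟨F, hFdef⟩ : ∃ F : Subgroup G, F = Fb.comap (QuotientGroup.mk' K) ⊓ P := ⟨_, rfl⟩
        have hFP : F ≤ P := hFdef ▸ inf_le_right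
        have hFmap : F.map (QuotientGroup.mk' K) = Fb := by
          apply le_antisymm
          · rintro _ ⟨x, hx, rfl⟩
            rw [hFdef] at hx
            exact hx.1
          · intro y hy
            have hyP : y ∈ P.map (QuotientGroup.mk' K) := hEbar ▸ hFb hy
            obtain ⟨x, hx, rfl⟩ := hyP
            exact ⟨x, hFdef ▸ ⟨hy, hx⟩, rfl⟩
        have hFcard : Nat.card F = Nat.card Fb := by
          have h1 := card_map_mul_card_inf_ker (QuotientGroup.mk' K) F
          rw [QuotientGroup.ker_mk', hFmap] at h1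
          have h2 : F ⊓ K = ⊥ := le_bot_iff.mp (hPK ▸ inf_le_inf_right K hFP)
          rw [h2, Subgroup.card_bot, mul_one] at h1
          exact h1.symm
        have hHF := hH F hFP (by rw [hFcard, hk]; exact hFbcard)
        have hPnF : P ≤ normalizer (F : Set G) := le_normalizer_of_hSub hPp hFP hHF
        refine ⟨fun xb hxb gb => ?_⟩
        obtain ⟨g, rfl⟩ := hfs gb
        rw [← hFmap] at hxb ⊢
        obtain ⟨x, hx, rfl⟩ := hxb
        -- Sylow conjugacy in `E`
        have hQ' : IsPGroup p ((P.map (MulAut.conj g).toMonoidHom).subgroupOf E) :=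
          (hPp.map _).comap_subtype
        obtain ⟨y, -, hy⟩ := exists_conj_mem_sylow_of_le P₁ ⊤ le_top
          ((P.map (MulAut.conj g).toMonoidHom).subgroupOf E) hQ' le_top
        have hnP : ∀ u ∈ P, (y : G) * g * u * ((y : G) * g)⁻¹ ∈ P := by
          intro u hu
          have hq : (⟨g * u * g⁻¹, hEn.conj_mem u (hPE hu) g⟩ : E) ∈
              (P.map (MulAut.conj g).toMonoidHom).subgroupOf E := by
            rw [mem_subgroupOf]
            exact conj_mem_map_conj P g hu
          have h1 := hy _ hq
          have h2 : (y : G) * (g * u * g⁻¹) * (y : G)⁻¹ ∈ P := by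
            rw [hPdef]
            exact ⟨_, h1, rfl⟩
          have h3 : (y : G) * g * u * ((y : G) * g)⁻¹ = (y : G) * (g * u * g⁻¹) * (y : G)⁻¹ := by
            group
          rw [h3]
          exact h2
        have hnx : (y : G) * g * x * ((y : G) * g)⁻¹ ∈ F := by
          apply hHF ((y : G) * g)
          exact ⟨conj_mem_map_conj F _ hx, hPnF (hnP x (hFP hx))⟩
        have hyb : (QuotientGroup.mk' K) (y : G) ∈ P.map (QuotientGroup.mk' K) :=
          hEbar ▸ Subgroup.mem_map_of_mem _ y.2
        obtain ⟨u, hu, huy⟩ := hyb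
        have h4 : (QuotientGroup.mk' K) g * (QuotientGroup.mk' K) x * ((QuotientGroup.mk' K) g)⁻¹ =
            (QuotientGroup.mk' K) (u⁻¹ * ((y : G) * g * x * ((y : G) * g)⁻¹) * u) := by
          simp only [map_mul, map_inv]
          rw [huy]
          group
        rw [h4]
        apply Subgroup.mem_map_of_mem
        have h5 := (mem_normalizer_iff.mp (hPnF (P.inv_mem hu)) _).mp hnx
        simpa using h5
    -- induction
    have hKcard : Nat.card K ≤ n := by
      have hP1 : 1 < Nat.card P := by
        by_contra hcon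
        have h1 : Nat.card P = 1 := by
          have := Nat.card_pos (α := P)
          omega
        rw [h1, mul_one] at hcardKP
        rw [← hcardKP] at hpE
        exact (Nat.Prime.coprime_iff_not_dvd hp).mp hKcop.symm hpE
      have hK0 : 0 < Nat.card K := Nat.card_pos
      nlinarith
    refine @ih K hKn hKcard hss ?_
    intro r hr R hRK hRr hRnd hRcyc
    refine h r hr R (hRK.trans hKE) hRr ?_ hRcyc
    intro hdvd
    rw [← Subgroup.relIndex_mul_relIndex R K E hRK hKE] at hdvd
    rcases (Nat.Prime.dvd_mul hr).mp hdvd with h1 | h1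
    · exact hRnd h1
    · have hrel : K.relIndex E = Nat.card P := by
        have h2 := Subgroup.relIndex_mul_relIndex ⊥ K E bot_le hKE
        rw [Subgroup.relIndex_bot_left, Subgroup.relIndex_bot_left, ← hcardKP] at h2
        exact Nat.eq_of_mul_eq_mul_left Nat.card_pos h2
      rw [hrel, ha] at h1
      have hrp : r = p := (Nat.prime_dvd_prime_iff_eq hr hp).mp (hr.dvd_of_dvd_pow h1)
      subst hrp
      apply hRcyc
      have hRbot : R = ⊥ := by
        obtain ⟨j, hj⟩ := IsPGroup.iff_card.mp hRr
        have hd : Nat.card R ∣ Nat.card K := Subgroup.card_dvd_of_le hRK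
        rw [hj] at hd
        rcases Nat.eq_zero_or_pos j with h0 | h0
        · rw [h0, pow_zero] at hj
          exact Subgroup.card_eq_one.mp hj
        · exfalso
          exact (Nat.Prime.coprime_iff_not_dvd hr).mp hKcop.symm ((dvd_pow_self r h0.ne').trans hd)
      subst hRbot
      infer_instance

/-- Let G be a finite group and E a normal subgroup with G/E supersolvable. Suppose that for every prime p and every non-cyclic Sylow p-subgroup P of E there is a subgroup D of P with 1 < |D| < |P| such that every subgroup F of P of order |D|, and also every subgroup F of P of order 4 when |D| = 2, satisfies g F g⁻¹ ∩ N_G(F) ≤ F for all g ∈ G. Then G is supersolvable. -/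
theorem result {G : Type*} [Group G] [Finite G] (E : Subgroup G) [E.Normal] (hGE : Cfsg.IsSupersolvable (G ⧸ E))
    (h : ∀ (p : ℕ), p.Prime → ∀ P : Subgroup G, P ≤ E → IsPGroup p P → ¬ p ∣ P.relIndex E → ¬ IsCyclic ↥P →
      ∃ D : Subgroup G, D ≤ P ∧ 1 < Nat.card D ∧ Nat.card D < Nat.card P ∧
        ∀ F : Subgroup G, F ≤ P → (Nat.card F = Nat.card D ∨ (Nat.card D = 2 ∧ Nat.card F = 4)) →
          ∀ g : G, F.map (MulAut.conj g).toMonoidHom ⊓ Subgroup.normalizer (F : Set G) ≤ F) :
    Cfsg.IsSupersolvable G := by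
  exact main_aux (Nat.card E) E le_rfl hGE h

end Cfsg.Agent.S3032
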