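import Cfsg.Statements.S3079
import Cfsg.Agent.Helper51.ZJClosed2

set_option autoImplicit false
open Cfsg

namespace Cfsg.Agent.S3079

/-- Glauberman's ZJ-Theorem for strongly closed subgroups, p odd. Let G be a finite group that is p-stable in the normalizer form (for every p-subgroup U and g ∈ N_G(U) with [U, g, g] = 1, the image of g lies in O_p(N_G(U)/C_G(U))), with C_G(O_p(G)) ≤ O_p(G), let P be a Sylow p-subgroup and D a subgroup of P strongly closed in P with respect to G. Then Z(J(D)) is normal in G, where J(D) is generated by the abelian subgroups of D of largest order; and so is Ω₁(Z(J_e(D))), where J_e(D) is generated by the elementary abelian subgroups of D of largest order. -/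
theorem result {G : Type*} [Group G] [Finite G] {p : ℕ} [Fact p.Prime] (hp : p ≠ 2) (P : Sylow p G) (D : Subgroup G) (hD : Cfsg.IsStronglyClosed D (P : Subgroup G)) (hst : Cfsg.IsNormalizerPStable p G) (hc : Subgroup.centralizer ((Cfsg.pCore p G : Subgroup G) : Set G) ≤ Cfsg.pCore p G) : (Cfsg.centerThompsonAOf D).Normal ∧ (Cfsg.omegaOne p (Cfsg.centerThompsonOf p D)).Normal := by
  have hstab : ∀ (V : Subgroup G) [V.Normal], IsPGroup p V → ∀ A : Subgroup G,
      A ≤ (P : Subgroup G) → ⁅⁅V, A⁆, A⁆ = ⊥ → ∀ a ∈ A,
      (QuotientGroup.mk a : G ⧸ Subgroup.centralizer (V : Set G)) ∈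
        pCore p (G ⧸ Subgroup.centralizer (V : Set G)) :=
    fun V _ hVp A _ hquad a ha =>
      Cfsg.Agent.Helper51.stable_of_isNormalizerPStable hst V hVp A hquad a ha
  constructor
  · rw [Cfsg.Agent.Helper11.centerThompsonAOf_eq_sInf]
    exact Cfsg.Agent.Helper51.zj_closed_generic hp hc P D hD hstab
      (fun A : Subgroup G => IsMulCommutative A) (fun A h => h)
      Cfsg.Agent.Helper11.isMulCommutative_bot_subgroup
      (fun φ A hA => by have := hA; infer_instance) (fun A A' _ h _ _ => h)
  · rw [Cfsg.Agent.Helper51.omegaOne_centerThompsonOf_eq_sInf]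
    exact Cfsg.Agent.Helper51.zj_closed_generic hp hc P D hD hstab
      (fun A : Subgroup G => IsElementaryAbelian p A) (fun A h => h.1)
      (Cfsg.Agent.Helper51.isElementaryAbelian_bot p)
      (fun φ A hA => Cfsg.Agent.Helper51.isElementaryAbelian_map p φ A hA)
      (fun A A' hA hA' _ hexp => Cfsg.Agent.Helper51.isElementaryAbelian_of_exponent p A A' hA hA' hexp)

end Cfsg.Agent.S3079
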