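import Cfsg.Statements.S3179
import Cfsg.Agent.Helper38.GL52
import Cfsg.Agent.Helper38.SU3Graph
import Cfsg.Agent.Helper60.SzGroup
import Cfsg.Agent.Helper5.UnitPSU

set_option autoImplicit false
open Cfsg

namespace Cfsg.Agent.S3179

/-- Let X be a section of the general linear group GL(5, 2), that is, a quotient of a subgroup of it. If X is isomorphic to PSL(2, 2^n) for some n ≥ 2, to a Suzuki group over the field with 2^(2m+1) elements for some m ≥ 1, or to PSU(3, 2^n) for some n ≥ 2, then X is isomorphic to PSL(2, 4). -/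
theorem result {H : Subgroup (GL (Fin 5) (ZMod 2))}
    {K : Subgroup ↥H} [K.Normal]
    (hX : (∃ (n : ℕ) (F : Type) (_ : Field F) (_ : Fintype F), 2 ≤ n ∧ Fintype.card F = 2 ^ n ∧
        Nonempty (↥H ⧸ K ≃* Matrix.ProjectiveSpecialLinearGroup (Fin 2) F)) ∨
      (∃ (m : ℕ) (F : Type) (_ : Field F) (_ : Fintype F), 1 ≤ m ∧ Fintype.card F = 2 ^ (2 * m + 1) ∧
        Nonempty (↥H ⧸ K ≃* ↥(Cfsg.Lie.Sz F (2 ^ (m + 1))))) ∨
      (∃ (n : ℕ) (F : Type) (_ : Field F) (_ : Fintype F), 2 ≤ n ∧ Fintype.card F = 4 ^ n ∧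
        Nonempty (↥H ⧸ K ≃* Cfsg.PSU 3 F (2 ^ n)))) :
    ∃ (F : Type) (_ : Field F) (_ : Fintype F), Fintype.card F = 4 ∧
      Nonempty (↥H ⧸ K ≃* Matrix.ProjectiveSpecialLinearGroup (Fin 2) F) := by
  classical
  have hGL := Cfsg.Agent.Helper38.card_GL5_two
  have hdvd : Nat.card (↥H ⧸ K) ∣ 9999360 := by
    rw [← hGL]
    exact (Subgroup.card_quotient_dvd_card K).trans (Subgroup.card_subgroup_dvd_card H)
  rcases hX with ⟨n, F, _, _, hn, hF, ⟨e⟩⟩ | ⟨m, F, _, _, hm, hF, ⟨e⟩⟩ | ⟨n, F, _, _, hn, hF, ⟨e⟩⟩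
  · -- `PSL_2(2^n)`
    haveI : CharP F 2 := Cfsg.Agent.Helper44.charP_of_card 2 n hF
    have h2 : (2 : F) = 0 := by
      have := CharP.cast_eq_zero F 2
      exact_mod_cast this
    have hcard : Nat.card (Matrix.ProjectiveSpecialLinearGroup (Fin 2) F) =
        2 ^ n * ((2 ^ n) ^ 2 - 1) := by
      have := Cfsg.Agent.Helper5.card_PSL2_mul (F := F)
      rw [Cfsg.Agent.Helper5.center_SL2_eq_bot h2, Subgroup.card_bot, mul_one, hF] at this
      exact this
    rw [Nat.card_congr e.toEquiv, hcard] at hdvd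
    have hn10 : n ≤ 10 := by
      by_contra hcon
      push Not at hcon
      have h11 : 2 ^ 11 ∣ 2 ^ n := pow_dvd_pow 2 hcon
      have : 2 ^ 11 ∣ 9999360 := (h11.trans (Dvd.intro _ rfl)).trans hdvd
      norm_num at this
    interval_cases n
    · exact ⟨F, _, _, by rw [hF]; norm_num, ⟨e⟩⟩
    · exfalso
      obtain ⟨x, hx9, hx3⟩ := Cfsg.Agent.Helper38.psl28_order_nine (F := F) (by rw [hF]; norm_num)
      apply hx3
      have h3 := Cfsg.Agent.Helper38.section_no_order_nine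
        Cfsg.Agent.Helper38.gl52_pow_three_eq_one H K (e.symm x)
        (by rw [← map_pow, hx9, map_one])
      have h' := congrArg e h3
      rw [map_pow, e.apply_symm_apply, map_one] at h'
      exact h'
    all_goals (exfalso; norm_num at hdvd)
  · -- Suzuki groups
    haveI : CharP F 2 := Cfsg.Agent.Helper44.charP_of_card 2 (2 * m + 1) hF
    haveI := Cfsg.Agent.Helper60.szField_of_card hF
    have hcard := Cfsg.Agent.Helper60.card_Sz (F := F) (n := m + 1)
    rw [Nat.card_congr e.toEquiv, hcard, hF] at hdvd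
    have hm2 : m ≤ 2 := by
      by_contra hcon
      push Not at hcon
      have h14 : 2 ^ 11 ∣ (2 ^ (2 * m + 1)) ^ 2 := by
        rw [← pow_mul]
        exact pow_dvd_pow 2 (by omega)
      have : 2 ^ 11 ∣ 9999360 :=
        ((h14.trans (Dvd.intro _ rfl)).trans (Dvd.intro _ rfl)).trans hdvd
      norm_num at this
    exfalso
    interval_cases m <;> norm_num at hdvd
  · -- `PSU_3(2^n)`
    have hF' : Fintype.card F = (2 ^ n) ^ 2 := by
      rw [hF, ← pow_mul, mul_comm, pow_mul]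
      norm_num
    have hsu := Cfsg.Agent.Helper38.su3_card hF'
    have hcen := Cfsg.Agent.Helper5.card_center_SU hF' 3 (by norm_num)
    have hmul := Subgroup.card_eq_card_quotient_mul_card_subgroup
      (Subgroup.center (Cfsg.SU 3 F (2 ^ n)))
    rw [hsu, hcen] at hmul
    rw [Nat.card_congr e.toEquiv] at hdvd
    have hn3 : n ≤ 3 := by
      by_contra hcon
      push Not at hcon
      have h12 : 2 ^ 11 ∣ (2 ^ n) ^ 3 := by
        rw [← pow_mul]
        exact pow_dvd_pow 2 (by omega)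
      have h12' : 2 ^ 11 ∣ Nat.card (Cfsg.PSU 3 F (2 ^ n)) * Nat.gcd 3 (2 ^ n + 1) := by
        rw [← hmul]
        exact (h12.trans (Dvd.intro _ rfl)).trans (Dvd.intro _ rfl)
      have hcop : Nat.Coprime (2 ^ 11) (Nat.gcd 3 (2 ^ n + 1)) := by
        apply Nat.Coprime.coprime_dvd_right (Nat.gcd_dvd_left 3 _)
        norm_num
      have := (hcop.dvd_of_dvd_mul_right h12').trans hdvd
      norm_num at this
    exfalso
    interval_cases n
    · have hnum : (2 ^ 2) ^ 3 * ((2 ^ 2) ^ 2 - 1) * ((2 ^ 2) ^ 3 + 1) = 62400 := by norm_num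
      have hg : Nat.gcd 3 (2 ^ 2 + 1) = 1 := by norm_num
      rw [hnum, hg, mul_one] at hmul
      rw [← hmul] at hdvd
      norm_num at hdvd
    · have h3 := Nat.mul_dvd_mul_right hdvd 3
      have hnum : (2 ^ 3) ^ 3 * ((2 ^ 3) ^ 2 - 1) * ((2 ^ 3) ^ 3 + 1) = 16547328 := by norm_num
      have hg : Nat.gcd 3 (2 ^ 3 + 1) = 3 := by norm_num
      rw [hnum, hg] at hmul
      rw [← hmul] at h3
      norm_num at h3

end Cfsg.Agent.S3179
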