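import Cfsg.Statements.S3361
import Mathlib
import Cfsg.Agent.Helper12.SemiLin
import Cfsg.Agent.Helper12.NearSL2

set_option autoImplicit false
open Cfsg

namespace Cfsg.Agent.S3361

/-- Let q be a prime and V a non-trivial finite vector space over the field with q elements, and let G be a finite solvable group acting faithfully and linearly on V and regularly on the non-zero vectors (transitively, with only the identity fixing a non-zero vector). Then either V can be identified with the additive group of a finite field F so that every element of G acts as x ↦ a·σ(x) (a ∈ F, σ a field automorphism), or V has 5^2, 7^2, 11^2 or 23^2 elements. Moreover, if q ≠ 2 then G has a normal subgroup of index 2, except that when V has 25 elements G may be isomorphic to SL(2,3) and when V has 121 elements G may be isomorphic to SL(2,3) × C₅. -/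
theorem result
    (q : ℕ) [Fact q.Prime] {V : Type*} [AddCommGroup V] [Module (ZMod q) V] [Finite V] [Nontrivial V]
    {G : Type*} [Group G] [Finite G] (hsol : Group.IsSolvable G)
    (ρ : G →* (V ≃ₗ[ZMod q] V)) (hρ : Function.Injective ρ)
    (htrans : ∀ v w : V, v ≠ 0 → w ≠ 0 → ∃ g : G, ρ g v = w)
    (hreg : ∀ v : V, v ≠ 0 → ∀ g : G, ρ g v = v → g = 1) :
    ((∃ (F : Type) (_ : Field F) (_ : Fintype F) (e : V ≃+ F),
        ∀ g : G, ∃ (a : F) (σ : F ≃+* F), ∀ v : V, e (ρ g v) = a * σ (e v)) ∨
      Nat.card V ∈ ({25, 49, 121, 529} : Set ℕ)) ∧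
    (q ≠ 2 → (∃ N : Subgroup G, N.Normal ∧ N.index = 2) ∨
      (Nat.card V = 25 ∧ Nonempty (G ≃* Matrix.SpecialLinearGroup (Fin 2) (ZMod 3))) ∨
      (Nat.card V = 121 ∧ Nonempty (G ≃* Matrix.SpecialLinearGroup (Fin 2) (ZMod 3) × Multiplicative (ZMod 5)))) := by
  classical
  have hq : q.Prime := Fact.out
  haveI : Finite (V ≃ₗ[ZMod q] V) := Cfsg.Agent.Helper12.finite_linEquiv
  haveI := hsol
  -- the image group
  have heG : ∀ g : G, ((MonoidHom.ofInjective hρ g : ρ.range) : V ≃ₗ[ZMod q] V) = ρ g :=
    fun g => rfl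
  have hregH : ∀ v w : V, v ≠ 0 → w ≠ 0 →
      ∃! h : ρ.range, (h : V ≃ₗ[ZMod q] V) v = w := by
    intro v w hv hw
    obtain ⟨g, hg⟩ := htrans v w hv hw
    refine ⟨MonoidHom.ofInjective hρ g, hg, ?_⟩
    intro h hh
    obtain ⟨g', rfl⟩ := (MonoidHom.ofInjective hρ).surjective h
    have hh' : ρ g' v = w := hh
    have h1 : ρ (g⁻¹ * g') v = v := by
      rw [map_mul, LinearEquiv.mul_apply, hh', ← hg, ← LinearEquiv.mul_apply, ← map_mul,
        inv_mul_cancel, map_one]
      rfl
    have h2 := hreg v hv _ h1
    rw [inv_mul_eq_one] at h2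
    rw [h2]
  have hsolvH : Group.IsSolvable ρ.range :=
    solvable_of_surjective (f := (MonoidHom.ofInjective hρ).toMonoidHom)
      (MonoidHom.ofInjective hρ).surjective
  have hcardH := Cfsg.Agent.Helper12.card_add_one_of_reg ρ.range hregH
  have hcardG : Nat.card G + 1 = Nat.card V := by
    rw [Nat.card_congr (MonoidHom.ofInjective hρ).toEquiv]
    exact hcardH
  have hback : (∃ M : Subgroup ρ.range, M.Normal ∧ M.index = 2) →
      ∃ N : Subgroup G, N.Normal ∧ N.index = 2 := by
    rintro ⟨M, hMn, hM2⟩
    refine ⟨M.comap (MonoidHom.ofInjective hρ).toMonoidHom, hMn.comap _, ?_⟩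
    have h := Subgroup.index_comap_of_surjective (f := (MonoidHom.ofInjective hρ).toMonoidHom) M
      (MonoidHom.ofInjective hρ).surjective
    exact h.trans hM2
  by_cases hI : ∀ A : Subgroup ρ.range, A.Normal → IsCyclic A → ∃ W : Submodule (ZMod q) V,
      W ≠ ⊥ ∧ W ≠ ⊤ ∧ ∀ a ∈ A, ∀ v ∈ W, ((a : ρ.range) : V ≃ₗ[ZMod q] V) v ∈ W
  · -- no irreducible cyclic normal subgroup: the exceptional cases
    obtain ⟨N, hNn, e, hpl, hV, hKc⟩ :=
      Cfsg.Agent.Helper12.type_two_structure ρ.range hregH hI hsolvH
    obtain ⟨hK1, hK4, hK2⟩ := Cfsg.Agent.Helper12.q8_centralizer_facts ρ.range hregH N e hV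
    haveI := hNn
    have hidx := Cfsg.Agent.Helper12.index_centralizer_dvd_of_q8 N e
    have hmul := Subgroup.card_mul_index (Subgroup.centralizer (N : Set ρ.range))
    have harith := Cfsg.Agent.Helper12.near_sl_arith q _ _ hpl
      (by rw [hmul, hcardH, hV]) hK1 hK4 hK2 hidx
    constructor
    · right
      rcases hpl with h | h | h | h
      · have h25 : Nat.card V = 25 := by rw [hV, h]
        rw [h25]; simp
      · have h49 : Nat.card V = 49 := by rw [hV, h]
        rw [h49]; simp
      · have h121 : Nat.card V = 121 := by rw [hV, h]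
        rw [h121]; simp
      · have h529 : Nat.card V = 529 := by rw [hV, h]
        rw [h529]; simp
    · intro _
      rcases harith with ⟨h5, hc, hm⟩ | ⟨h7, hm | hm⟩ | ⟨h11, hc, hm⟩ | ⟨h23, hm⟩
      · right; left
        have h25 : Nat.card V = 25 := by rw [hV, h5]
        have hH24 : Nat.card ρ.range = 24 := by omega
        obtain ⟨f⟩ := Cfsg.Agent.Helper12.sl23_of_card N e hH24 hc
        exact ⟨h25, ⟨(MonoidHom.ofInjective hρ).trans f⟩⟩
      · left
        exact hback (Cfsg.Agent.Helper12.exists_index_two_of_q8_index N e hm)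
      · left
        exact hback (Cfsg.Agent.Helper12.exists_index_two_of_normal_index_pow
          (Subgroup.centralizer (N : Set ρ.range)) 2 (by rw [hm]; norm_num))
      · right; right
        have h121 : Nat.card V = 121 := by rw [hV, h11]
        have hH120 : Nat.card ρ.range = 120 := by omega
        obtain ⟨f⟩ := Cfsg.Agent.Helper12.sl23_prod_of_card N e hH120 hc hKc
        exact ⟨h121, ⟨(MonoidHom.ofInjective hρ).trans f⟩⟩
      · left
        exact hback (Cfsg.Agent.Helper12.exists_index_two_of_q8_index N e hm)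
  · -- an irreducible cyclic normal subgroup: the semilinear case
    push_neg at hI
    obtain ⟨A, hAn, hAcyc, hA⟩ := hI
    have hirr : ∀ W : Submodule (ZMod q) V,
        (∀ a ∈ A, ∀ v ∈ W, ((a : ρ.range) : V ≃ₗ[ZMod q] V) v ∈ W) → W = ⊥ ∨ W = ⊤ := by
      intro W hW
      by_contra hcon
      push_neg at hcon
      obtain ⟨a, ha, v, hv, hn⟩ := hA W hcon.1 hcon.2
      exact hn (hW a ha v hv)
    have hAc : ∀ a ∈ A, ∀ b ∈ A, a * b = b * a := by
      intro a ha b hb
      letI := IsCyclic.commGroup (α := A)
      have h : (⟨a, ha⟩ : A) * ⟨b, hb⟩ = ⟨b, hb⟩ * ⟨a, ha⟩ := mul_comm _ _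
      exact congrArg Subtype.val h
    obtain ⟨F, instF, fintF, e, he⟩ := Cfsg.Agent.Helper12.semilinear_shrink
      (fun (h : ρ.range) (v : V) => (h : V ≃ₗ[ZMod q] V) v)
      (Cfsg.Agent.Helper12.semilinear_of_irred_normal ρ.range A hAn hAc hirr)
    constructor
    · left
      exact ⟨F, instF, fintF, e, fun g => he (MonoidHom.ofInjective hρ g)⟩
    · intro hq2
      left
      have heven : 2 ∣ Nat.card G := by
        have hVq : Nat.card V = q ^ Module.finrank (ZMod q) V := by
          rw [Module.natCard_eq_pow_finrank (K := ZMod q), Nat.card_zmod]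
        have hodd : Odd q := hq.eq_two_or_odd'.resolve_left hq2
        have hodd' : Odd (Nat.card V) := by rw [hVq]; exact hodd.pow
        obtain ⟨k, hk⟩ := hodd'
        omega
      apply Cfsg.Agent.Helper12.exists_index_two_of_semilinear (F := F)
        (fun (g : G) (x : F) => e (ρ g (e.symm x)))
      · intro x
        show e (ρ 1 (e.symm x)) = x
        rw [map_one]
        exact e.apply_symm_apply x
      · intro g g' x
        show e (ρ (g * g') (e.symm x)) = e (ρ g (e.symm (e (ρ g' (e.symm x)))))
        rw [AddEquiv.symm_apply_apply, map_mul, LinearEquiv.mul_apply]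
      · intro g g' hx
        apply hρ
        apply LinearEquiv.ext
        intro v
        have h1 : e (ρ g (e.symm (e v))) = e (ρ g' (e.symm (e v))) := hx (e v)
        rw [AddEquiv.symm_apply_apply] at h1
        exact e.injective h1
      · intro g
        obtain ⟨a, σ, hσ⟩ := he (MonoidHom.ofInjective hρ g)
        refine ⟨a, σ, fun x => ?_⟩
        have h1 := hσ (e.symm x)
        rw [AddEquiv.apply_symm_apply] at h1
        exact h1
      · exact heven

end Cfsg.Agent.S3361
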