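import Cfsg.Statements.S3391
import Cfsg.Agent.S2251
import Cfsg.Agent.Helper6.SzFix
import Cfsg.Agent.Helper60.SzBridge

set_option autoImplicit false
open Cfsg

namespace Cfsg.Agent.S3391

/-- Let q = 2^{2m+1} ≥ 8 and let G be isomorphic to the Suzuki group Sz(q). If G acts faithfully and transitively on a finite set Ω with fixity 2 (every non-identity element fixes at most two points, and some fixes exactly two), then either |Ω| = q² + 1 and the action is 2-transitive, or |Ω| = q²(q² + 1) and the point stabilizers have order q − 1. -/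
theorem result {G : Type*} [Group G] [Finite G] (F : Type) [Field F] [Fintype F] (m : ℕ) (hm : 1 ≤ m) (hF : Fintype.card F = 2 ^ (2 * m + 1))
    (e : G ≃* ↥(Cfsg.Lie.Sz F (2 ^ (m + 1)))) {Ω : Type*} [Fintype Ω] [MulAction G Ω] [FaithfulSMul G Ω] (htr : MulAction.IsPretransitive G Ω)
    (hfix : ∀ g : G, g ≠ 1 → Nat.card (MulAction.fixedBy Ω g) ≤ 2) (hex : ∃ g : G, g ≠ 1 ∧ Nat.card (MulAction.fixedBy Ω g) = 2) :
    (Fintype.card Ω = Fintype.card F ^ 2 + 1 ∧ MulAction.IsMultiplyPretransitive G Ω 2) ∨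
    (Fintype.card Ω = Fintype.card F ^ 2 * (Fintype.card F ^ 2 + 1) ∧ ∀ α : Ω, Nat.card (MulAction.stabilizer G α) = Fintype.card F - 1) := by
  have hchar := Cfsg.Agent.Helper6.sz_charP hF
  let ψ : G ≃* Cfsg.Sz F m := e.trans (Cfsg.Agent.Helper60.szBridge hm hF)
  let act : MulAction (Cfsg.Sz F m) Ω := MulAction.compHom Ω (ψ.symm : Cfsg.Sz F m →* G)
  have hsmul : ∀ (g₀ : Cfsg.Sz F m) (ω : Ω), g₀ • ω = ψ.symm g₀ • ω := fun _ _ => rfl
  have htr' : MulAction.IsPretransitive (Cfsg.Sz F m) Ω := ⟨fun a b => by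
    obtain ⟨g, hg⟩ := htr.exists_smul_eq a b
    exact ⟨ψ g, by rw [hsmul, ψ.symm_apply_apply]; exact hg⟩⟩
  have hfb : ∀ g₀ : Cfsg.Sz F m, MulAction.fixedBy Ω g₀ = MulAction.fixedBy Ω (ψ.symm g₀) :=
    fun g₀ => rfl
  have hsub : Cfsg.Agent.Helper6.SzSubHyp F m := fun M hM => Cfsg.Agent.S2251.result hm hF M hM
  have hfix' : ∀ g₀ : Cfsg.Sz F m, g₀ ≠ 1 → Nat.card (MulAction.fixedBy Ω g₀) ≤ 2 := by
    intro g₀ hg₀
    rw [hfb]
    apply hfix
    intro h
    apply hg₀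
    have := congrArg ψ h
    rwa [ψ.apply_symm_apply, map_one] at this
  have hex' : ∃ g₀ : Cfsg.Sz F m, g₀ ≠ 1 ∧ Nat.card (MulAction.fixedBy Ω g₀) = 2 := by
    obtain ⟨g, hg1, hg⟩ := hex
    refine ⟨ψ g, ?_, ?_⟩
    · intro h
      apply hg1
      have := congrArg ψ.symm h
      rwa [ψ.symm_apply_apply, map_one] at this
    · rw [hfb, ψ.symm_apply_apply]
      exact hg
  rcases Cfsg.Agent.Helper6.sz_fixity_two hm hF hsub hfix' hex' with ⟨h1, h2⟩ | ⟨h1, h2⟩
  · left
    refine ⟨h1, ?_⟩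
    rw [MulAction.is_two_pretransitive_iff]
    intro a b c d hab hcd
    obtain ⟨g₀, hg⟩ := h2 a b c d hab hcd
    exact ⟨ψ.symm g₀, hg⟩
  · right
    refine ⟨h1, ?_⟩
    intro α
    rw [← h2 α]
    apply Nat.card_congr
    exact
      { toFun := fun g => ⟨ψ g.1, by
          rw [MulAction.mem_stabilizer_iff, hsmul, ψ.symm_apply_apply]
          exact MulAction.mem_stabilizer_iff.1 g.2⟩
        invFun := fun g₀ => ⟨ψ.symm g₀.1, by
          rw [MulAction.mem_stabilizer_iff]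
          exact MulAction.mem_stabilizer_iff.1 g₀.2⟩
        left_inv := fun g => Subtype.ext (ψ.symm_apply_apply g.1)
        right_inv := fun g₀ => Subtype.ext (ψ.apply_symm_apply g₀.1) }

end Cfsg.Agent.S3391
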