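import Cfsg.Statements.S3501
import Cfsg.Agent.Helper59.MinNormal

set_option autoImplicit false
set_option linter.style.haveILetI false
set_option linter.unusedSectionVars false
set_option linter.unusedVariables false
open Cfsg

namespace Cfsg.Agent.S3501

open MulAction Cfsg.Agent.Helper59

/-- A sharply 2-transitive finite group has a single class of derangements. -/
theorem one_class_of_sharp {G Ω : Type*} [Group G] [Finite G] [Fintype Ω] [MulAction G Ω]
    (hΩ : 2 ≤ Fintype.card Ω)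
    (h2 : IsMultiplyPretransitive G Ω 2)
    (hsharp : ∀ g : G, g ≠ 1 → ∀ a b : Ω, a ≠ b → g • a = a → g • b ≠ b) :
    Nat.card {c : ConjClasses G // ∃ g : G, ConjClasses.mk g = c ∧ ∀ ω : Ω, g • ω ≠ ω} = 1 := by
  classical
  haveI := Fintype.ofFinite G
  obtain ⟨α, β, hαβ⟩ : ∃ a b : Ω, a ≠ b := by
    haveI := Fintype.one_lt_card_iff_nontrivial.mp (by omega : 1 < Fintype.card Ω)
    exact exists_pair_ne Ω
  have h2' : ∀ a b c d : Ω, a ≠ b → c ≠ d → ∃ g : G, g • a = c ∧ g • b = d :=
    fun a b c d hab hcd => is_two_pretransitive_iff.mp h2 hab hcd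
  haveI htrans : IsPretransitive G Ω := ⟨fun a b => by
    by_cases hab : a = b
    · exact ⟨1, by rw [one_smul, hab]⟩
    · obtain ⟨g, hg, _⟩ := h2' a b b a hab (Ne.symm hab)
      exact ⟨g, hg⟩⟩
  set n := Fintype.card Ω with hn
  let D : Finset G := Finset.univ.filter (fun g => ∀ ω : Ω, g • ω ≠ ω)
  -- pointwise fixed point count
  have hpt : ∀ g : G, Nat.card (fixedBy Ω g) + (if (∀ ω : Ω, g • ω ≠ ω) then 1 else 0) =
      1 + (if g = 1 then (n - 1) else 0) := by
    intro g
    by_cases hg1 : g = 1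
    · subst hg1
      have h1 : ¬ (∀ ω : Ω, (1 : G) • ω ≠ ω) := fun h => h α (one_smul _ _)
      have h3 : Nat.card (fixedBy Ω (1 : G)) = n := by
        rw [hn, ← Nat.card_eq_fintype_card]
        exact Nat.card_congr (Equiv.subtypeUnivEquiv (fun ω => one_smul G ω))
      rw [if_neg h1, if_pos rfl, h3]
      omega
    · rw [if_neg hg1]
      by_cases hder : ∀ ω : Ω, g • ω ≠ ω
      · rw [if_pos hder]
        have : Nat.card (fixedBy Ω g) = 0 := by
          rw [Nat.card_eq_zero]
          left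
          exact ⟨fun ⟨ω, hω⟩ => hder ω hω⟩
        omega
      · rw [if_neg hder]
        push Not at hder
        obtain ⟨ω, hω⟩ := hder
        have : Nat.card (fixedBy Ω g) = 1 := by
          rw [Nat.card_eq_one_iff_unique]
          refine ⟨⟨fun ⟨a, ha⟩ ⟨b, hb⟩ => ?_⟩, ⟨⟨ω, hω⟩⟩⟩
          by_contra hab
          exact hsharp g hg1 a b (fun h => hab (Subtype.ext h)) ha hb
        omega
  have hB : ∑ g : G, Nat.card (fixedBy Ω g) = Nat.card G := by
    rw [burnside_nat]
    haveI : Subsingleton (orbitRel.Quotient G Ω) :=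
      (pretransitive_iff_subsingleton_quotient G Ω).mp htrans
    haveI : Nonempty (orbitRel.Quotient G Ω) := ⟨Quotient.mk'' α⟩
    rw [Nat.card_unique, one_mul]
  have hDcard : D.card = n - 1 := by
    have hsum := Finset.sum_congr (rfl : (Finset.univ : Finset G) = Finset.univ)
      (fun g _ => hpt g)
    rw [Finset.sum_add_distrib, Finset.sum_add_distrib, hB, Finset.sum_boole,
      Finset.sum_ite_eq' ] at hsum
    simp only [Finset.mem_univ, if_true, Finset.sum_const, Finset.card_univ, smul_eq_mul,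
      mul_one, Nat.cast_id] at hsum
    rw [Nat.card_eq_fintype_card] at hsum
    show (Finset.univ.filter (fun g : G => ∀ ω : Ω, g • ω ≠ ω)).card = n - 1
    omega
  -- |G| ≥ n * n - n
  have hGcard : n * n - n ≤ Fintype.card G := by
    have hsub : (Finset.univ : Finset Ω).offDiag ⊆
        (Finset.univ : Finset G).image (fun g => (g • α, g • β)) := by
      intro p hp
      rw [Finset.mem_offDiag] at hp
      obtain ⟨g, hg1, hg2⟩ := h2' α β p.1 p.2 hαβ hp.2.2
      rw [Finset.mem_image]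
      exact ⟨g, Finset.mem_univ _, Prod.ext hg1 hg2⟩
    have h1 := Finset.card_le_card hsub
    rw [Finset.offDiag_card, Finset.card_univ] at h1
    exact h1.trans Finset.card_image_le
  -- a derangement
  obtain ⟨d, hd⟩ : ∃ d : G, ∀ ω : Ω, d • ω ≠ ω := by
    have : 0 < D.card := by omega
    obtain ⟨d, hdD⟩ := Finset.card_pos.mp this
    exact ⟨d, (Finset.mem_filter.mp hdD).2⟩
  let I : Finset G := Finset.univ.image (fun g : G => g * d * g⁻¹)
  have hID : I ⊆ D := by
    intro x hx
    obtain ⟨g, _, rfl⟩ := Finset.mem_image.mp hx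
    refine Finset.mem_filter.mpr ⟨Finset.mem_univ _, fun ω hω => ?_⟩
    apply hd (g⁻¹ • ω)
    calc d • g⁻¹ • ω = g⁻¹ • ((g * d * g⁻¹) • ω) := by simp only [mul_smul, inv_smul_smul]
      _ = g⁻¹ • ω := by rw [hω]
  have hfib : ∀ a ∈ (Finset.univ : Finset G).image (fun g : G => g * d * g⁻¹),
      ((Finset.univ : Finset G).filter (fun x => x * d * x⁻¹ = a)).card ≤ n := by
    intro a ha
    rw [hn, ← Finset.card_univ (α := Ω)]
    apply Finset.card_le_card_of_injOn (fun x : G => x • α) (fun _ _ => Finset.mem_univ _)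
    intro x hx x' hx' hxx'
    have hx1 : x * d * x⁻¹ = a := (Finset.mem_filter.mp hx).2
    have hx'1 : x' * d * x'⁻¹ = a := (Finset.mem_filter.mp hx').2
    have hxx'' : x • α = x' • α := hxx'
    by_contra hne
    have hu1 : x'⁻¹ * x ≠ 1 := by
      intro h
      apply hne
      have : x = x' * (x'⁻¹ * x) := by group
      rw [this, h, mul_one]
    have hua : (x'⁻¹ * x) • α = α := by
      rw [mul_smul, hxx'', inv_smul_smul]
    have hcomm : (x'⁻¹ * x) * d = d * (x'⁻¹ * x) := by
      have h3 : x * d * x⁻¹ = x' * d * x'⁻¹ := by rw [hx1, hx'1]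
      calc (x'⁻¹ * x) * d = x'⁻¹ * (x * d * x⁻¹) * x := by group
        _ = x'⁻¹ * (x' * d * x'⁻¹) * x := by rw [h3]
        _ = d * (x'⁻¹ * x) := by group
    apply hsharp (x'⁻¹ * x) hu1 α (d • α) (fun h => hd α h.symm) hua
    rw [← mul_smul, hcomm, mul_smul, hua]
  have hle := Finset.card_le_mul_card_image (Finset.univ : Finset G) n hfib
  rw [Finset.card_univ] at hle
  have hIcard : D.card ≤ I.card := by
    rw [hDcard]
    have h3 : n * n - n ≤ n * I.card := hGcard.trans hle
    have h4 : n * (n - 1) ≤ n * I.card := by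
      rw [Nat.mul_sub, mul_one]
      exact h3
    exact Nat.le_of_mul_le_mul_left h4 (by omega)
  have hIeq : I = D := Finset.eq_of_subset_of_card_le hID hIcard
  have hall : ∀ g : G, (∀ ω : Ω, g • ω ≠ ω) → ConjClasses.mk g = ConjClasses.mk d := by
    intro g hg
    have hgD : g ∈ D := Finset.mem_filter.mpr ⟨Finset.mem_univ _, hg⟩
    rw [← hIeq] at hgD
    obtain ⟨x, _, hx⟩ := Finset.mem_image.mp hgD
    rw [ConjClasses.mk_eq_mk_iff_isConj]
    exact (isConj_iff.mpr ⟨x, hx⟩).symm
  rw [Nat.card_eq_one_iff_unique]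
  refine ⟨⟨?_⟩, ⟨⟨ConjClasses.mk d, d, rfl, hd⟩⟩⟩
  rintro ⟨c, g, hg, hgd⟩ ⟨c', g', hg', hgd'⟩
  apply Subtype.ext
  show c = c'
  rw [← hg, ← hg', hall g hgd, hall g' hgd']

/-- Let a finite group G act faithfully and primitively on a finite set Ω with at least two points, and suppose G is not almost simple (it has no non-abelian simple normal subgroup with trivial centralizer). Then the derangements of G form a single conjugacy class if and only if G is sharply 2-transitive (2-transitive, and no non-identity element fixes two points). -/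
theorem result {G : Type*} [Group G] [Finite G] {Ω : Type*} [Fintype Ω] [MulAction G Ω] [FaithfulSMul G Ω] (hΩ : 2 ≤ Fintype.card Ω) (hprim : MulAction.IsPreprimitive G Ω) (hnas : ¬ ∃ T : Subgroup G, T.Normal ∧ IsSimpleGroup T ∧ ¬ IsMulCommutative T ∧ Subgroup.centralizer (T : Set G) = ⊥) :
    Nat.card {c : ConjClasses G // ∃ g : G, ConjClasses.mk g = c ∧ ∀ ω : Ω, g • ω ≠ ω} = 1 ↔ (MulAction.IsMultiplyPretransitive G Ω 2 ∧ ∀ g : G, g ≠ 1 → ∀ a b : Ω, a ≠ b → g • a = a → g • b ≠ b) := by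
  classical
  constructor
  · intro hκ
    have hΩ' : 2 ≤ Nat.card Ω := by rw [Nat.card_eq_fintype_card]; exact hΩ
    obtain ⟨N, hNn, hN1, hNab, hNt, hNreg⟩ :=
      abelian_regular_normal hprim hΩ' hnas (by omega)
    haveI : Nonempty Ω := (Nat.card_pos_iff.mp (by omega)).1
    haveI htransG : IsPretransitive G Ω := hprim.toIsPretransitive
    obtain ⟨hsub, _⟩ := Nat.card_eq_one_iff_unique.mp hκ
    have hconjD : ∀ g g' : G, (∀ ω : Ω, g • ω ≠ ω) → (∀ ω : Ω, g' • ω ≠ ω) → IsConj g g' := by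
      intro g g' hg hg'
      have := hsub.elim (⟨ConjClasses.mk g, g, rfl, hg⟩ :
        {c : ConjClasses G // ∃ g : G, ConjClasses.mk g = c ∧ ∀ ω : Ω, g • ω ≠ ω})
        ⟨ConjClasses.mk g', g', rfl, hg'⟩
      exact ConjClasses.mk_eq_mk_iff_isConj.mp (congrArg Subtype.val this)
    have hNder : ∀ x ∈ N, x ≠ 1 → ∀ ω : Ω, x • ω ≠ ω :=
      fun x hx hx1 ω hω => hx1 (hNreg x hx ω hω)
    obtain ⟨n₀, hn₀N, hn₀1⟩ : ∃ n₀ ∈ N, n₀ ≠ 1 := by
      by_contra h
      push Not at h
      exact hN1 ((Subgroup.eq_bot_iff_forall N).mpr h)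
    have hD : ∀ g : G, (∀ ω : Ω, g • ω ≠ ω) → g ∈ N := by
      intro g hg
      obtain ⟨x, hx⟩ := isConj_iff.mp (hconjD n₀ g (hNder n₀ hn₀N hn₀1) hg)
      rw [← hx]
      exact hNn.conj_mem _ hn₀N x
    have hkey := (key_of_derangements_mem htransG N hD).2
    refine ⟨two_transitive_of_regular_normal N hNn hNab hNt
      (fun x hx y hy hx1 hy1 => hconjD x y (hNder x hx hx1) (hNder y hy hy1)), ?_⟩
    intro g hg1 a b hab ha hb
    have hgN : g ∉ N := fun hgN => hg1 (hNreg g hgN a ha)
    have h1 := hkey g hgN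
    obtain ⟨hs, _⟩ := Nat.card_eq_one_iff_unique.mp h1
    exact hab (congrArg Subtype.val (hs.elim (⟨a, ha⟩ : fixedBy Ω g) ⟨b, hb⟩))
  · rintro ⟨h2, hsharp⟩
    exact one_class_of_sharp hΩ h2 hsharp

end Cfsg.Agent.S3501
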