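import Cfsg.Statements.S3520
import Cfsg.Agent.Helper59.MinNormal

set_option autoImplicit false
set_option linter.style.haveILetI false
set_option linter.unusedSectionVars false
set_option linter.unusedVariables false
open Cfsg

namespace Cfsg.Agent.S3520

open MulAction Cfsg.Agent.Helper59

/-- Let a finite group G act faithfully and primitively on a finite set Ω with at least two points, suppose G is not almost simple (no non-abelian simple normal subgroup with trivial centralizer), and suppose the derangements of G form exactly two conjugacy classes. Then either Ω has 3 points and G has order 3; or G has a non-trivial abelian normal subgroup N acting regularly, every non-identity element of G fixes at most one point (so, when n > 3, G is a Frobenius group with kernel N), the number n of points is odd and a point stabilizer has order (n − 1)/2; or G is 2-transitive with a non-trivial abelian regular normal subgroup and some non-identity element fixes at least two points (a non-Frobenius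 2-transitive affine group). -/
theorem result {G : Type*} [Group G] [Finite G] {Ω : Type*} [Fintype Ω] [MulAction G Ω] [FaithfulSMul G Ω] (hΩ : 2 ≤ Fintype.card Ω) (hprim : MulAction.IsPreprimitive G Ω) (hnas : ¬ ∃ T : Subgroup G, T.Normal ∧ IsSimpleGroup T ∧ ¬ IsMulCommutative T ∧ Subgroup.centralizer (T : Set G) = ⊥)
    (hκ : Nat.card {c : ConjClasses G // ∃ g : G, ConjClasses.mk g = c ∧ ∀ ω : Ω, g • ω ≠ ω} = 2) (α : Ω) :
    (Fintype.card Ω = 3 ∧ Nat.card G = 3) ∨
    ((∃ N : Subgroup G, N.Normal ∧ N ≠ ⊥ ∧ IsMulCommutative N ∧ ∀ ω : Ω, MulAction.stabilizer N ω = ⊥) ∧ (∀ g : G, g ≠ 1 → Nat.card (MulAction.fixedBy Ω g) ≤ 1) ∧ ¬ 2 ∣ Fintype.card Ω ∧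
        2 * Nat.card (MulAction.stabilizer G α) = Fintype.card Ω - 1) ∨
    ((∃ N : Subgroup G, N.Normal ∧ N ≠ ⊥ ∧ IsMulCommutative N ∧ ∀ ω : Ω, MulAction.stabilizer N ω = ⊥) ∧ MulAction.IsMultiplyPretransitive G Ω 2 ∧ ∃ g : G, g ≠ 1 ∧ 2 ≤ Nat.card (MulAction.fixedBy Ω g)) := by
  classical
  have hΩ' : 2 ≤ Nat.card Ω := by rw [Nat.card_eq_fintype_card]; exact hΩ
  obtain ⟨N, hNn, hN1, hNab, hNt, hNreg⟩ := abelian_regular_normal hprim hΩ' hnas (by omega)
  haveI : Nonempty Ω := ⟨α⟩
  haveI htransG : IsPretransitive G Ω := hprim.toIsPretransitive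
  have hNex : ∃ N : Subgroup G, N.Normal ∧ N ≠ ⊥ ∧ IsMulCommutative N ∧
      ∀ ω : Ω, MulAction.stabilizer N ω = ⊥ := by
    refine ⟨N, hNn, hN1, ⟨⟨fun a b => Subtype.ext (hNab a a.2 b b.2)⟩⟩, fun ω => ?_⟩
    rw [Subgroup.eq_bot_iff_forall]
    intro n hn
    have hn' : (n : G) • ω = ω := hn
    exact Subtype.ext (hNreg n n.2 ω hn')
  -- the two classes
  let φ : {c : ConjClasses G // ∃ g : G, ConjClasses.mk g = c ∧ ∀ ω : Ω, g • ω ≠ ω} ≃ Fin 2 :=
    Finite.equivFinOfCardEq hκ
  let e : Fin 2 → G := fun i => Classical.choose (φ.symm i).2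
  have he : ∀ i, ConjClasses.mk (e i) = (φ.symm i).1 ∧ ∀ ω : Ω, e i • ω ≠ ω :=
    fun i => Classical.choose_spec (φ.symm i).2
  have he_inj : ∀ i j, IsConj (e i) (e j) → i = j := by
    intro i j h
    have h1 : (φ.symm i).1 = (φ.symm j).1 := by
      rw [← (he i).1, ← (he j).1]
      exact ConjClasses.mk_eq_mk_iff_isConj.mpr h
    exact φ.symm.injective (Subtype.ext h1)
  have he_surj : ∀ g : G, (∀ ω : Ω, g • ω ≠ ω) → ∃ i, IsConj (e i) g := by
    intro g hg
    refine ⟨φ ⟨ConjClasses.mk g, g, rfl, hg⟩, ?_⟩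
    rw [← ConjClasses.mk_eq_mk_iff_isConj, (he _).1, Equiv.symm_apply_apply]
  have hNder : ∀ x ∈ N, x ≠ 1 → ∀ ω : Ω, x • ω ≠ ω :=
    fun x hx hx1 ω hω => hx1 (hNreg x hx ω hω)
  have hconjN : ∀ x y : G, IsConj x y → (x ∈ N ↔ y ∈ N) := by
    intro x y h
    obtain ⟨c, hc⟩ := isConj_iff.mp h
    constructor
    · intro hx
      rw [← hc]
      exact hNn.conj_mem x hx c
    · intro hy
      have : x = c⁻¹ * y * c⁻¹⁻¹ := by rw [← hc]; group
      rw [this]
      exact hNn.conj_mem y hy c⁻¹
  have hNreg2 : ∀ x ∈ N, ∀ y ∈ N, ∀ ω : Ω, x • ω = y • ω → x = y := by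
    intro x hx y hy ω h
    have h2 : (y⁻¹ * x) • ω = ω := by rw [mul_smul, h, inv_smul_smul]
    have h3 := hNreg _ (N.mul_mem (N.inv_mem hy) hx) ω h2
    calc x = y * (y⁻¹ * x) := by group
      _ = y := by rw [h3, mul_one]
  by_cases hout : ∃ g : G, (∀ ω : Ω, g • ω ≠ ω) ∧ g ∉ N
  · right; right
    obtain ⟨g, hgder, hgN⟩ := hout
    refine ⟨hNex, ?_, ?_⟩
    · obtain ⟨i, hi⟩ := he_surj g hgder
      have hiN : e i ∉ N := fun h => hgN ((hconjN _ _ hi).mp h)
      apply two_transitive_of_regular_normal N hNn hNab hNt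
      intro x hx y hy hx1 hy1
      obtain ⟨j, hj⟩ := he_surj x (hNder x hx hx1)
      obtain ⟨j', hj'⟩ := he_surj y (hNder y hy hy1)
      have hji : j ≠ i := by
        rintro rfl
        exact hiN ((hconjN _ _ hj).mpr hx)
      have hj'i : j' ≠ i := by
        rintro rfl
        exact hiN ((hconjN _ _ hj').mpr hy)
      have hjj' : j = j' := by
        apply Fin.ext
        have h1 : j.val ≠ i.val := fun h => hji (Fin.ext h)
        have h2 : j'.val ≠ i.val := fun h => hj'i (Fin.ext h)
        have := j.2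
        have := j'.2
        have := i.2
        omega
      subst hjj'
      exact hj.symm.trans hj'
    · -- an element with two fixed points in the coset `N g`
      have hex : ∀ ω : Ω, ∃ x : N, (x : G) • (g • ω) = ω :=
        fun ω => hNt.exists_smul_eq (g • ω) ω
      choose xf hxf using hex
      have hxf1 : ∀ ω, (xf ω : G) ≠ 1 := by
        intro ω h
        have := hxf ω
        rw [h, one_smul] at this
        exact hgder ω this
      let f : Ω → {ω : Ω // ω ≠ α} :=
        fun ω => ⟨(xf ω : G) • α, fun h => hxf1 ω (hNreg _ (xf ω).2 α h)⟩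
      obtain ⟨ω₁, ω₂, hne, hf⟩ := Fintype.exists_ne_map_eq_of_card_lt f
        (Fintype.card_subtype_lt (p := fun ω => ω ≠ α) (x := α) (fun h => h rfl))
      have hxeq : (xf ω₁ : G) = xf ω₂ :=
        hNreg2 _ (xf ω₁).2 _ (xf ω₂).2 α (congrArg Subtype.val hf)
      refine ⟨(xf ω₁ : G) * g, ?_, ?_⟩
      · intro h
        apply hgN
        rw [eq_inv_of_mul_eq_one_right h]
        exact N.inv_mem (xf ω₁).2
      · have h1 : ((xf ω₁ : G) * g) • ω₁ = ω₁ := by rw [mul_smul]; exact hxf ω₁
        have h2 : ((xf ω₁ : G) * g) • ω₂ = ω₂ := by rw [hxeq, mul_smul]; exact hxf ω₂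
        haveI : Nontrivial (fixedBy Ω ((xf ω₁ : G) * g)) :=
          ⟨⟨⟨ω₁, h1⟩, ⟨ω₂, h2⟩, fun h => hne (congrArg Subtype.val h)⟩⟩
        exact Finite.one_lt_card_iff_nontrivial.mpr this
  · right; left
    push Not at hout
    have hD : ∀ g : G, (∀ ω : Ω, g • ω ≠ ω) → g ∈ N := hout
    have hkey := (key_of_derangements_mem htransG N hD).2
    have hfix : ∀ g : G, g ≠ 1 → Nat.card (fixedBy Ω g) ≤ 1 := by
      intro g hg1
      by_cases hgN : g ∈ N
      · have : Nat.card (fixedBy Ω g) = 0 := by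
          rw [Nat.card_eq_zero]
          left
          exact ⟨fun ⟨ω, hω⟩ => hNder g hgN hg1 ω hω⟩
        omega
      · rw [hkey g hgN]
    have hcount : 2 * Nat.card (stabilizer G α) = Fintype.card Ω - 1 := by
      have heN : ∀ i, e i ∈ N := fun i => hD _ (he i).2
      let ψ : Fin 2 × stabilizer G α → {ω : Ω // ω ≠ α} := fun p =>
        ⟨(p.2 : G) • e p.1 • α, fun hh =>
          (he p.1).2 α (smul_left_cancel (p.2 : G) (hh.trans (p.2.2 : (p.2 : G) • α = α).symm))⟩
      have hψinj : Function.Injective ψ := by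
        rintro ⟨i, h⟩ ⟨i', h'⟩ hpp
        have hh : (h : G) • e i • α = (h' : G) • e i' • α := congrArg Subtype.val hpp
        have hhα : (h : G) • α = α := h.2
        have hh'α : (h' : G) • α = α := h'.2
        have huα : ((h' : G)⁻¹ * h) • α = α := by
          rw [mul_smul, hhα, inv_smul_eq_iff, hh'α]
          
        have hu : ((h' : G)⁻¹ * h) • e i • α = e i' • α := by
          rw [mul_smul, hh, inv_smul_smul]
        have huinv : ((h' : G)⁻¹ * h)⁻¹ • α = α := by
          rw [inv_smul_eq_iff, huα]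
        have hconj : ((h' : G)⁻¹ * h) * e i * ((h' : G)⁻¹ * h)⁻¹ = e i' := by
          apply hNreg2 _ (hNn.conj_mem _ (heN i) _) _ (heN i') α
          rw [mul_smul, mul_smul, huinv, hu]
        have hii' : i = i' := he_inj i i' (isConj_iff.mpr ⟨_, hconj⟩)
        subst hii'
        have hu1 : (h' : G)⁻¹ * h = 1 := by
          by_contra hne1
          have hle := hfix _ hne1
          have hfix2 : ((h' : G)⁻¹ * h) • (e i • α) = e i • α := hu
          have hsub := (Finite.card_le_one_iff_subsingleton).mp hle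
          have := hsub.elim (⟨α, huα⟩ : fixedBy Ω ((h' : G)⁻¹ * h)) ⟨e i • α, hfix2⟩
          exact (he i).2 α (congrArg Subtype.val this).symm
        have hheq : (h : G) = h' := by
          calc (h : G) = h' * ((h' : G)⁻¹ * h) := by group
            _ = h' := by rw [hu1, mul_one]
        exact Prod.ext rfl (Subtype.ext hheq)
      have hψsurj : Function.Surjective ψ := by
        rintro ⟨β, hβ⟩
        obtain ⟨m, hm⟩ := hNt.exists_smul_eq α β
        have hm' : (m : G) • α = β := hm
        have hm1 : (m : G) ≠ 1 := by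
          intro h
          rw [h, one_smul] at hm'
          exact hβ hm'.symm
        obtain ⟨i, hi⟩ := he_surj (m : G) (hNder _ m.2 hm1)
        obtain ⟨c, hc⟩ := isConj_iff.mp hi
        obtain ⟨m', hm'c⟩ := hNt.exists_smul_eq α (c • α)
        have hm'c' : (m' : G) • α = c • α := hm'c
        have hhα : ((m' : G)⁻¹ * c) • α = α := by
          rw [mul_smul, ← hm'c', inv_smul_smul]
        have hhinv : ((m' : G)⁻¹ * c)⁻¹ • α = α := by
          rw [inv_smul_eq_iff, hhα]
        have hconj : ((m' : G)⁻¹ * c) * e i * ((m' : G)⁻¹ * c)⁻¹ = m := by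
          have h1 : ((m' : G)⁻¹ * c) * e i * ((m' : G)⁻¹ * c)⁻¹ =
              (m' : G)⁻¹ * (c * e i * c⁻¹) * m' := by group
          rw [h1, hc, mul_assoc, hNab _ m.2 _ m'.2, ← mul_assoc, inv_mul_cancel, one_mul]
        refine ⟨(i, ⟨(m' : G)⁻¹ * c, hhα⟩), Subtype.ext ?_⟩
        show ((m' : G)⁻¹ * c) • e i • α = β
        calc ((m' : G)⁻¹ * c) • e i • α
            = ((m' : G)⁻¹ * c) • e i • (((m' : G)⁻¹ * c)⁻¹ • α) := by rw [hhinv]
          _ = (((m' : G)⁻¹ * c) * e i * ((m' : G)⁻¹ * c)⁻¹) • α := by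
              simp only [mul_smul]
          _ = β := by rw [hconj, hm']
      have hcard := Nat.card_congr (Equiv.ofBijective ψ ⟨hψinj, hψsurj⟩)
      rw [Nat.card_prod, Nat.card_fin, Nat.card_eq_fintype_card (α := {ω : Ω // ω ≠ α}),
        Fintype.card_subtype_compl, Fintype.card_subtype_eq] at hcard
      exact hcard
    refine ⟨hNex, hfix, ?_, hcount⟩
    omega

end Cfsg.Agent.S3520
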