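import Cfsg.Statements.S3532
import Cfsg.Agent.S2475
import Cfsg.Agent.Helper58.FrobField

set_option autoImplicit false
open Cfsg

namespace Cfsg.Agent.S3532

/-- Let q ≥ 4 be a prime power and L = PSL(2,q). There is a finite solvable group with the same set of element orders as L × L (so L × L is not determined by its spectrum). -/
theorem result {F : Type*} [Field F] [Fintype F] (hF : 4 ≤ Fintype.card F) :
    ∃ (H : Type) (_ : Group H) (_ : Finite H), Group.IsSolvable H ∧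
      Set.range (orderOf : H → ℕ) = Set.range (orderOf : Matrix.ProjectiveSpecialLinearGroup (Fin 2) F × Matrix.ProjectiveSpecialLinearGroup (Fin 2) F → ℕ) := by
  classical
  obtain ⟨p, hchar⟩ := CharP.exists F
  have : Fact p.Prime := ⟨CharP.char_is_prime F p⟩
  have hp : p.Prime := Fact.out
  obtain ⟨n, -, hn⟩ := FiniteField.card F p
  set q := Fintype.card F with hq
  have hn0 : 2 * (n : ℕ) ≠ 0 := by
    have := n.pos
    omega
  have hcardK : Nat.card (GaloisField p (2 * (n : ℕ))) = q ^ 2 := by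
    rw [GaloisField.card p _ hn0, hn, ← pow_mul, mul_comm]
  set g := Nat.gcd 2 (q - 1) with hg
  have hqq : q ^ 2 - 1 = (q - 1) * (q + 1) := by
    obtain ⟨k, hk⟩ : ∃ k, q = k + 1 := ⟨q - 1, by omega⟩
    rw [hk]
    simp only [Nat.add_sub_cancel]
    have : (k + 1) ^ 2 = k * (k + 1 + 1) + 1 := by ring
    rw [this, Nat.add_sub_cancel]
  have hg1 : g ∣ q - 1 := Nat.gcd_dvd_right 2 (q - 1)
  have hg2 : g ∣ q + 1 := by
    have h2 : g ∣ 2 := Nat.gcd_dvd_left 2 (q - 1)
    have : q + 1 = (q - 1) + 2 := by omega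
    rw [this]
    exact Dvd.dvd.add hg1 h2
  have hm1 : (q - 1) / g ∣ Nat.card (GaloisField p (2 * (n : ℕ))) - 1 := by
    rw [hcardK, hqq]
    exact Dvd.dvd.mul_right (Nat.div_dvd_of_dvd hg1) _
  have hm2 : (q + 1) / g ∣ Nat.card (GaloisField p (2 * (n : ℕ))) - 1 := by
    rw [hcardK, hqq]
    exact Dvd.dvd.mul_left (Nat.div_dvd_of_dvd hg2) _
  obtain ⟨H₁, _, _, hs1, hr1⟩ :=
    Cfsg.Agent.Helper58.exists_frobenius_spectrum (GaloisField p (2 * (n : ℕ))) p ((q - 1) / g) hm1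
  obtain ⟨H₂, _, _, hs2, hr2⟩ :=
    Cfsg.Agent.Helper58.exists_frobenius_spectrum (GaloisField p (2 * (n : ℕ))) p ((q + 1) / g) hm2
  have hL := Cfsg.Agent.S2475.result (F := F) p hF
  refine ⟨H₁ × H₂, inferInstance, inferInstance, inferInstance, ?_⟩
  rw [Cfsg.Agent.Helper58.range_orderOf_prod, Cfsg.Agent.Helper58.range_orderOf_prod, hr1, hr2, hL]
  ext k
  constructor
  · rintro ⟨a, ha, b, hb, rfl⟩
    refine ⟨a, ?_, b, ?_, rfl⟩
    · rcases ha with ha | ha
      · exact Or.inl ha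
      · exact Or.inr (Or.inl ha)
    · rcases hb with hb | hb
      · exact Or.inl hb
      · exact Or.inr (Or.inr hb)
  · rintro ⟨a, ha, b, hb, rfl⟩
    rcases ha with ha | ha | ha
    · rcases hb with hb | hb | hb
      · exact ⟨Nat.lcm a b, Or.inl (Nat.lcm_dvd ha hb), 1, Or.inl (one_dvd p), (Nat.lcm_one_right _).symm⟩
      · exact ⟨b, Or.inr hb, a, Or.inl ha, Nat.lcm_comm a b⟩
      · exact ⟨a, Or.inl ha, b, Or.inr hb, rfl⟩
    · rcases hb with hb | hb | hb
      · exact ⟨a, Or.inr ha, b, Or.inl hb, rfl⟩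
      · exact ⟨Nat.lcm a b, Or.inr (Nat.lcm_dvd ha hb), 1, Or.inl (one_dvd p), (Nat.lcm_one_right _).symm⟩
      · exact ⟨a, Or.inr ha, b, Or.inr hb, rfl⟩
    · rcases hb with hb | hb | hb
      · exact ⟨b, Or.inl hb, a, Or.inr ha, Nat.lcm_comm a b⟩
      · exact ⟨b, Or.inr hb, a, Or.inr ha, Nat.lcm_comm a b⟩
      · exact ⟨1, Or.inl (one_dvd p), Nat.lcm a b, Or.inr (Nat.lcm_dvd ha hb), (Nat.lcm_one_left _).symm⟩

end Cfsg.Agent.S3532
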