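import Cfsg.Statements.S3554

set_option autoImplicit false
set_option linter.style.haveILetI false
open Cfsg

namespace Cfsg.Agent.S3554

open MulAction

/-- Let G act faithfully and transitively on a finite set and suppose G has a non-trivial cyclic normal subgroup. Then some element of G of prime order fixes no point. -/
theorem result {G Ω : Type*} [Group G] [Finite G] [MulAction G Ω] [FaithfulSMul G Ω] [Finite Ω]
    (htrans : MulAction.IsPretransitive G Ω) (C : Subgroup G) (hC : C.Normal) (hC1 : C ≠ ⊥) (hcyc : IsCyclic ↥C) :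
    ∃ g : G, (orderOf g).Prime ∧ ∀ ω : Ω, g • ω ≠ ω := by
  obtain ⟨c, hc⟩ := IsCyclic.exists_generator (α := C)
  have hord : orderOf (c : G) = Nat.card C := by
    rw [Subgroup.orderOf_coe]
    exact orderOf_eq_card_of_forall_mem_zpowers hc
  have hcard : 1 < Nat.card C := by
    rw [Subgroup.one_lt_card_iff_ne_bot]
    exact hC1
  obtain ⟨p, hp, hpd⟩ := Nat.exists_prime_and_dvd (n := Nat.card C) (by omega)
  set n := Nat.card C with hn
  set x : G := (c : G) ^ (n / p) with hx
  have hnp : n / p ∣ n := Nat.div_dvd_of_dvd hpd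
  have hnpos : 0 < n := by omega
  have hnp0 : n / p ≠ 0 := by
    intro h
    have := Nat.div_mul_cancel hpd
    rw [h, zero_mul] at this
    omega
  have hxo : orderOf x = p := by
    rw [hx, orderOf_pow_of_dvd hnp0 (by rw [hord]; exact hnp), hord]
    exact Nat.div_div_self hpd (by omega)
  -- conjugates of x are powers of x
  have hconj : ∀ g : G, ∃ j : ℤ, g * x * g⁻¹ = x ^ j := by
    intro g
    have h1 : g * (c : G) * g⁻¹ ∈ C := hC.conj_mem _ c.2 g
    obtain ⟨j, hj⟩ := hc ⟨_, h1⟩
    have hj' : (c : G) ^ j = g * (c : G) * g⁻¹ := by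
      have := congrArg Subtype.val hj
      simpa using this
    refine ⟨j, ?_⟩
    rw [hx, ← conj_pow, ← hj', ← zpow_natCast, ← zpow_natCast, ← zpow_mul, ← zpow_mul, mul_comm]
  refine ⟨x, by rw [hxo]; exact hp, ?_⟩
  intro ω hω
  have hall : ∀ ω' : Ω, x • ω' = ω' := by
    intro ω'
    obtain ⟨g, rfl⟩ := exists_smul_eq G ω ω'
    obtain ⟨j, hj⟩ := hconj g⁻¹
    rw [inv_inv] at hj
    have h2 : x ^ j • ω = ω := by
      have : x ^ j ∈ stabilizer G ω := Subgroup.zpow_mem _ hω j
      exact this
    have h3 : x * g = g * x ^ j := by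
      rw [← hj]; group
    rw [← mul_smul, h3, mul_smul, h2]
  have hx1 : x = 1 := by
    apply FaithfulSMul.eq_of_smul_eq_smul (α := Ω)
    intro a
    rw [hall, one_smul]
  rw [hx1, orderOf_one] at hxo
  exact hp.one_lt.ne hxo

end Cfsg.Agent.S3554
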