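import Cfsg.Statements.S3555
import Cfsg.Agent.Helper59.Derange

set_option autoImplicit false
set_option linter.style.haveILetI false
set_option linter.unusedSectionVars false
open Cfsg

namespace Cfsg.Agent.S3555

open MulAction

section counting

variable {G Ω : Type*} [Group G] [MulAction G Ω] [Fintype G] [Fintype Ω] [DecidableEq G]
  [DecidableEq Ω]

theorem count_pairs (A : Finset G) :
    ∑ p : Ω × Ω, (A.filter (fun x => x • p.1 = p.2)).card = Fintype.card Ω * A.card := by
  simp_rw [Finset.card_filter]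
  rw [Finset.sum_comm]
  rw [mul_comm, ← smul_eq_mul, ← Finset.sum_const]
  apply Finset.sum_congr rfl
  intro x _
  rw [Fintype.sum_prod_type]
  simp

theorem count_fix_pairs :
    ∑ p : Ω × Ω, ((Finset.univ : Finset G).filter
        (fun g => p.1 ≠ p.2 ∧ g • p.1 = p.1 ∧ g • p.2 = p.2)).card =
      ∑ g : G, ((Finset.univ : Finset Ω).filter (fun ω => g • ω = ω)).offDiag.card := by
  simp_rw [Finset.card_filter]
  rw [Finset.sum_comm]
  apply Finset.sum_congr rfl
  intro g _
  rw [← Finset.card_filter]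
  congr 1
  ext ⟨β, γ⟩
  simp [Finset.mem_offDiag]
  tauto

theorem card_le (hinv : ∀ g : G, (∀ ω : Ω, g • ω ≠ ω) → orderOf g = 2) (A : Finset G)
    (hA : ∀ x ∈ A, ∀ ω : Ω, x • ω ≠ ω) (p : Ω × Ω) :
    (A.filter (fun x => x • p.1 = p.2)).card ≤ ((Finset.univ : Finset G).filter
        (fun g => p.1 ≠ p.2 ∧ g • p.1 = p.1 ∧ g • p.2 = p.2)).card := by
  rcases (A.filter (fun x => x • p.1 = p.2)).eq_empty_or_nonempty with h | ⟨x₀, hx₀⟩
  · rw [h]; simp
  · rw [Finset.mem_filter] at hx₀
    have hsq : ∀ x ∈ A, x * x = 1 := fun x hx => by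
      have := hinv x (hA x hx)
      rw [← pow_two, ← this]; exact pow_orderOf_eq_one x
    apply Finset.card_le_card_of_injOn (fun x => x₀⁻¹ * x)
    · intro x hx
      rw [Finset.mem_coe, Finset.mem_filter] at hx
      rw [Finset.mem_coe, Finset.mem_filter]
      refine ⟨Finset.mem_univ _, ?_, ?_, ?_⟩
      · intro h; exact hA x₀ hx₀.1 p.1 (hx₀.2.trans h.symm)
      · rw [mul_smul, hx.2, ← hx₀.2, inv_smul_smul]
      · have h1 : x • p.2 = p.1 := by rw [← hx.2, ← mul_smul, hsq x hx.1, one_smul]
        have h2 : x₀⁻¹ = x₀ := by rw [inv_eq_iff_mul_eq_one]; exact hsq x₀ hx₀.1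
        rw [mul_smul, h1, h2, hx₀.2]
    · intro x _ y _ h; exact mul_left_cancel h

end counting

/-- Every non-identity element fixes at most one point. -/
theorem fix_le_one {G Ω : Type*} [Group G] [Finite G] [MulAction G Ω] [FaithfulSMul G Ω] [Finite Ω]
    (htrans : MulAction.IsPretransitive G Ω) (hinv : ∀ g : G, (∀ ω : Ω, g • ω ≠ ω) → orderOf g = 2) :
    ∀ g : G, g ≠ 1 → ∀ β γ : Ω, g • β = β → g • γ = γ → β = γ := by
  classical
  haveI := Fintype.ofFinite G
  haveI := Fintype.ofFinite Ω
  intro g₀ hg₀ β₀ γ₀ hβ₀ hγ₀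
  haveI : Nonempty Ω := ⟨β₀⟩
  set A : Finset G := Finset.univ.filter (fun g => ∀ ω : Ω, g • ω ≠ ω) with hAdef
  set F : G → Finset Ω := fun g => Finset.univ.filter (fun ω => g • ω = ω) with hFdef
  set n : ℕ := Fintype.card Ω with hn
  set N : ℕ := Fintype.card G with hN
  have hA : ∀ x ∈ A, ∀ ω : Ω, x • ω ≠ ω := fun x hx => (Finset.mem_filter.mp hx).2
  have hB : ∑ g : G, (F g).card = N := by
    have h := Cfsg.Agent.Helper59.burnside_nat (G := G) (Ω := Ω)
    haveI : Subsingleton (orbitRel.Quotient G Ω) :=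
      (pretransitive_iff_subsingleton_quotient G Ω).mp htrans
    haveI : Nonempty (orbitRel.Quotient G Ω) := ⟨Quotient.mk'' (Classical.arbitrary Ω)⟩
    rw [Nat.card_unique, one_mul, Nat.card_eq_fintype_card] at h
    rw [hN, ← h]
    apply Finset.sum_congr rfl
    intro g _
    rw [Nat.card_eq_fintype_card]
    exact (Fintype.card_of_subtype (F g) (by simp [hFdef, mem_fixedBy])).symm
  have h1 : n * A.card = ∑ p : Ω × Ω, (A.filter (fun x => x • p.1 = p.2)).card :=
    (count_pairs A).symm
  have h2 : ∑ p : Ω × Ω, (A.filter (fun x => x • p.1 = p.2)).card ≤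
      ∑ p : Ω × Ω, ((Finset.univ : Finset G).filter
        (fun g => p.1 ≠ p.2 ∧ g • p.1 = p.1 ∧ g • p.2 = p.2)).card :=
    Finset.sum_le_sum (fun p _ => card_le hinv A hA p)
  have h3 := count_fix_pairs (G := G) (Ω := Ω)
  have h4 : (n * A.card : ℤ) ≤ ∑ g : G, ((F g).offDiag.card : ℤ) := by
    have : n * A.card ≤ ∑ g : G, (F g).offDiag.card := by
      rw [h1, ← h3]; exact h2
    exact_mod_cast this
  have hS1 : ∑ g : G, ((n:ℤ) - (F g).card) * (((F g).card : ℤ) - 1) =
      - ∑ g : G, ((F g).offDiag.card : ℤ) := by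
    have : ∀ g : G, ((n:ℤ) - (F g).card) * (((F g).card : ℤ) - 1) =
        n * ((F g).card : ℤ) - n - ((F g).offDiag.card : ℤ) := by
      intro g
      rw [Finset.offDiag_card, Nat.cast_sub (Nat.le_mul_self _)]; push_cast; ring
    simp_rw [this]
    rw [Finset.sum_sub_distrib, Finset.sum_sub_distrib, ← Finset.mul_sum, Finset.sum_const,
      Finset.card_univ]
    have : ∑ g : G, ((F g).card : ℤ) = N := by exact_mod_cast hB
    rw [this, nsmul_eq_mul, ← hN]; ring
  have hsplit := Finset.sum_filter_add_sum_filter_not (Finset.univ : Finset G) (· ∈ A)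
    (fun g => ((n:ℤ) - (F g).card) * (((F g).card : ℤ) - 1))
  have hAsum : ∑ g ∈ Finset.univ.filter (· ∈ A), ((n:ℤ) - (F g).card) * (((F g).card : ℤ) - 1) =
      - (n * A.card : ℤ) := by
    have : ∀ g ∈ Finset.univ.filter (· ∈ A), ((n:ℤ) - (F g).card) * (((F g).card : ℤ) - 1) = -n := by
      intro g hg
      rw [Finset.mem_filter] at hg
      have : F g = ∅ := by
        rw [hFdef]
        apply Finset.filter_eq_empty_iff.mpr
        intro ω _
        exact hA g hg.2 ω
      rw [this]; simp
    rw [Finset.sum_congr rfl this, Finset.sum_const]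
    simp [mul_comm]
  have hnonneg : ∀ g ∈ Finset.univ.filter (fun g => ¬ g ∈ A),
      0 ≤ ((n:ℤ) - (F g).card) * (((F g).card : ℤ) - 1) := by
    intro g hg
    rw [Finset.mem_filter] at hg
    have h5 : 1 ≤ (F g).card := by
      have : ¬ ∀ ω : Ω, g • ω ≠ ω := fun h => hg.2 (by rw [hAdef, Finset.mem_filter]; exact ⟨Finset.mem_univ _, h⟩)
      obtain ⟨ω, hω⟩ := not_forall.mp this
      have hω' : g • ω = ω := not_not.mp hω
      exact Finset.card_pos.mpr ⟨ω, by rw [hFdef, Finset.mem_filter]; exact ⟨Finset.mem_univ _, hω'⟩⟩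
    have h6 : (F g).card ≤ n := Finset.card_le_univ _
    apply mul_nonneg
    · have : ((F g).card : ℤ) ≤ n := by exact_mod_cast h6
      linarith
    · have : (1 : ℤ) ≤ (F g).card := by exact_mod_cast h5
      linarith
  have hT : ∑ g ∈ Finset.univ.filter (fun g => ¬ g ∈ A),
      ((n:ℤ) - (F g).card) * (((F g).card : ℤ) - 1) ≤ 0 := by
    rw [hAsum, hS1] at hsplit
    linarith
  have hzero := (Finset.sum_eq_zero_iff_of_nonneg hnonneg).mp
    (le_antisymm hT (Finset.sum_nonneg hnonneg))
  -- now g₀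
  have hg₀A : g₀ ∉ A := by
    intro h
    exact hA g₀ h β₀ hβ₀
  have hz := hzero g₀ (by rw [Finset.mem_filter]; exact ⟨Finset.mem_univ _, hg₀A⟩)
  rcases mul_eq_zero.mp hz with h | h
  · exfalso
    apply hg₀
    have hcard : (F g₀).card = n := by
      have : ((F g₀).card : ℤ) = n := by linarith
      exact_mod_cast this
    have huniv : F g₀ = Finset.univ := Finset.eq_univ_of_card _ hcard
    apply FaithfulSMul.eq_of_smul_eq_smul (α := Ω)
    intro a
    rw [one_smul]
    have : a ∈ F g₀ := by rw [huniv]; exact Finset.mem_univ a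
    exact (Finset.mem_filter.mp this).2
  · have hcard : (F g₀).card = 1 := by
      have : ((F g₀).card : ℤ) = 1 := by linarith
      exact_mod_cast this
    have hβ : β₀ ∈ F g₀ := by rw [hFdef, Finset.mem_filter]; exact ⟨Finset.mem_univ _, hβ₀⟩
    have hγ : γ₀ ∈ F g₀ := by rw [hFdef, Finset.mem_filter]; exact ⟨Finset.mem_univ _, hγ₀⟩
    exact Finset.card_le_one.mp hcard.le β₀ hβ γ₀ hγ

open scoped Pointwise in
theorem mem_conj_smul_stabilizer_iff {G Ω : Type*} [Group G] [MulAction G Ω] (α : Ω) (g x : G) :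
    x ∈ MulAut.conj g • stabilizer G α ↔ x • (g • α) = g • α := by
  rw [Subgroup.mem_pointwise_smul_iff_inv_smul_mem, MulAut.smul_def, mem_stabilizer_iff]
  rw [← map_inv, MulAut.conj_apply, inv_inv, mul_smul, mul_smul, inv_smul_eq_iff]

/-- Let G act faithfully and transitively on a finite set and suppose every element of G fixing no point is an involution. Then either G is an elementary abelian 2-group, or G is a Frobenius group whose Frobenius kernel is an elementary abelian 2-group: G has a Frobenius complement H, and the elements lying in no conjugate of H, together with the identity, pairwise commute and square to the identity. -/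
theorem result {G Ω : Type*} [Group G] [Finite G] [MulAction G Ω] [FaithfulSMul G Ω] [Finite Ω]
    (htrans : MulAction.IsPretransitive G Ω) (hinv : ∀ g : G, (∀ ω : Ω, g • ω ≠ ω) → orderOf g = 2) :
    (IsMulCommutative G ∧ ∀ g : G, g ^ 2 = 1) ∨
    (∃ H : Subgroup G, Cfsg.IsFrobeniusComplement H ∧
      (∀ x ∈ Cfsg.frobeniusKernel H, x ^ 2 = 1) ∧
      ∀ x ∈ Cfsg.frobeniusKernel H, ∀ y ∈ Cfsg.frobeniusKernel H, x * y = y * x) := by
  have hfr := fix_le_one htrans hinv
  have hsqd : ∀ g : G, (∀ ω : Ω, g • ω ≠ ω) → g ^ 2 = 1 := by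
    intro g hg
    rw [← hinv g hg]; exact pow_orderOf_eq_one g
  have hcomm : ∀ a b : G, a ^ 2 = 1 → b ^ 2 = 1 → (a * b) ^ 2 = 1 → a * b = b * a := by
    intro a b ha hb hab
    have h1 : a * b * (a * b) = 1 := by rw [← pow_two]; exact hab
    have h2 : a * a = 1 := by rw [← pow_two]; exact ha
    have h3 : b * b = 1 := by rw [← pow_two]; exact hb
    calc a * b = a * b * (a * b) * (b * a) := by
            rw [mul_assoc (a * b), ← mul_assoc (a * b) b a, mul_assoc a b b, h3, mul_one,
              ← mul_assoc, mul_assoc a b a, mul_assoc a (b * a) a, mul_assoc b a a, h2, mul_one]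
      _ = b * a := by rw [h1, one_mul]
  by_cases hreg : ∀ g : G, g ≠ 1 → ∀ ω : Ω, g • ω ≠ ω
  · left
    have hsq : ∀ g : G, g ^ 2 = 1 := by
      intro g
      by_cases hg : g = 1
      · rw [hg, one_pow]
      · exact hsqd g (hreg g hg)
    exact ⟨⟨⟨fun a b => hcomm a b (hsq a) (hsq b) (hsq _)⟩⟩, hsq⟩
  · right
    obtain ⟨g₁, hg₁⟩ := not_forall.mp hreg
    obtain ⟨hg₁1, hg₁'⟩ := Classical.not_imp.mp hg₁
    obtain ⟨α, hα⟩ := not_forall.mp hg₁'
    have hα' : g₁ • α = α := not_not.mp hα
    -- kernel elements other than 1 are derangements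
    have hker : ∀ x ∈ Cfsg.frobeniusKernel (stabilizer G α), x ≠ 1 → ∀ ω : Ω, x • ω ≠ ω := by
      intro x hx hx1 ω hω
      rcases hx with hx | hx
      · exact hx1 hx
      · obtain ⟨g, rfl⟩ := exists_smul_eq G α ω
        exact hx g ((mem_conj_smul_stabilizer_iff α g x).mpr hω)
    refine ⟨stabilizer G α, ⟨?_, ?_, ?_⟩, ?_, ?_⟩
    · intro h
      have : g₁ ∈ stabilizer G α := hα'
      rw [h, Subgroup.mem_bot] at this
      exact hg₁1 this
    · intro h
      apply hg₁1
      apply FaithfulSMul.eq_of_smul_eq_smul (α := Ω)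
      intro ω
      rw [one_smul]
      obtain ⟨g, rfl⟩ := exists_smul_eq G α ω
      have hg : g ∈ stabilizer G α := by rw [h]; exact Subgroup.mem_top g
      rw [mem_stabilizer_iff] at hg
      rw [hg, hα']
    · intro g hg
      rw [eq_bot_iff]
      intro x hx
      rw [Subgroup.mem_bot]
      by_contra hx1
      obtain ⟨hx2, hx3⟩ := Subgroup.mem_inf.mp hx
      rw [mem_conj_smul_stabilizer_iff] at hx3
      rw [mem_stabilizer_iff] at hx2
      have := hfr x hx1 α (g • α) hx2 hx3
      exact hg this.symm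
    · intro x hx
      by_cases hx1 : x = 1
      · rw [hx1, one_pow]
      · exact hsqd x (hker x hx hx1)
    · intro x hx y hy
      by_cases hx1 : x = 1
      · rw [hx1, one_mul, mul_one]
      by_cases hy1 : y = 1
      · rw [hy1, one_mul, mul_one]
      by_cases hxy : x = y
      · rw [hxy]
      have hxd := hker x hx hx1
      have hyd := hker y hy hy1
      have hx2 := hsqd x hxd
      have hy2 := hsqd y hyd
      apply hcomm x y hx2 hy2
      apply hsqd
      intro β hβ
      -- x * y fixes β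
      have hxx : x * x = 1 := by rw [← pow_two]; exact hx2
      have hyy : y * y = 1 := by rw [← pow_two]; exact hy2
      have hxinv : x⁻¹ = x := by rw [inv_eq_iff_mul_eq_one]; exact hxx
      have h1 : y • β = x • β := by
        rw [mul_smul] at hβ
        have := congrArg (fun z => x⁻¹ • z) hβ
        simp only [inv_smul_smul] at this
        rw [this, hxinv]
      have h2 : (x⁻¹ * y) • β = β := by
        rw [mul_smul, h1, inv_smul_smul]
      have h3 : (x⁻¹ * y) • (x • β) = x • β := by
        rw [mul_smul, ← h1, ← mul_smul y y, hyy, one_smul, hxinv]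
        exact h1.symm
      have h4 : x⁻¹ * y ≠ 1 := by
        intro h
        apply hxy
        rw [inv_mul_eq_one] at h
        exact h
      exact hxd β (hfr _ h4 β (x • β) h2 h3).symm

end Cfsg.Agent.S3555
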