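import Cfsg.Statements.S3556
import Cfsg.Agent.Helper59.Derange

set_option autoImplicit false
set_option linter.style.haveILetI false
set_option linter.unusedSectionVars false
open Cfsg

namespace Cfsg.Agent.S3556

open MulAction

/-- Jordan: a transitive finite group on at least two points has a derangement. -/
theorem exists_derangement {T Δ : Type*} [Group T] [Finite T] [MulAction T Δ] [Finite Δ]
    (htrans : IsPretransitive T Δ) (x y : Δ) (hxy : x ≠ y) : ∃ t : T, ∀ δ : Δ, t • δ ≠ δ := by
  by_contra hno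
  push Not at hno
  haveI : Nonempty Δ := ⟨x⟩
  have h := (Cfsg.Agent.Helper59.key_of_derangements_mem htrans (⊥ : Subgroup T) (by
    intro g hg
    obtain ⟨δ, hδ⟩ := hno g
    exact absurd hδ (hg δ))).1
  obtain ⟨g, hg⟩ := h.exists_smul_eq x y
  have h1 : (g : T) = 1 := Subgroup.mem_bot.mp g.2
  apply hxy
  rw [← hg]
  show x = (g : T) • x
  rw [h1, one_smul]

theorem exists_min_normal {G : Type*} [Group G] [Finite G] [Nontrivial G] :
    ∃ N : Subgroup G, N.Normal ∧ N ≠ ⊥ ∧
      ∀ M : Subgroup G, M.Normal → M ≠ ⊥ → M ≤ N → M = N := by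
  classical
  let S : Set ℕ := {k | ∃ N : Subgroup G, N.Normal ∧ N ≠ ⊥ ∧ Nat.card N = k}
  have hS : S.Nonempty := by
    obtain ⟨x, hx⟩ := exists_ne (1 : G)
    refine ⟨Nat.card (⊤ : Subgroup G), ⊤, inferInstance, ?_, rfl⟩
    intro h
    exact hx (Subgroup.mem_bot.mp (h ▸ Subgroup.mem_top x))
  obtain ⟨N, hN1, hN2, hN3⟩ := Nat.sInf_mem hS
  refine ⟨N, hN1, hN2, fun M hM1 hM2 hMN => ?_⟩
  apply Subgroup.eq_of_le_of_card_ge hMN
  rw [hN3]
  exact Nat.sInf_le ⟨M, hM1, hM2, rfl⟩

/-- Let G act faithfully and primitively on a finite set with at least two points, and suppose that for some fixed prime p every element of G fixing no point has order a power of p. Then G is of affine type (it has a regular normal subgroup that is an elementary abelian r-group for some prime r) or almost simple (it has a non-abelian simple normal subgroup with trivial centralizer). -/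
theorem result {G Ω : Type*} [Group G] [Finite G] [MulAction G Ω] [FaithfulSMul G Ω] [Finite Ω]
    (hprim : MulAction.IsPreprimitive G Ω) (hΩ : 2 ≤ Nat.card Ω) (p : ℕ) (hp : p.Prime)
    (hder : ∀ g : G, (∀ ω : Ω, g • ω ≠ ω) → ∃ k : ℕ, orderOf g = p ^ k) :
    (∃ (N : Subgroup G) (r : ℕ), r.Prime ∧ N.Normal ∧ Cfsg.IsElementaryAbelian r N ∧
      MulAction.IsPretransitive N Ω ∧ ∀ a : Ω, MulAction.stabilizer N a = ⊥) ∨
    (∃ T : Subgroup G, T.Normal ∧ IsSimpleGroup ↥T ∧ ¬ IsMulCommutative ↥T ∧
      Subgroup.centralizer (T : Set G) = ⊥) := by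
  classical
  have hΩpos : 0 < Nat.card Ω := by omega
  haveI : Nonempty Ω := (Nat.card_pos_iff.mp hΩpos).1
  haveI htransG : IsPretransitive G Ω := hprim.toIsPretransitive
  obtain ⟨x₀, y₀, hxy⟩ : ∃ x y : Ω, x ≠ y := by
    have h1 : 1 < Nat.card Ω := by omega
    haveI := Finite.one_lt_card_iff_nontrivial.mp h1
    exact exists_pair_ne Ω
  haveI : Nontrivial G := by
    obtain ⟨g, hg⟩ := exists_smul_eq G x₀ y₀
    refine ⟨⟨g, 1, ?_⟩⟩
    rintro rfl
    exact hxy (by simpa using hg)
  have hnt : ∀ M : Subgroup G, M.Normal → M ≠ ⊥ → IsPretransitive M Ω := by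
    intro M hM hM1
    haveI := hM
    apply IsQuasiPreprimitive.isPretransitive_of_normal
    intro hfix
    apply hM1
    rw [Subgroup.eq_bot_iff_forall]
    intro m hm
    apply FaithfulSMul.eq_of_smul_eq_smul (α := Ω)
    intro ω
    rw [one_smul]
    have : ω ∈ fixedPoints M Ω := by rw [hfix]; trivial
    exact this ⟨m, hm⟩
  have hsemi : ∀ (C : Subgroup G), IsPretransitive C Ω → ∀ n : G,
      (∀ c ∈ C, c * n = n * c) → ∀ a : Ω, n • a = a → n = 1 := by
    intro C hC n hcomm a ha
    apply FaithfulSMul.eq_of_smul_eq_smul (α := Ω)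
    intro ω
    rw [one_smul]
    obtain ⟨c, hc⟩ := hC.exists_smul_eq a ω
    have hc' : (c : G) • a = ω := hc
    rw [← hc', ← mul_smul, ← hcomm c c.2, mul_smul, ha]
  obtain ⟨N, hNn, hN1, hNmin⟩ := exists_min_normal (G := G)
  have hNt := hnt N hNn hN1
  by_cases hNc : ∀ x ∈ N, ∀ y ∈ N, x * y = y * x
  · left
    have hreg : ∀ a : Ω, stabilizer N a = ⊥ := by
      intro a
      rw [Subgroup.eq_bot_iff_forall]
      intro n hn
      have hn' : (n : G) • a = a := hn
      have := hsemi N hNt (n : G) (fun c hc => hNc c hc n n.2) a hn'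
      exact Subtype.ext this
    obtain ⟨r, hr, hrdvd⟩ := Nat.exists_prime_and_dvd (n := Nat.card N) (by
      intro h1
      exact hN1 (Subgroup.card_eq_one.mp h1))
    haveI : Fact r.Prime := ⟨hr⟩
    let M : Subgroup G :=
      { carrier := {x | x ∈ N ∧ x ^ r = 1}
        one_mem' := ⟨N.one_mem, one_pow r⟩
        mul_mem' := by
          rintro x y ⟨hx, hx'⟩ ⟨hy, hy'⟩
          refine ⟨N.mul_mem hx hy, ?_⟩
          have hc : Commute x y := hNc x hx y hy
          rw [hc.mul_pow, hx', hy', one_mul]
        inv_mem' := by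
          rintro x ⟨hx, hx'⟩
          exact ⟨N.inv_mem hx, by rw [inv_pow, hx', inv_one]⟩ }
    have hMn : M.Normal := ⟨by
      rintro x ⟨hx, hx'⟩ g
      refine ⟨hNn.conj_mem x hx g, ?_⟩
      rw [conj_pow, hx', mul_one, mul_inv_cancel]⟩
    have hM1 : M ≠ ⊥ := by
      obtain ⟨x, hx⟩ := exists_prime_orderOf_dvd_card' (G := N) r hrdvd
      intro hbot
      have hxM : (x : G) ∈ M := by
        refine ⟨x.2, ?_⟩
        rw [← Subgroup.orderOf_coe] at hx
        rw [← hx]
        exact pow_orderOf_eq_one _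
      rw [hbot, Subgroup.mem_bot] at hxM
      have h2 : orderOf (x : G) = 1 := by rw [hxM, orderOf_one]
      rw [Subgroup.orderOf_coe, hx] at h2
      exact hr.one_lt.ne' h2
    have hMN : M = N := hNmin M hMn hM1 (fun x hx => hx.1)
    refine ⟨N, r, hr, hNn, ⟨⟨⟨fun a b => Subtype.ext (hNc a a.2 b b.2)⟩⟩, fun a ha => ?_⟩,
      hNt, hreg⟩
    have : a ∈ M := by rw [hMN]; exact ha
    exact this.2
  · by_cases hsimple : IsSimpleGroup N
    · right
      refine ⟨N, hNn, hsimple, ?_, ?_⟩
      · intro hcomm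
        apply hNc
        intro x hx y hy
        have := hcomm.is_comm.comm (⟨x, hx⟩ : N) ⟨y, hy⟩
        exact congrArg Subtype.val this
      · by_contra hC
        haveI := hNn
        have hCn : (Subgroup.centralizer (N : Set G)).Normal := inferInstance
        have hCt := hnt _ hCn hC
        have hNsemi : ∀ n ∈ N, ∀ a : Ω, n • a = a → n = 1 := by
          intro n hn a ha
          apply hsemi _ hCt n ?_ a ha
          intro c hc
          exact (Subgroup.mem_centralizer_iff.mp hc n hn).symm
        haveI : Fact p.Prime := ⟨hp⟩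
        have hNp : IsPGroup p N := by
          intro n
          by_cases hn1 : n = 1
          · exact ⟨0, by rw [hn1, one_pow]⟩
          · have hder' : ∀ ω : Ω, (n : G) • ω ≠ ω := by
              intro ω hω
              exact hn1 (Subtype.ext (hNsemi n n.2 ω hω))
            obtain ⟨k, hk⟩ := hder (n : G) hder'
            refine ⟨k, ?_⟩
            apply Subtype.ext
            rw [Subgroup.coe_pow, ← hk]
            exact pow_orderOf_eq_one _
        haveI : Nontrivial N := hsimple.toNontrivial
        have hZ := hNp.center_nontrivial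
        have hZtop : Subgroup.center N = ⊤ := by
          rcases hsimple.eq_bot_or_eq_top_of_normal (Subgroup.center N) inferInstance with h | h
          · exfalso
            obtain ⟨⟨z, hzmem⟩, hz⟩ := exists_ne (1 : Subgroup.center N)
            apply hz
            apply Subtype.ext
            rw [h, Subgroup.mem_bot] at hzmem
            exact hzmem
          · exact h
        apply hNc
        intro x hx y hy
        have hmem : (⟨x, hx⟩ : N) ∈ Subgroup.center N := by rw [hZtop]; trivial
        have := Subgroup.mem_center_iff.mp hmem ⟨y, hy⟩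
        exact (congrArg Subtype.val this).symm
    · exfalso
      have hex : ∃ T : Subgroup G, T ≤ N ∧ T ≠ ⊥ ∧ T ≠ N ∧
          ∀ n ∈ N, ∀ t ∈ T, n * t * n⁻¹ ∈ T := by
        by_contra hno
        apply hsimple
        haveI : Nontrivial N := (Subgroup.nontrivial_iff_ne_bot N).mpr hN1
        refine { toNontrivial := inferInstance, eq_bot_or_eq_top_of_normal := fun K hK => ?_ }
        by_contra hK2
        push Not at hK2
        apply hno
        refine ⟨K.map N.subtype, ?_, ?_, ?_, ?_⟩
        · rintro x ⟨y, _, rfl⟩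
          exact y.2
        · intro h
          apply hK2.1
          exact (Subgroup.map_eq_bot_iff_of_injective K N.subtype_injective).mp h
        · intro h
          apply hK2.2
          rw [eq_top_iff]
          intro x _
          have hx : (x : G) ∈ K.map N.subtype := by rw [h]; exact x.2
          obtain ⟨y, hy, hyx⟩ := hx
          have : y = x := Subtype.ext hyx
          rwa [this] at hy
        · rintro n hn t ⟨y, hy, rfl⟩
          exact ⟨⟨n, hn⟩ * y * ⟨n, hn⟩⁻¹, hK.conj_mem y hy ⟨n, hn⟩, rfl⟩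
      obtain ⟨T, ⟨hTN, hT1, hTN', hTinv⟩, hTmin⟩ : ∃ T : Subgroup G,
          (T ≤ N ∧ T ≠ ⊥ ∧ T ≠ N ∧ ∀ n ∈ N, ∀ t ∈ T, n * t * n⁻¹ ∈ T) ∧
          ∀ T' : Subgroup G, T' ≤ T → T' ≠ ⊥ → (∀ n ∈ N, ∀ t ∈ T', n * t * n⁻¹ ∈ T') →
            T' = T := by
        let S : Set ℕ := {k | ∃ T : Subgroup G,
          (T ≤ N ∧ T ≠ ⊥ ∧ T ≠ N ∧ ∀ n ∈ N, ∀ t ∈ T, n * t * n⁻¹ ∈ T) ∧ Nat.card T = k}
        have hS : S.Nonempty := by
          obtain ⟨T, hT⟩ := hex
          exact ⟨_, T, hT, rfl⟩
        obtain ⟨T, hT, hTc⟩ := Nat.sInf_mem hS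
        refine ⟨T, hT, fun T' hT'T hT'1 hT'inv => ?_⟩
        apply Subgroup.eq_of_le_of_card_ge hT'T
        rw [hTc]
        apply Nat.sInf_le
        refine ⟨T', ⟨hT'T.trans hT.1, hT'1, ?_, hT'inv⟩, rfl⟩
        intro h
        apply hT.2.2.1
        exact le_antisymm hT.1 (h ▸ hT'T)
      -- conjugates of `T`
      let cj : G → Subgroup G := fun g => T.map (MulAut.conj g).toMonoidHom
      have hcj_mem : ∀ g x, x ∈ cj g ↔ ∃ t ∈ T, g * t * g⁻¹ = x := by
        intro g x
        constructor
        · rintro ⟨t, ht, rfl⟩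
          exact ⟨t, ht, rfl⟩
        · rintro ⟨t, ht, rfl⟩
          exact ⟨t, ht, rfl⟩
      have hcjN : ∀ g, cj g ≤ N := by
        intro g x hx
        obtain ⟨t, ht, rfl⟩ := (hcj_mem g x).mp hx
        exact hNn.conj_mem t (hTN ht) g
      have hcjinv : ∀ g, ∀ n ∈ N, ∀ x ∈ cj g, n * x * n⁻¹ ∈ cj g := by
        intro g n hn x hx
        obtain ⟨t, ht, rfl⟩ := (hcj_mem g x).mp hx
        refine (hcj_mem g _).mpr ⟨(g⁻¹ * n * g) * t * (g⁻¹ * n * g)⁻¹, hTinv _ ?_ t ht, by group⟩
        have := hNn.conj_mem n hn g⁻¹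
        simpa using this
      have hcjcard : ∀ g, Nat.card (cj g) = Nat.card T := by
        intro g
        exact Subgroup.card_map_of_injective (MulAut.conj g).injective
      have hcomm2 : ∀ T' : Subgroup G, T' ≤ N → (∀ n ∈ N, ∀ t ∈ T', n * t * n⁻¹ ∈ T') →
          Nat.card T' = Nat.card T → T' ≠ T → ∀ t ∈ T, ∀ t' ∈ T', t * t' = t' * t := by
        intro T' hT'N hT'inv hcard hne t ht t' ht'
        have hinf : T ⊓ T' = ⊥ := by
          by_contra h
          have h1 := hTmin (T ⊓ T') inf_le_left h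
            (fun n hn x hx => ⟨hTinv n hn x hx.1, hT'inv n hn x hx.2⟩)
          have h2 : T ≤ T' := by
            rw [← h1]
            exact inf_le_right
          exact hne (Subgroup.eq_of_le_of_card_ge h2 hcard.le).symm
        have hmem : t * t' * t⁻¹ * t'⁻¹ ∈ T ⊓ T' := by
          constructor
          · have := hTinv t' (hT'N ht') t⁻¹ (T.inv_mem ht)
            have h3 : t * t' * t⁻¹ * t'⁻¹ = t * (t' * t⁻¹ * t'⁻¹) := by group
            rw [h3]
            exact T.mul_mem ht this
          · have := hT'inv t (hTN ht) t' ht'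
            exact T'.mul_mem this (T'.inv_mem ht')
        rw [hinf, Subgroup.mem_bot] at hmem
        calc t * t' = (t * t' * t⁻¹ * t'⁻¹) * (t' * t) := by group
          _ = t' * t := by rw [hmem, one_mul]
      have hdecomp : ∀ n ∈ N, ∃ c ∈ N, (∀ t ∈ T, c * t = t * c) ∧ ∃ τ ∈ T, n = c * τ := by
        let P : Subgroup G :=
          { carrier := {x | ∃ c ∈ N, (∀ t ∈ T, c * t = t * c) ∧ ∃ τ ∈ T, x = c * τ}
            one_mem' := ⟨1, N.one_mem, fun t _ => by simp, 1, T.one_mem, by simp⟩
            mul_mem' := by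
              rintro x y ⟨c, hc, hcc, τ, hτ, rfl⟩ ⟨c', hc', hcc', τ', hτ', rfl⟩
              refine ⟨c * c', N.mul_mem hc hc', ?_, τ * τ', T.mul_mem hτ hτ', ?_⟩
              · intro t ht
                rw [mul_assoc, hcc' t ht, ← mul_assoc, hcc t ht, mul_assoc]
              · calc c * τ * (c' * τ') = c * (τ * c') * τ' := by group
                  _ = c * (c' * τ) * τ' := by rw [hcc' τ hτ]
                  _ = c * c' * (τ * τ') := by group
            inv_mem' := by
              rintro x ⟨c, hc, hcc, τ, hτ, rfl⟩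
              refine ⟨c⁻¹, N.inv_mem hc, ?_, τ⁻¹, T.inv_mem hτ, ?_⟩
              · intro t ht
                have := hcc t ht
                calc c⁻¹ * t = c⁻¹ * (t * c) * c⁻¹ := by group
                  _ = c⁻¹ * (c * t) * c⁻¹ := by rw [this]
                  _ = t * c⁻¹ := by group
              · have h2 := hcc τ hτ
                calc (c * τ)⁻¹ = (τ * c)⁻¹ := by rw [h2]
                  _ = c⁻¹ * τ⁻¹ := by group }
        have hNP : N ≤ P := by
          have hclosure : Subgroup.normalClosure (T : Set G) = N := by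
            haveI := hNn
            apply hNmin _ Subgroup.normalClosure_normal
            · intro h
              apply hT1
              rw [eq_bot_iff, ← h]
              exact Subgroup.le_normalClosure
            · exact Subgroup.normalClosure_le_normal hTN
          rw [← hclosure]
          show Subgroup.closure (Group.conjugatesOfSet (T : Set G)) ≤ P
          rw [Subgroup.closure_le]
          intro x hx
          rw [Group.mem_conjugatesOfSet_iff] at hx
          obtain ⟨t, ht, hconj⟩ := hx
          obtain ⟨g, hg⟩ := isConj_iff.mp hconj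
          have hxcj : x ∈ cj g := (hcj_mem g x).mpr ⟨t, ht, hg⟩
          by_cases hcase : cj g = T
          · rw [hcase] at hxcj
            exact ⟨1, N.one_mem, fun t _ => by simp, x, hxcj, by simp⟩
          · refine ⟨x, hcjN g hxcj, fun t' ht' => ?_, 1, T.one_mem, by simp⟩
            exact (hcomm2 (cj g) (hcjN g) (hcjinv g) (hcjcard g) hcase t' ht' x hxcj).symm
        intro n hn
        exact hNP hn
      have hTr : ∃ r : ℕ, r.Prime ∧ r ≠ p ∧ r ∣ Nat.card T := by
        by_contra hno
        push Not at hno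
        have hcardT : ∃ k, Nat.card T = p ^ k := by
          refine ⟨_, Nat.eq_prime_pow_of_unique_prime_dvd Nat.card_pos.ne' (fun {d} hd hdvd => ?_)⟩
          by_contra hdp
          exact hno d hd hdp hdvd
        obtain ⟨k, hk⟩ := hcardT
        haveI : Fact p.Prime := ⟨hp⟩
        have hTp : IsPGroup p T := IsPGroup.of_card hk
        haveI : Nontrivial T := (Subgroup.nontrivial_iff_ne_bot T).mpr hT1
        haveI hZ := hTp.center_nontrivial
        obtain ⟨z, hz⟩ := exists_ne (1 : Subgroup.center T)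
        let Z : Subgroup G := T ⊓ Subgroup.centralizer (T : Set G)
        have hZ1 : Z ≠ ⊥ := by
          intro h
          have hzZ : ((z : T) : G) ∈ Z := by
            refine Subgroup.mem_inf.mpr ⟨(z : T).2, Subgroup.mem_centralizer_iff.mpr ?_⟩
            intro t ht
            have := Subgroup.mem_center_iff.mp z.2 ⟨t, ht⟩
            exact congrArg Subtype.val this
          rw [h, Subgroup.mem_bot] at hzZ
          apply hz
          apply Subtype.ext
          apply Subtype.ext
          exact hzZ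
        have hZinv : ∀ n ∈ N, ∀ x ∈ Z, n * x * n⁻¹ ∈ Z := by
          intro n hn x hx
          have hx1 := (Subgroup.mem_inf.mp hx).1
          have hx2 := (Subgroup.mem_inf.mp hx).2
          refine Subgroup.mem_inf.mpr ⟨hTinv n hn x hx1, Subgroup.mem_centralizer_iff.mpr ?_⟩
          intro t ht
          have h1 := Subgroup.mem_centralizer_iff.mp hx2 (n⁻¹ * t * n) (by
            have := hTinv n⁻¹ (N.inv_mem hn) t ht
            simpa using this)
          calc t * (n * x * n⁻¹) = n * (n⁻¹ * t * n * x) * n⁻¹ := by group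
            _ = n * (x * (n⁻¹ * t * n)) * n⁻¹ := by rw [h1]
            _ = n * x * n⁻¹ * t := by group
        have hZT : Z = T := hTmin Z inf_le_left hZ1 hZinv
        have hTab : ∀ t ∈ T, ∀ t' ∈ T, t' * t = t * t' := by
          intro t ht t' ht'
          have : t ∈ Z := by rw [hZT]; exact ht
          exact Subgroup.mem_centralizer_iff.mp (Subgroup.mem_inf.mp this).2 t' ht'
        have hNT : ∀ n ∈ N, ∀ t ∈ T, n * t = t * n := by
          intro n hn t ht
          obtain ⟨c, hc, hcc, τ, hτ, rfl⟩ := hdecomp n hn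
          rw [mul_assoc, hTab t ht τ hτ, ← mul_assoc, hcc t ht, mul_assoc]
        let ZN : Subgroup G := N ⊓ Subgroup.centralizer (N : Set G)
        haveI := hNn
        have hZNn : ZN.Normal := inferInstance
        have hZN1 : ZN ≠ ⊥ := by
          intro h
          apply hT1
          rw [eq_bot_iff, ← h]
          intro t ht
          refine Subgroup.mem_inf.mpr ⟨hTN ht, Subgroup.mem_centralizer_iff.mpr ?_⟩
          intro n hn
          exact hNT n hn t ht
        have hZNN : ZN = N := hNmin ZN hZNn hZN1 inf_le_left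
        apply hNc
        intro x hx y hy
        have : y ∈ ZN := by rw [hZNN]; exact hy
        exact Subgroup.mem_centralizer_iff.mp (Subgroup.mem_inf.mp this).2 x hx
      obtain ⟨r, hr, hrp, hrT⟩ := hTr
      haveI : Fact r.Prime := ⟨hr⟩
      have hexg : ∃ g : G, cj g ≠ T := by
        by_contra hall
        push Not at hall
        have hTn : T.Normal := ⟨fun t ht g => by
          have : g * t * g⁻¹ ∈ cj g := (hcj_mem g _).mpr ⟨t, ht, rfl⟩
          rwa [hall g] at this⟩
        exact hTN' (hNmin T hTn hT1 hTN)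
      obtain ⟨g, hg⟩ := hexg
      obtain ⟨s₀, hs₀⟩ := exists_prime_orderOf_dvd_card' (G := T) r hrT
      have hs_mem : g * (s₀ : G) * g⁻¹ ∈ cj g := (hcj_mem g _).mpr ⟨s₀, s₀.2, rfl⟩
      have hs_ord : orderOf (g * (s₀ : G) * g⁻¹) = r := by
        have h1 : orderOf (MulAut.conj g (s₀ : G)) = orderOf (s₀ : G) := MulEquiv.orderOf_eq _ _
        rw [MulAut.conj_apply, Subgroup.orderOf_coe, hs₀] at h1
        exact h1
      obtain ⟨t₀, ht₀T, ht₀1⟩ : ∃ t₀ ∈ T, t₀ ≠ 1 := by
        by_contra h
        push Not at h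
        exact hT1 ((Subgroup.eq_bot_iff_forall T).mpr h)
      obtain ⟨ω₀, hω₀⟩ : ∃ ω₀ : Ω, t₀ • ω₀ ≠ ω₀ := by
        by_contra h
        push Not at h
        exact ht₀1 (FaithfulSMul.eq_of_smul_eq_smul (α := Ω) (fun ω => by rw [h ω, one_smul]))
      obtain ⟨t, ht⟩ := exists_derangement (T := T) (Δ := orbit T ω₀) inferInstance
        ⟨ω₀, mem_orbit_self ω₀⟩ ⟨t₀ • ω₀, ⟨⟨t₀, ht₀T⟩, rfl⟩⟩ (by
          intro h
          exact hω₀ (congrArg Subtype.val h).symm)
      have ht' : ∀ ω ∈ orbit T ω₀, (t : G) • ω ≠ ω := by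
        intro ω hω h
        exact ht ⟨ω, hω⟩ (Subtype.ext h)
      have htder : ∀ ω : Ω, (t : G) • ω ≠ ω := by
        intro ω hω
        obtain ⟨n, hn⟩ := hNt.exists_smul_eq ω₀ ω
        obtain ⟨c, hc, hcc, τ, hτ, hnc⟩ := hdecomp (n : G) n.2
        have h1 : ω = c • (τ • ω₀) := by
          rw [← mul_smul, ← hnc]
          exact hn.symm
        apply ht' (τ • ω₀) ⟨⟨τ, hτ⟩, rfl⟩
        have h2 : (t : G) • c • (τ • ω₀) = c • (τ • ω₀) := by
          rw [← h1]
          exact hω
        rw [← mul_smul, ← hcc (t : G) t.2, mul_smul] at h2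
        exact smul_left_cancel c h2
      obtain ⟨a, ha⟩ := hder (t : G) htder
      have hcomm : Commute (t : G) (g * (s₀ : G) * g⁻¹) :=
        hcomm2 (cj g) (hcjN g) (hcjinv g) (hcjcard g) hg (t : G) t.2 _ hs_mem
      have hcop : Nat.Coprime (orderOf (t : G)) (orderOf (g * (s₀ : G) * g⁻¹)) := by
        rw [ha, hs_ord]
        exact Nat.Coprime.pow_left a ((Nat.coprime_primes hp hr).mpr (Ne.symm hrp))
      have hord : orderOf ((t : G) * (g * (s₀ : G) * g⁻¹)) = p ^ a * r := by
        rw [hcomm.orderOf_mul_eq_mul_orderOf_of_coprime hcop, ha, hs_ord]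
      have hts_der : ∀ ω : Ω, ((t : G) * (g * (s₀ : G) * g⁻¹)) • ω ≠ ω := by
        intro ω hω
        have h0 : (t : G) * (g * (s₀ : G) * g⁻¹) ∈ stabilizer G ω := hω
        have h1 : ((t : G) * (g * (s₀ : G) * g⁻¹)) ^ orderOf (g * (s₀ : G) * g⁻¹) ∈
            stabilizer G ω := (stabilizer G ω).pow_mem h0 _
        rw [hcomm.mul_pow, pow_orderOf_eq_one, mul_one] at h1
        obtain ⟨m, hm⟩ := exists_pow_eq_self_of_coprime (x := (t : G))
          (n := orderOf (g * (s₀ : G) * g⁻¹)) hcop.symm
        have h2 : ((t : G) ^ orderOf (g * (s₀ : G) * g⁻¹)) ^ m ∈ stabilizer G ω :=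
          (stabilizer G ω).pow_mem h1 m
        rw [hm] at h2
        exact htder ω h2
      obtain ⟨b, hb⟩ := hder _ hts_der
      rw [hord] at hb
      have hdiv : r ∣ p ^ b := by
        rw [← hb]
        exact Dvd.intro_left _ rfl
      exact hrp ((Nat.prime_dvd_prime_iff_eq hr hp).mp (hr.dvd_of_dvd_pow hdiv))

end Cfsg.Agent.S3556
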