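import Cfsg.Statements.S3626
import Cfsg.Agent.S1159
import Cfsg.Agent.S2515
import Cfsg.Agent.Helper39.Spec3626LARGE
import Cfsg.Agent.Helper39.Spec3626MAXO
import Cfsg.Agent.Helper57.Spec3626PROD3
import Cfsg.Agent.Helper88.Spec3626TYPE0

set_option autoImplicit false
open Cfsg

namespace Cfsg.Agent.S3626

/-- Let R be the small Ree group over the field with q = 3^(2m+1) ≥ 27 elements. Then there are finite groups of arbitrarily large order with exactly the same set of element orders as R × R × R. -/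
theorem result {K : Type*} [Field K] [Fintype K] {m : ℕ} (hm : 1 ≤ m) (hK : Fintype.card K = 3 ^ (2 * m + 1)) (N : ℕ) :
    ∃ (H : Type) (_ : Group H) (_ : Fintype H), N < Fintype.card H ∧
      Set.range (orderOf : H → ℕ) = Set.range (orderOf : ↥(Cfsg.Lie.twistedG2 K (3 ^ m)) × ↥(Cfsg.Lie.twistedG2 K (3 ^ m)) × ↥(Cfsg.Lie.twistedG2 K (3 ^ m)) → ℕ) := by
  classical
  set q : ℕ := 3 ^ (2 * m + 1) with hq
  -- spectrum of the Ree group
  have hR := fun d : ℕ => Cfsg.Agent.S1159.result hm hK d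
  -- the truncated group
  obtain ⟨Y, _, _, ⟨P, hPn, hP1, hPp⟩, hmax⟩ :=
    Cfsg.Agent.S2515.result (2 * m + 1) (by omega) ⟨m, rfl⟩
  have hY0 : ∀ d : ℕ, (∃ y : Y, orderOf y = d) ↔
      (d ∣ 6 ∨ d ∣ 9 ∨ d ∣ 3 ^ (2 * m + 1) - 1 ∨ d ∣ (3 ^ (2 * m + 1) + 1) / 2) := by
    intro d
    rw [Cfsg.Agent.Helper39.orders_of_maxOrders _ hmax d]
    constructor
    · rintro ⟨s, hs, hds⟩
      simp only [Set.mem_insert_iff, Set.mem_singleton_iff] at hs
      rcases hs with rfl | rfl | rfl | rfl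
      · exact Or.inl hds
      · exact Or.inr (Or.inl hds)
      · exact Or.inr (Or.inr (Or.inl hds))
      · exact Or.inr (Or.inr (Or.inr hds))
    · rintro (h | h | h | h)
      · exact ⟨6, by simp, h⟩
      · exact ⟨9, by simp, h⟩
      · exact ⟨_, by simp, h⟩
      · exact ⟨_, by simp, h⟩
  have : Fact (Nat.Prime 3) := ⟨Nat.prime_three⟩
  obtain ⟨Z, _, _, hZN, hZr⟩ :=
    Cfsg.Agent.Helper39.exists_large_same_orders (Y := Y) 3 P hPn hP1 hPp N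
  have hZ : ∀ d : ℕ, (∃ z : Z, orderOf z = d) ↔
      (d ∣ 6 ∨ d ∣ 9 ∨ d ∣ 3 ^ (2 * m + 1) - 1 ∨ d ∣ (3 ^ (2 * m + 1) + 1) / 2) := by
    intro d
    rw [← hY0 d]
    have h1 : (∃ z : Z, orderOf z = d) ↔ d ∈ Set.range (orderOf : Z → ℕ) := Iff.rfl
    have h2 : (∃ y : Y, orderOf y = d) ↔ d ∈ Set.range (orderOf : Y → ℕ) := Iff.rfl
    rw [h1, h2, hZr]
  have hprod := Cfsg.Agent.Helper57.orders_prod_three
    (G := ↥(Cfsg.Lie.twistedG2 K (3 ^ m))) (Y := Z)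
    (3 ^ (2 * m + 1) - 1) ((3 ^ (2 * m + 1) + 1) / 2)
    (3 ^ (2 * m + 1) - 3 ^ (m + 1) + 1) (3 ^ (2 * m + 1) + 3 ^ (m + 1) + 1) hR hZ
  obtain ⟨H, hHg, hHf, ⟨e⟩⟩ := Cfsg.Agent.Helper88.exists_type_zero_copy
    (↥(Cfsg.Lie.twistedG2 K (3 ^ m)) × ↥(Cfsg.Lie.twistedG2 K (3 ^ m)) × Z)
  refine ⟨H, hHg, hHf, ?_, ?_⟩
  · have hc : Fintype.card H =
        Nat.card (↥(Cfsg.Lie.twistedG2 K (3 ^ m)) × ↥(Cfsg.Lie.twistedG2 K (3 ^ m)) × Z) := by
      rw [← Nat.card_eq_fintype_card]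
      exact (Nat.card_congr e.toEquiv).symm
    rw [hc, Nat.card_prod, Nat.card_prod, Nat.card_eq_fintype_card (α := Z)]
    have hpos : 0 < Nat.card ↥(Cfsg.Lie.twistedG2 K (3 ^ m)) := Nat.card_pos
    calc N < Fintype.card Z := hZN
      _ = 1 * (1 * Fintype.card Z) := by ring
      _ ≤ _ := Nat.mul_le_mul hpos (Nat.mul_le_mul hpos le_rfl)
  · rw [← hprod]
    ext d
    constructor
    · rintro ⟨h, rfl⟩
      exact ⟨e.symm h, (e.symm.orderOf_eq h)⟩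
    · rintro ⟨x, rfl⟩
      exact ⟨e x, e.orderOf_eq x⟩

end Cfsg.Agent.S3626
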