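import Cfsg.Statements.S3634
import Mathlib.GroupTheory.Sylow
import Mathlib.GroupTheory.PGroup
import Mathlib.GroupTheory.Index
import Mathlib.GroupTheory.Perm.Cycle.Type
import Mathlib.GroupTheory.GroupAction.ConjAct

set_option autoImplicit false
open Cfsg

namespace Cfsg.Agent.S3634

/-- Two commuting nontrivial elements of prime-power orders for distinct primes give an element whose
order is the product of the two primes. -/
theorem exists_order_mul {X : Type*} [Group X] [Finite X] {s t : ℕ} (hs : s.Prime) (ht : t.Prime)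
    (hst : s ≠ t) (a b : X) (ha : a ≠ 1) (ha' : ∃ k, orderOf a = s ^ k) (hb : b ≠ 1)
    (hb' : ∃ k, orderOf b = t ^ k) (hab : Commute a b) : ∃ x : X, orderOf x = s * t := by
  obtain ⟨k, hk⟩ := ha'
  obtain ⟨l, hl⟩ := hb'
  have hk0 : k ≠ 0 := by
    rintro rfl
    rw [pow_zero, orderOf_eq_one_iff] at hk
    exact ha hk
  have hl0 : l ≠ 0 := by
    rintro rfl
    rw [pow_zero, orderOf_eq_one_iff] at hl
    exact hb hl
  have h1 : orderOf (a ^ (orderOf a / s)) = s :=
    orderOf_pow_orderOf_div (orderOf_pos a).ne' (by rw [hk]; exact dvd_pow_self s hk0)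
  have h2 : orderOf (b ^ (orderOf b / t)) = t :=
    orderOf_pow_orderOf_div (orderOf_pos b).ne' (by rw [hl]; exact dvd_pow_self t hl0)
  refine ⟨a ^ (orderOf a / s) * b ^ (orderOf b / t), ?_⟩
  have hc : Commute (a ^ (orderOf a / s)) (b ^ (orderOf b / t)) := hab.pow_pow _ _
  rw [hc.orderOf_mul_eq_mul_orderOf_of_coprime (by rw [h1, h2]; exact (Nat.coprime_primes hs ht).mpr hst),
    h1, h2]

/-- If `y` normalizes the finite subgroup `Q` and centralizes no nontrivial element of it, then every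
element of the coset `Q y` is conjugate to `y`; in particular its `r`-th power is trivial when `y ^ r = 1`. -/
theorem coset_pow_eq_one {T : Type*} [Group T] (Q : Subgroup T) [Finite Q] (y : T) (r : ℕ)
    (hy : y ^ r = 1) (hyQ : ∀ x ∈ Q, y * x * y⁻¹ ∈ Q) (h3 : ∀ x ∈ Q, Commute x y → x = 1) :
    ∀ x ∈ Q, (x * y) ^ r = 1 := by
  let ψ : Q → Q := fun u => ⟨u * (y * (u : T)⁻¹ * y⁻¹), Q.mul_mem u.2 (hyQ _ (Q.inv_mem u.2))⟩
  have hinj : Function.Injective ψ := by
    intro u u' h
    have h' : (u : T) * (y * (u : T)⁻¹ * y⁻¹) = (u' : T) * (y * (u' : T)⁻¹ * y⁻¹) :=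
      congrArg Subtype.val h
    have hc : Commute ((u' : T)⁻¹ * u) y := by
      have h'' : (u : T) * y * (u : T)⁻¹ = (u' : T) * y * (u' : T)⁻¹ := by
        have := congrArg (· * y) h'
        simpa [mul_assoc] using this
      show (u' : T)⁻¹ * u * y = y * ((u' : T)⁻¹ * u)
      have e1 : (u : T) * y = (u' : T) * y * (u' : T)⁻¹ * u := by
        rw [← h'']; group
      calc (u' : T)⁻¹ * u * y = (u' : T)⁻¹ * ((u : T) * y) := by group
        _ = (u' : T)⁻¹ * ((u' : T) * y * (u' : T)⁻¹ * u) := by rw [e1]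
        _ = y * ((u' : T)⁻¹ * u) := by group
    have := h3 _ (Q.mul_mem (Q.inv_mem u'.2) u.2) hc
    apply Subtype.ext
    have h4 : (u : T) = u' * ((u' : T)⁻¹ * u) := by group
    rw [h4, this, mul_one]
  have hsurj : Function.Surjective ψ := Finite.surjective_of_injective hinj
  intro x hx
  obtain ⟨u, hu⟩ := hsurj ⟨x, hx⟩
  have hx' : x = u * (y * (u : T)⁻¹ * y⁻¹) := (congrArg Subtype.val hu).symm
  have : x * y = (u : T) * y * (u : T)⁻¹ := by rw [hx']; group
  rw [this, conj_pow, hy]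
  group


/-- Powers of an element normalizing `Q` (in one direction) normalize `Q`. -/
theorem pow_conj_mem {T : Type*} [Group T] (Q : Subgroup T) (y : T)
    (hyQ : ∀ x ∈ Q, y * x * y⁻¹ ∈ Q) (i : ℕ) : ∀ x ∈ Q, y ^ i * x * (y ^ i)⁻¹ ∈ Q := by
  induction i with
  | zero => intro x hx; simpa using hx
  | succ i ih =>
    intro x hx
    have := hyQ _ (ih x hx)
    have e : y ^ (i + 1) * x * (y ^ (i + 1))⁻¹ = y * (y ^ i * x * (y ^ i)⁻¹) * y⁻¹ := by
      rw [pow_succ']; group
    rw [e]; exact this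

/-- `(x y)^i y^{-i}` lies in `Q` when `x ∈ Q` and `y` normalizes `Q`. -/
theorem pow_mul_inv_mem {T : Type*} [Group T] (Q : Subgroup T) (y : T)
    (hyQ : ∀ x ∈ Q, y * x * y⁻¹ ∈ Q) (x : T) (hx : x ∈ Q) (i : ℕ) :
    (x * y) ^ i * (y ^ i)⁻¹ ∈ Q := by
  induction i with
  | zero => simp
  | succ i ih =>
    have h1 := pow_conj_mem Q y hyQ i x hx
    have e : (x * y) ^ (i + 1) * (y ^ (i + 1))⁻¹ =
        ((x * y) ^ i * (y ^ i)⁻¹) * (y ^ i * x * (y ^ i)⁻¹) := by
      rw [pow_succ, pow_succ]; group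
    rw [e]; exact Q.mul_mem ih h1

/-- The norm argument: a "Frobenius group" `Q ⟨y⟩` (kernel `Q`, complement of prime order `r`)
acting on a commutative group `A` such that `Q` and all elements of `Q y` have no nontrivial fixed
points forces `a ^ |Q| = 1` for all `a`. -/
theorem norm_argument {T A : Type*} [Group T] [CommGroup A] (φ : T →* MulAut A)
    (Q : Subgroup T) [Finite Q] (y : T) (r : ℕ) (hr : r.Prime) (hy : y ^ r = 1)
    (hyQ : ∀ x ∈ Q, y * x * y⁻¹ ∈ Q)
    (h3 : ∀ x ∈ Q, Commute x y → x = 1)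
    (h4 : ∀ a : A, (∀ x ∈ Q, φ x a = a) → a = 1)
    (h5 : ∀ x ∈ Q, ∀ a : A, φ (x * y) a = a → a = 1) :
    ∀ a : A, a ^ Nat.card Q = 1 := by
  classical
  have : Fintype Q := Fintype.ofFinite Q
  have hpow := coset_pow_eq_one Q y r hy hyQ h3
  intro a
  -- the double product
  have claim1 : ∀ x : Q, ∏ i ∈ Finset.range r, φ (((x : T) * y) ^ i) a = 1 := by
    intro x
    apply h5 x x.2
    rw [map_prod]
    have e1 : ∀ i ∈ Finset.range r, φ ((x : T) * y) (φ (((x : T) * y) ^ i) a) =
        φ (((x : T) * y) ^ (i + 1)) a := by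
      intro i _
      rw [pow_succ', map_mul φ ((x : T) * y) (((x : T) * y) ^ i), MulAut.mul_apply]
    rw [Finset.prod_congr rfl e1]
    have e2 := Finset.prod_range_succ' (fun i => φ (((x : T) * y) ^ i) a) r
    have e3 := Finset.prod_range_succ (fun i => φ (((x : T) * y) ^ i) a) r
    rw [e3] at e2
    simp only [hpow x x.2, pow_zero] at e2
    exact (mul_right_cancel e2).symm
  have claim2 : ∀ i, 0 < i → i < r → ∏ x : Q, φ (((x : T) * y) ^ i) a = 1 := by
    intro i hi0 hir
    -- the reindexing map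
    let β : Q → Q := fun x => ⟨((x : T) * y) ^ i * (y ^ i)⁻¹, pow_mul_inv_mem Q y hyQ x x.2 i⟩
    have hcop : Nat.Coprime i r := by
      rw [Nat.coprime_comm, Nat.Prime.coprime_iff_not_dvd hr]
      intro hdvd
      have := Nat.le_of_dvd hi0 hdvd
      omega
    obtain ⟨j, -, hj⟩ := Nat.exists_mul_mod_eq_one_of_coprime hcop hr.one_lt
    have hβinj : Function.Injective β := by
      intro x x' h
      have h' : ((x : T) * y) ^ i * (y ^ i)⁻¹ = ((x' : T) * y) ^ i * (y ^ i)⁻¹ :=
        congrArg Subtype.val h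
      have h'' : ((x : T) * y) ^ i = ((x' : T) * y) ^ i := mul_right_cancel h'
      have k1 : ((x : T) * y) = (((x : T) * y) ^ i) ^ j := by
        rw [← pow_mul, pow_eq_pow_mod (i * j) (hpow x x.2), hj, pow_one]
      have k2 : ((x' : T) * y) = (((x' : T) * y) ^ i) ^ j := by
        rw [← pow_mul, pow_eq_pow_mod (i * j) (hpow x' x'.2), hj, pow_one]
      have : (x : T) * y = (x' : T) * y := by rw [k1, k2, h'']
      exact Subtype.ext (mul_right_cancel this)
    have hβbij : Function.Bijective β := ⟨hβinj, Finite.surjective_of_injective hβinj⟩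
    have e1 : ∀ x : Q, φ (((x : T) * y) ^ i) a = φ (β x : T) (φ (y ^ i) a) := by
      intro x
      rw [← MulAut.mul_apply, ← map_mul]
      congr 2
      simp [β]
    rw [Finset.prod_congr rfl (fun x _ => e1 x)]
    rw [Function.Bijective.prod_comp hβbij (fun x : Q => φ (x : T) (φ (y ^ i) a))]
    apply h4
    intro x hx
    rw [map_prod]
    have e2 : ∀ x' : Q, φ x (φ (x' : T) (φ (y ^ i) a)) =
        φ (((⟨x, hx⟩ : Q) * x' : Q) : T) (φ (y ^ i) a) := by
      intro x'
      rw [← MulAut.mul_apply, ← map_mul]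
      rfl
    rw [Finset.prod_congr rfl (fun x' _ => e2 x')]
    exact Function.Bijective.prod_comp (Group.mulLeft_bijective (⟨x, hx⟩ : Q))
      (fun x' : Q => φ (x' : T) (φ (y ^ i) a))
  have hS : ∏ x : Q, ∏ i ∈ Finset.range r, φ (((x : T) * y) ^ i) a = 1 := by
    rw [Finset.prod_congr rfl (fun x _ => claim1 x)]
    simp
  rw [Finset.prod_comm] at hS
  obtain ⟨r', rfl⟩ : ∃ r', r = r' + 1 := ⟨r - 1, by have := hr.one_lt; omega⟩
  rw [Finset.prod_range_succ'] at hS
  have e3 : ∏ i ∈ Finset.range r', ∏ x : Q, φ (((x : T) * y) ^ (i + 1)) a = 1 := by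
    apply Finset.prod_eq_one
    intro i hi
    exact claim2 (i + 1) (by omega) (by have := Finset.mem_range.mp hi; omega)
  rw [e3, one_mul] at hS
  simp only [pow_zero, map_one, MulAut.one_apply, Finset.prod_const, Finset.card_univ] at hS
  rw [Nat.card_eq_fintype_card]
  exact hS


/-- The core configuration: a normal abelian nontrivial `p`-subgroup `V`, a nontrivial `q`-subgroup
`Q` and an element `y` of order `r` normalizing `Q`. -/
theorem core {X : Type*} [Group X] [Finite X] (p q r : ℕ) (hp : p.Prime) (hq : q.Prime)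
    (hr : r.Prime) (hpq : p ≠ q) (hpr : p ≠ r) (hqr : q ≠ r)
    (V : Subgroup X) [V.Normal] (hVne : V ≠ ⊥) (hVp : IsPGroup p V)
    (hVc : ∀ a ∈ V, ∀ b ∈ V, a * b = b * a)
    (Q : Subgroup X) (hQne : Q ≠ ⊥) (hQq : IsPGroup q Q)
    (y : X) (hy : orderOf y = r) (hyQ : ∀ x ∈ Q, y * x * y⁻¹ ∈ Q) :
    (∃ x : X, orderOf x = p * q) ∨ (∃ x : X, orderOf x = p * r) ∨ (∃ x : X, orderOf x = q * r) := by
  by_contra hcon
  have hnpq : ¬ ∃ x : X, orderOf x = p * q := fun h => hcon (Or.inl h)
  have hnpr : ¬ ∃ x : X, orderOf x = p * r := fun h => hcon (Or.inr (Or.inl h))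
  have hnqr : ¬ ∃ x : X, orderOf x = q * r := fun h => hcon (Or.inr (Or.inr h))
  have : Fact p.Prime := ⟨hp⟩
  have : Fact q.Prime := ⟨hq⟩
  have : Fact r.Prime := ⟨hr⟩
  have hVord : ∀ a ∈ V, ∃ k, orderOf a = p ^ k := by
    intro a ha
    obtain ⟨k, hk⟩ := (IsPGroup.iff_orderOf.mp hVp) ⟨a, ha⟩
    exact ⟨k, by rw [← hk, ← Subgroup.orderOf_coe]⟩
  have hQord : ∀ a ∈ Q, ∃ k, orderOf a = q ^ k := by
    intro a ha
    obtain ⟨k, hk⟩ := (IsPGroup.iff_orderOf.mp hQq) ⟨a, ha⟩
    exact ⟨k, by rw [← hk, ← Subgroup.orderOf_coe]⟩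
  have hyord : ∃ k, orderOf y = r ^ k := ⟨1, by rw [hy, pow_one]⟩
  have hy1 : y ≠ 1 := by
    intro h
    rw [h, orderOf_one] at hy
    exact hr.one_lt.ne hy
  have hyr : y ^ r = 1 := by rw [← hy]; exact pow_orderOf_eq_one y
  have h3 : ∀ x ∈ Q, Commute x y → x = 1 := by
    intro x hx hc
    by_contra hx1
    exact hnqr (exists_order_mul hq hr hqr x y hx1 (hQord x hx) hy1 hyord hc)
  have hpow := coset_pow_eq_one Q y r hyr hyQ h3
  letI : CommGroup V :=
    { (inferInstance : Group V) with mul_comm := fun a b => Subtype.ext (hVc a a.2 b b.2) }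
  have key := norm_argument (MulAut.conjNormal : X →* MulAut V) Q y r hr hyr hyQ h3 ?_ ?_
  · obtain ⟨a, ha1⟩ := Subgroup.ne_bot_iff_exists_ne_one.mp hVne
    have h1 := key a
    obtain ⟨n, hn⟩ := IsPGroup.iff_card.mp hQq
    rw [hn] at h1
    obtain ⟨k, hk⟩ := (IsPGroup.iff_orderOf.mp hVp) a
    have hd : orderOf a ∣ q ^ n := orderOf_dvd_of_pow_eq_one h1
    rw [hk] at hd
    have hk0 : k = 0 := by
      by_contra hk0
      have : p ∣ q ^ n := dvd_trans (dvd_pow_self p hk0) hd
      exact hpq ((Nat.prime_dvd_prime_iff_eq hp hq).mp (hp.dvd_of_dvd_pow this))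
    rw [hk0, pow_zero, orderOf_eq_one_iff] at hk
    exact ha1 hk
  · intro a ha
    by_contra ha1
    obtain ⟨x, hx1⟩ := Subgroup.ne_bot_iff_exists_ne_one.mp hQne
    have hfix := ha x x.2
    have hfix' : (x : X) * a * (x : X)⁻¹ = a := by
      have := congrArg Subtype.val hfix
      rwa [MulAut.conjNormal_apply] at this
    have hc : Commute (a : X) (x : X) := by
      show (a : X) * x = x * a
      have : (x : X) * a = a * x := by
        calc (x : X) * a = (x : X) * a * (x : X)⁻¹ * x := by group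
          _ = a * x := by rw [hfix']
      exact this.symm
    have ha1' : (a : X) ≠ 1 := fun h => ha1 (Subtype.ext h)
    have hx1' : (x : X) ≠ 1 := fun h => hx1 (Subtype.ext h)
    exact hnpq (exists_order_mul hp hq hpq (a : X) x ha1' (hVord a a.2) hx1' (hQord x x.2) hc)
  · intro x hx a ha
    by_contra ha1
    have hz1 : x * y ≠ 1 := by
      intro h
      have hyx : y = x⁻¹ := eq_inv_of_mul_eq_one_right h
      have hyQ' : y ∈ Q := hyx ▸ Q.inv_mem hx
      exact hy1 (h3 y hyQ' (Commute.refl y))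
    have hzord : orderOf (x * y) = r := orderOf_eq_prime (hpow x hx) hz1
    have hfix' : (x * y) * a * (x * y)⁻¹ = a := by
      have := congrArg Subtype.val ha
      rwa [MulAut.conjNormal_apply] at this
    have hc : Commute (a : X) (x * y) := by
      show (a : X) * (x * y) = (x * y) * a
      have : (x * y) * a = a * (x * y) := by
        calc (x * y) * a = (x * y) * a * (x * y)⁻¹ * (x * y) := by group
          _ = a * (x * y) := by rw [hfix']
      exact this.symm
    have ha1' : (a : X) ≠ 1 := fun h => ha1 (Subtype.ext h)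
    exact hnpr (exists_order_mul hp hr hpr (a : X) (x * y) ha1' (hVord a a.2) hz1
      ⟨1, by rw [hzord, pow_one]⟩ hc)


/-- Let G be a finite group with normal subgroups K ≤ M, and let p, q, r be distinct primes with p dividing the order of K, q dividing the order of M/K and r dividing the order of G/M. Then p, q, r are not pairwise non-adjacent in the prime graph of G: G has an element of order pq, pr or qr. -/
theorem result {G : Type*} [Group G] [Finite G] (K M : Subgroup G) [K.Normal] [M.Normal] (hKM : K ≤ M)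
    (p q r : ℕ) (hp : p.Prime) (hq : q.Prime) (hr : r.Prime) (hpq : p ≠ q) (hpr : p ≠ r) (hqr : q ≠ r)
    (hpK : p ∣ Nat.card ↥K) (hqM : q ∣ Nat.card ↥M / Nat.card ↥K) (hrG : r ∣ Nat.card G / Nat.card ↥M) :
    (∃ x : G, orderOf x = p * q) ∨ (∃ x : G, orderOf x = p * r) ∨ (∃ x : G, orderOf x = q * r) := by
  have : Fact p.Prime := ⟨hp⟩
  have : Fact q.Prime := ⟨hq⟩
  have : Fact r.Prime := ⟨hr⟩
  -- Step 1: a Sylow `p`-subgroup of `K` and its normalizer
  obtain ⟨P⟩ : Nonempty (Sylow p K) := inferInstance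
  have hP₀p : IsPGroup p ((P : Subgroup K).map K.subtype) := P.isPGroup'.map K.subtype
  have hP₀ne : (P : Subgroup K).map K.subtype ≠ ⊥ := by
    have := P.ne_bot_of_dvd_card hpK
    intro h
    exact this ((Subgroup.map_eq_bot_iff_of_injective _ K.subtype_injective).mp h)
  have hfr : Subgroup.normalizer (((P : Subgroup K).map K.subtype : Subgroup G) : Set G) ⊔ K = ⊤ := Sylow.normalizer_sup_eq_top P
  generalize hP₀ : (P : Subgroup K).map K.subtype = P₀ at hP₀p hP₀ne hfr
  have hN₁M : (Subgroup.normalizer (P₀ : Set G)) ⊔ M = ⊤ := by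
    rw [eq_top_iff, ← hfr]; exact sup_le_sup_left hKM _
  have hrM : r ∣ M.index := by
    have := M.card_mul_index
    rw [← this, Nat.mul_div_cancel_left _ Nat.card_pos] at hrG
    exact hrG
  have hqrel : q ∣ K.relIndex M := by
    have h1 : K.relIndex M * Nat.card K = Nat.card M := by
      have := (K.subgroupOf M).card_mul_index
      rw [Nat.card_congr (Subgroup.subgroupOfEquivOfLe hKM).toEquiv] at this
      rw [Subgroup.relIndex, mul_comm]; exact this
    rw [← h1, Nat.mul_div_cancel _ Nat.card_pos] at hqM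
    exact hqM
  -- the normal abelian `p`-subgroup `V` of `N₁ = N_G(P₀)`
  have hP₁n : (P₀.subgroupOf (Subgroup.normalizer (P₀ : Set G))).Normal := Subgroup.normal_in_normalizer
  have hP₁p : IsPGroup p (P₀.subgroupOf (Subgroup.normalizer (P₀ : Set G))) :=
    hP₀p.comap_of_injective (Subgroup.normalizer (P₀ : Set G)).subtype Subtype.coe_injective
  have hP₁nt : Nontrivial (P₀.subgroupOf (Subgroup.normalizer (P₀ : Set G))) := by
    obtain ⟨a, ha1⟩ := Subgroup.ne_bot_iff_exists_ne_one.mp hP₀ne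
    rw [Subgroup.nontrivial_iff_exists_ne_one]
    refine ⟨⟨a, Subgroup.le_normalizer a.2⟩, ?_, ?_⟩
    · rw [Subgroup.mem_subgroupOf]; exact a.2
    · intro h
      apply ha1
      apply Subtype.ext
      have h' := congrArg (fun t : Subgroup.normalizer (P₀ : Set G) => (t : G)) h
      exact h'
  have hVn : ((P₀.subgroupOf (Subgroup.normalizer (P₀ : Set G))) ⊓
      Subgroup.centralizer ((P₀.subgroupOf (Subgroup.normalizer (P₀ : Set G)) : Subgroup (Subgroup.normalizer (P₀ : Set G))) :
        Set (Subgroup.normalizer (P₀ : Set G)))).Normal := inferInstance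
  have hVp : IsPGroup p ↥((P₀.subgroupOf (Subgroup.normalizer (P₀ : Set G))) ⊓
      Subgroup.centralizer ((P₀.subgroupOf (Subgroup.normalizer (P₀ : Set G)) : Subgroup (Subgroup.normalizer (P₀ : Set G))) :
        Set (Subgroup.normalizer (P₀ : Set G)))) := hP₁p.to_le inf_le_left
  have hVne : ((P₀.subgroupOf (Subgroup.normalizer (P₀ : Set G))) ⊓
      Subgroup.centralizer ((P₀.subgroupOf (Subgroup.normalizer (P₀ : Set G)) : Subgroup (Subgroup.normalizer (P₀ : Set G))) :
        Set (Subgroup.normalizer (P₀ : Set G)))) ≠ ⊥ := by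
    have hc := hP₁p.center_nontrivial
    obtain ⟨z, hz, hz1⟩ := (Subgroup.nontrivial_iff_exists_ne_one _).mp hc
    intro hbot
    have hmem : ((z : P₀.subgroupOf (Subgroup.normalizer (P₀ : Set G))) : (Subgroup.normalizer (P₀ : Set G))) ∈
        ((P₀.subgroupOf (Subgroup.normalizer (P₀ : Set G))) ⊓
          Subgroup.centralizer ((P₀.subgroupOf (Subgroup.normalizer (P₀ : Set G)) : Subgroup (Subgroup.normalizer (P₀ : Set G))) :
            Set (Subgroup.normalizer (P₀ : Set G)))) := by
      refine ⟨z.2, ?_⟩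
      refine Subgroup.mem_centralizer_iff.mpr (fun h hh => ?_)
      have := Subgroup.mem_center_iff.mp hz ⟨h, hh⟩
      exact congrArg Subtype.val this
    rw [hbot, Subgroup.mem_bot] at hmem
    exact hz1 (Subtype.ext hmem)
  have hVc : ∀ a ∈ ((P₀.subgroupOf (Subgroup.normalizer (P₀ : Set G))) ⊓
      Subgroup.centralizer ((P₀.subgroupOf (Subgroup.normalizer (P₀ : Set G)) : Subgroup (Subgroup.normalizer (P₀ : Set G))) :
        Set (Subgroup.normalizer (P₀ : Set G)))), ∀ b ∈ ((P₀.subgroupOf (Subgroup.normalizer (P₀ : Set G))) ⊓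
      Subgroup.centralizer ((P₀.subgroupOf (Subgroup.normalizer (P₀ : Set G)) : Subgroup (Subgroup.normalizer (P₀ : Set G))) :
        Set (Subgroup.normalizer (P₀ : Set G)))), a * b = b * a := by
    intro a ha b hb
    exact ((Subgroup.mem_centralizer_iff.mp ha.2) b hb.1).symm
  generalize ((P₀.subgroupOf (Subgroup.normalizer (P₀ : Set G))) ⊓
      Subgroup.centralizer ((P₀.subgroupOf (Subgroup.normalizer (P₀ : Set G)) : Subgroup (Subgroup.normalizer (P₀ : Set G))) :
        Set (Subgroup.normalizer (P₀ : Set G)))) = V at hVn hVp hVne hVc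
  -- Step 3: a Sylow `q`-subgroup of `M ∩ N₁` inside `N₁`
  have hq1 : q ∣ Nat.card (M.subgroupOf (Subgroup.normalizer (P₀ : Set G))) := by
    have hsup : (M ⊓ (Subgroup.normalizer (P₀ : Set G))) ⊔ K = M := by
      apply le_antisymm
      · exact sup_le inf_le_left hKM
      · intro m hm
        have hm' : m ∈ (Subgroup.normalizer (P₀ : Set G)) ⊔ K := by rw [hfr]; exact Subgroup.mem_top m
        rw [Subgroup.mem_sup_of_normal_right] at hm'
        obtain ⟨n, hn, k, hk, rfl⟩ := hm'
        apply Subgroup.mul_mem_sup _ hk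
        refine ⟨?_, hn⟩
        have : n = n * k * k⁻¹ := by group
        rw [this]
        exact M.mul_mem hm (M.inv_mem (hKM hk))
    have h1 : K.relIndex M = K.relIndex (M ⊓ (Subgroup.normalizer (P₀ : Set G))) := by
      conv_lhs => rw [← hsup]
      exact Subgroup.relIndex_sup_right _ _
    have h2 : K.relIndex (M ⊓ (Subgroup.normalizer (P₀ : Set G))) ∣ Nat.card ↥(M ⊓ (Subgroup.normalizer (P₀ : Set G))) :=
      Subgroup.relIndex_dvd_card _ _
    have h3 : Nat.card ↥(M ⊓ (Subgroup.normalizer (P₀ : Set G))) = Nat.card (M.subgroupOf (Subgroup.normalizer (P₀ : Set G))) := by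
      rw [← Subgroup.inf_subgroupOf_right M (Subgroup.normalizer (P₀ : Set G))]
      exact (Nat.card_congr (Subgroup.subgroupOfEquivOfLe inf_le_right).toEquiv).symm
    rw [← h3]
    exact dvd_trans (h1 ▸ hqrel) h2
  obtain ⟨Q'⟩ : Nonempty (Sylow q (M.subgroupOf (Subgroup.normalizer (P₀ : Set G)))) := inferInstance
  have hQp : IsPGroup q ((Q' : Subgroup (M.subgroupOf (Subgroup.normalizer (P₀ : Set G)))).map
      (M.subgroupOf (Subgroup.normalizer (P₀ : Set G))).subtype) := Q'.isPGroup'.map _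
  have hQne : (Q' : Subgroup (M.subgroupOf (Subgroup.normalizer (P₀ : Set G)))).map
      (M.subgroupOf (Subgroup.normalizer (P₀ : Set G))).subtype ≠ ⊥ := by
    have := Q'.ne_bot_of_dvd_card hq1
    intro h
    exact this ((Subgroup.map_eq_bot_iff_of_injective _
      (M.subgroupOf (Subgroup.normalizer (P₀ : Set G))).subtype_injective).mp h)
  have hfr2 : Subgroup.normalizer (((Q' : Subgroup (M.subgroupOf (Subgroup.normalizer (P₀ : Set G)))).map
      (M.subgroupOf (Subgroup.normalizer (P₀ : Set G))).subtype :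
        Subgroup (Subgroup.normalizer (P₀ : Set G))) : Set (Subgroup.normalizer (P₀ : Set G))) ⊔ (M.subgroupOf (Subgroup.normalizer (P₀ : Set G))) = ⊤ :=
    Sylow.normalizer_sup_eq_top Q'
  generalize hQ₀ : (Q' : Subgroup (M.subgroupOf (Subgroup.normalizer (P₀ : Set G)))).map
      (M.subgroupOf (Subgroup.normalizer (P₀ : Set G))).subtype = Q at hQp hQne hfr2
  have hrZ : r ∣ Nat.card (Subgroup.normalizer (Q : Set (Subgroup.normalizer (P₀ : Set G)))) := by
    have h1 : (M.subgroupOf (Subgroup.normalizer (P₀ : Set G))).index = M.index := by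
      show M.relIndex (Subgroup.normalizer (P₀ : Set G)) = M.index
      rw [← Subgroup.relIndex_sup_right (Subgroup.normalizer (P₀ : Set G)) M, hN₁M,
        Subgroup.relIndex_top_right]
    have h2 : (M.subgroupOf (Subgroup.normalizer (P₀ : Set G))).index =
        (M.subgroupOf (Subgroup.normalizer (P₀ : Set G))).relIndex (Subgroup.normalizer (Q : Set (Subgroup.normalizer (P₀ : Set G)))) := by
      rw [← Subgroup.relIndex_sup_right (Subgroup.normalizer (Q : Set (Subgroup.normalizer (P₀ : Set G))))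
        (M.subgroupOf (Subgroup.normalizer (P₀ : Set G))), hfr2, Subgroup.relIndex_top_right]
    have h3 := Subgroup.relIndex_dvd_card (M.subgroupOf (Subgroup.normalizer (P₀ : Set G))) (Subgroup.normalizer (Q : Set (Subgroup.normalizer (P₀ : Set G))))
    rw [← h2, h1] at h3
    exact dvd_trans hrM h3
  obtain ⟨y', hy'⟩ := exists_prime_orderOf_dvd_card' r hrZ
  have hy : orderOf (y' : (Subgroup.normalizer (P₀ : Set G))) = r := by rw [Subgroup.orderOf_coe, hy']
  have hyQ : ∀ x ∈ Q, (y' : (Subgroup.normalizer (P₀ : Set G))) * x * (y' : (Subgroup.normalizer (P₀ : Set G)))⁻¹ ∈ Q := by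
    intro x hx
    exact (Subgroup.mem_normalizer_iff.mp y'.2 x).mp hx
  have key := core p q r hp hq hr hpq hpr hqr V hVne hVp hVc Q hQne hQp (y' : (Subgroup.normalizer (P₀ : Set G))) hy hyQ
  rcases key with ⟨x, hx⟩ | ⟨x, hx⟩ | ⟨x, hx⟩
  · exact Or.inl ⟨x, by rw [Subgroup.orderOf_coe, hx]⟩
  · exact Or.inr (Or.inl ⟨x, by rw [Subgroup.orderOf_coe, hx]⟩)
  · exact Or.inr (Or.inr ⟨x, by rw [Subgroup.orderOf_coe, hx]⟩)

end Cfsg.Agent.S3634
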