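import Cfsg.Statements.S3633
import Cfsg.Agent.S3634
import Mathlib.GroupTheory.Sylow
import Mathlib.GroupTheory.Index
import Mathlib.GroupTheory.Solvable
import Mathlib.GroupTheory.QuotientGroup.Basic
import Mathlib.GroupTheory.Commutator.Basic

set_option autoImplicit false
open Cfsg

namespace Cfsg.Agent.S3633

open scoped commutatorElement

/-- For `N ≤ H` with `N` normal: `|H| = |N| * |H N / N|`. -/
theorem card_eq_mul_card_map {X : Type*} [Group X] [Finite X] (N H : Subgroup X) [N.Normal]
    (hNH : N ≤ H) : Nat.card H = Nat.card N * Nat.card (H.map (QuotientGroup.mk' N)) := by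
  have hπ : Function.Surjective (QuotientGroup.mk' N) := QuotientGroup.mk'_surjective N
  have hker : (QuotientGroup.mk' N).ker ≤ H := by rw [QuotientGroup.ker_mk']; exact hNH
  have h1 := H.card_mul_index
  have h2 := N.card_mul_index
  have h3 := (H.map (QuotientGroup.mk' N)).card_mul_index
  have h4 : (H.map (QuotientGroup.mk' N)).index = H.index := Subgroup.index_map_eq H hπ hker
  have h5 : N.index = Nat.card (X ⧸ N) := Subgroup.index_eq_card N
  rw [h4] at h3
  rw [h5, ← h3, ← h1, ← mul_assoc] at h2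
  have hpos : 0 < H.index := Nat.pos_of_ne_zero Subgroup.FiniteIndex.index_ne_zero
  exact (Nat.eq_of_mul_eq_mul_right hpos h2).symm

/-- In an abelian section `K / N` of normal subgroups, the preimage of the Sylow `s`-subgroup is a
normal subgroup `C` with `|C : N|` a power of `s` and `|K : C|` prime to `s`. -/
theorem abelian_layer {X : Type*} [Group X] [Finite X] (N K : Subgroup X) [N.Normal] [K.Normal]
    (hNK : N ≤ K) (hcomm : ⁅K, K⁆ ≤ N) (s : ℕ) (hs : s.Prime) :
    ∃ (C : Subgroup X) (a m : ℕ), C.Normal ∧ N ≤ C ∧ C ≤ K ∧ Nat.card C = Nat.card N * s ^ a ∧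
      Nat.card K = Nat.card C * m ∧ ¬ s ∣ m := by
  have : Fact s.Prime := ⟨hs⟩
  have hπ : Function.Surjective (QuotientGroup.mk' N) := QuotientGroup.mk'_surjective N
  have hker : (QuotientGroup.mk' N).ker = N := QuotientGroup.ker_mk' N
  have hKbarN : (K.map (QuotientGroup.mk' N)).Normal :=
    Subgroup.Normal.map inferInstance (QuotientGroup.mk' N) hπ
  obtain ⟨S⟩ : Nonempty (Sylow s (K.map (QuotientGroup.mk' N))) := inferInstance
  have hcomm' : ∀ a b : K.map (QuotientGroup.mk' N), a * b = b * a := by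
    rintro ⟨a, ha⟩ ⟨b, hb⟩
    obtain ⟨a', ha', rfl⟩ := Subgroup.mem_map.mp ha
    obtain ⟨b', hb', rfl⟩ := Subgroup.mem_map.mp hb
    apply Subtype.ext
    show (QuotientGroup.mk' N) a' * (QuotientGroup.mk' N) b' =
      (QuotientGroup.mk' N) b' * (QuotientGroup.mk' N) a'
    rw [← map_mul, ← map_mul]
    apply QuotientGroup.eq.mpr
    have h1 : (a' * b')⁻¹ * (b' * a') = ⁅b'⁻¹, a'⁻¹⁆ := by
      rw [commutatorElement_def]; group
    rw [h1]
    exact hcomm (Subgroup.commutator_mem_commutator (K.inv_mem hb') (K.inv_mem ha'))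
  have hSn : (S : Subgroup (K.map (QuotientGroup.mk' N))).Normal :=
    ⟨fun n hn g => by rw [hcomm' g n, mul_inv_cancel_right]; exact hn⟩
  have hSc : (S : Subgroup (K.map (QuotientGroup.mk' N))).Characteristic :=
    Sylow.characteristic_of_normal S hSn
  have hS'n : ((S : Subgroup (K.map (QuotientGroup.mk' N))).map
      (K.map (QuotientGroup.mk' N)).subtype).Normal := inferInstance
  have hS'le : (S : Subgroup (K.map (QuotientGroup.mk' N))).map
      (K.map (QuotientGroup.mk' N)).subtype ≤ K.map (QuotientGroup.mk' N) :=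
    Subgroup.map_subtype_le _
  have hS'card : Nat.card ((S : Subgroup (K.map (QuotientGroup.mk' N))).map
      (K.map (QuotientGroup.mk' N)).subtype) = Nat.card S :=
    Subgroup.card_map_of_injective (Subgroup.subtype_injective _)
  obtain ⟨a, ha⟩ := IsPGroup.iff_card.mp S.isPGroup'
  generalize hS' : (S : Subgroup (K.map (QuotientGroup.mk' N))).map
      (K.map (QuotientGroup.mk' N)).subtype = S' at hS'n hS'le hS'card
  have hNC : N ≤ S'.comap (QuotientGroup.mk' N) := by
    intro x hx
    rw [Subgroup.mem_comap]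
    have : (QuotientGroup.mk' N) x = 1 := (QuotientGroup.eq_one_iff x).mpr hx
    rw [this]; exact S'.one_mem
  have hCK : S'.comap (QuotientGroup.mk' N) ≤ K := by
    have h1 : S'.comap (QuotientGroup.mk' N) ≤
        (K.map (QuotientGroup.mk' N)).comap (QuotientGroup.mk' N) := Subgroup.comap_mono hS'le
    rwa [Subgroup.comap_map_eq_self (by rw [hker]; exact hNK)] at h1
  have hCcard : Nat.card (S'.comap (QuotientGroup.mk' N)) = Nat.card N * s ^ a := by
    rw [card_eq_mul_card_map N _ hNC, Subgroup.map_comap_eq_self_of_surjective hπ, hS'card, ha]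
  refine ⟨S'.comap (QuotientGroup.mk' N), a, (S : Subgroup (K.map (QuotientGroup.mk' N))).index,
    Subgroup.Normal.comap hS'n _, hNC, hCK, hCcard, ?_, S.not_dvd_index⟩
  rw [card_eq_mul_card_map N K hNK, hCcard, ← (S : Subgroup (K.map (QuotientGroup.mk' N))).card_mul_index,
    ha, mul_assoc]


/-- No element of order `s * t`. -/
def NoEdge (G : Type*) [Group G] (s t : ℕ) : Prop := ∀ x : G, orderOf x ≠ s * t

theorem NoEdge.symm {G : Type*} [Group G] {s t : ℕ} (h : NoEdge G s t) : NoEdge G t s :=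
  fun x hx => h x (by rw [hx, Nat.mul_comm])

/-- Three normal layers carrying three pairwise non-adjacent primes cannot exist (`S3634`). -/
theorem layers_false {G : Type*} [Group G] [Finite G] (K M : Subgroup G) (hKn : K.Normal)
    (hMn : M.Normal) (hKM : K ≤ M) (p q r : ℕ) (hp : p.Prime) (hq : q.Prime) (hr : r.Prime)
    (hpq : p ≠ q) (hpr : p ≠ r) (hqr : q ≠ r)
    (hpK : p ∣ Nat.card K) (m₁ : ℕ) (h1 : Nat.card M = Nat.card K * m₁) (hq1 : q ∣ m₁)
    (m₂ : ℕ) (h2 : Nat.card G = Nat.card M * m₂) (hr2 : r ∣ m₂)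
    (e1 : NoEdge G p q) (e2 : NoEdge G p r) (e3 : NoEdge G q r) : False := by
  have key := Cfsg.Agent.S3634.result K M hKM p q r hp hq hr hpq hpr hqr hpK
    (by rw [h1, Nat.mul_div_cancel_left _ Nat.card_pos]; exact hq1)
    (by rw [h2, Nat.mul_div_cancel_left _ Nat.card_pos]; exact hr2)
  rcases key with ⟨x, hx⟩ | ⟨x, hx⟩ | ⟨x, hx⟩
  · exact e1 x hx
  · exact e2 x hx
  · exact e3 x hx

/-- A solvable normal subgroup whose order is divisible by two primes `p`, `q`, together with a
third prime `r` dividing the group order: the three primes cannot be pairwise non-adjacent. -/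
theorem three_primes_false {G : Type*} [Group G] [Finite G] (n : ℕ) :
    ∀ (K : Subgroup G), K.Normal → Group.IsSolvable K → Nat.card K = n →
    ∀ p q r : ℕ, p.Prime → q.Prime → r.Prime → p ≠ q → p ≠ r → q ≠ r →
      p ∣ Nat.card K → q ∣ Nat.card K → r ∣ Nat.card G →
      NoEdge G p q → NoEdge G p r → NoEdge G q r → False := by
  induction n using Nat.strong_induction_on with
  | _ n ih =>
  intro K hKn hKs hn p q r hp hq hr hpq hpr hqr hpK hqK hrG e1 e2 e3
  have hK'n : (⁅K, K⁆ : Subgroup G).Normal := inferInstance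
  have hK'le : ⁅K, K⁆ ≤ K := Subgroup.commutator_le_right K K
  have hK's : Group.IsSolvable (⁅K, K⁆ : Subgroup G) :=
    solvable_of_solvable_injective (Subgroup.inclusion_injective hK'le)
  have hK'lt : Nat.card (⁅K, K⁆ : Subgroup G) < n := by
    rw [← hn]
    have hnt : Nontrivial K := by
      rw [← Finite.one_lt_card_iff_nontrivial]
      have := Nat.le_of_dvd Nat.card_pos hpK
      have := hp.one_lt
      omega
    have hlt := IsSolvable.commutator_lt_top_of_nontrivial K
    rw [← Subgroup.map_subtype_commutator K,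
      Subgroup.card_map_of_injective (Subgroup.subtype_injective K)]
    by_contra hle
    exact hlt.ne (Subgroup.eq_top_of_le_card _ (not_lt.mp hle))
  obtain ⟨m, hm⟩ := Subgroup.card_dvd_of_le hK'le
  obtain ⟨g, hg⟩ := Subgroup.card_subgroup_dvd_card K
  have hcK'pos : 0 < Nat.card (⁅K, K⁆ : Subgroup G) := Nat.card_pos
  -- the asymmetric case
  have caseB : ∀ s t u : ℕ, s.Prime → t.Prime → u.Prime → s ≠ t → s ≠ u → t ≠ u →
      s ∣ Nat.card (⁅K, K⁆ : Subgroup G) → ¬ t ∣ Nat.card (⁅K, K⁆ : Subgroup G) →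
      t ∣ Nat.card K → u ∣ Nat.card G →
      NoEdge G s t → NoEdge G s u → NoEdge G t u → False := by
    intro s t u hs ht hu hst hsu htu hsK' htK' htK huG f1 f2 f3
    have htm : t ∣ m := by
      rw [hm] at htK
      exact (ht.dvd_mul.mp htK).resolve_left htK'
    by_cases hug : u ∣ g
    · exact layers_false ⁅K, K⁆ K hK'n hKn hK'le s t u hs ht hu hst hsu htu hsK' m hm htm g hg hug
        f1 f2 f3
    · have huK : u ∣ Nat.card K := by
        rw [hg] at huG
        exact (hu.dvd_mul.mp huG).resolve_right hug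
      by_cases huK' : u ∣ Nat.card (⁅K, K⁆ : Subgroup G)
      · exact ih _ hK'lt ⁅K, K⁆ hK'n hK's rfl s u t hs hu ht hsu hst (Ne.symm htu) hsK' huK'
          (dvd_trans htK (Subgroup.card_subgroup_dvd_card K)) f2 f1 f3.symm
      · have hum : u ∣ m := by
          rw [hm] at huK
          exact (hu.dvd_mul.mp huK).resolve_left huK'
        obtain ⟨C, a, m', hCn, hK'C, hCK, hCcard, hKC, htm'⟩ :=
          abelian_layer ⁅K, K⁆ K hK'le le_rfl t ht
        have hmm : m = t ^ a * m' := by
          have : Nat.card (⁅K, K⁆ : Subgroup G) * m =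
              Nat.card (⁅K, K⁆ : Subgroup G) * (t ^ a * m') := by
            rw [← hm, hKC, hCcard, mul_assoc]
          exact Nat.eq_of_mul_eq_mul_left hcK'pos this
        have hta : t ∣ t ^ a := by
          rw [hmm] at htm
          exact (ht.dvd_mul.mp htm).resolve_right htm'
        have hum' : u ∣ m' := by
          rw [hmm] at hum
          refine (hu.dvd_mul.mp hum).resolve_left ?_
          intro h
          exact htu ((Nat.prime_dvd_prime_iff_eq hu ht).mp (hu.dvd_of_dvd_pow h)).symm
        exact layers_false ⁅K, K⁆ C hK'n hCn hK'C s t u hs ht hu hst hsu htu hsK' (t ^ a) hCcard hta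
          (m' * g) (by rw [hg, hKC, mul_assoc]) (Dvd.dvd.mul_right hum' g) f1 f2 f3
  by_cases hpK' : p ∣ Nat.card (⁅K, K⁆ : Subgroup G)
  · by_cases hqK' : q ∣ Nat.card (⁅K, K⁆ : Subgroup G)
    · exact ih _ hK'lt ⁅K, K⁆ hK'n hK's rfl p q r hp hq hr hpq hpr hqr hpK' hqK' hrG e1 e2 e3
    · exact caseB p q r hp hq hr hpq hpr hqr hpK' hqK' hqK hrG e1 e2 e3
  · by_cases hqK' : q ∣ Nat.card (⁅K, K⁆ : Subgroup G)
    · exact caseB q p r hq hp hr (Ne.symm hpq) hqr hpr hqK' hpK' hpK hrG e1.symm e3 e2
    · -- neither `p` nor `q` divides `|K'|`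
      have hpm : p ∣ m := by
        rw [hm] at hpK
        exact (hp.dvd_mul.mp hpK).resolve_left hpK'
      have hqm : q ∣ m := by
        rw [hm] at hqK
        exact (hq.dvd_mul.mp hqK).resolve_left hqK'
      obtain ⟨C, a, m', hCn, hK'C, hCK, hCcard, hKC, hpm'⟩ :=
        abelian_layer ⁅K, K⁆ K hK'le le_rfl p hp
      have hmm : m = p ^ a * m' := by
        have : Nat.card (⁅K, K⁆ : Subgroup G) * m =
            Nat.card (⁅K, K⁆ : Subgroup G) * (p ^ a * m') := by
          rw [← hm, hKC, hCcard, mul_assoc]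
        exact Nat.eq_of_mul_eq_mul_left hcK'pos this
      have hpa : p ∣ p ^ a := by
        rw [hmm] at hpm
        exact (hp.dvd_mul.mp hpm).resolve_right hpm'
      have hpC : p ∣ Nat.card C := by rw [hCcard]; exact Dvd.dvd.mul_left hpa _
      have hqm' : q ∣ m' := by
        rw [hmm] at hqm
        refine (hq.dvd_mul.mp hqm).resolve_left ?_
        intro h
        exact hpq ((Nat.prime_dvd_prime_iff_eq hq hp).mp (hq.dvd_of_dvd_pow h)).symm
      by_cases hrg : r ∣ g
      · exact layers_false C K hCn hKn hCK p q r hp hq hr hpq hpr hqr hpC m' hKC hqm' g hg hrg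
          e1 e2 e3
      · have hrK : r ∣ Nat.card K := by
          rw [hg] at hrG
          exact (hr.dvd_mul.mp hrG).resolve_right hrg
        by_cases hrK' : r ∣ Nat.card (⁅K, K⁆ : Subgroup G)
        · exact layers_false ⁅K, K⁆ C hK'n hCn hK'C r p q hr hp hq (Ne.symm hpr) (Ne.symm hqr) hpq
            hrK' (p ^ a) hCcard hpa (m' * g) (by rw [hg, hKC, mul_assoc])
            (Dvd.dvd.mul_right hqm' g) e2.symm e3.symm e1
        · have hrm' : r ∣ m' := by
            rw [hm, hmm] at hrK
            have h1 := (hr.dvd_mul.mp hrK).resolve_left hrK'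
            refine (hr.dvd_mul.mp h1).resolve_left ?_
            intro h
            exact hpr ((Nat.prime_dvd_prime_iff_eq hr hp).mp (hr.dvd_of_dvd_pow h)).symm
          obtain ⟨D, b, m'', hDn, hCD, hDK, hDcard, hKD, hqm''⟩ :=
            @abelian_layer _ _ _ C K hCn hKn hCK hK'C q hq
          have hCpos : 0 < Nat.card C := Nat.card_pos
          have hmm' : m' = q ^ b * m'' := by
            have : Nat.card C * m' = Nat.card C * (q ^ b * m'') := by
              rw [← hKC, hKD, hDcard, mul_assoc]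
            exact Nat.eq_of_mul_eq_mul_left hCpos this
          have hqb : q ∣ q ^ b := by
            rw [hmm'] at hqm'
            exact (hq.dvd_mul.mp hqm').resolve_right hqm''
          have hrm'' : r ∣ m'' := by
            rw [hmm'] at hrm'
            refine (hr.dvd_mul.mp hrm').resolve_left ?_
            intro h
            exact hqr ((Nat.prime_dvd_prime_iff_eq hr hq).mp (hr.dvd_of_dvd_pow h)).symm
          exact layers_false C D hCn hDn hCD p q r hp hq hr hpq hpr hqr hpC (q ^ b) hDcard hqb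
            (m'' * g) (by rw [hg, hKD, mul_assoc]) (Dvd.dvd.mul_right hrm'' g) e1 e2 e3

/-- At most one prime of a coclique of size at least three divides the order of a solvable normal
subgroup. -/
theorem part1 {G : Type*} [Group G] [Finite G] (ρ : Finset ℕ) (hρ : 3 ≤ ρ.card)
    (hc : ((∀ r ∈ ρ, r.Prime ∧ r ∣ Nat.card G) ∧
      (∀ r ∈ ρ, ∀ s ∈ ρ, r ≠ s → ¬ ∃ x : G, orderOf x = r * s)))
    (K : Subgroup G) (hKn : K.Normal) (hK : Group.IsSolvable ↥K) :
    ∀ r ∈ ρ, ∀ s ∈ ρ, r ∣ Nat.card ↥K → s ∣ Nat.card ↥K → r = s := by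
  intro r hr s hs hrK hsK
  by_contra hrs
  obtain ⟨t, ht, htr, hts⟩ : ∃ t ∈ ρ, t ≠ r ∧ t ≠ s := by
    by_contra hcon
    have hsub : ρ ⊆ {r, s} := by
      intro t ht
      by_contra h
      apply hcon
      refine ⟨t, ht, ?_, ?_⟩
      · rintro rfl; exact h (by simp)
      · rintro rfl; exact h (by simp)
    have := Finset.card_le_card hsub
    have h2 : ({r, s} : Finset ℕ).card ≤ 2 := Finset.card_le_two
    omega
  have ne : ∀ a ∈ ρ, ∀ b ∈ ρ, a ≠ b → NoEdge G a b :=
    fun a ha b hb hab x hx => hc.2 a ha b hb hab ⟨x, hx⟩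
  exact three_primes_false (Nat.card K) K hKn hK rfl r s t (hc.1 r hr).1 (hc.1 s hs).1 (hc.1 t ht).1
    hrs (Ne.symm htr) (Ne.symm hts) hrK hsK (hc.1 t ht).2 (ne r hr s hs hrs)
    (ne r hr t ht (Ne.symm htr)) (ne s hs t ht (Ne.symm hts))

/-- Let G be a finite group and ρ a set of at least three prime divisors of the order of G that are pairwise non-adjacent in the prime graph (no element of order rs for distinct r, s ∈ ρ). Then at most one prime of ρ divides the order of any given solvable normal subgroup of G; in particular G is not solvable. -/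
theorem result {G : Type*} [Group G] [Finite G] (ρ : Finset ℕ) (hρ : 3 ≤ ρ.card) (hc : ((∀ r ∈ ρ, r.Prime ∧ r ∣ Nat.card G) ∧ (∀ r ∈ ρ, ∀ s ∈ ρ, r ≠ s → ¬ ∃ x : G, orderOf x = r * s)))
    (K : Subgroup G) [K.Normal] (hK : Group.IsSolvable ↥K) :
    (∀ r ∈ ρ, ∀ s ∈ ρ, r ∣ Nat.card ↥K → s ∣ Nat.card ↥K → r = s) ∧ ¬ Group.IsSolvable G := by
  refine ⟨part1 ρ hρ hc K inferInstance hK, fun hsolv => ?_⟩
  obtain ⟨r, hr, s, hs, hrs⟩ := Finset.one_lt_card.mp (by omega : 1 < ρ.card)
  have htop : Group.IsSolvable (⊤ : Subgroup G) :=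
    solvable_of_solvable_injective (Subgroup.subtype_injective ⊤)
  have := part1 ρ hρ hc ⊤ inferInstance htop r hr s hs
    (by rw [Subgroup.card_top]; exact (hc.1 r hr).2) (by rw [Subgroup.card_top]; exact (hc.1 s hs).2)
  exact hrs this

end Cfsg.Agent.S3633
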