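import Cfsg.Statements.S3806
import Cfsg.Agent.Helper63.MaxClassRank

set_option autoImplicit false
open Cfsg

namespace Cfsg.Agent.S3806

open scoped commutatorElement

/-- Let p be a prime and S a finite p-group of order pⁿ (n ≥ 2) of maximal nilpotency class n − 1 whose sectional p-rank is exactly k (every section has p-rank at most k, and some section has p-rank k). If p ≥ k + 2 then the order of S is at most p^(2k). -/
theorem result {S : Type*} [Group S] [Finite S] (p : ℕ) [Fact p.Prime] (hS : IsPGroup p S) [Group.IsNilpotent S]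
    (n : ℕ) (hn : 2 ≤ n) (hcard : Nat.card S = p ^ n) (hmax : Group.nilpotencyClass S = n - 1)
    (k : ℕ) (hk : 1 ≤ k) (hsr : Cfsg.SectionalPRankLE p k S ∧ ¬ Cfsg.SectionalPRankLE p (k - 1) S)
    (hpk : k + 2 ≤ p) : Nat.card S ≤ p ^ (2 * k) := by
  have hp := (Fact.out : p.Prime)
  by_contra hcon
  rw [not_le, hcard] at hcon
  have hn2k : 2 * k < n := (Nat.pow_lt_pow_iff_right hp.one_lt).mp hcon
  have hcS : ∀ j, 1 ≤ j → j ≤ n - 1 →
      Nat.card (Cfsg.Agent.Helper63.MCR.Lc S j) = p ^ (n - 1 - j) :=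
    Cfsg.Agent.Helper64.maxclass_card_lcs n hcard hmax (by omega)
  rcases Nat.lt_or_ge k 2 with hk2 | hk2
  · -- `k = 1`: the abelianization is elementary abelian of order `p ^ 2`
    have hk1 : k = 1 := by omega
    subst hk1
    have hX := Cfsg.Agent.Helper63.MCR.pow_mem_Lc_one (G := S) n (by omega) hcard
      (by rw [hcS 1 le_rfl (by omega)]; congr 1)
      (by rw [hcS 2 (by omega) (by omega)]; congr 1)
    haveI := Cfsg.Agent.Helper63.MCR.Lc_normal (G := S) 1
    have hrank := Cfsg.Agent.Helper64.secrank_prank_quotient hsr.1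
      (Cfsg.Agent.Helper63.MCR.Lc S 1)
    have hcardQ : Nat.card (S ⧸ Cfsg.Agent.Helper63.MCR.Lc S 1) = p ^ 2 := by
      have h := Subgroup.card_eq_card_quotient_mul_card_subgroup
        (Cfsg.Agent.Helper63.MCR.Lc S 1)
      rw [hcard, hcS 1 le_rfl (by omega)] at h
      have e : p ^ n = p ^ 2 * p ^ (n - 1 - 1) := by rw [← pow_add]; congr 1; omega
      rw [e] at h
      exact (Nat.eq_of_mul_eq_mul_right (pow_pos hp.pos _) h).symm
    have hcomm : IsMulCommutative (⊤ : Subgroup (S ⧸ Cfsg.Agent.Helper63.MCR.Lc S 1)) := by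
      refine ⟨⟨fun a b => ?_⟩⟩
      apply Subtype.ext
      obtain ⟨a', ha'⟩ := QuotientGroup.mk_surjective a.1
      obtain ⟨b', hb'⟩ := QuotientGroup.mk_surjective b.1
      show a.1 * b.1 = b.1 * a.1
      rw [← ha', ← hb', ← QuotientGroup.mk_mul, ← QuotientGroup.mk_mul, QuotientGroup.eq]
      have e : (a' * b')⁻¹ * (b' * a') = ⁅b'⁻¹, a'⁻¹⁆ := by
        simp only [commutatorElement_def]
        group
      rw [e]
      exact Cfsg.Agent.Helper63.MCR.comm_mem_Lc (j := 0) (Subgroup.mem_top _) _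
    have hexp : ∀ a ∈ (⊤ : Subgroup (S ⧸ Cfsg.Agent.Helper63.MCR.Lc S 1)), a ^ p = 1 := by
      intro a _
      obtain ⟨a', rfl⟩ := QuotientGroup.mk_surjective a
      rw [← QuotientGroup.mk_pow, QuotientGroup.eq_one_iff]
      exact hX a'
    have h := hrank ⊤ hcomm hexp
    rw [Subgroup.card_top, hcardQ] at h
    have : p ^ 1 < p ^ 2 := Nat.pow_lt_pow_right hp.one_lt (by norm_num)
    omega
  · -- `k ≥ 2`: pass to the quotient by `γ_{2k+1}`
    obtain ⟨N, hNdef⟩ : ∃ N : Subgroup S, N = Cfsg.Agent.Helper63.MCR.Lc S (2 * k) := ⟨_, rfl⟩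
    haveI hNn : N.Normal := by
      rw [hNdef]
      exact Cfsg.Agent.Helper63.MCR.Lc_normal _
    have hNcard : Nat.card N = p ^ (n - 1 - 2 * k) := by
      rw [hNdef]
      exact hcS (2 * k) (by omega) (by omega)
    have hQcard : Nat.card (S ⧸ N) = p ^ (2 * k + 1) := by
      have h := Subgroup.card_eq_card_quotient_mul_card_subgroup N
      rw [hcard, hNcard] at h
      have e : p ^ n = p ^ (2 * k + 1) * p ^ (n - 1 - 2 * k) := by
        rw [← pow_add]; congr 1; omega
      rw [e] at h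
      exact (Nat.eq_of_mul_eq_mul_right (pow_pos hp.pos _) h).symm
    have hQp : IsPGroup p (S ⧸ N) := hS.to_quotient N
    haveI : Group.IsNilpotent (S ⧸ N) := hQp.isNilpotent
    have hmap : ∀ j, (⊤ : Subgroup (S ⧸ N)).lowerCentralSeries j =
        ((⊤ : Subgroup S).lowerCentralSeries j).map (QuotientGroup.mk' N) := by
      intro j
      have h1 := Subgroup.map_lowerCentralSeries (⊤ : Subgroup S) (QuotientGroup.mk' N) j
      rw [Subgroup.map_top_of_surjective _ (QuotientGroup.mk'_surjective N)] at h1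
      exact h1.symm
    have hQcl : Group.nilpotencyClass (S ⧸ N) = 2 * k + 1 - 1 := by
      apply le_antisymm
      · rw [← Subgroup.lowerCentralSeries_eq_bot_iff_nilpotencyClass_le, hmap,
          Subgroup.map_eq_bot_iff, QuotientGroup.ker_mk', hNdef]
        exact le_of_eq rfl
      · by_contra hlt
        have hle : Group.nilpotencyClass (S ⧸ N) ≤ 2 * k - 1 := by omega
        rw [← Subgroup.lowerCentralSeries_eq_bot_iff_nilpotencyClass_le] at hle
        have h2 := Cfsg.Agent.Helper64.maxclass_lcs_le_of_quotient N (2 * k - 1) hle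
        have h3 := Subgroup.card_le_of_le h2
        rw [hNcard] at h3
        have h4 : Nat.card ((⊤ : Subgroup S).lowerCentralSeries (2 * k - 1)) =
            p ^ (n - 1 - (2 * k - 1)) := hcS (2 * k - 1) (by omega) (by omega)
        rw [h4] at h3
        have : p ^ (n - 1 - 2 * k) < p ^ (n - 1 - (2 * k - 1)) :=
          Nat.pow_lt_pow_right hp.one_lt (by omega)
        omega
    have hcQ := Cfsg.Agent.Helper64.maxclass_card_lcs (2 * k + 1) hQcard hQcl (by omega)
    have hcQ' : ∀ j, 1 ≤ j → j ≤ 2 * k →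
        Nat.card (Cfsg.Agent.Helper63.MCR.Lc (S ⧸ N) j) = p ^ (2 * k - j) := by
      intro j hj1 hj2
      have h := hcQ j hj1 (by omega)
      have e : 2 * k + 1 - 1 - j = 2 * k - j := by omega
      rw [e] at h
      exact h
    have hA1 := Cfsg.Agent.Helper63.MCR.gamma_comm (G := S ⧸ N) (p := p) hk2 hcQ'
    have hA2 := Cfsg.Agent.Helper63.MCR.gamma_exp (G := S ⧸ N) hk2 hpk hQp hQcard hcQ'
    have hrank := Cfsg.Agent.Helper64.secrank_prank_quotient hsr.1 N
    have hcomm : IsMulCommutative (Cfsg.Agent.Helper63.MCR.Lc (S ⧸ N) (k - 1)) := by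
      refine ⟨⟨fun a b => ?_⟩⟩
      apply Subtype.ext
      exact hA1 a.1 a.2 b.1 b.2
    have h := hrank (Cfsg.Agent.Helper63.MCR.Lc (S ⧸ N) (k - 1)) hcomm hA2
    rw [hcQ' (k - 1) (by omega) (by omega)] at h
    have : p ^ k < p ^ (2 * k - (k - 1)) := Nat.pow_lt_pow_right hp.one_lt (by omega)
    omega

end Cfsg.Agent.S3806
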