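-- Statement S3807: non-abelian p-groups with an abelian subgroup of index p.
import Cfsg.Statements.S3807
import Cfsg.Agent.Helper63.PGroups

set_option autoImplicit false
open Cfsg

namespace Cfsg.Agent.S3807

open Cfsg.Agent.Helper63

theorem comm_of_mem {S : Type*} [Group S] {A : Subgroup S} (hA : IsMulCommutative ↥A) {x y : S}
    (hx : x ∈ A) (hy : y ∈ A) : x * y = y * x := by
  have h := hA.is_comm.comm ⟨x, hx⟩ ⟨y, hy⟩
  have h' := congrArg Subtype.val h
  exact h'

theorem comm_of_sup_zpowers {S T : Type*} [Group S] [Group T] (π : S →* T) (A : Subgroup S) (g : S)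
    (h : A ⊔ Subgroup.zpowers g = ⊤) (x : T) (hA : ∀ a ∈ A, π a * x = x * π a)
    (hg : π g * x = x * π g) (s : S) : π s * x = x * π s := by
  have hs : s ∈ A ⊔ Subgroup.zpowers g := by rw [h]; trivial
  have hle : A ⊔ Subgroup.zpowers g ≤ (Subgroup.centralizer ({x} : Set T)).comap π := by
    apply sup_le
    · intro a ha
      rw [Subgroup.mem_comap, Subgroup.mem_centralizer_iff]
      intro y hy
      rw [Set.mem_singleton_iff] at hy
      subst hy
      exact (hA a ha).symm
    · rw [Subgroup.zpowers_le, Subgroup.mem_comap, Subgroup.mem_centralizer_iff]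
      intro y hy
      rw [Set.mem_singleton_iff] at hy
      subst hy
      exact hg.symm
  have h2 := hle hs
  rw [Subgroup.mem_comap, Subgroup.mem_centralizer_iff] at h2
  exact (h2 x rfl).symm

/-- The commutator map with a fixed element `g`, on an abelian normal subgroup. -/
def theta {S : Type*} [Group S] (A : Subgroup S) [hAn : A.Normal] (hA : IsMulCommutative ↥A)
    (g : S) : A →* S :=
  MonoidHom.mk' (fun a => (a : S) * g * (a : S)⁻¹ * g⁻¹) (by
    intro a b
    have h1 : g * (a : S)⁻¹ * g⁻¹ ∈ A := hAn.conj_mem _ (A.inv_mem a.2) g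
    have h2 : (b : S) * (g * (b : S)⁻¹ * g⁻¹) ∈ A :=
      A.mul_mem b.2 (hAn.conj_mem _ (A.inv_mem b.2) g)
    have hc := comm_of_mem hA h1 h2
    show ((a * b : A) : S) * g * ((a * b : A) : S)⁻¹ * g⁻¹ =
      ((a : S) * g * (a : S)⁻¹ * g⁻¹) * ((b : S) * g * (b : S)⁻¹ * g⁻¹)
    rw [Subgroup.coe_mul]
    calc (a : S) * (b : S) * g * ((a : S) * (b : S))⁻¹ * g⁻¹
        = (a : S) * (((b : S) * (g * (b : S)⁻¹ * g⁻¹)) * (g * (a : S)⁻¹ * g⁻¹)) := by group
      _ = (a : S) * ((g * (a : S)⁻¹ * g⁻¹) * ((b : S) * (g * (b : S)⁻¹ * g⁻¹))) := by rw [hc]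
      _ = ((a : S) * g * (a : S)⁻¹ * g⁻¹) * ((b : S) * g * (b : S)⁻¹ * g⁻¹) := by group)

theorem theta_apply {S : Type*} [Group S] (A : Subgroup S) [hAn : A.Normal]
    (hA : IsMulCommutative ↥A) (g : S) (a : A) :
    theta A hA g a = (a : S) * g * (a : S)⁻¹ * g⁻¹ := rfl

theorem card_center_mul_card_commutator {S : Type*} [Group S] [Finite S] (p : ℕ) [Fact p.Prime]
    (hna : ¬ IsMulCommutative S) (A : Subgroup S) [hAn : A.Normal] (hA : IsMulCommutative ↥A)
    (hAi : A.index = p) :
    Nat.card (Subgroup.center S) * Nat.card (commutator S) = Nat.card A := by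
  have hp : p.Prime := Fact.out
  have hAtop : A ≠ ⊤ := by
    intro h
    rw [h, Subgroup.index_top] at hAi
    exact hp.one_lt.ne hAi
  obtain ⟨g, hg⟩ : ∃ g : S, g ∉ A := by
    by_contra hcon
    push Not at hcon
    exact hAtop (eq_top_iff.mpr (fun x _ => hcon x))
  have htop : A ⊔ Subgroup.zpowers g = ⊤ := sup_zpowers_eq_top_of_index_prime hp A hAi g hg
  -- the centre lies in A
  have hZA : Subgroup.center S ≤ A := by
    intro z hz
    by_contra hzA
    have htopz : A ⊔ Subgroup.zpowers z = ⊤ := sup_zpowers_eq_top_of_index_prime hp A hAi z hzA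
    have hzc : ∀ t : S, z * t = t * z := fun t => (Subgroup.mem_center_iff.mp hz t).symm
    have step1 : ∀ a ∈ A, ∀ s : S, s * a = a * s := fun a ha s =>
      comm_of_sup_zpowers (MonoidHom.id S) A z htopz a (fun a' ha' => comm_of_mem hA ha' ha)
        (hzc a) s
    have step2 : ∀ s t : S, s * t = t * s := fun s t =>
      comm_of_sup_zpowers (MonoidHom.id S) A z htopz t (fun a ha => (step1 a ha t).symm)
        (hzc t) s
    exact hna ⟨⟨step2⟩⟩
  -- centre = kernel of theta
  have hker : Subgroup.center S = (theta A hA g).ker.map A.subtype := by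
    ext z
    constructor
    · intro hz
      refine ⟨⟨z, hZA hz⟩, ?_, rfl⟩
      show theta A hA g ⟨z, hZA hz⟩ = 1
      rw [theta_apply]
      have := Subgroup.mem_center_iff.mp hz g
      show z * g * z⁻¹ * g⁻¹ = 1
      rw [← this]; group
    · rintro ⟨a, ha, rfl⟩
      have ha' : theta A hA g a = 1 := ha
      rw [theta_apply] at ha'
      have h1 : (a : S) * g * (a : S)⁻¹ = g := mul_inv_eq_one.mp ha'
      have h2 : (a : S) * g = g * (a : S) := mul_inv_eq_iff_eq_mul.mp h1
      rw [Subgroup.mem_center_iff]
      intro s
      exact comm_of_sup_zpowers (MonoidHom.id S) A g htop (a : S)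
        (fun a' ha' => comm_of_mem hA ha' a.2) h2.symm s
  have hIA : (theta A hA g).range ≤ A := by
    rintro _ ⟨a, rfl⟩
    rw [theta_apply]
    have : (a : S) * g * (a : S)⁻¹ * g⁻¹ = (a : S) * (g * (a : S)⁻¹ * g⁻¹) := by group
    rw [this]
    exact A.mul_mem a.2 (hAn.conj_mem _ (A.inv_mem a.2) g)
  -- range of theta = commutator
  have hrange : (theta A hA g).range = commutator S := by
    apply le_antisymm
    · rintro _ ⟨a, rfl⟩
      rw [commutator_def]
      have := Subgroup.commutator_mem_commutator (Subgroup.mem_top (a : S)) (Subgroup.mem_top g)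
      rw [commutatorElement_def] at this
      exact this
    · have hnorm : Subgroup.normalizer ((theta A hA g).range : Set S) = ⊤ := by
        rw [← top_le_iff, ← htop]
        apply sup_le
        · intro a' ha'
          rw [Subgroup.mem_normalizer_iff]
          have key : ∀ h ∈ A, a' * h * a'⁻¹ = h := by
            intro h hh
            rw [comm_of_mem hA ha' hh]; group
          intro h
          constructor
          · intro hh
            rw [key h (hIA hh)]; exact hh
          · intro hh
            have hhA : h ∈ A := by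
              have h3 := hIA hh
              have h4 : h = a'⁻¹ * (a' * h * a'⁻¹) * a' := by group
              rw [h4]
              exact A.mul_mem (A.mul_mem (A.inv_mem ha') h3) ha'
            rw [key h hhA] at hh; exact hh
        · rw [Subgroup.zpowers_le, Subgroup.mem_normalizer_iff]
          intro h
          constructor
          · rintro ⟨a, rfl⟩
            refine ⟨⟨g * (a : S) * g⁻¹, hAn.conj_mem _ a.2 g⟩, ?_⟩
            rw [theta_apply, theta_apply]
            show g * (a : S) * g⁻¹ * g * (g * (a : S) * g⁻¹)⁻¹ * g⁻¹ =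
              g * ((a : S) * g * (a : S)⁻¹ * g⁻¹) * g⁻¹
            group
          · rintro ⟨a, ha⟩
            refine ⟨⟨g⁻¹ * (a : S) * g, by
              have := hAn.conj_mem _ a.2 g⁻¹
              rwa [inv_inv] at this⟩, ?_⟩
            rw [theta_apply] at ha ⊢
            show g⁻¹ * (a : S) * g * g * (g⁻¹ * (a : S) * g)⁻¹ * g⁻¹ = h
            have h5 : h = g⁻¹ * (g * h * g⁻¹) * g := by group
            rw [h5, ← ha]
            group
      haveI hIn : (theta A hA g).range.Normal := Subgroup.normalizer_eq_top_iff.mp hnorm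
      apply Subgroup.Normal.quotient_commutative_iff_commutator_le.mp
      have hAg : ∀ a ∈ A, QuotientGroup.mk' (theta A hA g).range a *
          QuotientGroup.mk' (theta A hA g).range g =
          QuotientGroup.mk' (theta A hA g).range g * QuotientGroup.mk' (theta A hA g).range a := by
        intro a ha
        have h1 : QuotientGroup.mk' (theta A hA g).range (a * g * a⁻¹ * g⁻¹) = 1 :=
          (QuotientGroup.eq_one_iff _).mpr ⟨⟨a, ha⟩, rfl⟩
        simp only [map_mul, map_inv] at h1
        exact mul_inv_eq_iff_eq_mul.mp (mul_inv_eq_one.mp h1)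
      have step1 : ∀ a ∈ A, ∀ t : S, QuotientGroup.mk' (theta A hA g).range t *
          QuotientGroup.mk' (theta A hA g).range a =
          QuotientGroup.mk' (theta A hA g).range a * QuotientGroup.mk' (theta A hA g).range t :=
        fun a ha t => comm_of_sup_zpowers _ A g htop _
          (fun a' ha' => by rw [← map_mul, ← map_mul, comm_of_mem hA ha' ha])
          (hAg a ha).symm t
      have step2 : ∀ t : S, QuotientGroup.mk' (theta A hA g).range t *
          QuotientGroup.mk' (theta A hA g).range g =
          QuotientGroup.mk' (theta A hA g).range g * QuotientGroup.mk' (theta A hA g).range t :=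
        fun t => comm_of_sup_zpowers _ A g htop _ (fun a ha => hAg a ha) rfl t
      have step3 : ∀ s t : S, QuotientGroup.mk' (theta A hA g).range s *
          QuotientGroup.mk' (theta A hA g).range t =
          QuotientGroup.mk' (theta A hA g).range t * QuotientGroup.mk' (theta A hA g).range s :=
        fun s t => comm_of_sup_zpowers _ A g htop _ (fun a ha => (step1 a ha t).symm)
          (step2 t).symm s
      refine ⟨⟨fun x y => ?_⟩⟩
      obtain ⟨s, rfl⟩ := QuotientGroup.mk_surjective x
      obtain ⟨t, rfl⟩ := QuotientGroup.mk_surjective y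
      exact step3 s t
  rw [hker, Subgroup.card_map_of_injective A.subtype_injective, ← hrange,
    ← Subgroup.index_ker]
  exact Subgroup.card_mul_index _

/-- Let S be a non-abelian finite p-group with an abelian subgroup A of index p. Then [S : Z(S)] = p·#[S,S], and either [S,S] has order p, S/Z(S) is elementary abelian of order p², and S has exactly p + 1 abelian subgroups of index p; or [S,S] has order at least p² and A is the only abelian subgroup of index p in S. -/
theorem result {S : Type*} [Group S] [Finite S] (p : ℕ) [Fact p.Prime] (hS : IsPGroup p S) (hna : ¬ IsMulCommutative S)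
    (A : Subgroup S) (hA : IsMulCommutative ↥A) (hAi : A.index = p) :
    (Subgroup.center S).index = p * Nat.card (commutator S) ∧
      ((Nat.card (commutator S) = p ∧ Cfsg.IsElementaryAbelian p (⊤ : Subgroup (S ⧸ Subgroup.center S)) ∧
          Nat.card (S ⧸ Subgroup.center S) = p ^ 2 ∧
          Nat.card {B : Subgroup S // IsMulCommutative ↥B ∧ B.index = p} = p + 1) ∨
        (p ^ 2 ≤ Nat.card (commutator S) ∧ ∀ B : Subgroup S, IsMulCommutative ↥B → B.index = p → B = A)) := by
  have hp : p.Prime := Fact.out
  haveI hAn : A.Normal := normal_of_index_eq_prime hS A hAi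
  have hcard := card_center_mul_card_commutator p hna A hA hAi
  have hcardS : Nat.card S = Nat.card A * p := by
    rw [← hAi]; exact (Subgroup.card_mul_index A).symm
  have hidx : (Subgroup.center S).index = p * Nat.card (commutator S) := by
    have h1 := Subgroup.card_mul_index (Subgroup.center S)
    rw [hcardS, ← hcard] at h1
    have : Nat.card (Subgroup.center S) * (Subgroup.center S).index =
        Nat.card (Subgroup.center S) * (p * Nat.card (commutator S)) := by rw [h1]; ring
    exact Nat.eq_of_mul_eq_mul_left Nat.card_pos this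
  refine ⟨hidx, ?_⟩
  have hS'p : IsPGroup p (commutator S) := hS.to_subgroup _
  obtain ⟨k, hk⟩ := IsPGroup.iff_card.mp hS'p
  have hk0 : k ≠ 0 := by
    rintro rfl
    rw [pow_zero] at hk
    rw [hk, mul_one] at hidx
    exact hna ⟨⟨comm_of_index_center_dvd_prime (p := p) (by rw [hidx])⟩⟩
  by_cases hk1 : k = 1
  · left
    subst hk1
    rw [pow_one] at hk
    have hidx2 : (Subgroup.center S).index = p ^ 2 := by rw [hidx, hk]; ring
    have hcardq : Nat.card (S ⧸ Subgroup.center S) = p ^ 2 := hidx2
    have hqcomm : IsMulCommutative (S ⧸ Subgroup.center S) :=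
      IsPGroup.isMulCommutative_of_card_eq_prime_sq hcardq
    refine ⟨hk, ⟨⟨⟨fun a b => Subtype.ext (hqcomm.is_comm.comm a.1 b.1)⟩⟩, ?_⟩, hcardq, ?_⟩
    · intro a _
      by_contra hne
      have hdvd : orderOf a ∣ p ^ 2 := by rw [← hcardq]; exact orderOf_dvd_natCard a
      obtain ⟨j, hj2, hj⟩ := (Nat.dvd_prime_pow hp).mp hdvd
      have hj' : j = 2 := by
        by_contra hj'
        have hj1 : j ≤ 1 := by omega
        apply hne
        apply orderOf_dvd_iff_pow_eq_one.mp
        rw [hj]
        exact pow_dvd_pow p hj1 |>.trans (by rw [pow_one])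
      subst hj'
      have hcyc : IsCyclic (S ⧸ Subgroup.center S) :=
        isCyclic_of_orderOf_eq_card a (by rw [hj, hcardq])
      exact hna (MonoidHom.isMulCommutative_of_isCyclic_of_ker_le_center
        (QuotientGroup.mk' (Subgroup.center S)) (by rw [QuotientGroup.ker_mk']))
    · -- counting
      have hzpos : 0 < Nat.card (Subgroup.center S) := Nat.card_pos
      have hZB : ∀ B : Subgroup S, IsMulCommutative ↥B → B.index = p → Subgroup.center S ≤ B := by
        intro B hB hBi z hz
        by_contra hzB
        have htopz : B ⊔ Subgroup.zpowers z = ⊤ :=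
          sup_zpowers_eq_top_of_index_prime hp B hBi z hzB
        have hzc : ∀ t : S, z * t = t * z := fun t => (Subgroup.mem_center_iff.mp hz t).symm
        have step1 : ∀ b ∈ B, ∀ s : S, s * b = b * s := fun b hb s =>
          comm_of_sup_zpowers (MonoidHom.id S) B z htopz b (fun b' hb' => comm_of_mem hB hb' hb)
            (hzc b) s
        have step2 : ∀ s t : S, s * t = t * s := fun s t =>
          comm_of_sup_zpowers (MonoidHom.id S) B z htopz t (fun b hb => (step1 b hb t).symm)
            (hzc t) s
        exact hna ⟨⟨step2⟩⟩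
      have hcardB : ∀ B : Subgroup S, B.index = p →
          Nat.card B = p * Nat.card (Subgroup.center S) := by
        intro B hBi
        have h1 := Subgroup.card_mul_index B
        rw [hBi] at h1
        have h2 := Subgroup.card_mul_index (Subgroup.center S)
        rw [hidx2] at h2
        exact Nat.eq_of_mul_eq_mul_right hp.pos (by rw [h1, ← h2]; ring)
      have hmk : ∀ x : S, x ∉ Subgroup.center S →
          IsMulCommutative ↥(Subgroup.center S ⊔ Subgroup.zpowers x) ∧
          (Subgroup.center S ⊔ Subgroup.zpowers x).index = p := by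
        intro x hx
        have hxx : x ∈ Subgroup.centralizer ({x} : Set S) := by
          rw [Subgroup.mem_centralizer_iff]
          intro y hy
          rw [Set.mem_singleton_iff] at hy
          rw [hy]
        have hle1 : Subgroup.center S ⊔ Subgroup.zpowers x ≤ Subgroup.centralizer ({x} : Set S) :=
          sup_le (Subgroup.center_le_centralizer _) (by rw [Subgroup.zpowers_le]; exact hxx)
        have hcomm : ∀ u ∈ Subgroup.center S ⊔ Subgroup.zpowers x,
            ∀ v ∈ Subgroup.center S ⊔ Subgroup.zpowers x, u * v = v * u := by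
          intro u hu v hv
          have hle2 : Subgroup.center S ⊔ Subgroup.zpowers x ≤
              Subgroup.centralizer ({v} : Set S) := by
            apply sup_le (Subgroup.center_le_centralizer _)
            rw [Subgroup.zpowers_le, Subgroup.mem_centralizer_iff]
            intro y hy
            rw [Set.mem_singleton_iff] at hy
            subst hy
            exact (Subgroup.mem_centralizer_iff.mp (hle1 hv) x rfl).symm
          exact (Subgroup.mem_centralizer_iff.mp (hle2 hu) v rfl).symm
        refine ⟨⟨⟨fun u v => Subtype.ext (hcomm u.1 u.2 v.1 v.2)⟩⟩, ?_⟩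
        have h1 : (Subgroup.center S).relIndex (Subgroup.center S ⊔ Subgroup.zpowers x) *
            (Subgroup.center S ⊔ Subgroup.zpowers x).index = (Subgroup.center S).index :=
          Subgroup.relIndex_mul_index le_sup_left
        rw [hidx2] at h1
        have hdvd : (Subgroup.center S ⊔ Subgroup.zpowers x).index ∣ p ^ 2 := ⟨_, by rw [← h1, mul_comm]⟩
        obtain ⟨j, hj2, hj⟩ := (Nat.dvd_prime_pow hp).mp hdvd
        have hj012 : j = 0 ∨ j = 1 ∨ j = 2 := by omega
        rcases hj012 with rfl | rfl | rfl
        · exfalso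
          rw [pow_zero] at hj
          have htop := Subgroup.index_eq_one.mp hj
          apply hna
          refine ⟨⟨fun u v => hcomm u ?_ v ?_⟩⟩ <;> rw [htop] <;> trivial
        · rw [hj, pow_one]
        · exfalso
          rw [hj] at h1
          have h2 : (Subgroup.center S).relIndex (Subgroup.center S ⊔ Subgroup.zpowers x) = 1 := by
            have : (Subgroup.center S).relIndex (Subgroup.center S ⊔ Subgroup.zpowers x) * p ^ 2 =
                1 * p ^ 2 := by rw [h1, one_mul]
            exact Nat.eq_of_mul_eq_mul_right (pow_pos hp.pos 2) this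
          have h3 := Subgroup.relIndex_eq_one.mp h2
          exact hx (h3 (Subgroup.mem_sup_right (Subgroup.mem_zpowers x)))
      have huniq : ∀ B : Subgroup S, IsMulCommutative ↥B → B.index = p → ∀ x ∈ B,
          x ∉ Subgroup.center S → B = Subgroup.center S ⊔ Subgroup.zpowers x := by
        intro B hB hBi x hxB hxZ
        have hle : Subgroup.center S ⊔ Subgroup.zpowers x ≤ B :=
          sup_le (hZB B hB hBi) (by rw [Subgroup.zpowers_le]; exact hxB)
        exact (Subgroup.eq_of_le_of_card_ge hle
          (by rw [hcardB B hBi, hcardB _ (hmk x hxZ).2])).symm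
      classical
      haveI : Fintype {B : Subgroup S // IsMulCommutative ↥B ∧ B.index = p} := Fintype.ofFinite _
      have hf : Function.Bijective
          (fun y : (Σ B : {B : Subgroup S // IsMulCommutative ↥B ∧ B.index = p},
            ↥((B.1 : Set S) \ (Subgroup.center S : Set S))) =>
            (⟨y.2.1, y.2.2.2⟩ : ↥((Subgroup.center S : Set S)ᶜ))) := by
        constructor
        · rintro ⟨B, x, hxB, hxZ⟩ ⟨B', x', hxB', hxZ'⟩ h
          have hxx : x = x' := congrArg Subtype.val h
          subst hxx
          have hBB : B = B' := Subtype.ext ((huniq B.1 B.2.1 B.2.2 x hxB hxZ).trans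
            (huniq B'.1 B'.2.1 B'.2.2 x hxB' hxZ').symm)
          subst hBB
          rfl
        · rintro ⟨x, hx⟩
          exact ⟨⟨⟨Subgroup.center S ⊔ Subgroup.zpowers x, hmk x hx⟩,
            ⟨x, Subgroup.mem_sup_right (Subgroup.mem_zpowers x), hx⟩⟩, rfl⟩
      have h1 := Nat.card_congr (Equiv.ofBijective _ hf)
      rw [Nat.card_sigma] at h1
      have h2 : ∀ B : {B : Subgroup S // IsMulCommutative ↥B ∧ B.index = p},
          Nat.card ↥((B.1 : Set S) \ (Subgroup.center S : Set S)) =
            p * Nat.card (Subgroup.center S) - Nat.card (Subgroup.center S) := by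
        intro B
        rw [Nat.card_coe_set_eq, Set.ncard_sdiff (hZB B.1 B.2.1 B.2.2), ← Nat.card_coe_set_eq,
          ← Nat.card_coe_set_eq]
        have := hcardB B.1 B.2.2
        exact congrArg (· - Nat.card (Subgroup.center S)) this
      have h3 : Nat.card ↥((Subgroup.center S : Set S)ᶜ) =
          Nat.card (Subgroup.center S) * p ^ 2 - Nat.card (Subgroup.center S) := by
        have h4 := Set.ncard_add_ncard_compl (Subgroup.center S : Set S)
        have h5 := Subgroup.card_mul_index (Subgroup.center S)
        rw [hidx2] at h5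
        rw [Nat.card_coe_set_eq, h5]
        have h6 : (Subgroup.center S : Set S).ncard = Nat.card (Subgroup.center S) := rfl
        omega
      simp_rw [h2] at h1
      rw [Finset.sum_const, Finset.card_univ, smul_eq_mul, h3, ← Nat.card_eq_fintype_card] at h1
      obtain ⟨q, hq⟩ : ∃ q, p = q + 1 := ⟨p - 1, by have := hp.pos; omega⟩
      have hq1 : 1 ≤ q := by have := hp.two_le; omega
      have e1 : p * Nat.card (Subgroup.center S) - Nat.card (Subgroup.center S) =
          q * Nat.card (Subgroup.center S) := by
        rw [hq, Nat.add_mul, one_mul, Nat.add_sub_cancel]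
      have e2 : Nat.card (Subgroup.center S) * p ^ 2 - Nat.card (Subgroup.center S) =
          (q + 2) * (q * Nat.card (Subgroup.center S)) := by
        apply Nat.sub_eq_of_eq_add
        rw [hq]; ring
      rw [e1, e2] at h1
      have h7 := Nat.eq_of_mul_eq_mul_right (Nat.mul_pos hq1 hzpos) h1
      rw [h7, hq]
  · right
    have hk2 : 2 ≤ k := by omega
    refine ⟨?_, ?_⟩
    · rw [hk]; exact Nat.pow_le_pow_right hp.pos hk2
    · intro B hB hBi
      by_contra hne
      obtain ⟨b, hbB, hbA⟩ : ∃ b ∈ B, b ∉ A := by
        by_contra hcon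
        push Not at hcon
        apply hne
        have hcB : Nat.card B * p = Nat.card S := by
          rw [← hBi]; exact Subgroup.card_mul_index B
        exact Subgroup.eq_of_le_of_card_ge hcon
          (le_of_eq (Nat.eq_of_mul_eq_mul_right hp.pos (by rw [hcB, hcardS])))
      have htopb : A ⊔ Subgroup.zpowers b = ⊤ := sup_zpowers_eq_top_of_index_prime hp A hAi b hbA
      have hAB : A ⊓ B ≤ Subgroup.center S := by
        rintro x ⟨hxA, hxB⟩
        rw [Subgroup.mem_center_iff]
        intro s
        exact comm_of_sup_zpowers (MonoidHom.id S) A b htopb x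
          (fun a ha => comm_of_mem hA ha hxA) (comm_of_mem hB hbB hxB) s
      have h1 : (Subgroup.center S).index ∣ (A ⊓ B).index := Subgroup.index_dvd_of_le hAB
      have h2 : (A ⊓ B).index ≤ A.index * B.index := Subgroup.index_inf_le
      have h3 : (Subgroup.center S).index ≤ (A ⊓ B).index :=
        Nat.le_of_dvd (Nat.pos_of_ne_zero Subgroup.index_ne_zero_of_finite) h1
      rw [hidx, hk] at h3
      rw [hAi, hBi] at h2
      have h4 : p ^ 2 ≤ p ^ k := Nat.pow_le_pow_right hp.pos hk2
      have h5 : p * p ^ 2 ≤ p * p := (Nat.mul_le_mul_left p h4).trans (h3.trans h2)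
      have h6 := hp.two_le
      nlinarith

end Cfsg.Agent.S3807
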