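-- Statement S3808: the centre of a p-group with an extraspecial subgroup of index p.
import Cfsg.Statements.S3808

set_option autoImplicit false
open Cfsg

namespace Cfsg.Agent.S3808

/-- Let S be a finite p-group with an extraspecial subgroup Q of index p. Then either Z(S) = Z(Q), or S = Q·Z(S) and Z(S) has order p². -/
theorem result {S : Type*} [Group S] [Finite S] (p : ℕ) [Fact p.Prime] (hS : IsPGroup p S) (Q : Subgroup S) (hQ : Cfsg.IsExtraspecial p ↥Q) (hQi : Q.index = p) :
    Subgroup.center S = (Subgroup.center ↥Q).map Q.subtype ∨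
      (Q ⊔ Subgroup.center S = ⊤ ∧ Nat.card (Subgroup.center S) = p ^ 2) := by
  have hp : p.Prime := Fact.out
  obtain ⟨_, hZQ⟩ := hQ
  have hZQcard : Nat.card ((Subgroup.center ↥Q).map Q.subtype) = p := by
    rw [Subgroup.card_map_of_injective Q.subtype_injective]; exact hZQ
  -- Z(S) ∩ Q ≤ Z(Q)
  have ha : Subgroup.center S ⊓ Q ≤ (Subgroup.center ↥Q).map Q.subtype := by
    rintro x ⟨hxZ, hxQ⟩
    refine ⟨⟨x, hxQ⟩, ?_, rfl⟩
    show (⟨x, hxQ⟩ : Q) ∈ Subgroup.center ↥Q
    rw [Subgroup.mem_center_iff]
    intro y
    apply Subtype.ext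
    exact Subgroup.mem_center_iff.mp hxZ y
  -- S is nontrivial
  have hnt : Nontrivial S := by
    by_contra hcon
    rw [not_nontrivial_iff_subsingleton] at hcon
    have h1 : Q = ⊤ := Subsingleton.elim _ _
    rw [h1, Subgroup.index_top] at hQi
    exact hp.one_lt.ne hQi
  by_cases hZle : Subgroup.center S ≤ Q
  · left
    have h1 : Subgroup.center S ≤ (Subgroup.center ↥Q).map Q.subtype :=
      fun x hx => ha ⟨hx, hZle hx⟩
    have h2 : p ∣ Nat.card (Subgroup.center S) := by
      haveI hZnt : Nontrivial (Subgroup.center S) := hS.center_nontrivial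
      rcases (hS.to_subgroup (Subgroup.center S)).card_eq_or_dvd with h | h
      · exfalso
        have := Finite.one_lt_card (α := Subgroup.center S)
        omega
      · exact h
    apply Subgroup.eq_of_le_of_card_ge h1
    rw [hZQcard]
    exact Nat.le_of_dvd Nat.card_pos h2
  · right
    have htop : Q ⊔ Subgroup.center S = ⊤ := by
      have h1 : Q.relIndex (Q ⊔ Subgroup.center S) * (Q ⊔ Subgroup.center S).index = Q.index :=
        Subgroup.relIndex_mul_index le_sup_left
      rw [hQi] at h1
      have h2 : Q.relIndex (Q ⊔ Subgroup.center S) ∣ p := ⟨_, h1.symm⟩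
      rcases (Nat.dvd_prime hp).mp h2 with h3 | h3
      · exfalso
        apply hZle
        exact le_trans le_sup_right (Subgroup.relIndex_eq_one.mp h3)
      · rw [h3] at h1
        have h4 : (Q ⊔ Subgroup.center S).index = 1 := by
          have : p * (Q ⊔ Subgroup.center S).index = p * 1 := by rw [h1, mul_one]
          exact Nat.eq_of_mul_eq_mul_left hp.pos this
        exact Subgroup.index_eq_one.mp h4
    refine ⟨htop, ?_⟩
    -- Z(Q) ≤ Z(S)
    have hb : (Subgroup.center ↥Q).map Q.subtype ≤ Subgroup.center S := by
      rintro x ⟨x', hx', rfl⟩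
      have hx'' : x' ∈ Subgroup.center ↥Q := hx'
      rw [Subgroup.mem_center_iff]
      intro s
      have hs : s ∈ Q ⊔ Subgroup.center S := by rw [htop]; trivial
      have hle : Q ⊔ Subgroup.center S ≤ Subgroup.centralizer ({(x' : S)} : Set S) := by
        apply sup_le
        · intro q hq
          rw [Subgroup.mem_centralizer_iff]
          intro h hh
          rw [Set.mem_singleton_iff] at hh
          subst hh
          have h1 := Subgroup.mem_center_iff.mp hx'' ⟨q, hq⟩
          have h2 := congrArg Subtype.val h1
          simpa using h2.symm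
        · intro z hz
          rw [Subgroup.mem_centralizer_iff]
          intro h hh
          exact Subgroup.mem_center_iff.mp hz h
      have := Subgroup.mem_centralizer_iff.mp (hle hs) (x' : S) rfl
      exact this.symm
    have hinf : Subgroup.center S ⊓ Q = (Subgroup.center ↥Q).map Q.subtype :=
      le_antisymm ha (le_inf hb (Subgroup.map_subtype_le _))
    haveI : Q.Normal := by
      apply Subgroup.normal_of_index_eq_minFac_card
      rw [hQi]
      obtain ⟨n, hn⟩ := IsPGroup.iff_card.mp hS
      rw [hn]
      have hn0 : n ≠ 0 := by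
        rintro rfl
        have := Finite.one_lt_card (α := S)
        simp at hn
        omega
      exact (Nat.Prime.pow_minFac hp hn0).symm
    have h5 : Q.relIndex (Subgroup.center S) = p := by
      have := Subgroup.relIndex_sup_right (H := Subgroup.center S) (K := Q)
      rw [sup_comm, htop, Subgroup.relIndex_top_right, hQi] at this
      exact this.symm
    have h6 : Nat.card ↥(Subgroup.center S ⊓ Q) * (Subgroup.center S ⊓ Q).relIndex (Subgroup.center S)
        = Nat.card (Subgroup.center S) := by
      have := Subgroup.relIndex_mul_relIndex (H := (⊥ : Subgroup S)) (K := Subgroup.center S ⊓ Q)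
        (L := Subgroup.center S) bot_le inf_le_left
      rwa [Subgroup.relIndex_bot_left, Subgroup.relIndex_bot_left] at this
    rw [Subgroup.inf_relIndex_left, h5, hinf, hZQcard] at h6
    rw [← h6]
    ring

end Cfsg.Agent.S3808
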