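-- Statement S3809: p-groups with an extraspecial subgroup of index p: order, derived length, exponent.
import Cfsg.Statements.S3809
import Cfsg.Agent.Helper63.Extraspecial

set_option autoImplicit false
open Cfsg

namespace Cfsg.Agent.S3809

open Cfsg.Agent.Helper63

/-- Let S be a finite p-group with an extraspecial subgroup of index p. Then S has order p^(2+2n) for some n ≥ 1, derived length at most 3, and exponent dividing p³. -/
theorem result {S : Type*} [Group S] [Finite S] (p : ℕ) [Fact p.Prime] (hS : IsPGroup p S) (Q : Subgroup S) (hQ : Cfsg.IsExtraspecial p ↥Q) (hQi : Q.index = p) :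
    (∃ n : ℕ, 1 ≤ n ∧ Nat.card S = p ^ (2 + 2 * n)) ∧ derivedSeries S 3 = ⊥ ∧ ∀ x : S, x ^ (p ^ 3) = 1 := by
  have hp : p.Prime := Fact.out
  obtain ⟨m, hm1, hm⟩ := extraspecial_card_odd hQ
  have hcardS : Nat.card S = Nat.card Q * p := by
    rw [← hQi]; exact (Subgroup.card_mul_index Q).symm
  have hQn : Q.Normal := normal_of_index_eq_prime hS Q hQi
  refine ⟨⟨m, hm1, ?_⟩, ?_, ?_⟩
  · rw [hcardS, hm]; ring
  · have h1 : derivedSeries S 1 ≤ Q := by
      rw [derivedSeries_one]
      apply Subgroup.Normal.quotient_commutative_iff_commutator_le.mp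
      have hcyc : IsCyclic (S ⧸ Q) := isCyclic_of_prime_card (p := p) (by
        show Q.index = p
        exact hQi)
      infer_instance
    have h2 : derivedSeries S 2 ≤ (Subgroup.center ↥Q).map Q.subtype := by
      show derivedSeries S (1 + 1) ≤ _
      rw [derivedSeries_succ]
      refine (Subgroup.commutator_mono h1 h1).trans ?_
      rw [Subgroup.commutator_le]
      intro g1 hg1 g2 hg2
      refine ⟨(⟨g1, hg1⟩ : Q) * ⟨g2, hg2⟩ * (⟨g1, hg1⟩ : Q)⁻¹ * (⟨g2, hg2⟩ : Q)⁻¹,
        extraspecial_comm_mem_center hQ _ _, ?_⟩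
      simp [commutatorElement_def]
    show derivedSeries S (2 + 1) = ⊥
    rw [derivedSeries_succ, eq_bot_iff]
    refine (Subgroup.commutator_mono h2 h2).trans ?_
    rw [Subgroup.commutator_le]
    rintro _ ⟨a, ha, rfl⟩ _ ⟨b, hb, rfl⟩
    rw [Subgroup.mem_bot, commutatorElement_eq_one_iff_mul_comm]
    have ha' : a ∈ Subgroup.center ↥Q := ha
    have h3 := Subgroup.mem_center_iff.mp ha' b
    have h4 := congrArg Subtype.val h3
    simpa using h4.symm
  · intro x
    have hxQ : x ^ p ∈ Q := by
      have := Subgroup.pow_index_mem Q x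
      rwa [hQi] at this
    have h1 := extraspecial_pow_sq hQ ⟨x ^ p, hxQ⟩
    have h2 := congrArg Subtype.val h1
    have h3 : ((x ^ p) ^ p) ^ p = 1 := by simpa using h2
    rw [← h3, ← pow_mul, ← pow_mul]
    congr 1
    ring

end Cfsg.Agent.S3809
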