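-- Statement S3810: abelian subgroups of index p in a p-group with an extraspecial subgroup of index p.
import Cfsg.Statements.S3810
import Cfsg.Agent.S3808
import Cfsg.Agent.Helper63.PGroups

set_option autoImplicit false
open Cfsg

namespace Cfsg.Agent.S3810

open Cfsg.Agent.Helper63

/-- In a group of order `p⁴`: if `x` is non-central and its centralizer has index dividing `p`,
then the centralizer is an abelian subgroup of index `p`. -/
theorem centralizer_comm {S : Type*} [Group S] [Finite S] (p : ℕ) [Fact p.Prime]
    (hS : IsPGroup p S) (hS4 : Nat.card S = p ^ 4) (x : S) (hx : x ∉ Subgroup.center S)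
    (hidx : (Subgroup.centralizer ({x} : Set S)).index ∣ p) :
    IsMulCommutative ↥(Subgroup.centralizer ({x} : Set S)) ∧
      (Subgroup.centralizer ({x} : Set S)).index = p := by
  have hp : p.Prime := Fact.out
  have hidx' : (Subgroup.centralizer ({x} : Set S)).index = p := by
    rcases (Nat.dvd_prime hp).mp hidx with h1 | h1
    · exfalso
      apply hx
      have htop := Subgroup.index_eq_one.mp h1
      rw [Subgroup.mem_center_iff]
      intro s
      have hs : s ∈ Subgroup.centralizer ({x} : Set S) := by rw [htop]; trivial
      exact (Subgroup.mem_centralizer_iff.mp hs x rfl).symm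
    · exact h1
  refine ⟨?_, hidx'⟩
  have hcardC : Nat.card ↥(Subgroup.centralizer ({x} : Set S)) = p ^ 3 := by
    have h1 := Subgroup.card_mul_index (Subgroup.centralizer ({x} : Set S))
    rw [hidx', hS4] at h1
    have : Nat.card ↥(Subgroup.centralizer ({x} : Set S)) * p = p ^ 3 * p := by rw [h1]; ring
    exact Nat.eq_of_mul_eq_mul_right hp.pos this
  -- the centre of the centralizer
  have hxC : x ∈ Subgroup.centralizer ({x} : Set S) := by
    rw [Subgroup.mem_centralizer_iff]
    intro y hy
    rw [Set.mem_singleton_iff] at hy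
    rw [hy]
  have hT : (Subgroup.center S).subgroupOf (Subgroup.centralizer ({x} : Set S)) ≤
      Subgroup.center ↥(Subgroup.centralizer ({x} : Set S)) := by
    intro t ht
    rw [Subgroup.mem_subgroupOf] at ht
    rw [Subgroup.mem_center_iff]
    intro c
    apply Subtype.ext
    exact Subgroup.mem_center_iff.mp ht (c : S)
  have hxZC : (⟨x, hxC⟩ : ↥(Subgroup.centralizer ({x} : Set S))) ∈
      Subgroup.center ↥(Subgroup.centralizer ({x} : Set S)) := by
    rw [Subgroup.mem_center_iff]
    intro c
    apply Subtype.ext
    exact (Subgroup.mem_centralizer_iff.mp c.2 x rfl).symm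
  have hxT : (⟨x, hxC⟩ : ↥(Subgroup.centralizer ({x} : Set S))) ∉
      (Subgroup.center S).subgroupOf (Subgroup.centralizer ({x} : Set S)) := by
    rw [Subgroup.mem_subgroupOf]
    exact hx
  -- T is a nontrivial p-group
  have hSnt : Nontrivial S := by
    rw [← Finite.one_lt_card_iff_nontrivial, hS4]
    exact Nat.one_lt_pow (by norm_num) hp.one_lt
  have hTne : (Subgroup.center S).subgroupOf (Subgroup.centralizer ({x} : Set S)) ≠ ⊥ := by
    haveI := hS.center_nontrivial
    obtain ⟨z, hz⟩ := exists_ne (1 : Subgroup.center S)
    intro hbot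
    have hzC : (z : S) ∈ Subgroup.centralizer ({x} : Set S) := by
      rw [Subgroup.mem_centralizer_iff]
      intro y _
      exact (Subgroup.mem_center_iff.mp z.2 y)
    have : (⟨(z : S), hzC⟩ : ↥(Subgroup.centralizer ({x} : Set S))) ∈
        (Subgroup.center S).subgroupOf (Subgroup.centralizer ({x} : Set S)) := by
      rw [Subgroup.mem_subgroupOf]; exact z.2
    rw [hbot, Subgroup.mem_bot] at this
    apply hz
    apply Subtype.ext
    have h' := congrArg Subtype.val this
    exact h'
  have hTcard : p ≤ Nat.card ↥((Subgroup.center S).subgroupOf (Subgroup.centralizer ({x} : Set S))) := by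
    have hPT : IsPGroup p ↥((Subgroup.center S).subgroupOf (Subgroup.centralizer ({x} : Set S))) :=
      (hS.to_subgroup (Subgroup.centralizer ({x} : Set S))).to_subgroup _
    rcases hPT.card_eq_or_dvd with h | h
    · exact absurd (Subgroup.eq_bot_of_card_eq _ h) hTne
    · exact Nat.le_of_dvd Nat.card_pos h
  have hlt : Nat.card ↥((Subgroup.center S).subgroupOf (Subgroup.centralizer ({x} : Set S))) <
      Nat.card ↥(Subgroup.center ↥(Subgroup.centralizer ({x} : Set S))) := by
    by_contra hge
    have heq := Subgroup.eq_of_le_of_card_ge hT (by omega)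
    exact hxT (heq ▸ hxZC)
  have hdvd : Nat.card ↥(Subgroup.center ↥(Subgroup.centralizer ({x} : Set S))) ∣ p ^ 3 := by
    rw [← hcardC]; exact Subgroup.card_subgroup_dvd_card _
  obtain ⟨j, hj3, hj⟩ := (Nat.dvd_prime_pow hp).mp hdvd
  have hj2 : 2 ≤ j := by
    by_contra hj2
    have hj1 : j ≤ 1 := by omega
    have : p ^ j ≤ p ^ 1 := Nat.pow_le_pow_right hp.pos hj1
    rw [pow_one] at this
    omega
  have hindex : (Subgroup.center ↥(Subgroup.centralizer ({x} : Set S))).index ∣ p := by
    have h1 := Subgroup.card_mul_index (Subgroup.center ↥(Subgroup.centralizer ({x} : Set S)))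
    rw [hj, hcardC] at h1
    have hj' : j = 2 ∨ j = 3 := by omega
    rcases hj' with rfl | rfl
    · have : p ^ 2 * (Subgroup.center ↥(Subgroup.centralizer ({x} : Set S))).index = p ^ 2 * p := by
        rw [h1]; ring
      rw [Nat.eq_of_mul_eq_mul_left (pow_pos hp.pos 2) this]
    · have : p ^ 3 * (Subgroup.center ↥(Subgroup.centralizer ({x} : Set S))).index = p ^ 3 * 1 := by
        rw [h1]; ring
      rw [Nat.eq_of_mul_eq_mul_left (pow_pos hp.pos 3) this]
      exact one_dvd p
  exact ⟨⟨comm_of_index_center_dvd_prime hindex⟩⟩

/-- Let S be a finite p-group with an extraspecial subgroup of index p. Then S has an abelian subgroup of index p if and only if S has order p⁴. -/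
theorem result {S : Type*} [Group S] [Finite S] (p : ℕ) [Fact p.Prime] (hS : IsPGroup p S) (Q : Subgroup S) (hQ : Cfsg.IsExtraspecial p ↥Q) (hQi : Q.index = p) :
    (∃ A : Subgroup S, IsMulCommutative ↥A ∧ A.index = p) ↔ Nat.card S = p ^ 4 := by
  have hp : p.Prime := Fact.out
  have hQcomm : ¬ (∀ a b : Q, a * b = b * a) := extraspecial_not_comm hQ
  obtain ⟨k, hk3, hkQ⟩ := extraspecial_card hQ
  have hcardS : Nat.card S = Nat.card Q * p := by
    rw [← hQi]; exact (Subgroup.card_mul_index Q).symm
  constructor
  · rintro ⟨A, hAcomm, hAi⟩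
    haveI : A.Normal := normal_of_index_eq_prime hS A hAi
    have hrel : A.relIndex Q ∣ p := by
      rw [← hAi]; exact Subgroup.relIndex_dvd_index_of_normal (H := A) (K := Q)
    rcases (Nat.dvd_prime hp).mp hrel with h1 | h1
    · exfalso
      apply hQcomm
      have hQA : Q ≤ A := Subgroup.relIndex_eq_one.mp h1
      intro a b
      apply Subtype.ext
      have := hAcomm.is_comm.comm ⟨a, hQA a.2⟩ ⟨b, hQA b.2⟩
      have h' := congrArg Subtype.val this
      simpa using h'
    · have hB'i : (A.subgroupOf Q).index = p := h1
      have hB'comm : ∀ a ∈ A.subgroupOf Q, ∀ b ∈ A.subgroupOf Q, a * b = b * a := by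
        intro a ha b hb
        rw [Subgroup.mem_subgroupOf] at ha hb
        apply Subtype.ext
        have := hAcomm.is_comm.comm ⟨a, ha⟩ ⟨b, hb⟩
        have h' := congrArg Subtype.val this
        simpa using h'
      have hB'top : A.subgroupOf Q ≠ ⊤ := by
        intro h
        rw [h, Subgroup.index_top] at hB'i
        exact hp.one_lt.ne hB'i
      obtain ⟨g, hg⟩ : ∃ g : Q, g ∉ A.subgroupOf Q := by
        by_contra hcon
        push Not at hcon
        exact hB'top (eq_top_iff.mpr (fun x _ => hcon x))
      have hsup : A.subgroupOf Q ⊔ Subgroup.zpowers g = ⊤ :=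
        sup_zpowers_eq_top_of_index_prime hp _ hB'i g hg
      have hD : A.subgroupOf Q ⊓ Subgroup.centralizer ({g} : Set Q) ≤ Subgroup.center Q := by
        rintro d ⟨hdB, hdg⟩
        rw [Subgroup.mem_center_iff]
        intro r
        have hr : r ∈ A.subgroupOf Q ⊔ Subgroup.zpowers g := by rw [hsup]; trivial
        have hle : A.subgroupOf Q ⊔ Subgroup.zpowers g ≤ Subgroup.centralizer ({d} : Set Q) := by
          apply sup_le
          · intro b hb
            rw [Subgroup.mem_centralizer_iff]
            intro y hy
            rw [Set.mem_singleton_iff] at hy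
            subst hy
            exact hB'comm _ hdB b hb
          · rw [Subgroup.zpowers_le, Subgroup.mem_centralizer_iff]
            intro y hy
            rw [Set.mem_singleton_iff] at hy
            subst hy
            exact (Subgroup.mem_centralizer_iff.mp hdg g rfl).symm
        exact (Subgroup.mem_centralizer_iff.mp (hle hr) d rfl).symm
      have hDcard : Nat.card ↥(A.subgroupOf Q ⊓ Subgroup.centralizer ({g} : Set Q)) ≤ p := by
        have := Subgroup.card_le_of_le hD
        rwa [hQ.2] at this
      have hCi : (Subgroup.centralizer ({g} : Set Q)).index ∣ p :=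
        extraspecial_index_centralizer hQ g
      have hCrel : (Subgroup.centralizer ({g} : Set Q)).relIndex (A.subgroupOf Q) ≤ p := by
        have h1 := Subgroup.relIndex_le_of_le_right (H := Subgroup.centralizer ({g} : Set Q))
          (K := A.subgroupOf Q) (L := ⊤) le_top
          (by rw [Subgroup.relIndex_top_right]; exact Subgroup.index_ne_zero_of_finite)
        rw [Subgroup.relIndex_top_right] at h1
        exact h1.trans (Nat.le_of_dvd hp.pos hCi)
      have hB'card : Nat.card ↥(A.subgroupOf Q) ≤ p * p := by
        have h6 := card_inf_mul_relIndex (A.subgroupOf Q) (Subgroup.centralizer ({g} : Set Q))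
        rw [← h6]
        exact Nat.mul_le_mul hDcard hCrel
      have hQcard : Nat.card Q ≤ p ^ 3 := by
        rw [← Subgroup.card_mul_index (A.subgroupOf Q), hB'i]
        calc Nat.card ↥(A.subgroupOf Q) * p ≤ p * p * p := Nat.mul_le_mul_right p hB'card
          _ = p ^ 3 := by ring
      have hk : k = 3 := by
        rw [hkQ] at hQcard
        have := (Nat.pow_le_pow_iff_right hp.one_lt).mp hQcard
        omega
      rw [hcardS, hkQ, hk]
      ring
  · intro hS4
    rcases Cfsg.Agent.S3808.result p hS Q hQ hQi with hc | ⟨htop, hc2⟩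
    · -- Z(S) = Z(Q), of order p
      have hZcard : Nat.card (Subgroup.center S) = p := by
        rw [hc, Subgroup.card_map_of_injective Q.subtype_injective]; exact hQ.2
      have hidx3 : (Subgroup.center S).index = p ^ 3 := by
        have h1 := Subgroup.card_mul_index (Subgroup.center S)
        rw [hZcard, hS4] at h1
        have : p * (Subgroup.center S).index = p * p ^ 3 := by rw [h1]; ring
        exact Nat.eq_of_mul_eq_mul_left hp.pos this
      haveI hnt : Nontrivial (S ⧸ Subgroup.center S) := by
        rw [← Finite.one_lt_card_iff_nontrivial]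
        show 1 < (Subgroup.center S).index
        rw [hidx3]
        exact Nat.one_lt_pow (by norm_num) hp.one_lt
      haveI := (hS.to_quotient (Subgroup.center S)).center_nontrivial
      obtain ⟨q, hq⟩ := exists_ne (1 : Subgroup.center (S ⧸ Subgroup.center S))
      obtain ⟨x, hxq⟩ := QuotientGroup.mk_surjective (q : S ⧸ Subgroup.center S)
      have hx : x ∉ Subgroup.center S := by
        intro hxZ
        apply hq
        apply Subtype.ext
        rw [← hxq]
        exact (QuotientGroup.eq_one_iff x).mpr hxZ
      have hcomm : ∀ s : S, s * x * s⁻¹ * x⁻¹ ∈ Subgroup.center S := by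
        intro s
        rw [← QuotientGroup.eq_one_iff]
        have hcen := Subgroup.mem_center_iff.mp q.2 (QuotientGroup.mk s)
        rw [← hxq] at hcen
        simp only [QuotientGroup.mk_mul, QuotientGroup.mk_inv]
        rw [hcen]
        group
      have hidx := index_centralizer_dvd (Subgroup.center S) x le_rfl hcomm
      rw [hZcard] at hidx
      exact ⟨_, centralizer_comm p hS hS4 x hx hidx⟩
    · -- S = Q Z(S)
      obtain ⟨x, hxnot⟩ : ∃ x : Q, (x : S) ∉ Subgroup.center S := by
        by_contra hcon
        push Not at hcon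
        apply hQcomm
        intro a b
        apply Subtype.ext
        exact (Subgroup.mem_center_iff.mp (hcon b) (a : S))
      have hZle : (Subgroup.center ↥Q).map Q.subtype ≤ Subgroup.center S := by
        rintro _ ⟨c, hc, rfl⟩
        have hc' : c ∈ Subgroup.center ↥Q := hc
        rw [Subgroup.mem_center_iff]
        intro s
        have hs : s ∈ Q ⊔ Subgroup.center S := by rw [htop]; trivial
        have hle : Q ⊔ Subgroup.center S ≤ Subgroup.centralizer ({(c : S)} : Set S) := by
          apply sup_le
          · intro q hq
            rw [Subgroup.mem_centralizer_iff]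
            intro h hh
            rw [Set.mem_singleton_iff] at hh
            subst hh
            have h1 := Subgroup.mem_center_iff.mp hc' ⟨q, hq⟩
            have h2 := congrArg Subtype.val h1
            simpa using h2.symm
          · intro z hz
            rw [Subgroup.mem_centralizer_iff]
            intro h hh
            exact Subgroup.mem_center_iff.mp hz h
        exact (Subgroup.mem_centralizer_iff.mp (hle hs) (c : S) rfl).symm
      have hcomm : ∀ s : S, s * (x : S) * s⁻¹ * (x : S)⁻¹ ∈ (Subgroup.center ↥Q).map Q.subtype := by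
        intro s
        have hs : s ∈ Q ⊔ Subgroup.center S := by rw [htop]; trivial
        rw [Subgroup.mem_sup_of_normal_right] at hs
        obtain ⟨q, hq, z, hz, rfl⟩ := hs
        refine ⟨(⟨q, hq⟩ : Q) * x * (⟨q, hq⟩ : Q)⁻¹ * x⁻¹,
          extraspecial_comm_mem_center hQ ⟨q, hq⟩ x, ?_⟩
        have hzx : z * (x : S) = (x : S) * z := (Subgroup.mem_center_iff.mp hz (x : S)).symm
        simp only [Subgroup.subtype_apply, Subgroup.coe_mul, Subgroup.coe_inv]
        calc q * (x : S) * q⁻¹ * (x : S)⁻¹ = q * ((x : S) * z) * z⁻¹ * q⁻¹ * (x : S)⁻¹ := by group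
          _ = q * (z * (x : S)) * z⁻¹ * q⁻¹ * (x : S)⁻¹ := by rw [hzx]
          _ = q * z * (x : S) * (q * z)⁻¹ * (x : S)⁻¹ := by group
      have hidx := index_centralizer_dvd _ (x : S) hZle hcomm
      rw [Subgroup.card_map_of_injective Q.subtype_injective, hQ.2] at hidx
      exact ⟨_, centralizer_comm p hS hS4 (x : S) hxnot hidx⟩

end Cfsg.Agent.S3810
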