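import Cfsg.Statements.S3811
import Cfsg.Agent.Helper29.SoftSub

set_option autoImplicit false
open Cfsg

namespace Cfsg.Agent.S3811

/-- Let P be a finite p-group and E an abelian subgroup of P that contains its centralizer, has index p in its normalizer, and has index at least p² in P. Then the subgroups of P containing E are totally ordered by inclusion, each proper one has index p in its normalizer (so they form the normalizer tower of E, with all steps of index p), and the i-th member of the tower above E has nilpotency class i + 1 whenever it is a proper subgroup of P. -/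
theorem result {P : Type*} [Group P] [Finite P] (p : ℕ) [Fact p.Prime] (hP : IsPGroup p P)
    (E : Subgroup P) (hEab : IsMulCommutative ↥E) (hC : Subgroup.centralizer (E : Set P) ≤ E)
    (hN : (E.subgroupOf (Subgroup.normalizer (E : Set P))).index = p) (hidx : p ^ 2 ≤ E.index) :
    (∀ K L : Subgroup P, E ≤ K → E ≤ L → K ≤ L ∨ L ≤ K) ∧
      (∀ K : Subgroup P, E ≤ K → K ≠ ⊤ → (K.subgroupOf (Subgroup.normalizer (K : Set P))).index = p) ∧
      ∀ (i : ℕ) (K : Subgroup P) [Group.IsNilpotent ↥K], E ≤ K → K ≠ ⊤ → K.index * p ^ i = E.index →
        Group.nilpotencyClass ↥K = i + 1 := by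
  classical
  have hA : Helper29.Soft p E := by
    refine ⟨?_, ?_, ?_⟩
    · intro a ha b hb
      have h := hEab.is_comm.comm ⟨a, ha⟩ ⟨b, hb⟩
      have h' := congrArg Subtype.val h
      exact h'
    · intro g hg
      apply hC
      rw [Subgroup.mem_centralizer_iff]
      intro a ha
      exact (hg a ha).symm
    · exact hN
  have hpart2 : ∀ K : Subgroup P, E ≤ K → K ≠ ⊤ →
      K.relIndex (Subgroup.normalizer (K : Set P)) = p := by
    intro K hEK hK
    obtain ⟨i, rfl⟩ := hA.exists_eq_tower hP K hEK
    exact hA.tower_relIndex hP i hK
  refine ⟨?_, ?_, ?_⟩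
  · intro K L hEK hEL
    obtain ⟨i, rfl⟩ := hA.exists_eq_tower hP K hEK
    obtain ⟨j, rfl⟩ := hA.exists_eq_tower hP L hEL
    rcases le_total i j with h | h
    · left; exact Helper29.Soft.tower_mono E h
    · right; exact Helper29.Soft.tower_mono E h
  · intro K hEK hK
    exact hpart2 K hEK hK
  · intro i K _ hEK hK hidxK
    have hKQ : K ≤ Subgroup.normalizer (K : Set P) := Subgroup.le_normalizer
    have hEQ : E ≤ Subgroup.normalizer (K : Set P) := hEK.trans hKQ
    have hNE : Subgroup.normalizer (E : Set P) ≤ Subgroup.normalizer (K : Set P) := by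
      rcases hA.eq_or_normalizer_le hP K hEK with h | h
      · rw [h]
      · exact h.trans hKQ
    have hsoft : Helper29.Soft p (E.subgroupOf (Subgroup.normalizer (K : Set P))) := by
      refine ⟨?_, ?_, ?_⟩
      · intro a ha b hb
        rw [Subgroup.mem_subgroupOf] at ha hb
        exact Subtype.ext (hA.comm a.1 ha b.1 hb)
      · intro g hg
        rw [Subgroup.mem_subgroupOf]
        apply hA.cent
        intro a ha
        have h := hg ⟨a, hEQ ha⟩ (by rw [Subgroup.mem_subgroupOf]; exact ha)
        have h' := congrArg Subtype.val h
        exact h'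
      · rw [← Subgroup.subgroupOf_normalizer_eq hEQ]
        have h1 : (E.subgroupOf (Subgroup.normalizer (K : Set P))).relIndex
            ((Subgroup.normalizer (E : Set P)).subgroupOf (Subgroup.normalizer (K : Set P))) =
            E.relIndex (Subgroup.normalizer (E : Set P)) := by
          rw [Subgroup.relIndex_subgroupOf hNE]
        rw [h1]
        exact hA.norm
    have hMi : (K.subgroupOf (Subgroup.normalizer (K : Set P))).index = p := hpart2 K hEK hK
    have hEKi : E.relIndex K = p ^ i := by
      have h1 := Subgroup.relIndex_mul_index hEK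
      rw [← hidxK, mul_comm] at h1
      have hKpos : 0 < K.index := Nat.pos_of_ne_zero Subgroup.index_ne_zero_of_finite
      exact Nat.eq_of_mul_eq_mul_left hKpos h1
    have hAi : (E.subgroupOf (Subgroup.normalizer (K : Set P))).index = p ^ (i + 1) := by
      have h1 := Subgroup.relIndex_mul_relIndex E K (Subgroup.normalizer (K : Set P)) hEK hKQ
      rw [hEKi, hpart2 K hEK hK] at h1
      rw [pow_succ]
      exact h1.symm
    have hcl := Helper29.Soft.class_eq i ↥(Subgroup.normalizer (K : Set P))
      (hP.to_subgroup _) (E.subgroupOf (Subgroup.normalizer (K : Set P)))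
      (K.subgroupOf (Subgroup.normalizer (K : Set P))) hsoft
      (fun x hx => by
        rw [Subgroup.mem_subgroupOf] at hx ⊢
        exact hEK hx) hMi hAi
    let e := Subgroup.subgroupOfEquivOfLe hKQ
    haveI : Group.IsNilpotent ↥(K.subgroupOf (Subgroup.normalizer (K : Set P))) :=
      ((hP.to_subgroup _).to_subgroup _).isNilpotent
    have h1 : Group.nilpotencyClass ↥K ≤
        Group.nilpotencyClass ↥(K.subgroupOf (Subgroup.normalizer (K : Set P))) :=
      Group.nilpotencyClass_le_of_surjective e.toMonoidHom e.surjective
    have h2 : Group.nilpotencyClass ↥(K.subgroupOf (Subgroup.normalizer (K : Set P))) ≤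
        Group.nilpotencyClass ↥K :=
      Group.nilpotencyClass_le_of_surjective e.symm.toMonoidHom e.symm.surjective
    omega

end Cfsg.Agent.S3811
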