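import Cfsg.Statements.S3824
import Cfsg.Agent.Helper41.SolvInd
import Cfsg.Agent.Helper3.Burnside2

set_option autoImplicit false
open Cfsg

namespace Cfsg.Agent.S3824

/-- Every finite group having an abelian subgroup whose index is a power of 2 is solvable. -/
theorem result {G : Type*} [Group G] [Finite G]
    (A : Subgroup G) (hA : IsMulCommutative A) (hidx : ∃ k : ℕ, A.index = 2 ^ k) : Group.IsSolvable G := by
  refine Cfsg.Agent.Helper41.isSolvable_of_inherited
    (fun G _ => ∃ A : Subgroup G, IsMulCommutative A ∧ ∃ k : ℕ, A.index = 2 ^ k)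
    ?_ ?_ ?_ G ⟨A, hA, hidx⟩
  · -- normal subgroups
    intro G _ _ N _ ⟨A, hA, k, hk⟩
    refine ⟨A.subgroupOf N, ?_, ?_⟩
    · refine ⟨⟨fun a b => ?_⟩⟩
      apply Subtype.ext
      apply Subtype.ext
      have := mul_comm' (⟨a.1.1, a.2⟩ : A) ⟨b.1.1, b.2⟩
      have h2 : a.1.1 * b.1.1 = b.1.1 * a.1.1 := congrArg Subtype.val this
      exact h2
    · have hd : A.relIndex N ∣ 2 ^ k := by
        rw [← hk]
        exact Cfsg.Agent.Helper41.relIndex_dvd_index_of_normal_right A N
      obtain ⟨j, -, hj⟩ := (Nat.dvd_prime_pow Nat.prime_two).mp hd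
      exact ⟨j, hj⟩
  · -- quotients
    intro G _ _ N _ ⟨A, hA, k, hk⟩
    refine ⟨A.map (QuotientGroup.mk' N), ?_, ?_⟩
    · refine ⟨⟨fun a b => ?_⟩⟩
      obtain ⟨a', ha', ha⟩ := a.2
      obtain ⟨b', hb', hb⟩ := b.2
      apply Subtype.ext
      change (a : G ⧸ N) * (b : G ⧸ N) = (b : G ⧸ N) * (a : G ⧸ N)
      rw [← ha, ← hb, ← map_mul, ← map_mul]
      have := mul_comm' (⟨a', ha'⟩ : A) ⟨b', hb'⟩
      rw [show a' * b' = b' * a' from congrArg Subtype.val this]
    · have hd : (A.map (QuotientGroup.mk' N)).index ∣ 2 ^ k := by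
        rw [← hk]
        exact Subgroup.index_map_dvd A (QuotientGroup.mk'_surjective N)
      obtain ⟨j, -, hj⟩ := (Nat.dvd_prime_pow Nat.prime_two).mp hd
      exact ⟨j, hj⟩
  · -- simple groups
    intro G _ _ _ ⟨A, hA, k, hk⟩
    have hprime : (Nat.card G).Prime := by
      by_cases hbot : A = ⊥
      · -- G is a 2-group
        rw [hbot, Subgroup.index_bot] at hk
        have hp : IsPGroup 2 G := IsPGroup.of_card hk
        have : Fact (Nat.Prime 2) := ⟨Nat.prime_two⟩
        have hnil : Group.IsNilpotent G := hp.isNilpotent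
        have hsolv : Group.IsSolvable G := inferInstance
        have hcomm := IsSimpleGroup.comm_iff_isSolvable.mpr hsolv
        have : IsMulCommutative G := ⟨⟨hcomm⟩⟩
        exact Group.is_simple_iff_prime_card.mp inferInstance
      · obtain ⟨x, hx1⟩ := (Subgroup.ne_bot_iff_exists_ne_one).mp hbot
        have hxA : (x : G) ∈ A := x.2
        have hle : A ≤ Subgroup.centralizer ({(x : G)} : Set G) := by
          intro y hy
          rw [Subgroup.mem_centralizer_iff]
          intro z hz
          rw [Set.mem_singleton_iff] at hz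
          subst hz
          have := mul_comm' x ⟨y, hy⟩
          exact congrArg Subtype.val this
        have hd : (Subgroup.centralizer ({(x : G)} : Set G)).index ∣ 2 ^ k := by
          rw [← hk]
          exact Subgroup.index_dvd_of_le hle
        obtain ⟨j, -, hj⟩ := (Nat.dvd_prime_pow Nat.prime_two).mp hd
        exact Cfsg.Agent.Helper3.prime_card_of_prime_pow_class 2 j Nat.prime_two x
          (fun h => hx1 (Subtype.ext h)) hj
    have : Fact (Nat.card G).Prime := ⟨hprime⟩
    have hcyc : IsCyclic G := isCyclic_of_prime_card rfl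
    exact Group.isSolvable_of_comm (fun a b => mul_comm' a b)

end Cfsg.Agent.S3824
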