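import Cfsg.Statements.S3839
import Cfsg.Agent.S3072
import Cfsg.Agent.Helper33.Frobenius
import Cfsg.Agent.Helper51.PCore

set_option autoImplicit false
universe u v w
open Cfsg

namespace Cfsg.Agent.S3839

variable {G : Type*} [Group G]

/-- `p'`-elements of `N_G(Q)` centralize the `p`-group `Q` if `N_G(Q)` lies in a subgroup with a
normal `p`-complement. -/
theorem p'_cent_of_le [Finite G] {p : ℕ} [Fact p.Prime] {Q M : Subgroup G} (hQ : IsPGroup p Q)
    (hQM : Subgroup.normalizer (Q : Set G) ≤ M) (h : Cfsg.HasNormalPComplement p ↥M) :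
    ∀ g ∈ Subgroup.normalizer (Q : Set G), (orderOf g).Coprime p →
      g ∈ Subgroup.centralizer (Q : Set G) := by
  obtain ⟨K, hKn, hKc, hKm⟩ := Cfsg.Agent.Helper33.hasNormalPComplement_iff_p'.mp h
  intro g hg hcop
  have hgM : g ∈ M := hQM hg
  have hgK : (⟨g, hgM⟩ : ↥M) ∈ K := hKm _ (by rw [Subgroup.orderOf_mk]; exact hcop)
  rw [Subgroup.mem_centralizer_iff]
  intro q hq
  have hqM : q ∈ M := hQM (Subgroup.le_normalizer hq)
  have h1 : (⟨g, hgM⟩ : ↥M) * ⟨q, hqM⟩ * ⟨g, hgM⟩⁻¹ * ⟨q, hqM⟩⁻¹ ∈ K := by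
    have h2 := hKn.conj_mem _ (K.inv_mem hgK) ⟨q, hqM⟩
    have := K.mul_mem hgK h2
    have e : (⟨g, hgM⟩ : ↥M) * (⟨q, hqM⟩ * ⟨g, hgM⟩⁻¹ * ⟨q, hqM⟩⁻¹) =
        ⟨g, hgM⟩ * ⟨q, hqM⟩ * ⟨g, hgM⟩⁻¹ * ⟨q, hqM⟩⁻¹ := by group
    rwa [e] at this
  have h3 : g * q * g⁻¹ * q⁻¹ ∈ Q :=
    Q.mul_mem ((Subgroup.mem_normalizer_iff.mp hg q).mp hq) (Q.inv_mem hq)
  obtain ⟨k, hk⟩ := hQ ⟨_, h3⟩
  have hk' : (g * q * g⁻¹ * q⁻¹) ^ p ^ k = 1 := congrArg Subtype.val hk
  have h4 : (orderOf (g * q * g⁻¹ * q⁻¹)).Coprime p := by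
    have h5 : orderOf ((⟨g, hgM⟩ : ↥M) * ⟨q, hqM⟩ * ⟨g, hgM⟩⁻¹ * ⟨q, hqM⟩⁻¹) ∣ Nat.card K := by
      have := orderOf_dvd_natCard (⟨_, h1⟩ : K)
      rwa [Subgroup.orderOf_mk] at this
    have h6 : orderOf ((⟨g, hgM⟩ : ↥M) * ⟨q, hqM⟩ * ⟨g, hgM⟩⁻¹ * ⟨q, hqM⟩⁻¹) =
        orderOf (g * q * g⁻¹ * q⁻¹) := by
      rw [← Subgroup.orderOf_coe]
      rfl
    rw [← h6]
    exact Nat.Coprime.coprime_dvd_left h5 hKc
  have h7 := Cfsg.Agent.Helper33.eq_one_of_pow_of_coprime hk' h4
  have e : g * q = (g * q * g⁻¹ * q⁻¹) * (q * g) := by group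
  rw [e, h7, one_mul]

/-- The stabilizer in `N_G(H)` of the chain `H ≥ E ≥ 1`, as a subgroup of `G`. -/
def chainStab (H E : Subgroup G) : Subgroup G where
  carrier := {a | a ∈ Subgroup.normalizer (H : Set G) ∧ (∀ h ∈ H, a * h * a⁻¹ * h⁻¹ ∈ E) ∧
    ∀ d ∈ E, a * d * a⁻¹ = d}
  mul_mem' := by
    rintro a b ⟨haN, ha1, ha2⟩ ⟨hbN, hb1, hb2⟩
    refine ⟨mul_mem haN hbN, ?_, ?_⟩
    · intro h hh
      have e : a * b * h * (a * b)⁻¹ * h⁻¹ = a * (b * h * b⁻¹ * h⁻¹) * a⁻¹ * (a * h * a⁻¹ * h⁻¹) := by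
        group
      rw [e, ha2 _ (hb1 h hh)]
      exact E.mul_mem (hb1 h hh) (ha1 h hh)
    · intro d hd
      have e : a * b * d * (a * b)⁻¹ = a * (b * d * b⁻¹) * a⁻¹ := by group
      rw [e, hb2 d hd, ha2 d hd]
  one_mem' := by
    refine ⟨one_mem _, ?_, ?_⟩
    · intro h hh
      simp
    · intro d hd
      simp
  inv_mem' := by
    rintro a ⟨haN, ha1, ha2⟩
    refine ⟨inv_mem haN, ?_, ?_⟩
    · intro h hh
      have hh' : a⁻¹ * h * a ∈ H := by
        have := (Subgroup.mem_normalizer_iff.mp (inv_mem haN) h).mp hh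
        simpa using this
      have h1 := ha1 _ hh'
      have e : a⁻¹ * h * a⁻¹⁻¹ * h⁻¹ = (a * (a⁻¹ * h * a) * a⁻¹ * (a⁻¹ * h * a)⁻¹)⁻¹ := by group
      rw [e]
      exact E.inv_mem h1
    · intro d hd
      have h1 := ha2 d hd
      calc a⁻¹ * d * a⁻¹⁻¹ = a⁻¹ * (a * d * a⁻¹) * a := by rw [h1]; group
        _ = d := by group

/-- Powers of a chain-stabilizing element: `a^k h a^{-k} = [a,h]^k h`. -/
theorem chainStab_pow {H E : Subgroup G} {a : G} (ha : a ∈ chainStab H E) {h : G} (hh : h ∈ H)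
    (k : ℕ) : a ^ k * h * (a ^ k)⁻¹ = (a * h * a⁻¹ * h⁻¹) ^ k * h := by
  induction k with
  | zero => simp
  | succ k ih =>
    have he : a * (a * h * a⁻¹ * h⁻¹) * a⁻¹ = a * h * a⁻¹ * h⁻¹ := ha.2.2 _ (ha.2.1 h hh)
    calc a ^ (k + 1) * h * (a ^ (k + 1))⁻¹ = a * (a ^ k * h * (a ^ k)⁻¹) * a⁻¹ := by
          rw [pow_succ']; group
      _ = a * ((a * h * a⁻¹ * h⁻¹) ^ k * h) * a⁻¹ := by rw [ih]
      _ = (a * (a * h * a⁻¹ * h⁻¹) * a⁻¹) ^ k * (a * h * a⁻¹) := by rw [conj_pow]; group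
      _ = (a * h * a⁻¹ * h⁻¹) ^ k * ((a * h * a⁻¹ * h⁻¹) * h) := by rw [he]; group
      _ = (a * h * a⁻¹ * h⁻¹) ^ (k + 1) * h := by rw [pow_succ]; group

/-- A chain-stabilizing element of `N_G(H)` lies in `O_{p',p}(N_G(H))` (mapped to `G`). -/
theorem chainStab_le_pPrimePCore [Finite G] {p : ℕ} [Fact p.Prime] (H E : Subgroup G)
    (hE : IsPGroup p E)
    (hEN : ∀ n ∈ Subgroup.normalizer (H : Set G), ∀ d ∈ E, n * d * n⁻¹ ∈ E)
    (hcen : Subgroup.centralizer (H : Set G) ≤
      (Cfsg.pPrimePCore p ↥(Subgroup.normalizer (H : Set G))).map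
        (Subgroup.normalizer (H : Set G)).subtype) :
    chainStab H E ≤ (Cfsg.pPrimePCore p ↥(Subgroup.normalizer (H : Set G))).map
        (Subgroup.normalizer (H : Set G)).subtype := by
  have hp : p.Prime := Fact.out
  obtain ⟨N, hN⟩ : ∃ N : Subgroup G, N = Subgroup.normalizer (H : Set G) := ⟨_, rfl⟩
  rw [← hN] at hEN hcen ⊢
  have hAN : chainStab H E ≤ N := fun a ha => hN ▸ ha.1
  -- normality of the chain stabilizer in N
  have hAnorm : ((chainStab H E).subgroupOf N).Normal := by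
    constructor
    intro a ha n
    rw [Subgroup.mem_subgroupOf] at ha ⊢
    obtain ⟨haN, ha1, ha2⟩ := ha
    have hnN : (n : G) ∈ Subgroup.normalizer (H : Set G) := hN ▸ n.2
    refine ⟨hN ▸ (n * a * n⁻¹).2, ?_, ?_⟩
    · intro h hh
      have hh' : (n : G)⁻¹ * h * n ∈ H := by
        have := (Subgroup.mem_normalizer_iff.mp (inv_mem hnN) h).mp hh
        simpa using this
      have h1 := hEN n n.2 _ (ha1 _ hh')
      have e : ((n * a * n⁻¹ : ↥N) : G) * h * ((n * a * n⁻¹ : ↥N) : G)⁻¹ * h⁻¹ =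
          (n : G) * ((a : G) * ((n : G)⁻¹ * h * n) * (a : G)⁻¹ * ((n : G)⁻¹ * h * n)⁻¹) * (n : G)⁻¹ := by
        push_cast
        group
      rw [e]
      exact h1
    · intro d hd
      have hd' : (n : G)⁻¹ * d * n ∈ E := by
        have := hEN (n⁻¹ : ↥N) (n⁻¹).2 d hd
        simpa using this
      have h1 := ha2 _ hd'
      calc ((n * a * n⁻¹ : ↥N) : G) * d * ((n * a * n⁻¹ : ↥N) : G)⁻¹
          = (n : G) * ((a : G) * ((n : G)⁻¹ * d * n) * (a : G)⁻¹) * (n : G)⁻¹ := by
            push_cast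
            group
        _ = d := by rw [h1]; group
  -- the image in N / O_{p'}(N)
  obtain ⟨m, hm⟩ := IsPGroup.iff_card.mp hE
  have hB : IsPGroup p ↥(((chainStab H E).subgroupOf N).map
      (QuotientGroup.mk' (Cfsg.pPrimeCore p ↥N))) := by
    rintro ⟨b, hb⟩
    obtain ⟨a, ha, rfl⟩ := Subgroup.mem_map.mp hb
    rw [Subgroup.mem_subgroupOf] at ha
    -- a^(p^m) centralizes H
    have hac : (a : G) ^ p ^ m ∈ Subgroup.centralizer (H : Set G) := by
      rw [Subgroup.mem_centralizer_iff]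
      intro h hh
      have h1 := chainStab_pow ha hh (p ^ m)
      have h2 : ((a : G) * h * (a : G)⁻¹ * h⁻¹) ^ p ^ m = 1 := by
        have h3 : (a : G) * h * (a : G)⁻¹ * h⁻¹ ∈ E := ha.2.1 h hh
        have h4 : (⟨_, h3⟩ : ↥E) ^ Nat.card ↥E = 1 := pow_card_eq_one'
        rw [hm] at h4
        exact congrArg Subtype.val h4
      rw [h2, one_mul] at h1
      calc h * (a : G) ^ p ^ m = ((a : G) ^ p ^ m * h * ((a : G) ^ p ^ m)⁻¹) * (a : G) ^ p ^ m := by
            rw [h1]
        _ = (a : G) ^ p ^ m * h := by group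
    obtain ⟨y, hy, hya⟩ := Subgroup.mem_map.mp (hcen hac)
    have hya' : y = a ^ p ^ m := Subtype.ext (by rw [Subgroup.coe_pow]; exact hya)
    rw [hya'] at hy
    have hy2 : (QuotientGroup.mk' (Cfsg.pPrimeCore p ↥N)) (a ^ p ^ m) ∈
        Cfsg.pCore p (↥N ⧸ Cfsg.pPrimeCore p ↥N) := hy
    obtain ⟨j, hj⟩ := (Cfsg.Agent.Helper51.pCore_isPGroup p (↥N ⧸ Cfsg.pPrimeCore p ↥N)) ⟨_, hy2⟩
    have hj' : ((QuotientGroup.mk' (Cfsg.pPrimeCore p ↥N)) (a ^ p ^ m)) ^ p ^ j = 1 :=
      congrArg Subtype.val hj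
    refine ⟨m + j, Subtype.ext ?_⟩
    rw [Subgroup.coe_pow, Subgroup.coe_one, pow_add, pow_mul, ← map_pow]
    exact hj'
  have hBn : (((chainStab H E).subgroupOf N).map
      (QuotientGroup.mk' (Cfsg.pPrimeCore p ↥N))).Normal :=
    Subgroup.Normal.map hAnorm _ (QuotientGroup.mk'_surjective _)
  have hBle := Cfsg.Agent.Helper51.le_pCore _ hBn hB
  intro a ha
  refine Subgroup.mem_map.mpr ⟨⟨a, hAN ha⟩, ?_, rfl⟩
  show (QuotientGroup.mk' (Cfsg.pPrimeCore p ↥N)) ⟨a, hAN ha⟩ ∈
    Cfsg.pCore p (↥N ⧸ Cfsg.pPrimeCore p ↥N)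
  exact hBle (Subgroup.mem_map.mpr ⟨⟨a, hAN ha⟩, Subgroup.mem_subgroupOf.mpr ha, rfl⟩)

/-- The key step: for a centric radical `H ≤ S`, the subgroup `H ⊓ D` is `D`-centric. -/
theorem inf_centric [Finite G] {p : ℕ} [Fact p.Prime] (S : Sylow p G) (D : Subgroup G)
    (hD : Cfsg.IsStronglyClosed D (S : Subgroup G)) (H : Subgroup G) (hHS : H ≤ (S : Subgroup G))
    (hcen : (S : Subgroup G) ⊓ Subgroup.centralizer (H : Set G) ≤ H)
    (hrad : (Cfsg.pPrimePCore p ↥(Subgroup.normalizer (H : Set G))).map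
      (Subgroup.normalizer (H : Set G)).subtype = H ⊔ Subgroup.centralizer (H : Set G)) :
    D ⊓ Subgroup.centralizer ((H ⊓ D : Subgroup G) : Set G) ≤ H ⊓ D := by
  have hDS : D ≤ (S : Subgroup G) := hD.1
  have hDn : ∀ g ∈ (S : Subgroup G), ∀ x ∈ D, g * x * g⁻¹ ∈ D := fun g hg x hx =>
    hD.2 x hx g (mul_mem (mul_mem hg (hDS hx)) (inv_mem hg))
  have hEN : ∀ n ∈ Subgroup.normalizer (H : Set G), ∀ d ∈ H ⊓ D, n * d * n⁻¹ ∈ H ⊓ D := by
    intro n hn d hd
    have h1 : n * d * n⁻¹ ∈ H := (Subgroup.mem_normalizer_iff.mp hn d).mp hd.1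
    exact ⟨h1, hD.2 d hd.2 n (hHS h1)⟩
  have hE : IsPGroup p ↥(H ⊓ D : Subgroup G) := S.2.to_le (inf_le_left.trans hHS)
  have step1 : ∀ c ∈ D ⊓ Subgroup.centralizer ((H ⊓ D : Subgroup G) : Set G),
      c ∈ Subgroup.normalizer (H : Set G) → c ∈ H := by
    intro c hc hcN
    have hcA : c ∈ chainStab H (H ⊓ D) := by
      refine ⟨hcN, ?_, ?_⟩
      · intro h hh
        refine ⟨H.mul_mem ((Subgroup.mem_normalizer_iff.mp hcN h).mp hh) (H.inv_mem hh), ?_⟩
        have h1 : h * c⁻¹ * h⁻¹ ∈ D := hDn h (hHS hh) c⁻¹ (D.inv_mem hc.1)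
        have e : c * h * c⁻¹ * h⁻¹ = c * (h * c⁻¹ * h⁻¹) := by group
        rw [e]; exact D.mul_mem hc.1 h1
      · intro d hd
        have h1 := (Subgroup.mem_centralizer_iff.mp hc.2) d hd
        rw [← h1]; group
    have h2 := chainStab_le_pPrimePCore H (H ⊓ D) hE hEN (by rw [hrad]; exact le_sup_right) hcA
    rw [hrad] at h2
    obtain ⟨z, hz, h, hh, rfl⟩ := Cfsg.Agent.Helper51.exists_mul_of_mem_sup_centralizer H h2
    have hzS : z ∈ (S : Subgroup G) := by
      have e : z = (z * h) * h⁻¹ := by group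
      rw [e]; exact mul_mem (hDS hc.1) (inv_mem (hHS hh))
    exact H.mul_mem (hcen ⟨hzS, hz⟩) hh
  have step2 : D ⊓ Subgroup.centralizer ((H ⊓ D : Subgroup G) : Set G) ≤ H := by
    obtain ⟨C, hC⟩ : ∃ C : Subgroup G,
      C = D ⊓ Subgroup.centralizer ((H ⊓ D : Subgroup G) : Set G) := ⟨_, rfl⟩
    rw [← hC] at step1 ⊢
    have hCS : C ≤ (S : Subgroup G) := hC ▸ (inf_le_left.trans hDS)
    have hHC : ∀ h ∈ H, ∀ c ∈ C, h * c * h⁻¹ ∈ C := by
      intro h hh c hc
      rw [hC] at hc ⊢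
      refine ⟨hDn h (hHS hh) c hc.1, ?_⟩
      show h * c * h⁻¹ ∈ Subgroup.centralizer ((H ⊓ D : Subgroup G) : Set G)
      rw [Subgroup.mem_centralizer_iff]
      intro d hd
      have hd' : h⁻¹ * d * h ∈ H ⊓ D := by
        refine ⟨H.mul_mem (H.mul_mem (H.inv_mem hh) hd.1) hh, ?_⟩
        have := hDn h⁻¹ (inv_mem (hHS hh)) d hd.2
        simpa using this
      have h1 := (Subgroup.mem_centralizer_iff.mp hc.2) _ hd'
      calc d * (h * c * h⁻¹) = h * ((h⁻¹ * d * h) * c) * h⁻¹ := by group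
        _ = h * (c * (h⁻¹ * d * h)) * h⁻¹ := by rw [h1]
        _ = h * c * h⁻¹ * d := by group
    have hHnC : H ≤ Subgroup.normalizer (C : Set G) := by
      intro h hh
      rw [Subgroup.mem_normalizer_iff]
      intro c
      constructor
      · exact hHC h hh c
      · intro hc'
        have := hHC h⁻¹ (H.inv_mem hh) _ hc'
        have e : h⁻¹ * (h * c * h⁻¹) * h⁻¹⁻¹ = c := by group
        rwa [e] at this
    by_contra hnot
    obtain ⟨T, hT⟩ : ∃ T : Subgroup G, T = C ⊔ H := ⟨_, rfl⟩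
    have hHT : H ≤ T := hT ▸ le_sup_right
    have hTS : T ≤ (S : Subgroup G) := hT ▸ sup_le hCS hHS
    have hTp : IsPGroup p ↥T := S.2.to_le hTS
    have : Group.IsNilpotent ↥T := hTp.isNilpotent
    have hlt : H.subgroupOf T < ⊤ := by
      rw [lt_top_iff_ne_top]
      intro htop
      apply hnot
      intro c hc
      have hcT : c ∈ T := hT ▸ (le_sup_left : C ≤ C ⊔ H) hc
      have : (⟨c, hcT⟩ : ↥T) ∈ H.subgroupOf T := htop ▸ Subgroup.mem_top _
      exact Subgroup.mem_subgroupOf.mp this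
    have hnc := Group.normalizerCondition_of_isNilpotent (G := ↥T) _ hlt
    obtain ⟨t, htN, htH⟩ := SetLike.exists_of_lt hnc
    have htNG : (t : G) ∈ Subgroup.normalizer (H : Set G) := by
      rw [Subgroup.mem_normalizer_iff]
      intro h
      constructor
      · intro hh
        have := (Subgroup.mem_normalizer_iff.mp htN ⟨h, hHT hh⟩).mp (Subgroup.mem_subgroupOf.mpr hh)
        exact Subgroup.mem_subgroupOf.mp this
      · intro hh
        have htinv := inv_mem htN
        have := (Subgroup.mem_normalizer_iff.mp htinv ⟨(t : G) * h * (t : G)⁻¹, hHT hh⟩).mp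
          (Subgroup.mem_subgroupOf.mpr hh)
        have h2 := Subgroup.mem_subgroupOf.mp this
        have e : ((t⁻¹ * ⟨(t : G) * h * (t : G)⁻¹, hHT hh⟩ * t⁻¹⁻¹ : ↥T) : G) = h := by
          push_cast; group
        rwa [e] at h2
    obtain ⟨c, hc, h, hh, hth⟩ := (Cfsg.Agent.Helper33.mem_sup_of_le_normalizer hHnC).mp
      (hT ▸ t.2 : (t : G) ∈ C ⊔ H)
    have hcN : c ∈ Subgroup.normalizer (H : Set G) := by
      have e : c = (t : G) * h⁻¹ := by rw [hth]; group
      rw [e]; exact mul_mem htNG (inv_mem (Subgroup.le_normalizer hh))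
    apply htH
    rw [Subgroup.mem_subgroupOf, hth]
    exact H.mul_mem (step1 c hc hcN) hh
  exact le_inf step2 inf_le_left

/-- A Frobenius normal p-complement criterion relative to a strongly closed subgroup. Let G be a finite group, S a Sylow p-subgroup and D a subgroup of S strongly closed in S with respect to G. Then G has a normal p-complement if and only if N_G(U) has a normal p-complement for every subgroup U of D with C_D(U) ≤ U. -/
theorem result {G : Type*} [Group G] [Finite G] {p : ℕ} [Fact p.Prime] (S : Sylow p G) (D : Subgroup G) (hD : Cfsg.IsStronglyClosed D (S : Subgroup G)) : Cfsg.HasNormalPComplement p G ↔ ∀ U : Subgroup G, U ≤ D → D ⊓ Subgroup.centralizer (U : Set G) ≤ U → Cfsg.HasNormalPComplement p ↥(Subgroup.normalizer (U : Set G)) := by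
  classical
  constructor
  · intro h U _ _
    exact Cfsg.Agent.Helper33.hasNormalPComplement_subgroup' h _
  · intro hyp
    have hp : p.Prime := Fact.out
    have hDS : D ≤ (S : Subgroup G) := hD.1
    have hNS : Subgroup.normalizer ((S : Subgroup G) : Set G) ≤ Subgroup.normalizer (D : Set G) := by
      have key : ∀ y ∈ Subgroup.normalizer ((S : Subgroup G) : Set G), ∀ d ∈ D, y * d * y⁻¹ ∈ D := by
        intro y hy d hd
        exact hD.2 d hd y ((Subgroup.mem_normalizer_iff.mp hy d).mp (hDS hd))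
      intro y hy
      rw [Subgroup.mem_normalizer_iff]
      intro d
      constructor
      · exact key y hy d
      · intro hd
        have := key y⁻¹ (inv_mem hy) _ hd
        have e : y⁻¹ * (y * d * y⁻¹) * y⁻¹⁻¹ = d := by group
        rwa [e] at this
    have hND : Cfsg.HasNormalPComplement p ↥(Subgroup.normalizer (D : Set G)) :=
      hyp D le_rfl inf_le_left
    have hScent := p'_cent_of_le S.2 hNS hND
    have hgood : ∀ H : Subgroup G, H ≤ (S : Subgroup G) →
        (S : Subgroup G) ⊓ Subgroup.centralizer (H : Set G) ≤ H →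
        (Cfsg.pPrimePCore p ↥(Subgroup.normalizer (H : Set G))).map
          (Subgroup.normalizer (H : Set G)).subtype = H ⊔ Subgroup.centralizer (H : Set G) →
        ∀ g ∈ Subgroup.normalizer (H : Set G), (orderOf g).Coprime p →
          g ∈ Subgroup.centralizer (H : Set G) := by
      intro H hHS hcen hrad
      have h1 := inf_centric S D hD H hHS hcen hrad
      have h2 := hyp (H ⊓ D) inf_le_right h1
      have h3 : Subgroup.normalizer (H : Set G) ≤
          Subgroup.normalizer ((H ⊓ D : Subgroup G) : Set G) := by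
        have key : ∀ n ∈ Subgroup.normalizer (H : Set G), ∀ d ∈ H ⊓ D, n * d * n⁻¹ ∈ H ⊓ D := by
          intro n hn d hd
          have h1 : n * d * n⁻¹ ∈ H := (Subgroup.mem_normalizer_iff.mp hn d).mp hd.1
          exact ⟨h1, hD.2 d hd.2 n (hHS h1)⟩
        intro n hn
        rw [Subgroup.mem_normalizer_iff]
        intro d
        constructor
        · exact key n hn d
        · intro hd
          have := key n⁻¹ (inv_mem hn) _ hd
          have e : n⁻¹ * (n * d * n⁻¹) * n⁻¹⁻¹ = d := by group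
          rwa [e] at this
      exact p'_cent_of_le (S.2.to_le hHS) h3 h2
    apply Cfsg.Agent.Helper33.hasNormalPComplement_iff_p'.mpr
    apply Cfsg.Agent.Helper33.frobenius_p' (Nat.card G) G rfl S
    intro Q hQS g hg hcop
    by_cases hQb : Q = ⊥
    · rw [hQb, Subgroup.mem_centralizer_iff]
      intro q hq
      rw [Subgroup.mem_bot.mp hq, one_mul, mul_one]
    · obtain ⟨a, haQ, ha1⟩ : ∃ a ∈ Q, a ≠ 1 := by
        by_contra hcon
        push Not at hcon
        exact hQb ((Subgroup.eq_bot_iff_forall Q).mpr hcon)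
      have hAg : (fun a => g⁻¹ * a * g) '' (Q : Set G) ⊆ ((S : Subgroup G) : Set G) := by
        rintro _ ⟨q, hq, rfl⟩
        have := (Subgroup.mem_normalizer_iff.mp (inv_mem hg) q).mp hq
        have e : g⁻¹ * q * g⁻¹⁻¹ = g⁻¹ * q * g := by group
        rw [e] at this
        exact hQS this
      obtain ⟨n, H, X, x, c, y, hc, hy, hgeq, hall⟩ :=
        Cfsg.Agent.S3072.result S (Q : Set G) hQS ⟨a, haQ, ha1⟩ g hAg
      have hx : ∀ i : Fin n, x i ∈ Subgroup.centralizer (H i : Set G) := by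
        intro i
        obtain ⟨h1, h2, h3, h4, h5, h6, h7, h8⟩ := hall i
        have hcent := hgood (H i) h1 h3 h4
        obtain ⟨xx, hxx, hxe⟩ := Subgroup.mem_map.mp h7
        rw [← hxe]
        have hres : ∀ z ∈ Cfsg.pResidual p ↥(X i),
            ((X i).subtype z) ∈ Subgroup.centralizer (H i : Set G) := by
          intro z hz
          induction hz using Subgroup.closure_induction with
          | mem z hz =>
            apply hcent _ (h6.2.1 z.2)
            have e : orderOf (z : G) = orderOf z := Subgroup.orderOf_coe z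
            show (orderOf (z : G)).Coprime p
            rw [e]; exact hz
          | one => rw [map_one]; exact one_mem _
          | mul z w _ _ hz hw => rw [map_mul]; exact mul_mem hz hw
          | inv z _ hz => rw [map_inv]; exact inv_mem hz
        exact hres xx hxx
      have hpart : ∀ i : ℕ, i ≤ n →
          ((List.ofFn x).take i).prod ∈ Subgroup.centralizer (Q : Set G) := by
        intro i
        induction i with
        | zero => intro _; simp
        | succ i ih =>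
          intro hi
          have hi' : i < n := hi
          have ih' := ih (Nat.le_of_lt hi')
          have htake : (List.ofFn x).take (i + 1) = (List.ofFn x).take i ++ [x ⟨i, hi'⟩] := by
            rw [List.take_add_one]
            simp [hi']
          rw [htake, List.prod_append, List.prod_singleton]
          apply mul_mem ih'
          obtain ⟨h1, h2, h3, h4, h5, h6, h7, h8⟩ := hall ⟨i, hi'⟩
          have hQH : (Q : Set G) ⊆ (H ⟨i, hi'⟩ : Set G) := by
            intro q hq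
            have h9 := h8 ⟨q, hq, rfl⟩
            have hw := (Subgroup.mem_centralizer_iff.mp ih') q hq
            simp only at h9
            rw [mul_assoc, hw, ← mul_assoc, inv_mul_cancel, one_mul] at h9
            exact h9
          exact Subgroup.centralizer_le hQH (hx ⟨i, hi'⟩)
      have hw : (List.ofFn x).prod ∈ Subgroup.centralizer (Q : Set G) := by
        have := hpart n le_rfl
        rwa [List.take_of_length_le (by simp)] at this
      -- z = c * w centralizes Q, g = z * y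
      obtain ⟨z, hz⟩ : ∃ z : G, z = c * (List.ofFn x).prod := ⟨_, rfl⟩
      have hzc : z ∈ Subgroup.centralizer (Q : Set G) := hz ▸ mul_mem hc hw
      have hgz : g = z * y := by rw [hz]; exact hgeq
      have hzN : z ∈ Subgroup.normalizer (Q : Set G) := Subgroup.centralizer_le_normalizer _ hzc
      have hyN : y ∈ Subgroup.normalizer (Q : Set G) := by
        have e : y = z⁻¹ * g := by rw [hgz]; group
        rw [e]; exact mul_mem (inv_mem hzN) hg
      obtain ⟨u, k, hu, hk, hyuk, ⟨j, huj⟩, hkcop⟩ := Cfsg.Agent.Helper33.exists_p_p'_parts p y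
      have hzpS : Subgroup.zpowers y ≤ Subgroup.normalizer ((S : Subgroup G) : Set G) :=
        (Subgroup.zpowers_le).mpr hy
      have hzpQ : Subgroup.zpowers y ≤ Subgroup.normalizer (Q : Set G) :=
        (Subgroup.zpowers_le).mpr hyN
      have hkQ : k ∈ Subgroup.centralizer (Q : Set G) :=
        Subgroup.centralizer_le (show (Q : Set G) ⊆ ((S : Subgroup G) : Set G) from hQS)
          (hScent k (hzpS hk) hkcop)
      have huN : u ∈ Subgroup.normalizer (Q : Set G) := hzpQ hu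
      have hconj : ∀ q ∈ Q, g * q * g⁻¹ = u * q * u⁻¹ := by
        intro q hq
        have h1 : k * q * k⁻¹ = q := by
          have := (Subgroup.mem_centralizer_iff.mp hkQ) q hq
          rw [← this]; group
        have h2 : u * q * u⁻¹ ∈ Q := (Subgroup.mem_normalizer_iff.mp huN q).mp hq
        have h3 : z * (u * q * u⁻¹) * z⁻¹ = u * q * u⁻¹ := by
          have := (Subgroup.mem_centralizer_iff.mp hzc) _ h2
          rw [← this]; group
        calc g * q * g⁻¹ = z * (u * (k * q * k⁻¹) * u⁻¹) * z⁻¹ := by rw [hgz, hyuk]; group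
          _ = u * q * u⁻¹ := by rw [h1, h3]
      have hpow : ∀ m : ℕ, ∀ q ∈ Q, g ^ m * q * (g ^ m)⁻¹ = u ^ m * q * (u ^ m)⁻¹ := by
        intro m
        induction m with
        | zero => intro q _; simp
        | succ m ih =>
          intro q hq
          have h2 : u ^ m * q * (u ^ m)⁻¹ ∈ Q :=
            (Subgroup.mem_normalizer_iff.mp (pow_mem huN m) q).mp hq
          calc g ^ (m + 1) * q * (g ^ (m + 1))⁻¹ = g * (g ^ m * q * (g ^ m)⁻¹) * g⁻¹ := by
                rw [pow_succ']; group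
            _ = g * (u ^ m * q * (u ^ m)⁻¹) * g⁻¹ := by rw [ih q hq]
            _ = u * (u ^ m * q * (u ^ m)⁻¹) * u⁻¹ := hconj _ h2
            _ = u ^ (m + 1) * q * (u ^ (m + 1))⁻¹ := by rw [pow_succ']; group
      have hgp : g ^ p ^ j ∈ Subgroup.centralizer (Q : Set G) := by
        rw [Subgroup.mem_centralizer_iff]
        intro q hq
        have h1 := hpow (p ^ j) q hq
        rw [huj] at h1
        simp only [one_mul, inv_one, mul_one] at h1
        calc q * g ^ p ^ j = (g ^ p ^ j * q * (g ^ p ^ j)⁻¹) * g ^ p ^ j := by rw [h1]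
          _ = g ^ p ^ j * q := by group
      have hcop' : (p ^ j).Coprime (orderOf g) := Nat.Coprime.pow_left j hcop.symm
      obtain ⟨s, hs⟩ := exists_pow_eq_self_of_coprime hcop'
      rw [← hs]
      exact pow_mem hgp s

end Cfsg.Agent.S3839
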