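import Cfsg.Statements.S3868
import Cfsg.Agent.Helper64.MinNonClosed

set_option autoImplicit false
open Cfsg

namespace Cfsg.Agent.S3868

open Cfsg.Agent.Helper64

/-- Structure of the non-simple minimal non-p-closed groups. Call a finite group p-closed when its Sylow p-subgroups are normal, and minimal non-p-closed when it is not p-closed but every proper subgroup and every proper quotient is. If such a group G is not simple, then there is a prime q ≠ p such that G has order p · q^e, where e is the multiplicative order of q modulo p, and G has a normal subgroup A of order q^e that is elementary abelian and is a minimal normal subgroup of G (so G is the semidirect product of A by a group of order p acting irreducibly). -/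
theorem result {G : Type*} [Group G] [Finite G] {p : ℕ} [Fact p.Prime]
    (hnc : ¬ Cfsg.IsPClosed p G) (hsub : ∀ H : Subgroup G, H ≠ ⊤ → Cfsg.IsPClosed p ↥H)
    (hquo : ∀ (N : Subgroup G) [N.Normal], N ≠ ⊥ → Cfsg.IsPClosed p (G ⧸ N)) (hns : ¬ IsSimpleGroup G) :
    ∃ q : ℕ, q.Prime ∧ q ≠ p ∧ Nat.card G = p * q ^ orderOf (q : ZMod p) ∧
      ∃ A : Subgroup G, A.Normal ∧ Nat.card ↥A = q ^ orderOf (q : ZMod p) ∧ Cfsg.IsElementaryAbelian q A ∧
        ∀ B : Subgroup G, B.Normal → B ≤ A → B = ⊥ ∨ B = A := by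
  classical
  have hp : p.Prime := Fact.out
  -- a non-normal Sylow subgroup
  have hP : ∃ P : Sylow p G, ¬ (P : Subgroup G).Normal := by
    by_contra hcon
    push Not at hcon
    exact hnc hcon
  obtain ⟨P, h4⟩ := hP
  -- G is nontrivial
  haveI hnt : Nontrivial G := by
    by_contra hcon
    rw [not_nontrivial_iff_subsingleton] at hcon
    apply h4
    have : (P : Subgroup G) = ⊤ := Subsingleton.elim _ _
    rw [this]; infer_instance
  obtain ⟨N₀, hN₀n, hN₀0, hN₀t⟩ := exists_normal_ne_bot_ne_top hns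
  obtain ⟨N, hNn, hN0, hNN₀, hmin⟩ := exists_minimal_normal_le N₀ hN₀n hN₀0
  haveI := hNn
  have hNt : N ≠ ⊤ := fun h => hN₀t (top_le_iff.mp (h ▸ hNN₀))
  -- P ⊔ N = ⊤
  have h1 : (P : Subgroup G) ⊔ N = ⊤ := by
    by_contra hcon
    haveI hn : ((P : Subgroup G) ⊔ N).Normal :=
      sup_normal_of_quotient_sylow_normal P N (hquo N hN0)
    exact h4 (sylow_normal_of_le_normal P _ le_sup_left (hsub _ hcon))
  -- p does not divide the order of N
  have h2 : ¬ p ∣ Nat.card N := by
    intro hpN
    obtain ⟨Q₀⟩ := (inferInstance : Nonempty (Sylow p N))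
    have hQn := map_sylow_normal_of_normal N Q₀ (hsub N hNt Q₀)
    have hQle : (Q₀ : Subgroup N).map N.subtype ≤ N := by
      rintro _ ⟨z, -, rfl⟩
      exact z.2
    rcases hmin _ hQn hQle with h | h
    · apply Q₀.ne_bot_of_dvd_card hpN
      rw [eq_bot_iff]
      intro z hz
      have : (z : G) ∈ (Q₀ : Subgroup N).map N.subtype := ⟨z, hz, rfl⟩
      rw [h, Subgroup.mem_bot] at this
      exact Subgroup.mem_bot.mpr (Subtype.ext this)
    · have hNp : IsPGroup p N := h ▸ Q₀.isPGroup'.map N.subtype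
      have hsup : IsPGroup p ((P : Subgroup G) ⊔ N : Subgroup G) :=
        IsPGroup.to_sup_of_normal_right P.isPGroup' hNp
      have := P.is_maximal' hsup le_sup_left
      rw [h1] at this
      apply h4
      rw [← this]; infer_instance
  -- proper subgroups containing P normalize it
  have h5a : ∀ H : Subgroup G, H ≠ ⊤ → (P : Subgroup G) ≤ H →
      H ≤ Subgroup.normalizer ((P : Subgroup G) : Set G) := by
    intro H hH hPH
    have := hsub H hH (P.subtype hPH)
    rw [Sylow.coe_subtype] at this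
    exact (Subgroup.normal_subgroupOf_iff_le_normalizer hPH).mp this
  have h5b : ∀ H : Subgroup G, H ≠ ⊤ → ∀ y ∈ H, y ^ p = 1 →
      ∃ S : Subgroup G, y ∈ S ∧ IsPGroup p S ∧ H ≤ Subgroup.normalizer (S : Set G) := by
    intro H hH y hy hyp
    have hz : IsPGroup p (Subgroup.zpowers (⟨y, hy⟩ : H)) := by
      have hdvd : orderOf (⟨y, hy⟩ : H) ∣ p ^ 1 := by
        rw [pow_one]
        exact orderOf_dvd_of_pow_eq_one (Subtype.ext (by simpa using hyp))
      obtain ⟨l, -, hl⟩ := (Nat.dvd_prime_pow hp).mp hdvd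
      exact IsPGroup.of_card (n := l) (by rw [Nat.card_zpowers, hl])
    obtain ⟨S₀, hS₀⟩ := hz.exists_le_sylow
    haveI := hsub H hH S₀
    refine ⟨(S₀ : Subgroup H).map H.subtype, ⟨⟨y, hy⟩, hS₀ (Subgroup.mem_zpowers _), rfl⟩,
      S₀.isPGroup'.map H.subtype, le_normalizer_map_subtype H _⟩
  have h6 : ∀ C : Subgroup G, C.Normal → C ≤ (P : Subgroup G) → C = ⊥ := by
    intro C hCn hCP
    by_contra hC0
    haveI := hCn
    have := sup_normal_of_quotient_sylow_normal P C (hquo C hC0)
    rw [sup_of_le_left hCP] at this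
    exact h4 this
  obtain ⟨q, hq, hqp, hcG, hcN, hNc, hNe⟩ := min_non_closed_core P N h1 h2 hN0 hmin h4 h5a h5b h6
  exact ⟨q, hq, hqp, hcG, N, hNn, hcN,
    ⟨⟨⟨fun a b => Subtype.ext (hNc a a.2 b b.2)⟩⟩, hNe⟩, hmin⟩

end Cfsg.Agent.S3868
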