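import Cfsg.Statements.S3869
import Cfsg.Agent.Helper64.PClosed

set_option autoImplicit false
open Cfsg

namespace Cfsg.Agent.S3869

open Cfsg.Agent.Helper64

/-- Let p and q be distinct primes and G a finite non-abelian group with a normal elementary abelian q-subgroup A that is a minimal normal subgroup of G and has index p. Then A has order q^e with e the multiplicative order of q modulo p, and G is minimal non-p-closed: its Sylow p-subgroups are not normal, while in every proper subgroup and in every proper quotient of G the Sylow p-subgroups are normal. -/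
theorem result {G : Type*} [Group G] [Finite G] {p q : ℕ} [Fact p.Prime] (hq : q.Prime) (hpq : q ≠ p)
    (hna : ¬ IsMulCommutative G) (A : Subgroup G) [A.Normal] (hA : Cfsg.IsElementaryAbelian q A) (hidx : A.index = p)
    (hmin : ∀ B : Subgroup G, B.Normal → B ≤ A → B = ⊥ ∨ B = A) :
    Nat.card ↥A = q ^ orderOf (q : ZMod p) ∧ ¬ Cfsg.IsPClosed p G ∧ (∀ H : Subgroup G, H ≠ ⊤ → Cfsg.IsPClosed p ↥H) ∧
      ∀ (N : Subgroup G) [N.Normal], N ≠ ⊥ → Cfsg.IsPClosed p (G ⧸ N) := by
  classical
  have hp : p.Prime := Fact.out
  haveI hqf : Fact q.Prime := ⟨hq⟩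
  have hna' : ¬ ∀ a b : G, a * b = b * a := fun h => hna ⟨⟨h⟩⟩
  have hAc : ∀ a ∈ A, ∀ b ∈ A, a * b = b * a := by
    intro a ha b hb
    have := hA.1.is_comm.comm ⟨a, ha⟩ ⟨b, hb⟩
    exact congrArg Subtype.val this
  have hAq : ∀ a ∈ A, a ^ q = 1 := hA.2
  have hAp : IsPGroup q A := fun a => ⟨1, Subtype.ext (by simpa using hAq a a.2)⟩
  have hX : ∀ (N : Subgroup G) [N.Normal], N ⊓ A = ⊥ → N = ⊥ := fun N _ h =>
    eq_bot_of_normal_of_inf_eq_bot hp hna' A hAc hidx N h
  refine ⟨card_of_minimal_normal_index_prime hq hpq hna' A hAc hAq hidx hmin, ?_, ?_, ?_⟩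
  · -- not p-closed
    intro hcl
    have P : Sylow p G := default
    haveI := hcl P
    have hdisj : (P : Subgroup G) ⊓ A = ⊥ := by
      have := IsPGroup.disjoint_of_ne p q (Ne.symm hpq) (P : Subgroup G) A P.isPGroup' hAp
      exact disjoint_iff.mp this
    have hbot := hX (P : Subgroup G) hdisj
    have hpG : p ∣ Nat.card G := hidx ▸ A.index_dvd_card
    exact P.ne_bot_of_dvd_card hpG hbot
  · -- proper subgroups
    intro H hH P
    by_cases hHA : H ≤ A
    · have hHq : IsPGroup q H := by
        intro h
        exact ⟨1, Subtype.ext (by simpa using hAq h (hHA h.2))⟩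
      exact sylow_normal_of_isPGroup_ne hpq hHq P
    · obtain ⟨x, hxH, hxA⟩ := SetLike.not_le_iff_exists.mp hHA
      have hgen : H ⊔ A = ⊤ :=
        eq_top_of_index_prime hp A hidx le_sup_right (Subgroup.mem_sup_left hxH) hxA
      have hnorm : (H ⊓ A).Normal := by
        rw [← Subgroup.normalizer_eq_top_iff, eq_top_iff, ← hgen, sup_le_iff]
        constructor
        · intro h hh
          rw [Subgroup.mem_normalizer_iff]
          intro g
          constructor
          · intro hg
            exact Subgroup.mem_inf.mpr ⟨H.mul_mem (H.mul_mem hh (Subgroup.mem_inf.mp hg).1) (H.inv_mem hh),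
              ‹A.Normal›.conj_mem g (Subgroup.mem_inf.mp hg).2 h⟩
          · intro hg
            have e : g = h⁻¹ * (h * g * h⁻¹) * h⁻¹⁻¹ := by group
            rw [e]
            exact Subgroup.mem_inf.mpr ⟨H.mul_mem (H.mul_mem (H.inv_mem hh) (Subgroup.mem_inf.mp hg).1)
              (H.inv_mem (H.inv_mem hh)), ‹A.Normal›.conj_mem _ (Subgroup.mem_inf.mp hg).2 h⁻¹⟩
        · intro a ha
          rw [Subgroup.mem_normalizer_iff]
          intro g
          constructor
          · intro hg
            rw [hAc a ha g (Subgroup.mem_inf.mp hg).2, mul_inv_cancel_right]; exact hg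
          · intro hg
            have hgA : g ∈ A := by
              have := A.mul_mem (A.mul_mem (A.inv_mem ha) (Subgroup.mem_inf.mp hg).2) ha
              simpa [mul_assoc] using this
            rw [hAc a ha g hgA, mul_inv_cancel_right] at hg; exact hg
      rcases hmin (H ⊓ A) hnorm inf_le_right with h | h
      · -- H ⊓ A = ⊥, so the order of H divides p
        have h1 : A.relIndex H ∣ p := hidx ▸ Subgroup.relIndex_dvd_index_of_normal A H
        have h2 : A.subgroupOf H = ⊥ := by
          rw [Subgroup.subgroupOf_eq_bot, disjoint_iff, inf_comm]; exact h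
        have h3 : Nat.card H = A.relIndex H := by
          rw [Subgroup.relIndex, h2, Subgroup.index_bot]
        exact sylow_normal_of_card_dvd_prime hp (h3 ▸ h1) P
      · exfalso
        apply hH
        rw [← hgen]
        exact (sup_eq_left.mpr (h ▸ inf_le_left)).symm
  · -- proper quotients
    intro N _ hN P
    have h1 : N ⊓ A ≠ ⊥ := fun h => hN (hX N h)
    have hAN : A ≤ N := by
      rcases hmin (N ⊓ A) inferInstance inf_le_right with h | h
      · exact absurd h h1
      · exact h ▸ inf_le_left
    have h2 : N.index ∣ p := hidx ▸ Subgroup.index_dvd_of_le hAN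
    have h3 : Nat.card (G ⧸ N) = N.index := rfl
    exact sylow_normal_of_card_dvd_prime hp (h3 ▸ h2) P

end Cfsg.Agent.S3869
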