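import Mathlib
import Cfsg.Statements.S3870
import Cfsg.Agent.Helper64.SylowInter

set_option autoImplicit false
open Cfsg

namespace Cfsg.Agent.S3870

open Cfsg.Agent.Helper64

/-- in a `p`-closed group, every `p`-subgroup lies in every Sylow `p`-subgroup -/
theorem le_sylow_of_isPClosed {H : Type*} [Group H] [Finite H] {p : ℕ} [Fact p.Prime]
    (hH : Cfsg.IsPClosed p H) (S : Sylow p H) {K : Subgroup H} (hK : IsPGroup p K) :
    K ≤ (S : Subgroup H) := by
  obtain ⟨S', hS'⟩ := hK.exists_le_sylow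
  obtain ⟨g, hg⟩ := MulAction.exists_smul_eq H S S'
  have hn : (S : Subgroup H).Normal := hH S
  rw [Sylow.smul_eq_of_normal] at hg
  rw [hg]
  exact hS'

/-- distinct Sylow subgroups meet trivially in a simple group whose proper subgroups are
`p`-closed -/
theorem ti {G : Type*} [Group G] [Finite G] [IsSimpleGroup G] {p : ℕ} [Fact p.Prime]
    (hsub : ∀ H : Subgroup G, H ≠ ⊤ → Cfsg.IsPClosed p ↥H) :
    ∀ P Q : Sylow p G, P ≠ Q → (P : Subgroup G) ⊓ (Q : Subgroup G) = ⊥ := by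
  intro P₀ Q₀ hPQ₀
  by_contra hne₀
  obtain ⟨P, Q, hPQ, hmax⟩ := exists_max_inter ⟨P₀, Q₀, hPQ₀⟩
  set D : Subgroup G := (P : Subgroup G) ⊓ Q with hD
  have hDbot : D ≠ ⊥ := by
    intro h
    have h1 := hmax P₀ Q₀ hPQ₀
    rw [h, Subgroup.card_bot] at h1
    have : Nat.card ((P₀ : Subgroup G) ⊓ Q₀ : Subgroup G) = 1 :=
      le_antisymm h1 Nat.card_pos
    exact hne₀ (Subgroup.card_eq_one.mp this)
  have hDtop : D ≠ ⊤ := by
    intro h
    have h1 : (P : Subgroup G) = ⊤ := top_le_iff.mp (h ▸ inf_le_left)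
    have h2 : (Q : Subgroup G) = ⊤ := top_le_iff.mp (h ▸ inf_le_right)
    exact hPQ (Sylow.ext (h1.trans h2.symm))
  have hN : Subgroup.normalizer (D : Set G) ≠ ⊤ := by
    intro h
    have hn : D.Normal := Subgroup.normalizer_eq_top_iff.mp h
    rcases hn.eq_bot_or_eq_top with h | h
    · exact hDbot h
    · exact hDtop h
  have hcl := hsub _ hN
  obtain ⟨S⟩ := (inferInstance : Nonempty (Sylow p (Subgroup.normalizer (D : Set G))))
  -- elements of P and Q normalizing D outside D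
  obtain ⟨x, hxP, hxN, hxD⟩ := exists_mem_normalizer_not_mem P (D := D) inf_le_left
    (sylow_inf_ne_left hPQ)
  obtain ⟨y, hyQ, hyN, hyD⟩ := exists_mem_normalizer_not_mem Q (D := D) inf_le_right
    (sylow_inf_ne_right hPQ)
  -- S' = image of S in G
  set S' : Subgroup G := (S : Subgroup (Subgroup.normalizer (D : Set G))).map (Subgroup.subtype _) with hS'
  have hS'p : IsPGroup p S' := S.2.map _
  have hmem : ∀ K : Subgroup G, IsPGroup p K → K ≤ Subgroup.normalizer (D : Set G) → K ≤ S' := by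
    intro K hK hKN z hz
    have h1 : IsPGroup p (K.subgroupOf (Subgroup.normalizer (D : Set G))) :=
      hK.comap_of_injective _ (Subgroup.subtype_injective _)
    have h2 := le_sylow_of_isPClosed hcl S h1
    exact ⟨⟨z, hKN hz⟩, h2 (by simpa [Subgroup.mem_subgroupOf] using hz), rfl⟩
  have hDS' : D ≤ S' := hmem D (P.2.to_le inf_le_left) Subgroup.le_normalizer
  have hxS' : x ∈ S' := by
    have hK : IsPGroup p (Subgroup.zpowers x) := P.2.to_le (by
      rw [Subgroup.zpowers_le]; exact hxP)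
    exact hmem _ hK (by rw [Subgroup.zpowers_le]; exact hxN) (Subgroup.mem_zpowers x)
  have hyS' : y ∈ S' := by
    have hK : IsPGroup p (Subgroup.zpowers y) := Q.2.to_le (by
      rw [Subgroup.zpowers_le]; exact hyQ)
    exact hmem _ hK (by rw [Subgroup.zpowers_le]; exact hyN) (Subgroup.mem_zpowers y)
  exact not_both_of_max_inter hPQ hmax hS'p hDS' hxS' hxP (fun h => hxD ⟨hxP, h⟩)
    hyS' hyQ (fun h => hyD ⟨h, hyQ⟩)

theorem result {G : Type*} [Group G] [Finite G] [IsSimpleGroup G] {p : ℕ} [Fact p.Prime]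
    (hnc : ¬ Cfsg.IsPClosed p G) (hsub : ∀ H : Subgroup G, H ≠ ⊤ → Cfsg.IsPClosed p ↥H) :
    (∀ P Q : Sylow p G, P ≠ Q → (P : Subgroup G) ⊓ (Q : Subgroup G) = ⊥) ∧
      ∀ (P : Sylow p G) (R : Subgroup G), R ≤ P → R ≠ ⊥ →
        Subgroup.normalizer (R : Set G) ≤ Subgroup.normalizer ((P : Subgroup G) : Set G) := by
  have hti := ti hsub
  refine ⟨hti, ?_⟩
  intro P R hRP hR g hg
  apply (Sylow.smul_eq_iff_mem_normalizer (P := P)).mp
  by_contra hne
  have h1 := hti (g • P) P hne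
  apply hR
  rw [eq_bot_iff, ← h1]
  intro z hz
  have hz1 : z ∈ ((g • P : Sylow p G) : Subgroup G) := by
    rw [sylow_smul_coe, mem_map_conj]
    apply hRP
    rw [Subgroup.mem_normalizer_iff] at hg
    rw [hg]
    have e : g * (g⁻¹ * z * g) * g⁻¹ = z := by group
    rw [e]; exact hz
  exact ⟨hz1, hRP hz⟩

end Cfsg.Agent.S3870
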