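import Cfsg.Statements.S3873
import Cfsg.Agent.Helper64.MinNonClosed

set_option autoImplicit false
open Cfsg

namespace Cfsg.Agent.S3873

open Cfsg.Agent.Helper64

theorem isPGroup_zpowers_of_pow_eq_one {G : Type*} [Group G] {p : ℕ} [Fact p.Prime] {g : G}
    (hg : g ^ p = 1) : IsPGroup p (Subgroup.zpowers g) := by
  have hp : p.Prime := Fact.out
  have hdvd : orderOf g ∣ p ^ 1 := by
    rw [pow_one]
    exact orderOf_dvd_of_pow_eq_one hg
  obtain ⟨l, -, hl⟩ := (Nat.dvd_prime_pow hp).mp hdvd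
  exact IsPGroup.of_card (n := l) (by rw [Nat.card_zpowers, hl])

/-- Say that a finite group is p-exponent closed when its elements of order dividing p form a subgroup. Let G be a finite group that is not p-exponent closed, but all of whose proper subgroups and proper quotients are, and suppose G is neither simple nor a p-group. Then there is a prime q ≠ p such that G has order p · q^e, where e is the multiplicative order of q modulo p, and G has a normal elementary abelian subgroup of order q^e that is a minimal normal subgroup of G. -/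
theorem result {G : Type*} [Group G] [Finite G] {p : ℕ} [Fact p.Prime]
    (hnc : ¬ (∃ H : Subgroup G, (H : Set G) = {g : G | g ^ p = 1})) (hsub : ∀ K : Subgroup G, K ≠ ⊤ → (∃ H : Subgroup ↥K, (H : Set ↥K) = {g : ↥K | g ^ p = 1}))
    (hquo : ∀ (N : Subgroup G) [N.Normal], N ≠ ⊥ → (∃ H : Subgroup (G ⧸ N), (H : Set (G ⧸ N)) = {g : (G ⧸ N) | g ^ p = 1}))
    (hns : ¬ IsSimpleGroup G) (hnp : ¬ IsPGroup p G) :
    ∃ q : ℕ, q.Prime ∧ q ≠ p ∧ Nat.card G = p * q ^ orderOf (q : ZMod p) ∧
      ∃ A : Subgroup G, A.Normal ∧ Nat.card ↥A = q ^ orderOf (q : ZMod p) ∧ Cfsg.IsElementaryAbelian q A ∧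
        ∀ B : Subgroup G, B.Normal → B ≤ A → B = ⊥ ∨ B = A := by
  classical
  have hp : p.Prime := Fact.out
  -- two elements of order dividing p whose product is not
  have hxy : ∃ x y : G, x ^ p = 1 ∧ y ^ p = 1 ∧ (x * y) ^ p ≠ 1 := by
    by_contra hcon
    push Not at hcon
    apply hnc
    exact ⟨{ carrier := {g | g ^ p = 1}
             mul_mem' := fun {a b} ha hb => hcon a b ha hb
             one_mem' := one_pow p
             inv_mem' := fun {a} ha => by
               have ha' : a ^ p = 1 := ha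
               show a⁻¹ ^ p = 1
               rw [inv_pow, ha', inv_one] }, rfl⟩
  obtain ⟨x, y, hx, hy, hxy⟩ := hxy
  -- they generate G
  have hgen : Subgroup.closure ({x, y} : Set G) = ⊤ := by
    by_contra hcon
    obtain ⟨H, hH⟩ := hsub _ hcon
    have hxK : x ∈ Subgroup.closure ({x, y} : Set G) := Subgroup.subset_closure (by simp)
    have hyK : y ∈ Subgroup.closure ({x, y} : Set G) := Subgroup.subset_closure (by simp)
    have hxH : (⟨x, hxK⟩ : Subgroup.closure ({x, y} : Set G)) ∈ H := by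
      rw [← SetLike.mem_coe, hH]; exact Subtype.ext (by simpa using hx)
    have hyH : (⟨y, hyK⟩ : Subgroup.closure ({x, y} : Set G)) ∈ H := by
      rw [← SetLike.mem_coe, hH]; exact Subtype.ext (by simpa using hy)
    have := H.mul_mem hxH hyH
    rw [← SetLike.mem_coe, hH] at this
    have h' : ((⟨x, hxK⟩ : Subgroup.closure ({x, y} : Set G)) * ⟨y, hyK⟩) ^ p = 1 := this
    exact hxy (by simpa using congrArg Subtype.val h')
  -- proper quotients have exponent p
  have hE : ∀ (N : Subgroup G) [N.Normal], N ≠ ⊥ → ∀ g : G, g ^ p ∈ N := by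
    intro N _ hN g
    obtain ⟨H, hH⟩ := hquo N hN
    have hmemH : ∀ z : G, z ^ p = 1 → z ∈ H.comap (QuotientGroup.mk' N) := by
      intro z hz
      rw [Subgroup.mem_comap, ← SetLike.mem_coe, hH]
      show (QuotientGroup.mk' N z) ^ p = 1
      rw [← map_pow, hz, map_one]
    have hle : Subgroup.closure ({x, y} : Set G) ≤ H.comap (QuotientGroup.mk' N) := by
      rw [Subgroup.closure_le]
      intro z hz
      rcases hz with rfl | rfl
      · exact hmemH _ hx
      · exact hmemH _ hy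
    rw [hgen] at hle
    have hg : QuotientGroup.mk' N g ∈ H := hle (Subgroup.mem_top g)
    rw [← SetLike.mem_coe, hH] at hg
    have hg' : (QuotientGroup.mk' N g) ^ p = 1 := hg
    rw [← map_pow] at hg'
    exact (QuotientGroup.eq_one_iff _).mp hg'
  -- G is nontrivial
  haveI hnt : Nontrivial G := by
    by_contra hcon
    rw [not_nontrivial_iff_subsingleton] at hcon
    exact hnp (fun g => ⟨0, Subsingleton.elim _ _⟩)
  obtain ⟨N₀, hN₀n, hN₀0, hN₀t⟩ := exists_normal_ne_bot_ne_top hns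
  obtain ⟨N, hNn, hN0, hNN₀, hmin⟩ := exists_minimal_normal_le N₀ hN₀n hN₀0
  haveI := hNn
  have hNt : N ≠ ⊤ := fun h => hN₀t (top_le_iff.mp (h ▸ hNN₀))
  obtain ⟨P⟩ := (inferInstance : Nonempty (Sylow p G))
  -- the elements of order dividing p of a proper subgroup
  have hΩ : ∀ H : Subgroup G, H ≠ ⊤ → ∃ S : Subgroup G, (∀ g, g ∈ S ↔ g ∈ H ∧ g ^ p = 1) ∧
      H ≤ Subgroup.normalizer (S : Set G) := by
    intro H hH
    obtain ⟨Ω, hΩ⟩ := hsub H hH
    have hΩmem : ∀ z : H, z ∈ Ω ↔ z ^ p = 1 := by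
      intro z
      have : z ∈ (Ω : Set H) ↔ z ∈ {g : H | g ^ p = 1} := by rw [hΩ]
      exact this
    have hmem : ∀ g, g ∈ Ω.map H.subtype ↔ g ∈ H ∧ g ^ p = 1 := by
      intro g
      constructor
      · rintro ⟨z, hz, rfl⟩
        have hz' : z ^ p = 1 := (hΩmem z).mp hz
        refine ⟨z.2, ?_⟩
        have := congrArg Subtype.val hz'
        simpa using this
      · rintro ⟨hgH, hgp⟩
        refine ⟨⟨g, hgH⟩, ?_, rfl⟩
        exact (hΩmem _).mpr (Subtype.ext (by simpa using hgp))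
    refine ⟨Ω.map H.subtype, hmem, ?_⟩
    intro h hh
    rw [Subgroup.mem_normalizer_iff]
    intro g
    rw [hmem, hmem]
    constructor
    · rintro ⟨hgH, hgp⟩
      exact ⟨H.mul_mem (H.mul_mem hh hgH) (H.inv_mem hh), by rw [conj_pow, hgp]; simp⟩
    · rintro ⟨hgH, hgp⟩
      refine ⟨?_, ?_⟩
      · have := H.mul_mem (H.mul_mem (H.inv_mem hh) hgH) hh
        simpa [mul_assoc] using this
      · rw [conj_pow] at hgp
        have : g ^ p = h⁻¹ * (h * g ^ p * h⁻¹) * h := by group
        rw [this, hgp]; simp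
  have hΩp : ∀ (H S : Subgroup G), (∀ g, g ∈ S ↔ g ∈ H ∧ g ^ p = 1) → IsPGroup p S := by
    intro H S hS s
    refine ⟨1, Subtype.ext ?_⟩
    simpa using ((hS s).mp s.2).2
  -- p does not divide the order of N
  have h2 : ¬ p ∣ Nat.card N := by
    intro hpN
    obtain ⟨S, hS, hSn⟩ := hΩ N hNt
    have hSN : S.Normal := by
      refine ⟨fun b hb g => ?_⟩
      rw [hS] at hb ⊢
      exact ⟨hNn.conj_mem b hb.1 g, by rw [conj_pow, hb.2]; simp⟩
    have hSle : S ≤ N := fun g hg => ((hS g).mp hg).1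
    rcases hmin S hSN hSle with h | h
    · obtain ⟨z, hz⟩ := exists_prime_orderOf_dvd_card' p hpN
      have hzS : (z : G) ∈ S := by
        rw [hS]
        refine ⟨z.2, ?_⟩
        have := pow_orderOf_eq_one z
        rw [hz] at this
        exact_mod_cast congrArg Subtype.val this
      rw [h, Subgroup.mem_bot] at hzS
      have hz1 : z = 1 := Subtype.ext hzS
      rw [hz1, orderOf_one] at hz
      exact hp.one_lt.ne hz
    · apply hnp
      intro g
      refine ⟨2, ?_⟩
      have hgN : g ^ p ∈ S := by rw [h]; exact hE N hN0 g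
      have := ((hS _).mp hgN).2
      rw [pow_two, pow_mul]; exact this
  -- N has p-power index
  have hNidx : ∃ k, N.index = p ^ k := by
    have hQ : IsPGroup p (G ⧸ N) := by
      intro g
      obtain ⟨g, rfl⟩ := QuotientGroup.mk_surjective g
      refine ⟨1, ?_⟩
      rw [pow_one, ← QuotientGroup.mk_pow]
      exact (QuotientGroup.eq_one_iff _).mpr (hE N hN0 g)
    obtain ⟨k, hk⟩ := hQ.exists_card_eq
    exact ⟨k, hk⟩
  have h1 : (P : Subgroup G) ⊔ N = ⊤ := by
    obtain ⟨k, hk⟩ := hNidx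
    have hd1 : ((P : Subgroup G) ⊔ N).index ∣ p ^ k :=
      hk ▸ Subgroup.index_dvd_of_le le_sup_right
    have hd2 : ((P : Subgroup G) ⊔ N).index ∣ (P : Subgroup G).index :=
      Subgroup.index_dvd_of_le le_sup_left
    obtain ⟨j, -, hj⟩ := (Nat.dvd_prime_pow hp).mp hd1
    have hj0 : j = 0 := by
      by_contra hj0
      apply P.not_dvd_index
      exact (dvd_pow_self p hj0).trans (hj ▸ hd2)
    rw [hj0, pow_zero] at hj
    exact Subgroup.index_eq_one.mp hj
  have hPN : (P : Subgroup G) ⊓ N = ⊥ := inf_eq_bot_of_isPGroup_of_not_dvd P.isPGroup' h2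
  have hPe : ∀ g ∈ (P : Subgroup G), g ^ p = 1 := by
    intro g hg
    have : g ^ p ∈ (P : Subgroup G) ⊓ N :=
      Subgroup.mem_inf.mpr ⟨(P : Subgroup G).pow_mem hg p, hE N hN0 g⟩
    rwa [hPN, Subgroup.mem_bot] at this
  -- P is not normal
  have h4 : ¬ (P : Subgroup G).Normal := by
    intro hPn
    apply hnc
    refine ⟨P, ?_⟩
    ext g
    constructor
    · intro hg; exact hPe g hg
    · intro hg
      have hg' : g ^ p = 1 := hg
      obtain ⟨P', hP'⟩ := (isPGroup_zpowers_of_pow_eq_one hg').exists_le_sylow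
      obtain ⟨k, hk⟩ := MulAction.exists_smul_eq G P P'
      haveI := hPn
      rw [Sylow.smul_eq_of_normal] at hk
      rw [SetLike.mem_coe, hk]
      exact hP' (Subgroup.mem_zpowers g)
  have h5a : ∀ H : Subgroup G, H ≠ ⊤ → (P : Subgroup G) ≤ H →
      H ≤ Subgroup.normalizer ((P : Subgroup G) : Set G) := by
    intro H hH hPH
    obtain ⟨S, hS, hSn⟩ := hΩ H hH
    have hPS : (P : Subgroup G) ≤ S := fun g hg => (hS g).mpr ⟨hPH hg, hPe g hg⟩
    have := P.is_maximal' (hΩp H S hS) hPS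
    rwa [this] at hSn
  have h5b : ∀ H : Subgroup G, H ≠ ⊤ → ∀ y ∈ H, y ^ p = 1 →
      ∃ S : Subgroup G, y ∈ S ∧ IsPGroup p S ∧ H ≤ Subgroup.normalizer (S : Set G) := by
    intro H hH y hy hyp
    obtain ⟨S, hS, hSn⟩ := hΩ H hH
    exact ⟨S, (hS y).mpr ⟨hy, hyp⟩, hΩp H S hS, hSn⟩
  have h6 : ∀ C : Subgroup G, C.Normal → C ≤ (P : Subgroup G) → C = ⊥ := by
    intro C hCn hCP
    by_contra hC0
    haveI := hCn
    apply hnp
    intro g
    refine ⟨2, ?_⟩
    have := hPe _ (hCP (hE C hC0 g))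
    rw [pow_two, pow_mul]; exact this
  obtain ⟨q, hq, hqp, hcG, hcN, hNc, hNe⟩ := min_non_closed_core P N h1 h2 hN0 hmin h4 h5a h5b h6
  exact ⟨q, hq, hqp, hcG, N, hNn, hcN,
    ⟨⟨⟨fun a b => Subtype.ext (hNc a a.2 b b.2)⟩⟩, hNe⟩, hmin⟩

end Cfsg.Agent.S3873
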