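import Cfsg.Statements.S3889

set_option autoImplicit false
open Cfsg

namespace Cfsg.Agent.S3889

/-- A finite abelian group that is the union of a family of proper subgroups any two of which intersect trivially is elementary abelian: its exponent is a prime. -/
theorem result {G : Type*} [CommGroup G] [Finite G] (𝓑 : Set (Subgroup G)) (hprop : ∀ B ∈ 𝓑, B ≠ ⊤)
    (hcov : ∀ g : G, ∃ B ∈ 𝓑, g ∈ B) (hdisj : ∀ B ∈ 𝓑, ∀ C ∈ 𝓑, B ≠ C → B ⊓ C = ⊥) :
    (Monoid.exponent G).Prime := by
  classical
  -- key: if x ∈ B, x ≠ 1, y ∉ B then orderOf x ∣ orderOf y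
  have key : ∀ B ∈ 𝓑, ∀ x ∈ B, ∀ y : G, y ∉ B → orderOf x ∣ orderOf y := by
    intro B hB x hx y hy
    obtain ⟨C, hC, hxyC⟩ := hcov (x * y)
    have hne : B ≠ C := by
      rintro rfl
      exact hy (by simpa using B.mul_mem (B.inv_mem hx) hxyC)
    have h1 : x ^ orderOf y ∈ B ⊓ C := by
      refine ⟨B.pow_mem hx _, ?_⟩
      have : (x * y) ^ orderOf y = x ^ orderOf y := by
        rw [mul_pow, pow_orderOf_eq_one, mul_one]
      rw [← this]
      exact C.pow_mem hxyC _
    rw [hdisj B hB C hC hne, Subgroup.mem_bot] at h1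
    exact orderOf_dvd_of_pow_eq_one h1
  -- symmetric version
  have key2 : ∀ B ∈ 𝓑, ∀ x ∈ B, x ≠ 1 → ∀ y : G, y ∉ B → orderOf x = orderOf y := by
    intro B hB x hx hx1 y hy
    refine Nat.dvd_antisymm (key B hB x hx y hy) ?_
    obtain ⟨C, hC, hyC⟩ := hcov y
    have hne : B ≠ C := by
      rintro rfl
      exact hy hyC
    have hxC : x ∉ C := by
      intro hxC
      have : x ∈ B ⊓ C := ⟨hx, hxC⟩
      rw [hdisj B hB C hC hne, Subgroup.mem_bot] at this
      exact hx1 this
    exact key C hC y hyC x hxC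
  -- get a component and an element outside
  obtain ⟨B, hB, -⟩ := hcov 1
  have hBtop := hprop B hB
  obtain ⟨y, hy⟩ : ∃ y : G, y ∉ B := by
    by_contra hcon
    push Not at hcon
    exact hBtop (by rw [eq_top_iff]; intro g _; exact hcon g)
  have hy1 : y ≠ 1 := by
    rintro rfl
    exact hy B.one_mem
  obtain ⟨C, hC, hyC⟩ := hcov y
  have hne : B ≠ C := by
    rintro rfl
    exact hy hyC
  -- order of y is prime
  have hyord : (orderOf y).Prime := by
    have hn1 : orderOf y ≠ 1 := by
      rw [Ne, orderOf_eq_one_iff]; exact hy1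
    obtain ⟨p, hp, hpdvd⟩ := Nat.exists_prime_and_dvd hn1
    by_contra hnp
    -- y ^ p ≠ 1 and lies in C; pick z ∉ C
    have hCtop := hprop C hC
    obtain ⟨z, hz⟩ : ∃ z : G, z ∉ C := by
      by_contra hcon
      push Not at hcon
      exact hCtop (by rw [eq_top_iff]; intro g _; exact hcon g)
    have hyp1 : y ^ p ≠ 1 := by
      intro h
      have := orderOf_dvd_of_pow_eq_one h
      have : orderOf y = p := Nat.dvd_antisymm this hpdvd
      exact hnp (this ▸ hp)
    have e1 := key2 C hC y hyC hy1 z hz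
    have e2 := key2 C hC (y ^ p) (C.pow_mem hyC p) hyp1 z hz
    have e3 : orderOf (y ^ p) = orderOf y := by rw [e1, e2]
    have hpos : 0 < orderOf y := orderOf_pos y
    rw [orderOf_pow' y hp.ne_zero, Nat.gcd_eq_right hpdvd] at e3
    have : orderOf y / p < orderOf y := Nat.div_lt_self hpos hp.one_lt
    omega
  -- every non-identity element has order = orderOf y
  have hall : ∀ g : G, g ≠ 1 → orderOf g = orderOf y := by
    intro g hg
    by_cases hgC : g ∈ C
    · -- g ∈ C, g ≠ 1; pick z ∉ C; orderOf g = orderOf z = orderOf y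
      have hCtop := hprop C hC
      obtain ⟨z, hz⟩ : ∃ z : G, z ∉ C := by
        by_contra hcon
        push Not at hcon
        exact hCtop (by rw [eq_top_iff]; intro g _; exact hcon g)
      rw [key2 C hC g hgC hg z hz, key2 C hC y hyC hy1 z hz]
    · exact (key2 C hC y hyC hy1 g hgC).symm
  have : Nontrivial G := ⟨⟨y, 1, hy1⟩⟩
  rw [(Monoid.exponent_eq_prime_iff hyord).mpr hall]
  exact hyord

end Cfsg.Agent.S3889
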