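import Cfsg.Statements.S3890
import Cfsg.Agent.Helper20.NilCover

set_option autoImplicit false
open Cfsg

namespace Cfsg.Agent.S3890

open Cfsg.Agent.Helper20

/-- A cover of a group is a finite set of proper subgroups whose union is the whole group; it is minimal when no cover has fewer members, and nilpotent when all its members are nilpotent. Let G be a finite group with trivial center admitting a nilpotent minimal cover 𝓐, and let P be an abelian Sylow p-subgroup of G that is not normal. Then either P is elementary abelian of order greater than p, or P is a Sylow p-subgroup of some member A of 𝓐, the normalizer N of P is a maximal subgroup of G, N meets each of its conjugates by elements outside N in a subgroup of order prime to p, and the centralizer of P equals A. -/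
theorem result {G : Type*} [Group G] [Finite G] (hZ : Subgroup.center G = ⊥) (𝓐 : Finset (Subgroup G))
    (h𝓐 : ((∀ A ∈ 𝓐, A ≠ ⊤) ∧ (∀ g : G, ∃ A ∈ 𝓐, g ∈ A)) ∧ (∀ 𝓑 : Finset (Subgroup G), (∀ A ∈ 𝓑, A ≠ ⊤) ∧ (∀ g : G, ∃ A ∈ 𝓑, g ∈ A) → 𝓐.card ≤ 𝓑.card) ∧ (∀ A ∈ 𝓐, Group.IsNilpotent ↥A)) {p : ℕ} [Fact p.Prime] (P : Sylow p G) (hab : IsMulCommutative ↥(P : Subgroup G))
    (hnn : ¬ (P : Subgroup G).Normal) :
    (Cfsg.IsElementaryAbelian p (P : Subgroup G) ∧ p < Nat.card ↥(P : Subgroup G)) ∨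
    (∃ A ∈ 𝓐, (P : Subgroup G) ≤ A ∧ ¬ p ∣ ((P : Subgroup G).subgroupOf A).index ∧
      IsCoatom (Subgroup.normalizer ((P : Subgroup G) : Set G)) ∧
      (∀ g : G, g ∉ Subgroup.normalizer ((P : Subgroup G) : Set G) →
        ¬ p ∣ Nat.card ↥(Subgroup.normalizer ((P : Subgroup G) : Set G) ⊓
          (Subgroup.normalizer ((P : Subgroup G) : Set G)).map (MulAut.conj g).toMonoidHom)) ∧
      Subgroup.centralizer ((P : Subgroup G) : Set G) = A) := by
  classical
  have h𝓐' : NilCoverHyp 𝓐 := h𝓐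
  have hab' : ∀ a ∈ (P : Subgroup G), ∀ b ∈ (P : Subgroup G), a * b = b * a :=
    fun a ha b hb => congrArg Subtype.val (mul_comm' (⟨a, ha⟩ : (P : Subgroup G)) ⟨b, hb⟩)
  have hpab := nilCover_pAb_of_sylow P hab'
  by_cases hE : Cfsg.IsElementaryAbelian p (P : Subgroup G) ∧ p < Nat.card ↥(P : Subgroup G)
  · exact Or.inl hE
  right
  obtain ⟨x, hxP, hspec⟩ : ∃ x ∈ (P : Subgroup G),
      ((P : Subgroup G) ≤ Subgroup.zpowers x ∨ x ^ p ≠ 1) := by
    by_cases hel : ∀ a ∈ (P : Subgroup G), a ^ p = 1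
    · have hcard : Nat.card ↥(P : Subgroup G) ≤ p := by
        by_contra hlt
        exact hE ⟨And.intro hab hel, not_le.mp hlt⟩
      have hPne : (P : Subgroup G) ≠ ⊥ := by
        intro h; apply hnn; rw [h]; infer_instance
      obtain ⟨x, hxP, hx1⟩ : ∃ x ∈ (P : Subgroup G), x ≠ 1 := by
        by_contra hcon
        push Not at hcon
        exact hPne ((Subgroup.eq_bot_iff_forall _).mpr hcon)
      refine ⟨x, hxP, Or.inl ?_⟩
      have hord : orderOf x = p := orderOf_eq_prime (hel x hxP) hx1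
      have hle : Subgroup.zpowers x ≤ (P : Subgroup G) := by
        rw [Subgroup.zpowers_le]; exact hxP
      have hge : Nat.card ↥(P : Subgroup G) ≤ Nat.card ↥(Subgroup.zpowers x) := by
        rw [Nat.card_zpowers, hord]; exact hcard
      exact (Subgroup.eq_of_le_of_card_ge hle hge).ge
    · push Not at hel
      obtain ⟨x, hxP, hx⟩ := hel
      exact ⟨x, hxP, Or.inr hx⟩
  obtain ⟨A, hA, hPA, hCA, hco, hM, hint⟩ := nilCover_main hZ h𝓐' hpab P hnn hxP hspec
  refine ⟨A, hA, hPA, ?_, hco, hint, hCA⟩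
  intro hdvd
  exact P.not_dvd_index (dvd_trans hdvd (Subgroup.relIndex_dvd_index_of_le hPA))

end Cfsg.Agent.S3890
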