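import Cfsg.Statements.S3891
import Cfsg.Agent.Helper20.NilCover

set_option autoImplicit false
open Cfsg

namespace Cfsg.Agent.S3891

open Cfsg.Agent.Helper20

/-- A cover of a group is a finite set of proper subgroups whose union is the whole group; it is minimal when no cover has fewer members, and nilpotent when all its members are nilpotent. Let G be a finite group with trivial center admitting a nilpotent minimal cover, and let P be a non-normal Sylow p-subgroup of G that is cyclic, or abelian but not elementary abelian. Then the centralizer of P is nilpotent and the normalizer of P is the unique maximal subgroup of G containing the centralizer of P. -/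
theorem result {G : Type*} [Group G] [Finite G] (hZ : Subgroup.center G = ⊥) (𝓐 : Finset (Subgroup G))
    (h𝓐 : ((∀ A ∈ 𝓐, A ≠ ⊤) ∧ (∀ g : G, ∃ A ∈ 𝓐, g ∈ A)) ∧ (∀ 𝓑 : Finset (Subgroup G), (∀ A ∈ 𝓑, A ≠ ⊤) ∧ (∀ g : G, ∃ A ∈ 𝓑, g ∈ A) → 𝓐.card ≤ 𝓑.card) ∧ (∀ A ∈ 𝓐, Group.IsNilpotent ↥A)) {p : ℕ} [Fact p.Prime] (P : Sylow p G)
    (hP : IsCyclic ↥(P : Subgroup G) ∨ (IsMulCommutative ↥(P : Subgroup G) ∧ ¬ Cfsg.IsElementaryAbelian p (P : Subgroup G)))
    (hnn : ¬ (P : Subgroup G).Normal) :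
    Group.IsNilpotent ↥(Subgroup.centralizer ((P : Subgroup G) : Set G)) ∧
      IsCoatom (Subgroup.normalizer ((P : Subgroup G) : Set G)) ∧
      ∀ M : Subgroup G, IsCoatom M → Subgroup.centralizer ((P : Subgroup G) : Set G) ≤ M →
        M = Subgroup.normalizer ((P : Subgroup G) : Set G) := by
  classical
  have h𝓐' : NilCoverHyp 𝓐 := h𝓐
  have hab : ∀ a ∈ (P : Subgroup G), ∀ b ∈ (P : Subgroup G), a * b = b * a := by
    rcases hP with hc | ⟨hc, -⟩
    · intro a ha b hb
      obtain ⟨⟨x, hx⟩, hgen⟩ := hc.exists_generator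
      obtain ⟨i, hi⟩ := Subgroup.mem_zpowers_iff.mp (hgen ⟨a, ha⟩)
      obtain ⟨j, hj⟩ := Subgroup.mem_zpowers_iff.mp (hgen ⟨b, hb⟩)
      have hi' : x ^ i = a := by simpa using congrArg Subtype.val hi
      have hj' : x ^ j = b := by simpa using congrArg Subtype.val hj
      rw [← hi', ← hj', ← zpow_add, ← zpow_add, add_comm]
    · intro a ha b hb
      exact congrArg Subtype.val (mul_comm' (⟨a, ha⟩ : (P : Subgroup G)) ⟨b, hb⟩)
  have hpab := nilCover_pAb_of_sylow P hab
  obtain ⟨x, hxP, hspec⟩ : ∃ x ∈ (P : Subgroup G),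
      ((P : Subgroup G) ≤ Subgroup.zpowers x ∨ x ^ p ≠ 1) := by
    rcases hP with hc | ⟨hc, hne⟩
    · obtain ⟨⟨x, hx⟩, hgen⟩ := hc.exists_generator
      refine ⟨x, hx, Or.inl ?_⟩
      intro y hy
      obtain ⟨i, hi⟩ := Subgroup.mem_zpowers_iff.mp (hgen ⟨y, hy⟩)
      exact Subgroup.mem_zpowers_iff.mpr ⟨i, by simpa using congrArg Subtype.val hi⟩
    · by_contra hcon
      push Not at hcon
      exact hne (And.intro hc (fun a ha => (hcon a ha).2))
  obtain ⟨A, hA, hPA, hCA, hco, hM, -⟩ := nilCover_main hZ h𝓐' hpab P hnn hxP hspec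
  refine ⟨?_, hco, ?_⟩
  · rw [hCA]; exact h𝓐.2.2 A hA
  · intro M hMco hCM
    have hle := hM M hMco.1 hCM
    by_contra hne
    exact hco.1 (hMco.2 _ (lt_of_le_of_ne hle hne))

end Cfsg.Agent.S3891
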