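import Cfsg.Statements.S3893
import Cfsg.Agent.Helper60.SzBridge
import Cfsg.Agent.Helper60.NilCover
import Cfsg.Agent.Helper6.Suzuki9

set_option autoImplicit false
open Cfsg

namespace Cfsg.Agent.S3893

open Matrix Cfsg.Agent.Helper6 Cfsg.Agent.Helper60

section Ovoid
variable {F : Type*} [Field F] [Fintype F] {m : ℕ} [CharP F 2]

/-- elements commuting with a nontrivial translation are translations -/
theorem comm_T (hm : 1 ≤ m) (hF : Fintype.card F = 2 ^ (2 * m + 1)) {a b : F}
    (hab : ¬ (a = 0 ∧ b = 0)) {c : SpecialLinearGroup (Fin 4) F} (hc : c ∈ Cfsg.Sz F m)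
    (e : c * szT m a b = szT m a b * c) : ∃ x y : F, c = szT m x y := by
  have h2 : (2 : F) = 0 := sz_two
  have hc1 : szT m a b • (c • Cfsg.suzukiPointInfinity F) = c • Cfsg.suzukiPointInfinity F := by
    rw [← mul_smul, ← e, mul_smul, szT_smul_inf]
  have hinf : c • Cfsg.suzukiPointInfinity F = Cfsg.suzukiPointInfinity F := by
    rcases (mem_ovoid_iff _).1 (sz_mem_smul_mem hc inf_mem_ovoid) with h | ⟨x, y, h⟩
    · exact h
    · exfalso
      rw [h, szT_smul_szP hF] at hc1
      obtain ⟨h1, h2'⟩ := szP_inj hc1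
      apply hab
      have ha : a = 0 := by linear_combination h1
      subst ha
      refine ⟨rfl, ?_⟩
      simp at h2'
      exact h2'
  obtain ⟨x, y, s, rfl⟩ := sz_fix_inf hm hF hc hinf
  rw [mul_assoc, szD_mul_szT hF, ← mul_assoc, ← mul_assoc, szT_mul hF, szT_mul hF] at e
  obtain ⟨e1, e2, -⟩ := szTD_injective hF e
  have hs : s = 1 := by
    apply Units.ext
    by_cases ha : a = 0
    · subst ha
      have hb : b ≠ 0 := fun hb => hab ⟨rfl, hb⟩
      simp at e2
      have h3 : (szS F m s ^ 2 * (s : F) ^ 2 - 1) * b = 0 := by linear_combination e2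
      rcases mul_eq_zero.1 h3 with h | h
      · have h4 : (szS F m s * s - 1) ^ 2 = 0 := by
          linear_combination h + (1 - szS F m s * s) * h2
        exact sz_sigma_mul_self hF (sub_eq_zero.1 ((pow_eq_zero_iff two_ne_zero).1 h4))
      · exact absurd h hb
    · have h3 : ((s : F) ^ 2 - 1) * a = 0 := by linear_combination e1
      rcases mul_eq_zero.1 h3 with h | h
      · have h4 : ((s : F) - 1) ^ 2 = 0 := by linear_combination h + (1 - (s : F)) * h2
        exact sub_eq_zero.1 ((pow_eq_zero_iff two_ne_zero).1 h4)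
      · exact absurd h ha
  subst hs
  exact ⟨x, y, by rw [szD_one, mul_one]⟩

/-- elements commuting with a nontrivial diagonal element are diagonal -/
theorem comm_D (hm : 1 ≤ m) (hF : Fintype.card F = 2 ^ (2 * m + 1)) {t : Fˣ} (ht : t ≠ 1)
    {c : SpecialLinearGroup (Fin 4) F} (hc : c ∈ Cfsg.Sz F m)
    (e : c * szD m t = szD m t * c) : ∃ s : Fˣ, c = szD m s := by
  have h2 : (2 : F) = 0 := sz_two
  have fixset : ∀ p ∈ Cfsg.suzukiOvoid F m, szD m t • p = p →
      p = Cfsg.suzukiPointInfinity F ∨ p = szP m 0 0 := by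
    intro p hp hfix
    rcases (mem_ovoid_iff p).1 hp with h | ⟨x, y, h⟩
    · left; exact h
    · right
      subst h
      by_contra hne
      apply ht
      refine szD_fix_imp hF (x := x) (y := y) ?_ hfix
      rintro ⟨rfl, rfl⟩
      exact hne rfl
  have hc1 : szD m t • (c • Cfsg.suzukiPointInfinity F) = c • Cfsg.suzukiPointInfinity F := by
    rw [← mul_smul, ← e, mul_smul, szD_smul_inf]
  have hc2 : szD m t • (c • szP m (0 : F) 0) = c • szP m (0 : F) 0 := by
    rw [← mul_smul, ← e, mul_smul, szD_smul_zero hF]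
  rcases fixset _ (sz_mem_smul_mem hc inf_mem_ovoid) hc1 with h1 | h1
  · rcases fixset _ (sz_mem_smul_mem hc (szP_mem_ovoid 0 0)) hc2 with h2' | h2'
    · exfalso
      exact szP_ne_inf _ _ (smul_left_cancel c (h2'.trans h1.symm))
    · exact sz_fix_two hm hF hc h1 h2'
  · rcases fixset _ (sz_mem_smul_mem hc (szP_mem_ovoid 0 0)) hc2 with h2' | h2'
    · exfalso
      obtain ⟨s, hs⟩ := sz_fix_two hm hF (mul_mem (szW_mem hF) hc)
        (by rw [mul_smul, h1, szW_smul_szP_zero])
        (by rw [mul_smul, h2', szW_smul_inf])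
      have hc' : c = szW F * szD m s := by rw [← hs, ← mul_assoc, szW_mul_self, one_mul]
      rw [hc'] at e
      have e2 : szD m s * szD m t = szD m t⁻¹ * szD m s := by
        rw [← szW_mul_szD_mul_szW]
        have := congrArg (fun x => szW F * x) e
        simp only [← mul_assoc, szW_mul_self, one_mul] at this
        exact this
      rw [← szD_mul, ← szD_mul] at e2
      have e3 := szD_injective e2
      have e4 : t * t = 1 := by
        have : t * s = t⁻¹ * s := by rw [mul_comm t s]; exact e3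
        have := mul_right_cancel this
        calc t * t = t⁻¹ * t := by rw [← this]
          _ = 1 := inv_mul_cancel t
      apply ht
      apply Units.ext
      have e5 : (t : F) * t = 1 := by
        have := congrArg Units.val e4
        rwa [Units.val_mul, Units.val_one] at this
      have e6 : ((t : F) - 1) ^ 2 = 0 := by linear_combination e5 + (1 - (t : F)) * h2
      exact sub_eq_zero.1 ((pow_eq_zero_iff two_ne_zero).1 e6)
    · exfalso
      exact szP_ne_inf _ _ (smul_left_cancel c (h1.trans h2'.symm)).symm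

theorem tG_pow_four (hF : Fintype.card F = 2 ^ (2 * m + 1)) (a b : F) : tG hF a b ^ 4 = 1 := by
  have h2 : (2 : F) = 0 := sz_two
  have e4 : tG hF a b ^ 4 = (tG hF a b * tG hF a b) * (tG hF a b * tG hF a b) := by
    simp only [pow_succ, pow_zero, one_mul, mul_assoc]
  rw [e4, tG_sq, tG_mul, ← tG_zero hF]
  congr 1
  · simp
  · simp
    linear_combination (szS F m a * a) * h2

/-- the ovoid model of the Suzuki group has no nilpotent minimal cover -/
theorem ovoid_result (hm : 1 ≤ m) (hF : Fintype.card F = 2 ^ (2 * m + 1)) :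
    ¬ HasNilMinCover ↥(Cfsg.Sz F m) := by
  classical
  have h2 : (2 : F) = 0 := sz_two
  have hN := normalizer_Uo hF hm
  apply not_hasNilMinCover_of_TI (Uo hF)
  · -- centralisers of translations
    rintro g ⟨a, b, rfl⟩ hg1 h hc
    have hab : ¬ (a = 0 ∧ b = 0) := fun hab => hg1 ((tG_eq_one_iff hF).2 hab)
    have e : (h : SpecialLinearGroup (Fin 4) F) * szT m a b = szT m a b * h :=
      congrArg Subtype.val hc.eq.symm
    obtain ⟨x, y, hxy⟩ := comm_T hm hF hab h.2 e
    exact ⟨x, y, Subtype.ext hxy⟩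
  · -- Sylow
    intro g hg
    have hp : IsPGroup 2 (Subgroup.zpowers g) := by
      have hdvd : orderOf g ∣ 2 ^ 2 := orderOf_dvd_of_pow_eq_one hg
      obtain ⟨k, hk, hk'⟩ := (Nat.dvd_prime_pow Nat.prime_two).1 hdvd
      apply IsPGroup.of_card (n := k)
      rw [Nat.card_zpowers, hk']
    obtain ⟨Q, hQ⟩ := hp.exists_le_sylow
    obtain ⟨c, hcQ⟩ := MulAction.exists_smul_eq ↥(Cfsg.Sz F m) (UoSylow hF hm) Q
    have hgQ : g ∈ (Q : Subgroup ↥(Cfsg.Sz F m)) := hQ (Subgroup.mem_zpowers g)
    rw [← hcQ, Sylow.coe_subgroup_smul, coe_UoSylow,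
      Subgroup.mem_pointwise_smul_iff_inv_smul_mem] at hgQ
    refine ⟨c⁻¹, ?_⟩
    simpa [MulAut.smul_def] using hgQ
  · rintro g ⟨a, b, rfl⟩
    exact tG_pow_four hF a b
  · intro g hg4 c₁ c₂ h1 h2'
    have hg1 : (g : SpecialLinearGroup (Fin 4) F) ≠ 1 := by
      intro e
      apply hg4
      have : g = 1 := Subtype.ext e
      rw [this, one_pow]
    rcases szCN_all hm hF g.2 hg1 with H | H
    · exact Subtype.ext (H c₁ c₂ c₁.2 c₂.2 (congrArg Subtype.val h1.eq) (congrArg Subtype.val h2'.eq))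
    · exfalso
      apply hg4
      apply Subtype.ext
      exact H g g.2 rfl
  · obtain ⟨t, ht⟩ := sz_exists_unit_ne_one hm hF
    refine ⟨dG hF t, ?_, ?_⟩
    · intro e
      have e' : dG hF (t ^ 4) = dG hF 1 := by
        rw [dG_one]
        exact (map_pow (dGhom hF) t 4).trans e
      have e4 := congrArg Units.val (dG_inj hF e')
      rw [Units.val_pow_eq_pow_val, Units.val_one] at e4
      apply ht
      apply Units.ext
      have e6 : ((t : F) - 1) ^ 4 = 0 := by
        linear_combination e4 + (-2 * (t : F) ^ 3 + 3 * (t : F) ^ 2 - 2 * (t : F) + 1) * h2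
      rw [Units.val_one]
      exact sub_eq_zero.1 ((pow_eq_zero_iff (by norm_num)).1 e6)
    · intro c hc
      rw [hN]
      obtain ⟨s, hs⟩ := comm_D hm hF ht c.2 (congrArg Subtype.val hc.eq)
      have : c = dG hF s := Subtype.ext hs
      rw [this]
      exact dG_mem_Bo hF s
  · rw [hN]
    intro e
    apply wG_not_mem_Bo hF
    rw [e]
    exact Subgroup.mem_top _
  · rintro k g ⟨a', b', rfl⟩ hg1 ⟨a, b, hab⟩
    rw [hN]
    refine Uo_TI hF (a := a) (b := b) (a' := a') (b' := b') ?_ hab.symm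
    rintro ⟨rfl, rfl⟩
    rw [tG_zero] at hab
    exact hg1 (conj_eq_one_iff.1 hab)
  · refine ⟨tG hF 0 1, tG_mem_Uo hF 0 1, ?_⟩
    intro e
    exact one_ne_zero ((tG_eq_one_iff hF).1 e).2

end Ovoid

/-- A cover of a group is a finite set of proper subgroups whose union is the whole group; it is minimal when no cover has fewer members, and nilpotent when all its members are nilpotent. The Suzuki groups Sz(q), q = 2^(2m+1) with m ≥ 1, have no nilpotent minimal cover. -/
theorem result {F : Type*} [Field F] [Fintype F] (m : ℕ) (hm : 1 ≤ m) (hF : Fintype.card F = 2 ^ (2 * m + 1)) :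
    ¬ ∃ 𝓐 : Finset (Subgroup ↥(Cfsg.Lie.Sz F (2 ^ (m + 1)))), ((∀ A ∈ 𝓐, A ≠ ⊤) ∧ (∀ g : ↥(Cfsg.Lie.Sz F (2 ^ (m + 1))), ∃ A ∈ 𝓐, g ∈ A)) ∧ (∀ 𝓑 : Finset (Subgroup ↥(Cfsg.Lie.Sz F (2 ^ (m + 1)))), (∀ A ∈ 𝓑, A ≠ ⊤) ∧ (∀ g : ↥(Cfsg.Lie.Sz F (2 ^ (m + 1))), ∃ A ∈ 𝓑, g ∈ A) → 𝓐.card ≤ 𝓑.card) ∧ (∀ A ∈ 𝓐, Group.IsNilpotent ↥A) := by
  have := sz_charP hF
  intro h
  exact ovoid_result hm hF (hasNilMinCover_of_mulEquiv (szBridge hm hF) h)

end Cfsg.Agent.S3893
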