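import Cfsg.Statements.S4068
-- import your own Cfsg.Agent.* helpers here
import Cfsg.Agent.S1230
import Cfsg.Agent.S0252
import Cfsg.Agent.Helper83.EPO2
import Cfsg.Agent.Helper83.EPO3
import Cfsg.Agent.Helper83.EPO4

set_option autoImplicit false
open Cfsg

namespace Cfsg.Agent.S4068

/-- A finite non-solvable group on which its automorphism group has exactly four orbits is isomorphic to the alternating group of degree 5. -/
theorem result {G : Type*} [Group G] [Finite G] (hns : ¬ Group.IsSolvable G)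
    (h4 : Nat.card (MulAction.orbitRel.Quotient (MulAut G) G) = 4) : Nonempty (G ≃* alternatingGroup (Fin 5)) := by
  classical
  obtain ⟨hepo, h3⟩ := Cfsg.Agent.Helper83.epo_of_orbits hns h4
  have hfact : Fact (Nat.Prime 2) := ⟨Nat.prime_two⟩
  let T : Sylow 2 G := default
  have hnc := Cfsg.Agent.Helper83.epo_sylow2_not_cyclic hepo hns T
  have hnn := Cfsg.Agent.Helper83.epo_sylow2_not_normal hepo hns T
  obtain ⟨F, instF, instFF, hFT, ⟨e⟩⟩ := Cfsg.Agent.S1230.result T hnc hnn
    (fun t ht => Cfsg.Agent.Helper83.epo_cent_invol hepo t ht)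
  obtain ⟨n, hn⟩ := IsPGroup.iff_card.1 T.2
  have hn2 : 2 ≤ n := by
    by_contra hlt
    have hn01 : n = 0 ∨ n = 1 := by omega
    rcases hn01 with rfl | rfl
    · rw [pow_zero] at hn
      have : Subsingleton (T : Subgroup G) := (Nat.card_eq_one_iff_unique.1 hn).1
      exact hnc inferInstance
    · rw [pow_one] at hn
      exact hnc (isCyclic_of_prime_card hn)
  have hFn : Fintype.card F = 2 ^ n := by rw [hFT, hn]
  have h2 : (2 : F) = 0 := Cfsg.Agent.Helper83.char_two_of_card n hFn
  have hcard : Nat.card G = 2 ^ n * ((2 ^ n) ^ 2 - 1) := by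
    rw [Nat.card_congr e.toEquiv, Cfsg.Agent.Helper83.card_psl2_char_two h2, hFn]
  rw [hcard] at h3
  rcases Cfsg.Agent.Helper83.three_primes_two_pow n hn2 h3 with rfl | rfl
  · obtain ⟨e'⟩ := Cfsg.Agent.S0252.result (F := F) (by rw [hFn]; norm_num)
    exact ⟨e.trans e'⟩
  · exact absurd (Cfsg.Agent.Helper83.epo_mulEquiv hepo e)
      (Cfsg.Agent.Helper83.psl2_eight_not_epo (by rw [hFn]; norm_num))

end Cfsg.Agent.S4068
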