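import Mathlib
import Cfsg.Statements.S4113

set_option autoImplicit false
open Cfsg

namespace Cfsg.Agent.S4113

open Subgroup

/-- Let G be a finite group, M ≤ N non-trivial proper normal subgroups, and H a subgroup with HM = G and H ∩ M = 1. Then every element of G outside N acts fixed-point-freely on M (C_G(x) ≤ N for every x ∈ M, x ≠ 1) if and only if H ∩ gHg⁻¹ ≤ H ∩ N for every g outside H, with H proper and non-trivial and H ∩ N proper in H. -/
theorem result {G : Type*} [Group G] [Finite G] (N M : Subgroup G) [N.Normal] [M.Normal] (hMN : M ≤ N) (hM1 : M ≠ ⊥) (hN2 : N ≠ ⊤)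
    (H : Subgroup G) (hHM : H ⊔ M = ⊤) (hHM' : H ⊓ M = ⊥) :
    (∀ x ∈ M, x ≠ 1 → Subgroup.centralizer ({x} : Set G) ≤ N) ↔
      (H ≠ ⊥ ∧ H ≠ ⊤ ∧ H ⊓ N < H ∧ ∀ g : G, g ∉ H → H ⊓ H.map (MulAut.conj g).toMonoidHom ≤ N) := by
  have hNn : N.Normal := inferInstance
  have hMn : M.Normal := inferInstance
  have hdec : ∀ g : G, ∃ m ∈ M, ∃ h ∈ H, m * h = g := by
    intro g
    have h1 : g ∈ ((M ⊔ H : Subgroup G) : Set G) := by
      rw [sup_comm, hHM]; exact mem_top g
    rw [Subgroup.normal_mul] at h1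
    exact Set.mem_mul.1 h1
  have hHMtriv : ∀ y, y ∈ H → y ∈ M → y = 1 := by
    intro y hyH hyM
    have : y ∈ H ⊓ M := ⟨hyH, hyM⟩
    rw [hHM'] at this
    exact this
  have hHne : H ≠ ⊥ := by
    rintro rfl
    rw [bot_sup_eq] at hHM
    apply hN2
    rw [eq_top_iff, ← hHM]; exact hMN
  have hHnt : H ≠ ⊤ := by
    rintro rfl
    rw [top_inf_eq] at hHM'
    exact hM1 hHM'
  have hlt : H ⊓ N < H := by
    refine lt_of_le_of_ne inf_le_left ?_
    intro h
    have hHN : H ≤ N := by rw [← h]; exact inf_le_right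
    apply hN2
    rw [eq_top_iff, ← hHM]
    exact sup_le hHN hMN
  constructor
  · intro hcent
    refine ⟨hHne, hHnt, hlt, ?_⟩
    intro g hg y hy
    obtain ⟨hyH, hy2⟩ := Subgroup.mem_inf.1 hy
    rw [mem_map] at hy2
    obtain ⟨y', hy'H, hy'⟩ := hy2
    rw [MulEquiv.coe_toMonoidHom, MulAut.conj_apply] at hy'
    obtain ⟨m, hm, h, hh, hmh⟩ := hdec g
    have hm1 : m ≠ 1 := by
      rintro rfl
      apply hg
      rw [← hmh, one_mul]; exact hh
    set y'' : G := h * y' * h⁻¹ with hy''
    have hy''H : y'' ∈ H := mul_mem (mul_mem hh hy'H) (inv_mem hh)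
    have h1 : y = m * y'' * m⁻¹ := by
      rw [← hy', ← hmh, hy'']; group
    have h2 : y * y''⁻¹ ∈ M := by
      have : y * y''⁻¹ = m * (y'' * m⁻¹ * y''⁻¹) := by rw [h1]; group
      rw [this]
      exact mul_mem hm (hMn.conj_mem _ (inv_mem hm) y'')
    have h3 : y * y''⁻¹ = 1 := hHMtriv _ (mul_mem hyH (inv_mem hy''H)) h2
    have h4 : y = y'' := by
      have : y = y * y''⁻¹ * y'' := by group
      rw [this, h3, one_mul]
    apply hcent m hm hm1
    rw [mem_centralizer_iff]
    rintro z rfl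
    nth_rewrite 2 [h1]
    rw [← h4]; group
  · rintro ⟨-, -, -, hTI⟩ x hxM hx1 c hc
    rw [mem_centralizer_iff] at hc
    have hcx : x * c = c * x := hc x rfl
    by_contra hcN
    -- the two maps `M × (H \ N) → G \ N`
    let ψ : M × {h : H // (h : G) ∉ N} → {g : G // g ∉ N} := fun z =>
      ⟨(z.1 : G) * (z.2.1 : G), fun hmem => z.2.2 (by
        have : ((z.2.1 : H) : G) = (z.1 : G)⁻¹ * ((z.1 : G) * (z.2.1 : G)) := by group
        rw [this]
        exact mul_mem (inv_mem (hMN z.1.2)) hmem)⟩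
    let φ : M × {h : H // (h : G) ∉ N} → {g : G // g ∉ N} := fun z =>
      ⟨(z.1 : G) * (z.2.1 : G) * (z.1 : G)⁻¹, fun hmem => z.2.2 (by
        have : ((z.2.1 : H) : G) = (z.1 : G)⁻¹ * ((z.1 : G) * (z.2.1 : G) * (z.1 : G)⁻¹) * (z.1 : G)⁻¹⁻¹ := by group
        rw [this]
        exact hNn.conj_mem _ hmem _)⟩
    have hψ : Function.Bijective ψ := by
      constructor
      · rintro ⟨m, h, hh⟩ ⟨m', h', hh'⟩ hab
        have h1 : (m : G) * (h : G) = (m' : G) * (h' : G) := congrArg Subtype.val hab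
        have h2 : (m' : G)⁻¹ * m = (h' : G) * (h : G)⁻¹ := by
          have : (m' : G)⁻¹ * m = (m' : G)⁻¹ * ((m : G) * h) * (h : G)⁻¹ := by group
          rw [this, h1]; group
        have h3 : (m' : G)⁻¹ * m = 1 :=
          hHMtriv _ (by rw [h2]; exact mul_mem h'.2 (inv_mem h.2)) (mul_mem (inv_mem m'.2) m.2)
        have h4 : (m : G) = m' := by
          have : (m : G) = m' * ((m' : G)⁻¹ * m) := by group
          rw [this, h3, mul_one]
        have h5 : (h : G) = h' := by
          rw [h4] at h1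
          exact mul_left_cancel h1
        have hm : m = m' := Subtype.ext h4
        have hh2 : h = h' := Subtype.ext h5
        subst hm; subst hh2
        rfl
      · rintro ⟨g, hg⟩
        obtain ⟨m, hm, h, hh, hmh⟩ := hdec g
        have hhN : h ∉ N := by
          intro hhN
          apply hg
          rw [← hmh]
          exact mul_mem (hMN hm) hhN
        exact ⟨(⟨m, hm⟩, ⟨⟨h, hh⟩, hhN⟩), Subtype.ext hmh⟩
    have hφinj : Function.Injective φ := by
      rintro ⟨m, h, hh⟩ ⟨m', h', hh'⟩ hab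
      have h1 : (m : G) * (h : G) * (m : G)⁻¹ = (m' : G) * (h' : G) * (m' : G)⁻¹ := congrArg Subtype.val hab
      set a : G := (m' : G)⁻¹ * m with ha
      have haM : a ∈ M := mul_mem (inv_mem m'.2) m.2
      have h2 : a * (h : G) * a⁻¹ = h' := by
        have : a * (h : G) * a⁻¹ = (m' : G)⁻¹ * ((m : G) * (h : G) * (m : G)⁻¹) * m' := by
          rw [ha]; group
        rw [this, h1]; group
      have haH : a ∈ H := by
        by_contra haH
        apply hh'
        apply hTI a haH
        refine Subgroup.mem_inf.2 ⟨h'.2, ?_⟩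
        rw [mem_map]
        exact ⟨h, h.2, by rw [MulEquiv.coe_toMonoidHom, MulAut.conj_apply]; exact h2⟩
      have ha1 : a = 1 := hHMtriv a haH haM
      have h4 : (m : G) = m' := by
        have : (m : G) = m' * a := by rw [ha]; group
        rw [this, ha1, mul_one]
      have h5 : (h : G) = h' := by
        rw [ha1] at h2
        simpa using h2
      have hm : m = m' := Subtype.ext h4
      have hh2 : h = h' := Subtype.ext h5
      subst hm; subst hh2
      rfl
    have hφsurj : Function.Surjective φ :=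
      (Finite.injective_iff_surjective_of_equiv (Equiv.ofBijective ψ hψ)).1 hφinj
    obtain ⟨⟨m, h, hh⟩, hmh⟩ := hφsurj ⟨c, hcN⟩
    have h1 : (m : G) * (h : G) * (m : G)⁻¹ = c := congrArg Subtype.val hmh
    set a : G := (m : G)⁻¹ * x * m with ha
    have haM : a ∈ M := by
      have := hMn.conj_mem x hxM (m : G)⁻¹
      simpa [ha] using this
    have ha1 : a ≠ 1 := by
      intro h
      apply hx1
      have : x = m * a * (m : G)⁻¹ := by rw [ha]; group
      rw [this, h]; group
    have haH : a ∉ H := fun haH => ha1 (hHMtriv a haH haM)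
    apply hh
    apply hTI a haH
    refine Subgroup.mem_inf.2 ⟨h.2, ?_⟩
    rw [mem_map]
    refine ⟨h, h.2, ?_⟩
    rw [MulEquiv.coe_toMonoidHom, MulAut.conj_apply]
    have h2 : (h : G) = (m : G)⁻¹ * c * m := by rw [← h1]; group
    have h3 : a * (h : G) * a⁻¹ = (m : G)⁻¹ * (x * c * x⁻¹) * m := by
      rw [ha, h2]; group
    rw [h3, hcx, h2]; group

end Cfsg.Agent.S4113
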