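import Cfsg.Statements.S4347

set_option autoImplicit false
open Cfsg

namespace Cfsg.Agent.S4347

open scoped Pointwise in
/-- Let G be a finite group and p a prime. Say a Sylow p-subgroup Q is redundant when every element of p-power order lies in some Sylow p-subgroup other than Q. Then G has no redundant Sylow p-subgroup if and only if some element of p-power order lies in exactly one Sylow p-subgroup. -/
theorem result {G : Type*} [Group G] [Finite G]
    (p : ℕ) [Fact p.Prime] :
    (¬ ∃ Q : Sylow p G, ∀ x : G, (∃ k : ℕ, orderOf x = p ^ k) → ∃ P : Sylow p G, P ≠ Q ∧ x ∈ P) ↔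
      ∃ x : G, (∃ k : ℕ, orderOf x = p ^ k) ∧ ∃! P : Sylow p G, x ∈ P := by
  constructor
  · intro h
    have h' : ∀ Q : Sylow p G, ∃ x : G, (∃ k : ℕ, orderOf x = p ^ k) ∧
        ∀ P : Sylow p G, P ≠ Q → x ∉ P := by
      intro Q
      by_contra hcon
      apply h
      refine ⟨Q, fun x hx => ?_⟩
      by_contra hcon2
      apply hcon
      refine ⟨x, hx, fun P hP hxP => hcon2 ⟨P, hP, hxP⟩⟩
    obtain ⟨x, hx, hxQ⟩ := h' (default : Sylow p G)
    refine ⟨x, hx, ?_⟩
    have hpg : IsPGroup p (Subgroup.zpowers x) := by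
      obtain ⟨k, hk⟩ := hx
      refine IsPGroup.of_card (n := k) ?_
      rw [Nat.card_zpowers, hk]
    obtain ⟨P', hP'⟩ := hpg.exists_le_sylow
    have hxP' : x ∈ P' := hP' (Subgroup.mem_zpowers x)
    have hP'Q : P' = default := by
      by_contra hne
      exact hxQ P' hne hxP'
    refine ⟨default, hP'Q ▸ hxP', ?_⟩
    intro P hP
    by_contra hne
    exact hxQ P hne hP
  · rintro ⟨x, ⟨k, hk⟩, P₀, hxP₀, huniq⟩ ⟨Q, hQ⟩
    obtain ⟨g, rfl⟩ := MulAction.exists_smul_eq G P₀ Q
    have hx' : ∃ k : ℕ, orderOf (g * x * g⁻¹) = p ^ k :=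
      ⟨k, by rw [← hk]; exact (MulAut.conj g).orderOf_eq x⟩
    obtain ⟨P, hPne, hxP⟩ := hQ _ hx'
    apply hPne
    have h1 : x ∈ g⁻¹ • P := by
      show x ∈ ((g⁻¹ • P : Sylow p G) : Subgroup G)
      rw [Sylow.coe_subgroup_smul, Subgroup.mem_pointwise_smul_iff_inv_smul_mem]
      rw [← map_inv, inv_inv, MulAut.smul_def, MulAut.conj_apply]
      exact hxP
    have := huniq _ h1
    rw [← this, smul_inv_smul]

end Cfsg.Agent.S4347
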