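import Cfsg.Statements.S4357
import Cfsg.Agent.Helper40.SL2SylowTwo
import Cfsg.Agent.Helper40.SL2OrderFour
import Cfsg.Agent.Helper5.SL2Sylow
import Cfsg.Agent.Helper41.DkTorus

set_option autoImplicit false
open Cfsg

namespace Cfsg.Agent.S4357

section aux

open Cfsg.Agent.Helper40 Cfsg.Agent.Helper42.SL2
open scoped Pointwise

variable {F : Type*} [Field F] [Fintype F]

local notation "SL2" => Matrix.SpecialLinearGroup (Fin 2) F

omit [Fintype F] in
theorem mem_smul_sylow_iff {G : Type*} [Group G] {p : ℕ} (g x : G) (P : Sylow p G) :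
    x ∈ g • P ↔ ∃ s ∈ P, g * s * g⁻¹ = x := by
  show x ∈ MulAut.conj g • (P : Subgroup G) ↔ _
  rw [Subgroup.mem_smul_pointwise_iff_exists]
  rfl

/-- A1: in the defining characteristic, Sylow subgroups are TI. -/
theorem unique_sylow_char (p : ℕ) [Fact p.Prime] [CharP F p] (Q : Sylow p SL2) :
    ∃ x : SL2, (∃ k : ℕ, orderOf x = p ^ k) ∧ ∀ P : Sylow p SL2, x ∈ P → P = Q := by
  obtain ⟨g, rfl⟩ := MulAction.exists_smul_eq SL2 (Cfsg.Agent.Helper5.sylowUSL (F := F) p) Q
  have hmem : g * Cfsg.Agent.Helper5.uSL 1 * g⁻¹ ∈ (g • Cfsg.Agent.Helper5.sylowUSL (F := F) p) := by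
    rw [mem_smul_sylow_iff]
    refine ⟨Cfsg.Agent.Helper5.uSL 1, ?_, rfl⟩
    show _ ∈ ((Cfsg.Agent.Helper5.sylowUSL (F := F) p : Sylow p SL2) : Subgroup SL2)
    rw [Cfsg.Agent.Helper5.sylowUSL_coe]
    exact Cfsg.Agent.Helper5.uSL_mem_USL 1
  refine ⟨g * Cfsg.Agent.Helper5.uSL 1 * g⁻¹, ?_, ?_⟩
  · obtain ⟨k, hk⟩ := (IsPGroup.iff_orderOf.mp (g • Cfsg.Agent.Helper5.sylowUSL (F := F) p).isPGroup')
      ⟨_, hmem⟩
    refine ⟨k, ?_⟩
    rw [← hk, ← Subgroup.orderOf_coe]
  · intro P hxP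
    obtain ⟨h, rfl⟩ := MulAction.exists_smul_eq SL2 (Cfsg.Agent.Helper5.sylowUSL (F := F) p) P
    rw [mem_smul_sylow_iff] at hxP
    obtain ⟨s, hs, hsx'⟩ := hxP
    have hs' : s ∈ ((Cfsg.Agent.Helper5.sylowUSL (F := F) p : Sylow p SL2) : Subgroup SL2) := hs
    rw [Cfsg.Agent.Helper5.sylowUSL_coe, Cfsg.Agent.Helper5.mem_USL_iff] at hs'
    obtain ⟨t, rfl⟩ := hs'
    set k := h⁻¹ * g with hkdef
    have hk1 : k * Cfsg.Agent.Helper5.uSL 1 = Cfsg.Agent.Helper5.uSL t * k := by
      have : Cfsg.Agent.Helper5.uSL t = h⁻¹ * (g * Cfsg.Agent.Helper5.uSL 1 * g⁻¹) * h := by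
        rw [← hsx']; group
      rw [this, hkdef]; group
    have hk0 : (k : Matrix (Fin 2) (Fin 2) F) 1 0 = 0 := by
      have h1 := congrArg (fun m : SL2 => (m : Matrix (Fin 2) (Fin 2) F) 1 1) hk1
      simp only [Matrix.SpecialLinearGroup.coe_mul, Cfsg.Agent.Helper5.uSL_coe, Matrix.mul_apply,
        Fin.sum_univ_two] at h1
      simp at h1
      exact h1
    have hnorm := Cfsg.Agent.Helper5.sl_mem_normalizer_USL hk0
    rw [← Cfsg.Agent.Helper5.sylowUSL_coe_set p, ← Sylow.smul_eq_iff_mem_normalizer] at hnorm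
    have h3 : g • Cfsg.Agent.Helper5.sylowUSL (F := F) p =
        h • (k • Cfsg.Agent.Helper5.sylowUSL (F := F) p) := by
      rw [← mul_smul, hkdef, mul_inv_cancel_left]
    rw [h3, hnorm]

/-- A2: odd primes different from the characteristic: Sylow subgroups are cyclic. -/
theorem unique_sylow_odd (p : ℕ) [Fact p.Prime] (hp2 : p ≠ 2) (hpq : ¬ p ∣ Fintype.card F)
    (Q : Sylow p SL2) :
    ∃ x : SL2, (∃ k : ℕ, orderOf x = p ^ k) ∧ ∀ P : Sylow p SL2, x ∈ P → P = Q := by
  classical
  have hp : p.Prime := Fact.out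
  obtain ⟨r, hr⟩ := CharP.exists F
  haveI := hr
  haveI hrp : Fact r.Prime := ⟨CharP.char_is_prime F r⟩
  obtain ⟨n, -, hq⟩ := FiniteField.card F r
  have hpr : p ≠ r := by
    rintro rfl
    apply hpq
    rw [hq]
    exact dvd_pow_self _ n.ne_zero
  -- Q is cyclic
  have hcyc : IsCyclic (Q : Subgroup SL2) := by
    by_cases htriv : Subsingleton (Q : Subgroup SL2)
    · infer_instance
    · rw [not_subsingleton_iff_nontrivial] at htriv
      haveI := htriv
      have hcn := IsPGroup.center_nontrivial Q.isPGroup'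
      obtain ⟨z, hz⟩ := exists_ne (1 : Subgroup.center (Q : Subgroup SL2))
      obtain ⟨z', hz'⟩ : ∃ z' : SL2, z' = ((z : (Q : Subgroup SL2)) : SL2) := ⟨_, rfl⟩
      have hz1 : z' ≠ 1 := by
        intro h
        apply hz
        apply Subtype.ext; apply Subtype.ext
        rw [← hz']; exact h
      have hzQ : z' ∈ (Q : Subgroup SL2) := by rw [hz']; exact (z : (Q : Subgroup SL2)).2
      have hcomm : ∀ s ∈ (Q : Subgroup SL2), s * z' = z' * s := by
        intro s hs
        have := Subgroup.mem_center_iff.mp z.2 ⟨s, hs⟩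
        have h2 := congrArg Subtype.val this
        rw [hz']
        exact h2
      obtain ⟨j, hj⟩ := (IsPGroup.iff_orderOf.mp Q.isPGroup') ⟨z', hzQ⟩
      rw [Subgroup.orderOf_mk] at hj
      have hj0 : j ≠ 0 := by
        rintro rfl
        rw [pow_zero, orderOf_eq_one_iff] at hj
        exact hz1 hj
      have hpdvd : p ∣ orderOf z' := by rw [hj]; exact dvd_pow_self p hj0
      have hzc : z' ∉ Subgroup.center SL2 := by
        intro hc
        rw [Cfsg.Agent.Helper41.Dk.center_iff_entries] at hc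
        obtain ⟨h10, h01, h00⟩ := hc
        have hd := Cfsg.Agent.Helper41.sl2_det z'
        rw [h10, h00] at hd
        have hsq : z' * z' = 1 := by
          apply Cfsg.Agent.Helper41.Dk.sl_ext <;>
            simp [Matrix.mul_apply, Fin.sum_univ_two, h10, h01, h00]
          · linear_combination hd
          · linear_combination hd
        have h2 : orderOf z' ∣ 2 := orderOf_dvd_of_pow_eq_one (by rw [pow_two]; exact hsq)
        exact hp2 ((Nat.prime_dvd_prime_iff_eq hp Nat.prime_two).mp (hpdvd.trans h2))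
      have hzt : Cfsg.Agent.Helper41.Dk.tr z' ^ 2 ≠ 4 := by
        intro h4
        have htr2 : Cfsg.Agent.Helper41.Dk.tr (z' * z') = 2 := by
          rw [Cfsg.Agent.Helper41.Dk.tr_eq] at h4 ⊢
          have hd := Cfsg.Agent.Helper41.sl2_det z'
          simp only [Matrix.SpecialLinearGroup.coe_mul, Matrix.mul_apply, Fin.sum_univ_two]
          linear_combination h4 - 2 * hd
        have h1 := Cfsg.Agent.Helper41.Dk.unip_pow_char r (z' * z') htr2
        have h2 : orderOf z' ∣ 2 * r :=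
          orderOf_dvd_of_pow_eq_one (by rw [pow_mul, pow_two]; exact h1)
        rcases (Nat.Prime.dvd_mul hp).mp (hpdvd.trans h2) with h | h
        · exact hp2 ((Nat.prime_dvd_prime_iff_eq hp Nat.prime_two).mp h)
        · exact hpr ((Nat.prime_dvd_prime_iff_eq hp hrp.out).mp h)
      obtain ⟨hcy, -⟩ := Cfsg.Agent.Helper41.Dk.torus_cyclic r hzc hzt
      have hle : (Q : Subgroup SL2) ≤ Cfsg.Agent.Helper41.Dk.cen z' := by
        intro s hs
        rw [Cfsg.Agent.Helper41.Dk.mem_cen]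
        exact hcomm s hs
      exact isCyclic_of_injective (Subgroup.inclusion hle) (Subgroup.inclusion_injective hle)
  obtain ⟨g, hg⟩ := IsCyclic.exists_generator (α := (Q : Subgroup SL2))
  refine ⟨g.1, ?_, ?_⟩
  · obtain ⟨k, hk⟩ := (IsPGroup.iff_orderOf.mp Q.isPGroup') g
    exact ⟨k, by rw [← hk, Subgroup.orderOf_coe]⟩
  · intro P hgP
    have hle : (Q : Subgroup SL2) ≤ (P : Subgroup SL2) := by
      intro s hs
      obtain ⟨m, hm⟩ := Subgroup.mem_zpowers_iff.mp (hg ⟨s, hs⟩)
      have h2 : s = g.1 ^ m := by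
        have := congrArg Subtype.val hm
        simpa using this.symm
      rw [h2]
      exact zpow_mem hgP m
    exact Sylow.ext (Q.is_maximal' P.isPGroup' hle)

/-- A3: `q ∓ 1` a power of two: no Sylow `2`-subgroup is redundant. -/
theorem unique_sylow_two (hodd : Odd (Fintype.card F)) (k : ℕ) (hk : 2 ≤ k)
    (h : Fintype.card F + 1 = 2 ^ k ∨ Fintype.card F = 2 ^ k + 1) (Q : Sylow 2 SL2) :
    ∃ x : SL2, (∃ k : ℕ, orderOf x = 2 ^ k) ∧ ∀ P : Sylow 2 SL2, x ∈ P → P = Q := by
  classical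
  have h2 := two_ne_zero_of_odd hodd
  obtain ⟨y, hyQ, hy0, ⟨w, hwQ, hw⟩, hall⟩ := exists_trace_zero_mem_sylow hodd Q
  have hyns : NonScalar y.1 := nonScalar_of_tr2_eq_zero h2 y hy0
  have hyt : tr2 y ^ 2 ≠ 4 := tr2_sq_ne_four_of_eq_zero h2 y hy0
  have hCcyc := isCyclic_centralizer hodd y hyns hyt
  have hC4 : 4 ∣ Nat.card (Subgroup.centralizer ({y} : Set SL2)) := by
    have hsq := sq_of_tr2_eq_zero y hy0
    have hy4 : orderOf y = 2 ^ (1 + 1) := by
      apply orderOf_eq_prime_pow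
      · intro h1
        have h3 : y.1 * y.1 = 1 := by
          have := congrArg Subtype.val h1
          rw [pow_one, pow_two] at this
          simpa using this
        rw [hsq] at h3
        have h4 := congrFun (congrFun h3 0) 0
        simp at h4
        apply h2; linear_combination -h4
      · apply Subtype.ext
        have h5 : y ^ 2 ^ (1 + 1) = (y * y) * (y * y) := by
          rw [show (2 : ℕ) ^ (1 + 1) = 2 + 2 from rfl, pow_add, pow_two]
        rw [h5]; simp [hsq]
    have hmem : y ∈ Subgroup.centralizer ({y} : Set SL2) :=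
      Subgroup.mem_centralizer_iff.mpr (by rintro _ rfl; rfl)
    have h6 := orderOf_dvd_natCard (⟨y, hmem⟩ : Subgroup.centralizer ({y} : Set SL2))
    rw [Subgroup.orderOf_mk, hy4] at h6
    exact h6
  have hCcard : Nat.card (Subgroup.centralizer ({y} : Set SL2)) = 2 ^ k := by
    obtain ⟨-, hsplit, hns⟩ := card_centralizer_odd h2 y hyns 0 (by rw [mul_zero]; exact hy0)
    have h4k : 4 ∣ 2 ^ k := by
      obtain ⟨m, rfl⟩ := Nat.exists_eq_add_of_le hk
      exact ⟨2 ^ m, by rw [pow_add]; norm_num⟩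
    have hq1 : 1 < Fintype.card F := Fintype.one_lt_card
    generalize 2 ^ k = X at *
    by_cases hsq : IsSquare ((0 : F) ^ 2 - 1)
    · obtain ⟨d, hd⟩ := hsq
      have hd0 : d ≠ 0 := by rintro rfl; simp at hd
      have hc := hsplit d hd0 (by rw [hd]; ring)
      rw [hc] at hC4 ⊢
      rcases h with h | h
      · exfalso; omega
      · omega
    · have hc := hns hsq
      rw [hc] at hC4 ⊢
      rcases h with h | h
      · exact h
      · exfalso; omega
  obtain ⟨C, hCdef⟩ : ∃ C : Subgroup SL2, C = Subgroup.centralizer ({y} : Set SL2) := ⟨_, rfl⟩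
  rw [← hCdef] at hCcyc hCcard
  obtain ⟨hNcard, -⟩ := card_normalizer_centralizer hodd y hyns hyt
  rw [← hCdef] at hNcard
  have hN2 : IsPGroup 2 (Subgroup.normalizer (C : Set SL2)) := by
    apply IsPGroup.of_card (n := k + 1)
    rw [hNcard, hCcard, pow_succ]; ring
  have hQN : (Q : Subgroup SL2) ≤ Subgroup.normalizer (C : Set SL2) := by
    intro s hs
    rw [hCdef]
    exact (mem_normalizer_centralizer_iff h2 y s hyns hyt).mpr (hall s hs)
  have hNQ : Subgroup.normalizer (C : Set SL2) = (Q : Subgroup SL2) := Q.is_maximal' hN2 hQN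
  obtain ⟨g, hg⟩ := IsCyclic.exists_generator (α := C)
  have hgQ : g.1 ∈ (Q : Subgroup SL2) := by
    rw [← hNQ]; exact Subgroup.le_normalizer g.2
  refine ⟨g.1, ?_, ?_⟩
  · obtain ⟨j, hj⟩ := (IsPGroup.iff_orderOf.mp Q.isPGroup') ⟨g.1, hgQ⟩
    exact ⟨j, by rw [← hj, Subgroup.orderOf_mk]⟩
  · intro P hgP
    have hCP : C ≤ (P : Subgroup SL2) := by
      intro s hs
      obtain ⟨m, hm⟩ := Subgroup.mem_zpowers_iff.mp (hg ⟨s, hs⟩)
      have h2 : s = g.1 ^ m := by
        have := congrArg Subtype.val hm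
        simpa using this.symm
      rw [h2]
      exact zpow_mem hgP m
    have hPcard : Nat.card (P : Subgroup SL2) = 2 ^ (k + 1) := by
      rw [P.card_eq_multiplicity, ← Q.card_eq_multiplicity, ← hNQ, hNcard, hCcard, pow_succ]; ring
    have hidx : (C.subgroupOf (P : Subgroup SL2)).index = 2 := by
      have h1 := Subgroup.card_mul_index (C.subgroupOf (P : Subgroup SL2))
      rw [Nat.card_congr (Subgroup.subgroupOfEquivOfLe hCP).toEquiv, hCcard, hPcard, pow_succ] at h1
      exact Nat.eq_of_mul_eq_mul_left (by positivity) h1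
    haveI := Subgroup.normal_of_index_eq_two hidx
    have hPN : (P : Subgroup SL2) ≤ Subgroup.normalizer (C : Set SL2) :=
      Subgroup.le_normalizer_of_normal_subgroupOf hCP
    rw [hNQ] at hPN
    exact (Sylow.ext (P.is_maximal' Q.isPGroup' hPN)).symm

/-- B1: every non-scalar element of a Sylow `2`-subgroup is inverted inside it. -/
theorem exists_inverts_mem (hodd : Odd (Fintype.card F)) (Q : Sylow 2 SL2) (x : SL2)
    (hxQ : x ∈ Q) (hx : NonScalar x.1) : ∃ w ∈ Q, Inverts w x := by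
  have h2 := two_ne_zero_of_odd hodd
  obtain ⟨y, hyQ, hy0, ⟨w, hwQ, hw⟩, hall⟩ := exists_trace_zero_mem_sylow hodd Q
  have hyns : NonScalar y.1 := nonScalar_of_tr2_eq_zero h2 y hy0
  rcases hall x hxQ with hc | hinv
  · exact ⟨w, hwQ, inverts_conj w y x hyns hw hc⟩
  · have hsq := inverts_sq x y hyns hinv
    have hx0 := tr2_eq_zero_of_sq x hsq
    refine ⟨y, hyQ, ?_⟩
    rw [inverts_iff_of_tr2_eq_zero y x hx0]
    have h3 := (inverts_iff_of_tr2_eq_zero x y hy0).mp hinv
    rw [h3, neg_neg]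

/-- B2: the part of the centraliser of a non-scalar element of `Q` that normalises `Q` lies
in `Q`. -/
theorem mem_of_centralizer_normalizer (hodd : Odd (Fintype.card F)) (Q : Sylow 2 SL2) (x : SL2)
    (hxQ : x ∈ Q) (hx : NonScalar x.1) (c : SL2)
    (hc : c ∈ Subgroup.centralizer ({x} : Set SL2))
    (hcN : c ∈ Subgroup.normalizer ((Q : Subgroup SL2) : Set SL2)) : c ∈ (Q : Subgroup SL2) := by
  obtain ⟨w, hwQ, hw⟩ := exists_inverts_mem hodd Q x hxQ hx
  have h1 : w * c * w⁻¹ = c⁻¹ := inverts_conj w x c hx hw hc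
  have h2 : c * w * c⁻¹ = c * c * w := by
    have h3 : w * c = c⁻¹ * w := by rw [← h1]; group
    have h4 : w * c⁻¹ = c * w := by
      calc w * c⁻¹ = c * (c⁻¹ * w) * c⁻¹ := by group
        _ = c * (w * c) * c⁻¹ := by rw [h3]
        _ = c * w := by group
    rw [mul_assoc, h4, mul_assoc]
  have h3 : c * w * c⁻¹ ∈ (Q : Subgroup SL2) := (Subgroup.mem_normalizer_iff.mp hcN w).mp hwQ
  rw [h2] at h3
  have h4 : c * c ∈ (Q : Subgroup SL2) := (Subgroup.mul_mem_cancel_right _ hwQ).mp h3
  obtain ⟨m, hm⟩ := Q.isPGroup' ⟨c * c, h4⟩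
  have hm' : (c * c) ^ 2 ^ m = 1 := by
    have := congrArg Subtype.val hm
    simpa using this
  apply mem_sylow_of_pow_eq_one Q c hcN (m + 1)
  rw [pow_succ', pow_mul, pow_two]; exact hm'

/-- B3: a non-scalar element of `Q` lies in a second Sylow `2`-subgroup. -/
theorem exists_ne_of_nonScalar (hodd : Odd (Fintype.card F))
    (h1 : ¬ ∃ k : ℕ, Fintype.card F + 1 = 2 ^ k)
    (h3 : ¬ ∃ k : ℕ, Fintype.card F = 2 ^ k + 1) (Q : Sylow 2 SL2) (x : SL2) (hxQ : x ∈ Q)
    (hx : NonScalar x.1) : ∃ P : Sylow 2 SL2, P ≠ Q ∧ x ∈ P := by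
  classical
  have h2 := two_ne_zero_of_odd hodd
  by_contra hcon
  push Not at hcon
  have hCQ : Subgroup.centralizer ({x} : Set SL2) ≤ (Q : Subgroup SL2) := by
    intro c hc
    apply mem_of_centralizer_normalizer hodd Q x hxQ hx c hc
    have hiff : c • Q = Q ↔ c ∈ Subgroup.normalizer ((Q : Subgroup SL2) : Set SL2) :=
      Sylow.smul_eq_iff_mem_normalizer
    rw [← hiff]
    by_contra hne
    apply hcon (c • Q) hne
    rw [mem_smul_sylow_iff]
    refine ⟨x, hxQ, ?_⟩
    have h5 := Subgroup.mem_centralizer_iff.mp hc x rfl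
    rw [← h5]; group
  obtain ⟨m, hm⟩ := (IsPGroup.iff_card.mp Q.isPGroup')
  have hdvd : Nat.card (Subgroup.centralizer ({x} : Set SL2)) ∣ 2 ^ m := by
    rw [← hm]; exact Subgroup.card_dvd_of_le hCQ
  obtain ⟨j, -, hj⟩ := (Nat.dvd_prime_pow Nat.prime_two).mp hdvd
  have hq1 : 1 < Fintype.card F := Fintype.one_lt_card
  obtain ⟨s, hs⟩ : ∃ s : F, x.1 0 0 + x.1 1 1 = 2 * s :=
    ⟨(x.1 0 0 + x.1 1 1) / 2, by field_simp⟩
  obtain ⟨hu, hsplit, hns⟩ := card_centralizer_odd h2 x hx s hs
  by_cases hs1 : s ^ 2 = 1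
  · have h6 := hu hs1
    rw [hj] at h6
    obtain _ | j := j
    · simp at h6; omega
    · rw [pow_succ] at h6
      have hq : Fintype.card F = 2 ^ j := by omega
      obtain _ | j := j
      · simp at hq; omega
      · rw [pow_succ] at hq
        have := Nat.odd_iff.mp hodd
        omega
  · by_cases hsq : IsSquare (s ^ 2 - 1)
    · obtain ⟨d, hd⟩ := hsq
      have hd0 : d ≠ 0 := by
        rintro rfl
        apply hs1; linear_combination hd
      have h6 := hsplit d hd0 (by rw [hd]; ring)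
      rw [hj] at h6
      exact h3 ⟨j, by omega⟩
    · have h6 := hns hsq
      rw [hj] at h6
      exact h1 ⟨j, h6.symm⟩

/-- B4: under the numerical hypotheses every Sylow `2`-subgroup is redundant. -/
theorem redundant_two (hodd : Odd (Fintype.card F))
    (h1 : ¬ ∃ k : ℕ, Fintype.card F + 1 = 2 ^ k)
    (h3 : ¬ ∃ k : ℕ, Fintype.card F = 2 ^ k + 1) (Q : Sylow 2 SL2) (x : SL2)
    (hx : ∃ k : ℕ, orderOf x = 2 ^ k) : ∃ P : Sylow 2 SL2, P ≠ Q ∧ x ∈ P := by
  classical
  have h2 := two_ne_zero_of_odd hodd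
  obtain ⟨k, hk⟩ := hx
  by_cases hxQ : x ∈ Q
  · by_cases hxs : NonScalar x.1
    · exact exists_ne_of_nonScalar hodd h1 h3 Q x hxQ hxs
    · obtain ⟨y, hyQ, hy0, -, -⟩ := exists_trace_zero_mem_sylow hodd Q
      have hyns : NonScalar y.1 := nonScalar_of_tr2_eq_zero h2 y hy0
      obtain ⟨P, hPQ, -⟩ := exists_ne_of_nonScalar hodd h1 h3 Q y hyQ hyns
      refine ⟨P, hPQ, ?_⟩
      have hxc : x ∈ Subgroup.center SL2 := by
        rw [Cfsg.Agent.Helper41.Dk.center_iff_entries]
        unfold Cfsg.Agent.Helper42.SL2.NonScalar at hxs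
        rw [not_not] at hxs
        exact ⟨hxs.2.1, hxs.1, hxs.2.2⟩
      apply mem_sylow_of_pow_eq_one P x (Subgroup.center_le_normalizer _ hxc) k
      rw [← hk]; exact pow_orderOf_eq_one x
  · have hpg : IsPGroup 2 (Subgroup.zpowers x) := by
      apply IsPGroup.of_card (n := k)
      rw [Nat.card_zpowers, hk]
    obtain ⟨P, hP⟩ := hpg.exists_le_sylow
    refine ⟨P, ?_, hP (Subgroup.mem_zpowers x)⟩
    rintro rfl
    exact hxQ (hP (Subgroup.mem_zpowers x))

end aux

/-- Let F be a finite field with q elements, p a prime and G = SL(2, F). Say a Sylow p-subgroup Q of G is redundant when every element of p-power order lies in some Sylow p-subgroup other than Q. Then G has a redundant Sylow p-subgroup if and only if p = 2 and q is not of any of the forms 2ᵏ - 1, 2ᵏ, 2ᵏ + 1. -/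
theorem result {F : Type*} [Field F] [Fintype F] (p : ℕ) [Fact p.Prime] :
    (∃ Q : Sylow p (Matrix.SpecialLinearGroup (Fin 2) F), ∀ x : Matrix.SpecialLinearGroup (Fin 2) F,
        (∃ k : ℕ, orderOf x = p ^ k) → ∃ P : Sylow p (Matrix.SpecialLinearGroup (Fin 2) F), P ≠ Q ∧ x ∈ P) ↔
      (p = 2 ∧ (¬ ∃ k : ℕ, Fintype.card F + 1 = 2 ^ k) ∧ (¬ ∃ k : ℕ, Fintype.card F = 2 ^ k) ∧
        ¬ ∃ k : ℕ, Fintype.card F = 2 ^ k + 1) := by
  classical
  have hp : p.Prime := Fact.out
  obtain ⟨r, hr⟩ := CharP.exists F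
  have hrp : r.Prime := CharP.char_is_prime F r
  obtain ⟨n, -, hq⟩ := FiniteField.card F r
  have hq1 : 1 < Fintype.card F := Fintype.one_lt_card
  constructor
  · rintro ⟨Q, hQ⟩
    have key : ∀ x : Matrix.SpecialLinearGroup (Fin 2) F, (∃ k : ℕ, orderOf x = p ^ k) →
        (∀ P : Sylow p (Matrix.SpecialLinearGroup (Fin 2) F), x ∈ P → P = Q) → False := by
      intro x hx hall
      obtain ⟨P, hne, hxP⟩ := hQ x hx
      exact hne (hall P hxP)
    by_cases hpq : p ∣ Fintype.card F
    · exfalso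
      have hpr : p = r := by
        rw [hq] at hpq
        exact (Nat.prime_dvd_prime_iff_eq hp hrp).mp (hp.dvd_of_dvd_pow hpq)
      subst hpr
      obtain ⟨x, hx, hall⟩ := unique_sylow_char p Q
      exact key x hx hall
    · by_cases hp2 : p = 2
      · subst hp2
        have hodd : Odd (Fintype.card F) := by
          rw [← Nat.not_even_iff_odd, even_iff_two_dvd]; exact hpq
        refine ⟨rfl, ?_, ?_, ?_⟩
        · rintro ⟨k, hk⟩
          have hk2 : 2 ≤ k := by
            by_contra hlt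
            have hk01 : k = 0 ∨ k = 1 := by omega
            rcases hk01 with rfl | rfl <;> simp at hk <;> omega
          obtain ⟨x, hx, hall⟩ := unique_sylow_two hodd k hk2 (Or.inl hk) Q
          exact key x hx hall
        · rintro ⟨k, hk⟩
          obtain _ | k := k
          · simp at hk; omega
          · rw [pow_succ] at hk
            have := Nat.odd_iff.mp hodd
            omega
        · rintro ⟨k, hk⟩
          by_cases hk2 : 2 ≤ k
          · obtain ⟨x, hx, hall⟩ := unique_sylow_two hodd k hk2 (Or.inr hk) Q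
            exact key x hx hall
          · have hk01 : k = 0 ∨ k = 1 := by omega
            rcases hk01 with rfl | rfl
            · simp at hk
              have := Nat.odd_iff.mp hodd
              omega
            · have hq3 : Fintype.card F + 1 = 2 ^ 2 := by rw [hk]; norm_num
              obtain ⟨x, hx, hall⟩ := unique_sylow_two hodd 2 le_rfl (Or.inl hq3) Q
              exact key x hx hall
      · exfalso
        obtain ⟨x, hx, hall⟩ := unique_sylow_odd p hp2 hpq Q
        exact key x hx hall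
  · rintro ⟨rfl, h1, h2, h3⟩
    have hodd : Odd (Fintype.card F) := by
      rw [hq]
      apply Odd.pow
      rcases hrp.eq_two_or_odd' with h | h
      · exfalso; apply h2; exact ⟨n, by rw [hq, h]⟩
      · exact h
    obtain ⟨Q⟩ : Nonempty (Sylow 2 (Matrix.SpecialLinearGroup (Fin 2) F)) := inferInstance
    exact ⟨Q, fun x hx => redundant_two hodd h1 h3 Q x hx⟩

end Cfsg.Agent.S4357
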