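import Cfsg.Statements.S4356
import Cfsg.Agent.S4357

set_option autoImplicit false
open Cfsg

namespace Cfsg.Agent.S4356

section aux

/-- A central element of `p`-power order lies in every Sylow `p`-subgroup. -/
theorem central_pow_mem_sylow {G : Type*} [Group G] {p : ℕ} [Fact p.Prime] (P : Sylow p G) (z : G)
    (hz : z ∈ Subgroup.center G) (m : ℕ) (hm : z ^ p ^ m = 1) : z ∈ P := by
  have hnorm : (Subgroup.zpowers z).Normal := by
    constructor
    intro n hn g
    have hnc : n ∈ Subgroup.center G := (Subgroup.zpowers_le.mpr hz) hn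
    rw [Subgroup.mem_center_iff] at hnc
    have h1 : g * n * g⁻¹ = n := by
      rw [hnc g]; group
    rw [h1]; exact hn
  have hpg : IsPGroup p (Subgroup.zpowers z) := by
    rintro ⟨y, hy⟩
    obtain ⟨i, rfl⟩ := Subgroup.mem_zpowers_iff.mp hy
    refine ⟨m, Subtype.ext ?_⟩
    show (z ^ i) ^ p ^ m = 1
    rw [← zpow_natCast, ← zpow_mul, mul_comm, zpow_mul, zpow_natCast, hm, one_zpow]
  exact hpg.le_sylow_of_normal P (Subgroup.mem_zpowers z)

/-- If `x = a z` with `z` central and `a`, `x` of `p`-power order, then `z` has `p`-power order. -/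
theorem central_factor_pow {G : Type*} [Group G] {p : ℕ} (x a z : G)
    (hz : z ∈ Subgroup.center G) (hx : x = a * z) (i j : ℕ) (ha : a ^ p ^ i = 1)
    (hxj : x ^ p ^ j = 1) : z ^ p ^ (i + j) = 1 := by
  have hc : Commute a z := (Subgroup.mem_center_iff.mp hz a)
  have h1 : x ^ p ^ (i + j) = a ^ p ^ (i + j) * z ^ p ^ (i + j) := by
    rw [hx, hc.mul_pow]
  have h2 : x ^ p ^ (i + j) = 1 := by
    rw [pow_add, mul_comm, pow_mul, hxj, one_pow]
  have h3 : a ^ p ^ (i + j) = 1 := by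
    rw [pow_add, pow_mul, ha, one_pow]
  rw [h2, h3, one_mul] at h1
  exact h1.symm

/-- Redundant Sylow subgroups pull back along a central surjection. -/
theorem redundant_of_map {G H : Type*} [Group G] [Group H] [Finite G] (p : ℕ) [Fact p.Prime]
    (f : G →* H) (hf : Function.Surjective f) (hker : f.ker ≤ Subgroup.center G)
    (h : ∃ Q : Sylow p H, ∀ x : H, (∃ k : ℕ, orderOf x = p ^ k) →
      ∃ P : Sylow p H, P ≠ Q ∧ x ∈ P) :
    ∃ Q : Sylow p G, ∀ x : G, (∃ k : ℕ, orderOf x = p ^ k) → ∃ P : Sylow p G, P ≠ Q ∧ x ∈ P := by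
  obtain ⟨Qb, hQb⟩ := h
  obtain ⟨Q, rfl⟩ := Sylow.mapSurjective_surjective hf p Qb
  refine ⟨Q, fun x ⟨k, hk⟩ => ?_⟩
  have hfx : ∃ j : ℕ, orderOf (f x) = p ^ j := by
    have h1 : orderOf (f x) ∣ p ^ k := hk ▸ orderOf_map_dvd f x
    obtain ⟨j, -, hj⟩ := (Nat.dvd_prime_pow Fact.out).mp h1
    exact ⟨j, hj⟩
  obtain ⟨Pb, hne, hxPb⟩ := hQb (f x) hfx
  obtain ⟨P, rfl⟩ := Sylow.mapSurjective_surjective hf p Pb
  refine ⟨P, fun h => hne (by rw [h]), ?_⟩
  have h2 : f x ∈ (P : Subgroup G).map f := hxPb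
  obtain ⟨a, haP, hax⟩ := Subgroup.mem_map.mp h2
  have hz : a⁻¹ * x ∈ f.ker := by
    rw [MonoidHom.mem_ker, map_mul, map_inv, hax, inv_mul_cancel]
  have hzc := hker hz
  obtain ⟨i, hi⟩ := P.isPGroup' ⟨a, haP⟩
  have hi' : a ^ p ^ i = 1 := by simpa using congrArg Subtype.val hi
  have hxk : x ^ p ^ k = 1 := by rw [← hk]; exact pow_orderOf_eq_one x
  have hzp := central_factor_pow x a (a⁻¹ * x) hzc (by group) i k hi' hxk
  have hzP := central_pow_mem_sylow P _ hzc _ hzp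
  have h3 : x = a * (a⁻¹ * x) := by group
  rw [h3]; exact mul_mem haP hzP

/-- Redundant Sylow subgroups push forward along a central surjection. -/
theorem redundant_map {G H : Type*} [Group G] [Group H] [Finite G] (p : ℕ) [Fact p.Prime]
    (f : G →* H) (hf : Function.Surjective f) (hker : f.ker ≤ Subgroup.center G)
    (h : ∃ Q : Sylow p G, ∀ x : G, (∃ k : ℕ, orderOf x = p ^ k) →
      ∃ P : Sylow p G, P ≠ Q ∧ x ∈ P) :
    ∃ Q : Sylow p H, ∀ x : H, (∃ k : ℕ, orderOf x = p ^ k) → ∃ P : Sylow p H, P ≠ Q ∧ x ∈ P := by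
  obtain ⟨Q, hQ⟩ := h
  refine ⟨Q.mapSurjective hf, fun xb ⟨k, hk⟩ => ?_⟩
  have hpg : IsPGroup p (Subgroup.zpowers xb) :=
    IsPGroup.of_card (n := k) (by rw [Nat.card_zpowers, hk])
  obtain ⟨Pb', hPb'⟩ := hpg.exists_le_sylow
  obtain ⟨P', rfl⟩ := Sylow.mapSurjective_surjective hf p Pb'
  have hxb : xb ∈ (P' : Subgroup G).map f := hPb' (Subgroup.mem_zpowers xb)
  obtain ⟨x, hxP', rfl⟩ := Subgroup.mem_map.mp hxb
  obtain ⟨j, hj⟩ := (IsPGroup.iff_orderOf.mp P'.isPGroup') ⟨x, hxP'⟩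
  rw [Subgroup.orderOf_mk] at hj
  obtain ⟨P, hne, hxP⟩ := hQ x ⟨j, hj⟩
  refine ⟨P.mapSurjective hf, ?_, ?_⟩
  · intro heq
    apply hne
    have hle : (P : Subgroup G) ≤ (Q : Subgroup G) := by
      intro a haP
      have h1 : f a ∈ (Q : Subgroup G).map f := by
        have h0 : f a ∈ (P.mapSurjective hf : Sylow p H) := Subgroup.mem_map_of_mem f haP
        rw [heq] at h0; exact h0
      obtain ⟨b, hbQ, hba⟩ := Subgroup.mem_map.mp h1
      have hz : b⁻¹ * a ∈ f.ker := by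
        rw [MonoidHom.mem_ker, map_mul, map_inv, hba, inv_mul_cancel]
      have hzc := hker hz
      obtain ⟨i, hi⟩ := Q.isPGroup' ⟨b, hbQ⟩
      have hi' : b ^ p ^ i = 1 := by simpa using congrArg Subtype.val hi
      obtain ⟨i2, hi2⟩ := P.isPGroup' ⟨a, haP⟩
      have hi2' : a ^ p ^ i2 = 1 := by simpa using congrArg Subtype.val hi2
      have hzp := central_factor_pow a b (b⁻¹ * a) hzc (by group) i i2 hi' hi2'
      have hzQ := central_pow_mem_sylow Q _ hzc _ hzp
      have h3 : a = b * (b⁻¹ * a) := by group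
      rw [h3]; exact mul_mem hbQ hzQ
    exact (Sylow.ext (P.is_maximal' Q.isPGroup' hle)).symm
  · exact Subgroup.mem_map_of_mem f hxP

end aux

/-- Let F be a finite field with q elements, p a prime and G = PSL(2, F). Say a Sylow p-subgroup Q of G is redundant when every element of p-power order lies in some Sylow p-subgroup other than Q. Then G has a redundant Sylow p-subgroup if and only if p = 2 and q is not of any of the forms 2ᵏ - 1, 2ᵏ, 2ᵏ + 1. -/
theorem result {F : Type*} [Field F] [Fintype F] (p : ℕ) [Fact p.Prime] :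
    (∃ Q : Sylow p (Matrix.ProjectiveSpecialLinearGroup (Fin 2) F), ∀ x : Matrix.ProjectiveSpecialLinearGroup (Fin 2) F,
        (∃ k : ℕ, orderOf x = p ^ k) → ∃ P : Sylow p (Matrix.ProjectiveSpecialLinearGroup (Fin 2) F), P ≠ Q ∧ x ∈ P) ↔
      (p = 2 ∧ (¬ ∃ k : ℕ, Fintype.card F + 1 = 2 ^ k) ∧ (¬ ∃ k : ℕ, Fintype.card F = 2 ^ k) ∧
        ¬ ∃ k : ℕ, Fintype.card F = 2 ^ k + 1) := by
  classical
  rw [← Cfsg.Agent.S4357.result (F := F) p]
  have hf : Function.Surjective (QuotientGroup.mk' (Subgroup.center (Matrix.SpecialLinearGroup (Fin 2) F))) :=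
    QuotientGroup.mk'_surjective _
  have hker : (QuotientGroup.mk' (Subgroup.center (Matrix.SpecialLinearGroup (Fin 2) F))).ker ≤
      Subgroup.center (Matrix.SpecialLinearGroup (Fin 2) F) := by
    rw [QuotientGroup.ker_mk']
  exact ⟨redundant_of_map p _ hf hker, redundant_map p _ hf hker⟩

end Cfsg.Agent.S4356
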