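import Cfsg.Statements.S4394
import Mathlib
import Cfsg.Agent.Helper10.SchA
import Cfsg.Agent.Helper10.SchC
import Cfsg.Agent.Helper63.PLength
import Cfsg.Agent.Helper55.TwoClosed
import Cfsg.Agent.Helper32.PSolvable
import Cfsg.Agent.Helper24.PLen

set_option autoImplicit false
open Cfsg

namespace Cfsg.Agent.S4394

open Cfsg.Agent.Helper63.PLen

/-- Let X be a finite minimal non-nilpotent group (not nilpotent, every proper subgroup nilpotent) with a nontrivial normal Sylow p-subgroup P. If G is a finite p-solvable group whose Sylow p-subgroups are isomorphic to P, then G has p-length at most 1. -/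
theorem result {G X : Type*} [Group G] [Finite G] [Group X] [Finite X] (p : ℕ) [Fact p.Prime]
    (hX : Cfsg.IsMinimalNonNilpotent X) (P : Sylow p X) (hPn : (P : Subgroup X).Normal) (hP1 : (P : Subgroup X) ≠ ⊥)
    (hG : Cfsg.IsPSolvable p G) (Q : Sylow p G) (hQ : Nonempty (↥(Q : Subgroup G) ≃* ↥(P : Subgroup X))) : Cfsg.PLengthLE p 1 G := by
  classical
  have hp : p.Prime := Fact.out
  obtain ⟨hnil, hsub⟩ := hX
  have hSP := Cfsg.Agent.Helper10.schProp_of_schmidt p hnil hsub P hPn hP1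
  obtain ⟨e⟩ := hQ
  have hSQ : Cfsg.Agent.Helper10.SchProp p ↥(Q : Subgroup G) := hSP.of_equiv e.symm
  have hf : Function.Surjective (QuotientGroup.mk' (pPrimeCore p G)) :=
    QuotientGroup.mk'_surjective _
  have hsol1 : Cfsg.IsPSolvable p (G ⧸ pPrimeCore p G) :=
    Cfsg.Agent.Helper32.isPSolvable_quotient hp hG _
  have hred : pPrimeCore p (G ⧸ pPrimeCore p G) = ⊥ :=
    Cfsg.Agent.Helper55.pPrimeCore_quotient_eq_bot p G
  have hQbar : ((Q.mapSurjective hf : Sylow p (G ⧸ pPrimeCore p G)) :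
      Subgroup (G ⧸ pPrimeCore p G)) = (Q : Subgroup G).map (QuotientGroup.mk' _) :=
    Sylow.coe_mapSurjective hf Q
  let φ : ↥(Q : Subgroup G) →* ↥((Q.mapSurjective hf : Sylow p (G ⧸ pPrimeCore p G)) :
      Subgroup (G ⧸ pPrimeCore p G)) :=
    ((QuotientGroup.mk' (pPrimeCore p G)).comp (Q : Subgroup G).subtype).codRestrict _
      (fun u => by
        rw [hQbar]
        exact ⟨u, u.2, rfl⟩)
  have hφbij : Function.Bijective φ := by
    constructor
    · rw [injective_iff_map_eq_one]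
      intro u hu
      have h1 : QuotientGroup.mk' (pPrimeCore p G) (u : G) = 1 := congrArg Subtype.val hu
      have h2 : (u : G) ∈ pPrimeCore p G := (QuotientGroup.eq_one_iff _).mp h1
      obtain ⟨k, hk⟩ := Q.isPGroup' u
      have hk' : (u : G) ^ p ^ k = 1 := by
        have := congrArg Subtype.val hk
        simpa using this
      have h3 : (u : G) ^ Nat.card (pPrimeCore p G) = 1 := by
        have := pow_card_eq_one' (G := ↥(pPrimeCore p G)) (x := ⟨u, h2⟩)
        exact congrArg Subtype.val this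
      have hco : (p ^ k).Coprime (Nat.card (pPrimeCore p G)) :=
        Nat.Coprime.pow_left k (Cfsg.Agent.Helper24.coprime_card_pPrimeCore p).symm
      have h4 := (pow_gcd_eq_one (a := (u : G))).mpr ⟨hk', h3⟩
      rw [Nat.Coprime.gcd_eq_one hco, pow_one] at h4
      exact Subtype.ext h4
    · rintro ⟨z, hz⟩
      have hz' : z ∈ (Q : Subgroup G).map (QuotientGroup.mk' (pPrimeCore p G)) := by
        rw [← hQbar]
        exact hz
      obtain ⟨u, hu, rfl⟩ := hz'
      exact ⟨⟨u, hu⟩, rfl⟩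
  have hSQbar : Cfsg.Agent.Helper10.SchProp p
      ↥((Q.mapSurjective hf : Sylow p (G ⧸ pPrimeCore p G)) : Subgroup (G ⧸ pPrimeCore p G)) :=
    hSQ.of_equiv (MulEquiv.ofBijective φ hφbij)
  have hle := Cfsg.Agent.Helper10.sch_sylow_le_pCore hsol1 hred (Q.mapSurjective hf) hSQbar
  have hmain : (Nat.card ((G ⧸ pPrimeCore p G) ⧸ pCore p (G ⧸ pPrimeCore p G))).Coprime p := by
    rw [← Subgroup.index_eq_card]
    have h1 : (pCore p (G ⧸ pPrimeCore p G)).index ∣
        ((Q.mapSurjective hf : Sylow p (G ⧸ pPrimeCore p G)) :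
          Subgroup (G ⧸ pPrimeCore p G)).index := Subgroup.index_dvd_of_le hle
    have h2 : ¬ p ∣ ((Q.mapSurjective hf : Sylow p (G ⧸ pPrimeCore p G)) :
        Subgroup (G ⧸ pPrimeCore p G)).index := (Q.mapSurjective hf).not_dvd_index
    rw [Nat.coprime_comm, Nat.Prime.coprime_iff_not_dvd hp]
    intro h3
    exact h2 (h3.trans h1)
  have h0 : PLengthLE p 0 ((G ⧸ pPrimeCore p G) ⧸ pCore p (G ⧸ pPrimeCore p G)) :=
    pLengthLE_of_coprime p hmain
  have h1 : PLengthLE p 1 ↥(pCore p (G ⧸ pPrimeCore p G)) :=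
    pLengthLE_one_of_isPGroup p (Cfsg.Agent.Helper24.isPGroup_pCore p _)
  have h2 := pLengthLE_extension p (pCore p (G ⧸ pPrimeCore p G)) h1 h0
  have h3 : PLengthLE p 0 ↥(pPrimeCore p G) :=
    pLengthLE_of_coprime p (Cfsg.Agent.Helper24.coprime_card_pPrimeCore p)
  have h4 := pLengthLE_extension p (pPrimeCore p G) h3 h2
  exact h4

end Cfsg.Agent.S4394
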