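import Cfsg.Statements.S4419
import Cfsg.Agent.Helper35.Burnside
import Cfsg.Agent.Helper33.Frobenius
import Cfsg.Agent.Helper32.PPrime
import Cfsg.Agent.Helper51.PCore

set_option autoImplicit false
open Cfsg

namespace Cfsg.Agent.S4419

open Subgroup

/-- A subgroup of a metacyclic group is generated by two of its elements. -/
theorem exists_two_gens_of_isMetacyclic {R : Type*} [Group R] (hR : Cfsg.IsMetacyclic R)
    (Q : Subgroup R) : ∃ a ∈ Q, ∃ b ∈ Q, Q ≤ zpowers a ⊔ zpowers b := by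
  obtain ⟨N, hN, hNc, hRc⟩ := hR
  have h1 : ∃ a ∈ Q ⊓ N, Q ⊓ N ≤ zpowers a := by
    have hc : IsCyclic ↥((Q ⊓ N).subgroupOf N) := inferInstance
    obtain ⟨g, hg⟩ := hc.exists_generator
    refine ⟨((g : ↥N) : R), Subgroup.mem_subgroupOf.mp g.2, ?_⟩
    intro x hx
    have hxN : x ∈ N := hx.2
    obtain ⟨k, hk⟩ := Subgroup.mem_zpowers_iff.mp
      (hg ⟨⟨x, hxN⟩, Subgroup.mem_subgroupOf.mpr hx⟩)
    rw [Subgroup.mem_zpowers_iff]
    refine ⟨k, ?_⟩
    have := congrArg (fun y : ↥((Q ⊓ N).subgroupOf N) => ((y : ↥N) : R)) hk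
    simpa using this
  obtain ⟨a, haQN, ha⟩ := h1
  have h2 : ∃ b ∈ Q, ∀ x ∈ Q, ∃ k : ℤ,
      QuotientGroup.mk' N x = QuotientGroup.mk' N (b ^ k) := by
    have hc : IsCyclic ↥(Q.map (QuotientGroup.mk' N)) := inferInstance
    obtain ⟨g, hg⟩ := hc.exists_generator
    obtain ⟨b, hb, hbg⟩ := g.2
    refine ⟨b, hb, fun x hx => ?_⟩
    obtain ⟨k, hk⟩ := Subgroup.mem_zpowers_iff.mp
      (hg ⟨QuotientGroup.mk' N x, Subgroup.mem_map_of_mem _ hx⟩)
    refine ⟨k, ?_⟩
    have := congrArg Subtype.val hk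
    rw [map_zpow, hbg]
    simpa using this.symm
  obtain ⟨b, hbQ, hb⟩ := h2
  refine ⟨a, haQN.1, b, hbQ, ?_⟩
  intro x hx
  obtain ⟨k, hk⟩ := hb x hx
  have h3 : (b ^ k)⁻¹ * x ∈ N := QuotientGroup.eq.mp hk.symm
  have h4 : (b ^ k)⁻¹ * x ∈ Q ⊓ N :=
    ⟨Q.mul_mem (Q.inv_mem (Q.zpow_mem hbQ k)) hx, h3⟩
  have h5 : x = b ^ k * ((b ^ k)⁻¹ * x) := by group
  rw [h5]
  exact Subgroup.mul_mem _ (Subgroup.mem_sup_right (Subgroup.zpow_mem _ (mem_zpowers b) k))
    (Subgroup.mem_sup_left (ha h4))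

/-- Let p be a prime and G a finite group whose Sylow p-subgroups are metacyclic (a cyclic normal subgroup with cyclic quotient). Then G has a normal p-complement if and only if the order of G/O_{p′,p}(G) is coprime to p² − 1. -/
theorem result {G : Type*} [Group G] [Finite G] (p : ℕ) [Fact p.Prime] (S : Sylow p G) (hS : Cfsg.IsMetacyclic ↥(S : Subgroup G)) : Cfsg.HasNormalPComplement p G ↔ Nat.Coprime (Nat.card (G ⧸ Cfsg.pPrimePCore p G)) (p ^ 2 - 1) := by
  have hpp : p.Prime := Fact.out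
  have hWn : (Cfsg.pPrimePCore p G).Normal := Helper32.pPrimePCore_normal' p G
  have hKn : (Cfsg.pPrimeCore p G).Normal := Cfsg.pPrimeCore_normal p G
  constructor
  · rintro ⟨P, N, hN, hc⟩
    have hNc : (Nat.card N).Coprime p := by
      rw [Nat.coprime_comm, Nat.Prime.coprime_iff_not_dvd hpp, ← hc.index_eq_card]
      exact P.not_dvd_index
    have hNle : N ≤ Cfsg.pPrimeCore p G := le_sSup ⟨hN, hNc⟩
    have hidx : ∃ j, (Cfsg.pPrimeCore p G).index = p ^ j := by
      obtain ⟨k, hk⟩ := IsPGroup.iff_card.mp P.isPGroup'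
      have h1 : N.index = p ^ k := by rw [hc.symm.index_eq_card, hk]
      have h2 : (Cfsg.pPrimeCore p G).index ∣ p ^ k := by
        rw [← h1]; exact Subgroup.index_dvd_of_le hNle
      obtain ⟨j, -, hj⟩ := (Nat.dvd_prime_pow hpp).mp h2
      exact ⟨j, hj⟩
    obtain ⟨j, hj⟩ := hidx
    have hQp : IsPGroup p (G ⧸ Cfsg.pPrimeCore p G) := by
      apply IsPGroup.of_card (n := j)
      rw [← Subgroup.index_eq_card]; exact hj
    have htop : Cfsg.pPrimePCore p G = ⊤ := by
      rw [eq_top_iff]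
      intro g _
      show g ∈ (Cfsg.pCore p (G ⧸ Cfsg.pPrimeCore p G)).comap
        (QuotientGroup.mk' (Cfsg.pPrimeCore p G))
      rw [Subgroup.mem_comap]
      have h1 : (⊤ : Subgroup (G ⧸ Cfsg.pPrimeCore p G)) ≤
          Cfsg.pCore p (G ⧸ Cfsg.pPrimeCore p G) :=
        Helper51.le_pCore ⊤ inferInstance (hQp.to_subgroup ⊤)
      exact h1 (Subgroup.mem_top _)
    rw [htop, ← Subgroup.index_eq_card, Subgroup.index_top]
    exact Nat.coprime_one_left _
  · intro hcop
    suffices key : ∀ Q : Subgroup G, Q ≤ (S : Subgroup G) → ∀ g ∈ normalizer (Q : Set G),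
        (orderOf g).Coprime p → g ∈ centralizer (Q : Set G) by
      obtain ⟨N, hNn, hNc⟩ := Helper33.frobenius_isComplement' S key
      exact ⟨S, N, hNn, hNc⟩
    intro Q hQS g hg hgo
    have hQp : IsPGroup p Q := S.isPGroup'.to_le hQS
    obtain ⟨a', ha', b', hb', hab'⟩ := exists_two_gens_of_isMetacyclic hS (Q.subgroupOf S)
    have haQ : (a' : G) ∈ Q := Subgroup.mem_subgroupOf.mp ha'
    have hbQ : (b' : G) ∈ Q := Subgroup.mem_subgroupOf.mp hb'
    have habQ : Q ≤ zpowers (a' : G) ⊔ zpowers (b' : G) := by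
      intro y hy
      have h1 : (⟨y, hQS hy⟩ : ↥(S : Subgroup G)) ∈ zpowers a' ⊔ zpowers b' :=
        hab' (Subgroup.mem_subgroupOf.mpr hy)
      have h2 : (zpowers a' ⊔ zpowers b').map (S : Subgroup G).subtype =
          zpowers (a' : G) ⊔ zpowers (b' : G) := by
        rw [Subgroup.map_sup, MonoidHom.map_zpowers, MonoidHom.map_zpowers]
        rfl
      rw [← h2]
      exact ⟨_, h1, rfl⟩
    have hzN : zpowers g ≤ normalizer (Q : Set G) := by
      rw [zpowers_le]; exact hg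
    refine Helper66.mem_of_prime_pow_parts_mem (centralizer (Q : Set G)) (orderOf g) g rfl ?_
    intro y hy q k hq hyo
    have hyN : y ∈ normalizer (Q : Set G) := hzN hy
    have hyq : y ^ (q ^ k) = 1 := by rw [← hyo]; exact pow_orderOf_eq_one y
    rcases Nat.eq_zero_or_pos k with hk0 | hkpos
    · subst hk0
      rw [pow_zero, orderOf_eq_one_iff] at hyo
      rw [hyo]; exact Subgroup.one_mem _
    have hyop : (orderOf y).Coprime p :=
      Nat.Coprime.coprime_dvd_left (orderOf_dvd_of_mem_zpowers hy) hgo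
    have hqp : q ≠ p := by
      rintro rfl
      rw [hyo] at hyop
      have h1 : q ∣ q ^ k := dvd_pow_self q hkpos.ne'
      have h2 : q ∣ Nat.gcd (q ^ k) q := Nat.dvd_gcd h1 dvd_rfl
      rw [hyop] at h2
      exact hq.one_lt.ne' (Nat.dvd_one.mp h2)
    rw [Subgroup.mem_centralizer_iff]
    by_cases hq2 : q ∣ p ^ 2 - 1
    · -- `y` lies in `O_{p',p}(G)`, hence in `O_{p'}(G)`
      have hcq : (q ^ k).Coprime (Nat.card (G ⧸ Cfsg.pPrimePCore p G)) := by
        apply Nat.Coprime.pow_left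
        rw [Nat.Prime.coprime_iff_not_dvd hq]
        intro hd
        have h1 : q ∣ Nat.gcd (Nat.card (G ⧸ Cfsg.pPrimePCore p G)) (p ^ 2 - 1) :=
          Nat.dvd_gcd hd hq2
        rw [hcop] at h1
        exact hq.one_lt.ne' (Nat.dvd_one.mp h1)
      have hyW : y ∈ Cfsg.pPrimePCore p G := by
        rw [← QuotientGroup.eq_one_iff, ← orderOf_eq_one_iff]
        apply Nat.eq_one_of_dvd_coprimes hcq
        · apply orderOf_dvd_of_pow_eq_one
          rw [← QuotientGroup.mk_pow, hyq]; rfl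
        · exact orderOf_dvd_natCard _
      obtain ⟨j, hj⟩ := Helper32.relIndex_pPrimeCore_pPrimePCore p G
      have hcq' : (q ^ k).Coprime
          (Nat.card (↥(Cfsg.pPrimePCore p G) ⧸
            (Cfsg.pPrimeCore p G).subgroupOf (Cfsg.pPrimePCore p G))) := by
        rw [← Subgroup.index_eq_card]
        have : ((Cfsg.pPrimeCore p G).subgroupOf (Cfsg.pPrimePCore p G)).index = p ^ j := hj
        rw [this]
        exact Nat.Coprime.pow _ _ ((Nat.coprime_primes hq hpp).mpr hqp)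
      have hyK : y ∈ Cfsg.pPrimeCore p G := by
        have h1 : (⟨y, hyW⟩ : ↥(Cfsg.pPrimePCore p G)) ∈
            (Cfsg.pPrimeCore p G).subgroupOf (Cfsg.pPrimePCore p G) := by
          rw [← QuotientGroup.eq_one_iff, ← orderOf_eq_one_iff]
          apply Nat.eq_one_of_dvd_coprimes hcq'
          · apply orderOf_dvd_of_pow_eq_one
            rw [← QuotientGroup.mk_pow]
            have : (⟨y, hyW⟩ : ↥(Cfsg.pPrimePCore p G)) ^ (q ^ k) = 1 := Subtype.ext hyq
            rw [this]; rfl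
          · exact orderOf_dvd_natCard _
        exact Subgroup.mem_subgroupOf.mp h1
      intro z hz
      have h1 : y * z * y⁻¹ * z⁻¹ ∈ Q :=
        Q.mul_mem ((Subgroup.mem_normalizer_iff.mp hyN z).mp hz) (Q.inv_mem hz)
      have h2 : y * z * y⁻¹ * z⁻¹ ∈ Cfsg.pPrimeCore p G := by
        have e : y * z * y⁻¹ * z⁻¹ = y * (z * y⁻¹ * z⁻¹) := by group
        rw [e]
        exact Subgroup.mul_mem _ hyK (hKn.conj_mem _ (Subgroup.inv_mem _ hyK) z)
      have h3 := Helper32.eq_one_of_mem_pGroup_of_mem_pPrimeCore hQp h1 h2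
      have e : z * y = (y * z * y⁻¹ * z⁻¹)⁻¹ * (y * z) := by group
      rw [e, h3, inv_one, one_mul]
    · intro z hz
      exact (Helper35.centralizes_of_two_gens hQp haQ hbQ habQ hq hqp hq2 hyN hyq z hz).symm

end Cfsg.Agent.S4419
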