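import Cfsg.Statements.S4625
import Cfsg.Agent.Helper17.GoodSyl
import Cfsg.Agent.Helper17.GSCH
import Cfsg.Agent.Helper17.GSTwMain
import Cfsg.Agent.Helper91.GSSL
import Cfsg.Agent.Helper53.GSSU
import Cfsg.Agent.Helper4.GSSZ
import Cfsg.Agent.Helper33.GSSP
import Cfsg.Agent.Helper61.GSOP
import Cfsg.Agent.Helper42.GSOM
import Cfsg.Agent.Helper17.GSTF

set_option autoImplicit false
open Cfsg

namespace Cfsg.Agent.S4625

/-- Let G be a finite simple group of Lie type in characteristic 2, not counting the Tits group ²F₄(2)′. Then a Sylow 2-subgroup P of G has P/P' elementary abelian: the square of every element of P lies in the derived subgroup of P. -/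
theorem result {G : Type*} [Group G] [Finite G] [IsSimpleGroup G] (hG : Cfsg.IsLieTypeChar 2 G) (P : Sylow 2 G) :
    ∀ x : (P : Subgroup G), x ^ 2 ∈ commutator (P : Subgroup G) := by
  have key : Cfsg.Agent.Helper17.GoodSyl2 G := by
    rcases hG with h | h | h | h | h | h | h | h | h | h | h
    · obtain ⟨F, _, _, _, n, hn, -, ⟨e⟩⟩ := h
      exact (Cfsg.Agent.Helper91.goodSyl2_PSL F n hn).of_mulEquiv e.symm
    · obtain ⟨F, _, _, _, m, hm, -, ⟨e⟩⟩ := h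
      exact (Cfsg.Agent.Helper33.goodSyl2_PSp F m hm).of_mulEquiv e.symm
    · obtain ⟨F, _, _, _, n, q, hF, hn, -, ⟨e⟩⟩ := h
      exact (Cfsg.Agent.Helper53.goodSyl2_PSU F n q hF hn).of_mulEquiv e.symm
    · obtain ⟨F, _, _, _, m, -, hodd, -⟩ := h
      exfalso
      obtain ⟨k, -, hk⟩ := FiniteField.card F 2
      rw [hk] at hodd
      have : Even (2 ^ (k : ℕ)) := (Nat.even_pow' k.ne_zero).mpr even_two
      exact (Nat.not_even_iff_odd.mpr hodd) this
    · obtain ⟨F, _, _, _, m, hm, ⟨e⟩⟩ := h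
      exact (Cfsg.Agent.Helper61.goodSyl2_POmegaPlus F m hm).of_mulEquiv e.symm
    · obtain ⟨F, _, _, _, m, a, b, hm, hab, ⟨e⟩⟩ := h
      exact (Cfsg.Agent.Helper42.goodSyl2_POmegaMinus F m a b hm hab).of_mulEquiv e.symm
    · obtain ⟨F, _, _, _, h⟩ := h
      rcases h with ⟨-, ⟨e⟩⟩ | ⟨⟨e⟩⟩ | ⟨⟨e⟩⟩ | ⟨⟨e⟩⟩ | ⟨⟨e⟩⟩
      · exact (Cfsg.Agent.Helper17.goodSyl2_chev Lie.chevG2 (by simp) F).of_mulEquiv e.symm
      · exact (Cfsg.Agent.Helper17.goodSyl2_chev Lie.chevF4 (by simp) F).of_mulEquiv e.symm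
      · exact (Cfsg.Agent.Helper17.goodSyl2_chev Lie.chevE6 (by simp) F).of_mulEquiv e.symm
      · exact (Cfsg.Agent.Helper17.goodSyl2_chev Lie.chevE7 (by simp) F).of_mulEquiv e.symm
      · exact (Cfsg.Agent.Helper17.goodSyl2_chev Lie.chevE8 (by simp) F).of_mulEquiv e.symm
    · obtain ⟨K, _, _, _, q, hq, h⟩ := h
      rcases h with ⟨hK, ⟨e⟩⟩ | ⟨hK, ⟨e⟩⟩
      · exact (Cfsg.Agent.Helper17.goodSyl2_twistedE6 K q hq hK).of_mulEquiv e.symm
      · exact (Cfsg.Agent.Helper17.goodSyl2_twistedD4 K q hq hK).of_mulEquiv e.symm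
    · obtain ⟨-, F, _, _, m, hm, hF, ⟨e⟩⟩ := h
      exact (Cfsg.Agent.Helper4.goodSyl2_Sz F m hm hF).of_mulEquiv e.symm
    · obtain ⟨-, K, _, _, m, hm, hK, ⟨e⟩⟩ := h
      exact (Cfsg.Agent.Helper17.goodSyl2_twistedF4 K m hm hK).of_mulEquiv e.symm
    · exact absurd h.1 (by norm_num)
  exact key.sylow P

end Cfsg.Agent.S4625
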