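import Cfsg.Statements.S4705
import Cfsg.Agent.Helper79.S4705Defs
import Cfsg.Agent.Helper79.Basic
import Cfsg.Agent.Helper79.S4705ATRIV
import Cfsg.Agent.Helper72.S4705RED
import Cfsg.Agent.Helper11.S4705LIFT
import Cfsg.Agent.Helper45.S4705SHAPE
import Cfsg.Agent.Helper82.S4705BLK
import Cfsg.Agent.Helper48.S4705TABL
import Cfsg.Agent.Helper48.S4705TAB1
import Cfsg.Agent.Helper9.S4705ORDER
import Cfsg.Agent.Helper61.S4705IDENT

set_option autoImplicit false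
open Cfsg

namespace Cfsg.Agent.S4705

open Cfsg.Agent.Helper79 in
/-- The perfect case: `H` perfect with `S4705Wk`. -/
theorem s4705_main {H : Type*} [Group H] [Finite H] (p : ℕ) [Fact p.Prime] (x : H)
    (ζ : H → ℂ) (h : S4705Wk p x ζ) (hperf : commutator H = ⊤) :
    Subgroup.center H = ⊥ ∧ (∃ t : H, t * x * t⁻¹ = x⁻¹) ∧
    ∃ (a : ℕ) (F : Type) (_ : Field F) (_ : Fintype F), p = 2 ^ a + 1 ∧
      Fintype.card F = 2 ^ a ∧ Nonempty (H ≃* Matrix.SpecialLinearGroup (Fin 2) F) := by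
  have S := Cfsg.Agent.Helper45.s4705_shape p x ζ h
  obtain ⟨χ₁, χ₂, c₁, c₂, ε, Y, B⟩ := Cfsg.Agent.Helper82.s4705_blk p x ζ h S ⟨ζ, h.hζ⟩
  obtain ⟨a, X₁, X₂, T⟩ := Cfsg.Agent.Helper48.s4705_tabL p x ζ h S χ₁ χ₂ c₁ c₂ ε Y B
  obtain ⟨χ₁', χ₂', c₁', c₂', ε', Y', B'⟩ :=
    Cfsg.Agent.Helper82.s4705_blk p x ζ h S ⟨fun _ => 1, Cfsg.Agent.Helper79.isIrrCharacter_one⟩
  obtain ⟨m, δ, X, T'⟩ :=
    Cfsg.Agent.Helper48.s4705_tab1 p x ζ h hperf S χ₁' χ₂' c₁' c₂' ε' Y' B'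
  have ha : a = 0 := Cfsg.Agent.Helper79.s4705_atriv p x ζ h hperf S a X₁ X₂ Y T m δ X Y' T'
  subst ha
  obtain ⟨hZ, hcard⟩ := Cfsg.Agent.Helper9.s4705_order p x ζ h hperf S X₁ X₂ Y T
  exact ⟨hZ, S.hinv,
    Cfsg.Agent.Helper61.s4705_ident p h.hp x h.hx hperf hZ S.hcent S.hinv hcard⟩

/-- Let G be a finite group with centre Z and p > 5 a prime such that a Sylow p-subgroup of G has order p and is not normal. If G has a faithful irreducible character of degree p − 2, then p = 2^a + 1 for some a and G is isomorphic to the direct product of SL(2, 2^a) with Z. -/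
theorem result {G : Type*} [Group G] [Finite G] (p : ℕ) [Fact p.Prime] (hp : 5 < p) (P : Sylow p G) (hP : Nat.card P = p) (hnn : ¬ (P : Subgroup G).Normal) (ζ : G → ℂ) (hζ : Cfsg.IsIrrCharacter G ζ) (hfaith : ∀ g : G, ζ g = ζ 1 → g = 1) (hdeg : Cfsg.charDegree ζ = p - 2) : ∃ (a : ℕ) (F : Type) (_ : Field F) (_ : Fintype F), p = 2 ^ a + 1 ∧ Fintype.card F = 2 ^ a ∧ Nonempty (G ≃* Matrix.SpecialLinearGroup (Fin 2) F × Subgroup.center G) := by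
  obtain ⟨H, x, hH, hperf, hW, hWG, hfrat⟩ :=
    Cfsg.Agent.Helper72.s4705_red p hp P hP hnn ζ hζ hfaith hdeg
  obtain ⟨hZ, hinv, a, F, iF, iFt, hpa, hcF, ⟨e⟩⟩ :=
    s4705_main p x (fun h : H => ζ (h : G)) hW hperf
  have SG := Cfsg.Agent.Helper45.s4705_shape p (x : G) ζ hWG
  obtain ⟨e'⟩ := Cfsg.Agent.Helper11.s4705_lift p ζ H hH x hfrat SG hinv hZ
  exact ⟨a, F, iF, iFt, hpa, hcF, ⟨e'.trans (MulEquiv.prodCongr e (MulEquiv.refl _))⟩⟩

end Cfsg.Agent.S4705
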