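import Cfsg.Statements.S4856
import Cfsg.Agent.Helper80.CharOrtho

set_option autoImplicit false
open Cfsg

namespace Cfsg.Agent.S4856

open Cfsg.Agent.Helper80

open scoped Classical

/-- Frobenius' formula with `z⁻¹` on the character side. -/
theorem count_inv {G : Type*} [Group G] [Fintype G] [Fintype (IrrCharacter G)] (z : G) :
    ((Finset.univ.filter (fun xy : G × G => xy.1 * xy.2 * xy.1⁻¹ * xy.2⁻¹ = z)).card : ℂ) =
      (Fintype.card G : ℂ) * ∑ χ : IrrCharacter G, (χ : G → ℂ) z⁻¹ / (χ : G → ℂ) 1 := by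
  have hG : (Fintype.card G : ℂ) ≠ 0 := by exact_mod_cast Fintype.card_ne_zero
  -- multiply by |G|
  have key : (Fintype.card G : ℂ) *
      ((Finset.univ.filter (fun xy : G × G => xy.1 * xy.2 * xy.1⁻¹ * xy.2⁻¹ = z)).card : ℂ) =
      (Fintype.card G : ℂ) *
        ((Fintype.card G : ℂ) * ∑ χ : IrrCharacter G, (χ : G → ℂ) z⁻¹ / (χ : G → ℂ) 1) := by
    have h1 : (Fintype.card G : ℂ) *
        ((Finset.univ.filter (fun xy : G × G => xy.1 * xy.2 * xy.1⁻¹ * xy.2⁻¹ = z)).card : ℂ) =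
        ∑ xy : G × G, ∑ χ : IrrCharacter G,
          (χ : G → ℂ) 1 * (χ : G → ℂ) (xy.1 * xy.2 * xy.1⁻¹ * xy.2⁻¹ * z⁻¹) := by
      rw [Finset.card_filter, Nat.cast_sum, Finset.mul_sum]
      apply Finset.sum_congr rfl
      intro xy _
      rw [irr_sum_degree_mul]
      have : xy.1 * xy.2 * xy.1⁻¹ * xy.2⁻¹ * z⁻¹ = 1 ↔ xy.1 * xy.2 * xy.1⁻¹ * xy.2⁻¹ = z := by
        rw [mul_inv_eq_one]
      by_cases hc : xy.1 * xy.2 * xy.1⁻¹ * xy.2⁻¹ = z
      · rw [if_pos hc, if_pos (this.mpr hc)]; simp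
      · rw [if_neg hc, if_neg (fun h => hc (this.mp h))]; simp
    rw [h1, Finset.sum_comm, Finset.mul_sum, Finset.mul_sum]
    apply Finset.sum_congr rfl
    intro χ _
    have hχ1 := irr_one_ne_zero χ
    rw [Fintype.sum_prod_type, Finset.sum_comm]
    have h2 : ∀ y : G, ∑ x : G, (χ : G → ℂ) 1 * (χ : G → ℂ) (x * y * x⁻¹ * y⁻¹ * z⁻¹) =
        (Fintype.card G : ℂ) * ((χ : G → ℂ) y * (χ : G → ℂ) (y⁻¹ * z⁻¹)) := by
      intro y
      rw [← Finset.mul_sum]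
      have : ∀ x : G, x * y * x⁻¹ * y⁻¹ * z⁻¹ = x * y * x⁻¹ * (y⁻¹ * z⁻¹) := by
        intro x; group
      rw [Finset.sum_congr rfl (fun x _ => congrArg (χ : G → ℂ) (this x)), irr_sum_conj_mul]
      field_simp
    rw [Finset.sum_congr rfl (fun y _ => h2 y), ← Finset.mul_sum]
    have h3 : ∑ y : G, (χ : G → ℂ) y * (χ : G → ℂ) (y⁻¹ * z⁻¹) =
        (Fintype.card G : ℂ) * (χ : G → ℂ) z⁻¹ / (χ : G → ℂ) 1 := by
      have := irr_conv χ χ z⁻¹
      rw [if_pos rfl] at this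
      rw [← this]
      rw [← Equiv.sum_comp (Equiv.inv G)]
      apply Finset.sum_congr rfl
      intro y _
      simp
    rw [h3]
    ring
  exact mul_left_cancel₀ hG key

theorem result {G : Type*} [Group G] [Finite G] (z : G) : (Nat.card {xy : G × G // xy.1 * xy.2 * xy.1⁻¹ * xy.2⁻¹ = z} : ℂ) = (Nat.card G : ℂ) * ∑ᶠ χ : Cfsg.IrrCharacter G, (χ : G → ℂ) z / (χ : G → ℂ) 1 := by
  letI := Fintype.ofFinite G
  letI := Fintype.ofFinite (IrrCharacter G)
  rw [finsum_eq_sum_of_fintype, Nat.card_eq_fintype_card (α := G)]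
  have h := count_inv (G := G) z⁻¹
  rw [inv_inv] at h
  rw [← h]
  congr 1
  rw [Nat.card_eq_fintype_card, Fintype.card_subtype]
  apply Finset.card_bij (fun (xy : G × G) _ => (xy.2, xy.1))
  · intro xy hxy
    rw [Finset.mem_filter] at hxy ⊢
    refine ⟨Finset.mem_univ _, ?_⟩
    have := hxy.2
    show xy.2 * xy.1 * xy.2⁻¹ * xy.1⁻¹ = z⁻¹
    rw [← this]
    group
  · intro a _ b _ hab
    have h1 := congrArg Prod.fst hab
    have h2 := congrArg Prod.snd hab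
    exact Prod.ext h2 h1
  · intro xy hxy
    rw [Finset.mem_filter] at hxy
    refine ⟨(xy.2, xy.1), ?_, rfl⟩
    rw [Finset.mem_filter]
    refine ⟨Finset.mem_univ _, ?_⟩
    have := hxy.2
    show xy.2 * xy.1 * xy.2⁻¹ * xy.1⁻¹ = z
    rw [← inv_inv z, ← this]
    group

end Cfsg.Agent.S4856
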