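import Cfsg.Statements.S4814
import Cfsg.Agent.S4856

set_option autoImplicit false
open Cfsg

namespace Cfsg.Agent.S4814

open Cfsg.Agent.Helper80

open scoped Classical

/-- The convolution of the two character sums. -/
theorem two_comm_sum {G : Type*} [Group G] [Fintype G] [Fintype (IrrCharacter G)] (g : G) :
    ∑ z : G, (∑ χ : IrrCharacter G, (χ : G → ℂ) z⁻¹ / (χ : G → ℂ) 1) *
        (∑ ψ : IrrCharacter G, (ψ : G → ℂ) (g⁻¹ * z) / (ψ : G → ℂ) 1) =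
      (Fintype.card G : ℂ) * ∑ χ : IrrCharacter G, (χ : G → ℂ) g⁻¹ / ((χ : G → ℂ) 1) ^ 3 := by
  simp_rw [Finset.sum_mul_sum]
  rw [Finset.sum_comm, Finset.mul_sum]
  apply Finset.sum_congr rfl
  intro χ _
  rw [Finset.sum_comm]
  have hχ1 := irr_one_ne_zero χ
  have h1 : ∀ ψ : IrrCharacter G,
      ∑ z : G, (χ : G → ℂ) z⁻¹ / (χ : G → ℂ) 1 * ((ψ : G → ℂ) (g⁻¹ * z) / (ψ : G → ℂ) 1) =
        if χ = ψ then (Fintype.card G : ℂ) * ((ψ : G → ℂ) g⁻¹ / ((ψ : G → ℂ) 1) ^ 3) else 0 := by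
    intro ψ
    have hψ1 := irr_one_ne_zero ψ
    have h2 : ∀ z : G, (χ : G → ℂ) z⁻¹ / (χ : G → ℂ) 1 * ((ψ : G → ℂ) (g⁻¹ * z) / (ψ : G → ℂ) 1) =
        ((χ : G → ℂ) 1)⁻¹ * ((ψ : G → ℂ) 1)⁻¹ * ((χ : G → ℂ) z⁻¹ * (ψ : G → ℂ) (z * g⁻¹)) := by
      intro z
      rw [isCharacter_mul_comm (isCharacter_of_irr ψ.2) z g⁻¹]
      field_simp
    rw [Finset.sum_congr rfl (fun z _ => h2 z), ← Finset.mul_sum, irr_conv]
    by_cases hc : χ = ψ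
    · rw [if_pos hc, if_pos hc, hc]
      field_simp
    · rw [if_neg hc, if_neg hc, mul_zero]
  rw [Finset.sum_congr rfl (fun ψ _ => h1 ψ), Finset.sum_ite_eq, if_pos (Finset.mem_univ χ)]

theorem result {G : Type*} [Group G] [Finite G]
    (h : ∑ᶠ χ : Cfsg.IrrCharacter G, 1 / ‖(χ : G → ℂ) 1‖ ^ 2 < (2 : ℝ)) (g : G) :
    ∃ a b c d : G, (a * b * a⁻¹ * b⁻¹) * (c * d * c⁻¹ * d⁻¹) = g := by
  letI := Fintype.ofFinite G
  letI := Fintype.ofFinite (IrrCharacter G)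
  rw [finsum_eq_sum_of_fintype] at h
  by_contra hne
  have hG : (Fintype.card G : ℂ) ≠ 0 := by exact_mod_cast Fintype.card_ne_zero
  -- the count of commutator pairs
  set n : G → ℕ := fun z =>
    (Finset.univ.filter (fun xy : G × G => xy.1 * xy.2 * xy.1⁻¹ * xy.2⁻¹ = z)).card with hn
  have hprod : ∀ z : G, (n z : ℂ) * (n (z⁻¹ * g) : ℂ) = 0 := by
    intro z
    by_contra hz
    have h1 : n z ≠ 0 := by
      intro h0; apply hz; rw [h0]; simp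
    have h2 : n (z⁻¹ * g) ≠ 0 := by
      intro h0; apply hz; rw [h0]; simp
    obtain ⟨ab, hab⟩ := Finset.card_pos.mp (Nat.pos_of_ne_zero h1)
    obtain ⟨cd, hcd⟩ := Finset.card_pos.mp (Nat.pos_of_ne_zero h2)
    rw [Finset.mem_filter] at hab hcd
    apply hne
    refine ⟨ab.1, ab.2, cd.1, cd.2, ?_⟩
    rw [hab.2, hcd.2]
    group
  have hsum : ∑ z : G, (n z : ℂ) * (n (z⁻¹ * g) : ℂ) = 0 :=
    Finset.sum_eq_zero (fun z _ => hprod z)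
  have hcount : ∀ z : G, (n z : ℂ) =
      (Fintype.card G : ℂ) * ∑ χ : IrrCharacter G, (χ : G → ℂ) z⁻¹ / (χ : G → ℂ) 1 :=
    fun z => Cfsg.Agent.S4856.count_inv z
  have h3 : ∑ z : G, (n z : ℂ) * (n (z⁻¹ * g) : ℂ) =
      (Fintype.card G : ℂ) ^ 3 * ∑ χ : IrrCharacter G, (χ : G → ℂ) g⁻¹ / ((χ : G → ℂ) 1) ^ 3 := by
    have h4 : ∀ z : G, (n z : ℂ) * (n (z⁻¹ * g) : ℂ) =
        (Fintype.card G : ℂ) ^ 2 * ((∑ χ : IrrCharacter G, (χ : G → ℂ) z⁻¹ / (χ : G → ℂ) 1) *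
          (∑ ψ : IrrCharacter G, (ψ : G → ℂ) (g⁻¹ * z) / (ψ : G → ℂ) 1)) := by
      intro z
      rw [hcount z, hcount (z⁻¹ * g)]
      have : (z⁻¹ * g)⁻¹ = g⁻¹ * z := by group
      rw [this]
      ring
    rw [Finset.sum_congr rfl (fun z _ => h4 z), ← Finset.mul_sum, two_comm_sum]
    ring
  rw [h3] at hsum
  have hS : ∑ χ : IrrCharacter G, (χ : G → ℂ) g⁻¹ / ((χ : G → ℂ) 1) ^ 3 = 0 := by
    rcases mul_eq_zero.mp hsum with h0 | h0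
    · exact absurd (pow_eq_zero_iff (n := 3) (by norm_num) |>.mp h0) hG
    · exact h0
  -- split off the principal character
  rw [← Finset.add_sum_erase Finset.univ _ (Finset.mem_univ (trivIrr G))] at hS
  have htriv : (trivIrr G : G → ℂ) g⁻¹ / ((trivIrr G : G → ℂ) 1) ^ 3 = 1 := by
    simp
  rw [htriv] at hS
  have hnorm : ‖∑ χ ∈ Finset.univ.erase (trivIrr G),
      (χ : G → ℂ) g⁻¹ / ((χ : G → ℂ) 1) ^ 3‖ = 1 := by
    have : ∑ χ ∈ Finset.univ.erase (trivIrr G), (χ : G → ℂ) g⁻¹ / ((χ : G → ℂ) 1) ^ 3 = -1 := by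
      linear_combination hS
    rw [this]; simp
  have hbound : ∀ χ : IrrCharacter G,
      ‖(χ : G → ℂ) g⁻¹ / ((χ : G → ℂ) 1) ^ 3‖ ≤ 1 / ‖(χ : G → ℂ) 1‖ ^ 2 := by
    intro χ
    have h1 := isCharacter_norm_le (isCharacter_of_irr χ.2) g⁻¹
    have h2 : ‖(χ : G → ℂ) 1‖ = (charDegree (χ : G → ℂ) : ℝ) := by
      rw [irr_one_eq χ]; simp
    have hpos : (0 : ℝ) < (charDegree (χ : G → ℂ) : ℝ) := by
      exact_mod_cast irr_degree_pos χ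
    rw [norm_div, norm_pow, h2]
    rw [div_le_div_iff₀ (by positivity) (by positivity)]
    nlinarith [sq_nonneg ((charDegree (χ : G → ℂ) : ℝ))]
  have h5 : (1 : ℝ) ≤ ∑ χ ∈ Finset.univ.erase (trivIrr G), 1 / ‖(χ : G → ℂ) 1‖ ^ 2 := by
    calc (1 : ℝ) = ‖∑ χ ∈ Finset.univ.erase (trivIrr G),
          (χ : G → ℂ) g⁻¹ / ((χ : G → ℂ) 1) ^ 3‖ := hnorm.symm
      _ ≤ ∑ χ ∈ Finset.univ.erase (trivIrr G), ‖(χ : G → ℂ) g⁻¹ / ((χ : G → ℂ) 1) ^ 3‖ :=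
          norm_sum_le _ _
      _ ≤ ∑ χ ∈ Finset.univ.erase (trivIrr G), 1 / ‖(χ : G → ℂ) 1‖ ^ 2 :=
          Finset.sum_le_sum (fun χ _ => hbound χ)
  have h6 : ∑ χ : IrrCharacter G, 1 / ‖(χ : G → ℂ) 1‖ ^ 2 =
      1 + ∑ χ ∈ Finset.univ.erase (trivIrr G), 1 / ‖(χ : G → ℂ) 1‖ ^ 2 := by
    rw [← Finset.add_sum_erase Finset.univ _ (Finset.mem_univ (trivIrr G))]
    simp
  rw [h6] at h
  linarith

end Cfsg.Agent.S4814
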