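import Cfsg.Statements.S5121
import Cfsg.Agent.Helper85.NsgE

set_option autoImplicit false
open Cfsg

namespace Cfsg.Agent.S5121

open Cfsg.FusionSystem Cfsg.Agent.Helper85 Cfsg.Agent.Helper88

/-- Let G be a finite group with Sylow p-subgroup S and C_G(O_p(G)) ≤ O_p(G). For every subgroup T ≤ S and every normal subsystem E over T of the fusion system of G on S there is exactly one normal subgroup H of G containing T as a Sylow p-subgroup whose fusion system on T is E. -/
theorem result {G : Type*} [Group G] [Finite G] (p : ℕ) [Fact p.Prime] (S : Sylow p G) (hG : Subgroup.centralizer ((Cfsg.pCore p G : Subgroup G) : Set G) ≤ Cfsg.pCore p G) (T : Subgroup G) (hTS : T ≤ S) (E : Cfsg.FusionSystem T) (hE : E.IsNormalIn (Cfsg.groupFusionSystem (S : Subgroup G)) p) : ∃ H : Subgroup G, (∃ hTH : T ≤ H, H.Normal ∧ (∃ R : Sylow p H, (R : Subgroup H) = T.subgroupOf H) ∧ ∀ P : Subgroup G, E.Hom P = (Cfsg.fusionSystemOfSubgroup H T hTH).Hom P) ∧ ∀ H' : Subgroup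 G, (∃ hTH' : T ≤ H', H'.Normal ∧ (∃ R : Sylow p H', (R : Subgroup H') = T.subgroupOf H') ∧ ∀ P : Subgroup G, E.Hom P = (Cfsg.fusionSystemOfSubgroup H' T hTH').Hom P) → H' = H := by
  have h : NsgHyp p S E := ⟨hG, hE⟩
  have hQS : pCore p G ≤ S := Helper51.pCore_le_sylow S
  have hQn := pCore_normal p G
  refine ⟨nsgH S E h, ⟨h.T_le_H, h.H_normal, h.T_sylow_H, fun P => ?_⟩, ?_⟩
  · ext φ
    rw [isMap_iff_hom, isMap_iff_hom]
    exact ⟨fun hφ => h.E_le_FH hφ, fun hφ => h.FH_le_E hφ⟩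
  · rintro H' ⟨hTH', hH'n, ⟨R', hR'⟩, hHom⟩
    have hIsMap : ∀ (P : Subgroup G) (f : G → G), IsMap (fusionSystemOfSubgroup H' T hTH') P f →
        IsMap E P f := by
      rintro P f ⟨φ, hφ, hf⟩
      exact ⟨φ, (Set.ext_iff.mp (hHom P) φ).mpr hφ, hf⟩
    have hIsMap' : ∀ (P : Subgroup G) (f : G → G), IsMap E P f →
        IsMap (fusionSystemOfSubgroup H' T hTH') P f := by
      rintro P f ⟨φ, hφ, hf⟩
      exact ⟨φ, (Set.ext_iff.mp (hHom P) φ).mp hφ, hf⟩
    -- `S ∩ H' = T`
    have hSH' : ∀ x ∈ H', x ∈ (S : Subgroup G) → x ∈ T := by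
      intro x hxH hxS
      have hY : IsPGroup p ↥(((S : Subgroup G) ⊓ H').subgroupOf H') :=
        (S.isPGroup'.to_le inf_le_left).comap_subtype
      have hle : (R' : Subgroup ↥H') ≤ ((S : Subgroup G) ⊓ H').subgroupOf H' := by
        rw [hR']
        intro y hy
        exact Subgroup.mem_subgroupOf.mpr ⟨hTS (Subgroup.mem_subgroupOf.mp hy), y.2⟩
      have heq := R'.is_maximal' hY hle
      have hx : (⟨x, hxH⟩ : ↥H') ∈ ((S : Subgroup G) ⊓ H').subgroupOf H' :=
        Subgroup.mem_subgroupOf.mpr ⟨hxS, hxH⟩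
      rw [heq, hR'] at hx
      exact Subgroup.mem_subgroupOf.mp hx
    -- `H' ≤ B`
    have hH'B : H' ≤ nsgB S E h := by
      intro x hx
      refine ⟨fun o ho => ?_, ?_⟩
      · have h1 : x * o * x⁻¹ * o⁻¹ ∈ pCore p G :=
          Subgroup.mul_mem _ (hQn.conj_mem o ho x) (Subgroup.inv_mem _ ho)
        refine ⟨h1, hSH' _ ?_ (hQS h1)⟩
        have e : x * o * x⁻¹ * o⁻¹ = x * (o * x⁻¹ * o⁻¹) := by group
        rw [e]
        exact H'.mul_mem hx (hH'n.conj_mem _ (H'.inv_mem hx) o)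
      · apply hIsMap
        rw [nsg_isMap_subFS_iff]
        exact ⟨inf_le_right, fun r hr => (h.R_conj x hr).2, x, hx, fun _ _ => rfl⟩
    -- `O^p(B) ≤ H'`
    have hKH' : nsgK S E h ≤ H' := by
      have hle : pResidual p ↥(nsgB S E h) ≤ H'.subgroupOf (nsgB S E h) := by
        unfold pResidual
        rw [Subgroup.closure_le]
        intro a ha
        have ha' : Nat.Coprime (orderOf a) p := ha
        have hEC : nsgEC E (pCore p G ⊓ T) (a : G) := a.2.2
        obtain ⟨-, -, h', hh', hh'a⟩ := (nsg_isMap_subFS_iff _ _ _ _ _).mp (hIsMap' _ _ hEC)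
        have hdB : h'⁻¹ * (a : G) ∈ nsgB S E h :=
          Subgroup.mul_mem _ (Subgroup.inv_mem _ (hH'B hh')) a.2
        have hdc : ∀ r ∈ pCore p G ⊓ T, h'⁻¹ * (a : G) * r * (h'⁻¹ * (a : G))⁻¹ = r := by
          intro r hr
          have e : h'⁻¹ * (a : G) * r * (h'⁻¹ * (a : G))⁻¹ = h'⁻¹ * ((a : G) * r * (a : G)⁻¹) * h' := by
            group
          rw [e, hh'a r hr]
          group
        have hdQ : h'⁻¹ * (a : G) ∈ pCore p G := h.mem_core_of_mem_B hdB hdc
        obtain ⟨j, hj⟩ := S.isPGroup' ⟨_, hQS hdQ⟩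
        have hdj : (h'⁻¹ * (a : G)) ^ p ^ j = 1 := congrArg Subtype.val hj
        have hπ : (QuotientGroup.mk' H') (a : G) = (QuotientGroup.mk' H') (h'⁻¹ * (a : G)) := by
          have h1 : (QuotientGroup.mk' H') h' = 1 := (QuotientGroup.eq_one_iff _).mpr hh'
          rw [map_mul, map_inv, h1, inv_one, one_mul]
        have h1 : (QuotientGroup.mk' H') (a : G) ^ orderOf a = 1 := by
          rw [← map_pow]
          have h2 : (a : G) ^ orderOf a = 1 := congrArg Subtype.val (pow_orderOf_eq_one a)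
          rw [h2, map_one]
        have h2 : (QuotientGroup.mk' H') (a : G) ^ p ^ j = 1 := by
          rw [hπ, ← map_pow, hdj, map_one]
        have hnd : ¬ p ∣ orderOf a :=
          ((Fact.out : p.Prime).coprime_iff_not_dvd).mp ha'.symm
        have h3 := Helper87.eq_one_of_pow_coprime h1 h2 hnd
        have h4 : (a : G) ∈ H' := (QuotientGroup.eq_one_iff (a : G)).mp h3
        exact h4
      rintro _ ⟨y, hy, rfl⟩
      exact hle hy
    apply le_antisymm
    · intro x hx
      obtain ⟨k, hk, s, hsS, -, rfl⟩ := h.exists_K_mul (hH'B hx)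
      have hsH' : s ∈ H' := by
        have e : s = k⁻¹ * (k * s) := by group
        rw [e]
        exact H'.mul_mem (H'.inv_mem (hKH' hk)) hx
      exact Subgroup.mul_mem _ (h.K_le_H hk) (h.T_le_H (hSH' s hsH' hsS))
    · exact sup_le hKH' hTH'

end Cfsg.Agent.S5121
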