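import Cfsg.Statements.S5144
import Cfsg.Agent.Helper85.Basic

set_option autoImplicit false
open Cfsg

namespace Cfsg.Agent.S5144

open Cfsg.FusionSystem Cfsg.Agent.Helper85

variable {Ω : Type*} [Group Ω] {S : Subgroup Ω}

theorem isCentral_bot (F : FusionSystem S) : F.IsCentral ⊥ := by
  refine ⟨bot_le, fun P φ hφ => ?_⟩
  have h : P ⊔ ⊥ ≤ P := by simp
  refine ⟨φ.comp (Subgroup.inclusion h), restrict_mem F hφ h, fun x => rfl, fun x => ?_⟩
  obtain ⟨x, hx⟩ := x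
  rw [Subgroup.mem_bot] at hx
  subst hx
  exact map_one _

theorem isCentral_sup (F : FusionSystem S) {Q₁ Q₂ : Subgroup Ω} (h₁ : F.IsCentral Q₁) (h₂ : F.IsCentral Q₂) :
    F.IsCentral (Q₁ ⊔ Q₂) := by
  refine ⟨sup_le h₁.1 h₂.1, fun P φ hφ => ?_⟩
  obtain ⟨ψ₁, hψ₁, hext₁, hfix₁⟩ := h₁.2 P φ hφ
  obtain ⟨ψ₂, hψ₂, hext₂, hfix₂⟩ := h₂.2 (P ⊔ Q₁) ψ₁ hψ₁
  have h : P ⊔ (Q₁ ⊔ Q₂) ≤ (P ⊔ Q₁) ⊔ Q₂ := by rw [sup_assoc]
  refine ⟨ψ₂.comp (Subgroup.inclusion h), restrict_mem F hψ₂ h, fun x => ?_, fun x => ?_⟩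
  · rw [← hext₁ x, ← hext₂]
    rfl
  · -- the subgroup of fixed points of ψ₂ contains Q₁ and Q₂
    let K : Subgroup Ω := (MonoidHom.eqLocus ψ₂ ((P ⊔ Q₁) ⊔ Q₂).subtype).map ((P ⊔ Q₁) ⊔ Q₂).subtype
    have hK₁ : Q₁ ≤ K := by
      intro y hy
      refine ⟨Subgroup.inclusion le_sup_left (Subgroup.inclusion (le_sup_right : Q₁ ≤ P ⊔ Q₁) ⟨y, hy⟩), ?_, rfl⟩
      show ψ₂ _ = _
      rw [hext₂, hfix₁]
      rfl
    have hK₂ : Q₂ ≤ K := by
      intro y hy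
      refine ⟨Subgroup.inclusion le_sup_right ⟨y, hy⟩, ?_, rfl⟩
      show ψ₂ _ = _
      rw [hfix₂]
      rfl
    obtain ⟨y, hy, hyx⟩ := (sup_le hK₁ hK₂) x.2
    have hy' : ψ₂ y = (y : Ω) := hy
    have : Subgroup.inclusion h (Subgroup.inclusion le_sup_right x) = y := Subtype.ext hyx.symm
    show ψ₂ _ = _
    rw [this, hy']
    exact hyx

/-- For a fusion system over a finite subgroup S, the centre of the system (the join of all subgroups central in it) is itself central in the system, hence its largest central subgroup. -/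
theorem result {Ω : Type*} [Group Ω] {S : Subgroup Ω} [Finite S] (F : Cfsg.FusionSystem S) : F.IsCentral F.center := by
  exact sSup_mem_of_sup_closed (S := S) {Q : Subgroup Ω | F.IsCentral Q} (isCentral_bot F) (fun Q hQ => hQ.1)
    (fun Q₁ h₁ Q₂ h₂ => isCentral_sup F h₁ h₂)

end Cfsg.Agent.S5144
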