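import Cfsg.Statements.S5293
import Cfsg.Agent.Helper85.CsH

set_option autoImplicit false
open Cfsg

namespace Cfsg.Agent.S5293

open Cfsg.Agent.Helper88 Cfsg.Agent.Helper85

/-- Let F be a saturated fusion system over a finite p-group S, E a normal subsystem of F over T ≤ S, and C the join of the subgroups X ≤ C_S(T) such that E is contained in the centralizer system C_F(X). Then for the centralizer fusion system C_F(T) over C_S(T), the focal subgroup of C_F(T) is contained in C. -/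
theorem result {Ω : Type*} [Group Ω] {S : Subgroup Ω} [Finite S] (p : ℕ) [Fact p.Prime] (hS : IsPGroup p S)
    (F : Cfsg.FusionSystem S) (hF : F.IsSaturated p)
    {T : Subgroup Ω} (E : Cfsg.FusionSystem T) (hE : E.IsNormalIn F p)
    (C : Subgroup Ω)
    (hC : C = sSup {X : Subgroup Ω | X ≤ Cfsg.FusionSystem.centralizerIn S T ∧ ∀ P : Subgroup Ω, E.Hom P ⊆ F.centralizerHom X P})
    (D : Cfsg.FusionSystem (Cfsg.FusionSystem.centralizerIn S T)) (hD : F.IsCentralizerSystem T D) :
    D.focalSubgroup ≤ C := by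
  have hinv := hE.1.2.2
  have hTS : T ≤ S := hinv.2.1.1
  rw [hC]
  unfold FusionSystem.focalSubgroup
  rw [Subgroup.closure_le]
  rintro g ⟨P, φ, x, hφ, rfl⟩
  have hφ' : φ ∈ F.centralizerHom T P := by rw [← hD P]; exact hφ
  have hcm : IsCMap F T P (extHom φ) := (mem_centralizerHom_iff F T φ).1 hφ'
  have hgen : IsFocalGen F T ((x : Ω)⁻¹ * φ x) := ⟨P, extHom φ, x, hcm, x.2, by rw [extHom_apply]⟩
  have hgC := hgen.mem_centralizerIn
  have hmem : Subgroup.zpowers ((x : Ω)⁻¹ * φ x) ∈ {X : Subgroup Ω |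
      X ≤ Cfsg.FusionSystem.centralizerIn S T ∧ ∀ P : Subgroup Ω, E.Hom P ⊆ F.centralizerHom X P} := by
    refine ⟨Subgroup.zpowers_le.2 hgC, fun P' ψ hψ => ?_⟩
    rw [mem_centralizerHom_iff]
    have hψE : IsMap E P' (extHom ψ) := isMap_extHom hψ
    obtain ⟨f', hf', hf'P, hf'g⟩ := fixG_all hS hE hgen hψE
    have hP'T : P' ≤ T := hψE.le
    have hcomm : ∀ t ∈ T, t ∈ Cfsg.FusionSystem.centralizerIn S
        (Subgroup.zpowers ((x : Ω)⁻¹ * φ x)) := by
      intro t ht
      refine mem_centralizerIn_iff.2 ⟨hTS ht, fun w hw => ?_⟩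
      obtain ⟨n, rfl⟩ := Subgroup.mem_zpowers_iff.1 hw
      have h : Commute t ((x : Ω)⁻¹ * φ x) := (mem_centralizerIn_iff.1 hgC).2 t ht
      exact ((Commute.zpow_right h n).symm).eq
    exact ⟨isMap_of_isSubsystemOf hinv.1 hψE, fun y hy => hcomm y (hP'T hy),
      fun y hy => hcomm _ (hψE.mem hy), f', hf', hf'P,
      hf'.fix_zpowers (Subgroup.mem_sup_right (Subgroup.mem_zpowers _)) hf'g⟩
  exact (le_sSup hmem) (Subgroup.mem_zpowers _)

end Cfsg.Agent.S5293
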