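import Cfsg.Statements.S5155
import Cfsg.Agent.Helper85.CEMain
import Cfsg.Agent.Helper84.FusionFocal
import Cfsg.Agent.Helper84.FusionSat2
import Cfsg.Agent.Helper86.NormInd
import Cfsg.Agent.S5293
import Cfsg.Agent.S5113
import Cfsg.Agent.S5120
import Cfsg.Agent.Helper85.CEINV
import Cfsg.Agent.Helper85.CEFRAT
import Cfsg.Agent.Helper27.CEEXTA
import Cfsg.Agent.Helper93.CEEXTB
import Cfsg.Agent.Helper85.CEEXTC
import Cfsg.Agent.Helper85.CECONV

set_option autoImplicit false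
set_option maxHeartbeats 1000000
open Cfsg

namespace Cfsg.Agent.S5155

open Cfsg.FusionSystem
open Cfsg.Agent.Helper88 Cfsg.Agent.Helper85

/-- Let F be a saturated fusion system over a finite p-group S, E a normal subsystem over T, and Y the largest subgroup of C_S(T) such that E is a subsystem of the centralizer system of Y (every map of E extends to a map of F fixing Y elementwise). Then there is a normal subsystem of F over Y that is a subsystem of the centralizer system of T. -/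
theorem result {Ω : Type*} [Group Ω] {S : Subgroup Ω} [Finite S] (p : ℕ) [Fact p.Prime] (hS : IsPGroup p S) (F : Cfsg.FusionSystem S) (hF : F.IsSaturated p) {T : Subgroup Ω} (E : Cfsg.FusionSystem T) (hE : E.IsNormalIn F p) (Y : Subgroup Ω) (hY : Y ≤ Cfsg.FusionSystem.centralizerIn S T) (hEY : ∀ P : Subgroup Ω, E.Hom P ⊆ F.centralizerHom Y P) (hmax : ∀ Y' : Subgroup Ω, Y' ≤ Cfsg.FusionSystem.centralizerIn S T → (∀ P : Subgroup Ω, E.Hom P ⊆ F.centralizerHom Y' P) → Y' ≤ Y) : ∃ D : Cfsg.FusionSystem Y, D.IsNormalIn F p ∧ ∀ P : Subgroup Ω, D.Hom P ⊆ F.centralizerHom T P := by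
  have hinv := hE.1.2.2
  have hT := hinv.2.1
  have hTS : T ≤ S := hT.1
  have hfinT : Finite T := Helper88.finite_of_le hTS
  have hYS : Y ≤ S := hY.trans inf_le_left
  have hfinY : Finite Y := Helper88.finite_of_le hYS
  have hC : InCX F E Y := ⟨hY, (Cfsg.Agent.Helper93.CXIFF.inCX_iff hinv.1 hTS hY).1 hEY⟩
  have hmax' : ∀ Y' : Subgroup Ω, InCX F E Y' → Y' ≤ Y := fun Y' h =>
    hmax Y' h.1 ((Cfsg.Agent.Helper93.CXIFF.inCX_iff hinv.1 hTS h.1).2 h.2)
  obtain ⟨hM0, hah⟩ := cx_M0 hS hE hC hmax'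
  have hYsc : F.StronglyClosed Y := cx_sc_of_M0 hYS hM0
  have hextT := cx_extT hS hE hC hmax'
  have hTn : ∀ s ∈ S, ∀ t ∈ T, s * t * s⁻¹ ∈ T := fun s hs t ht =>
    sc_apply_mem hT (isMap_conj F hTS hs) ht ht
  have hYn : ∀ s ∈ S, ∀ t ∈ Y, s * t * s⁻¹ ∈ Y := fun s hs t ht =>
    sc_apply_mem hYsc (isMap_conj F hYS hs) ht ht
  have hTnorm : S ≤ Subgroup.normalizer (T : Set Ω) := fun s hs =>
    mem_normalizer_of_conj_mem (fun x hx => hTn s hs x hx)
  have hTrec : F.IsReceptive T :=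
    (Cfsg.Agent.Helper84.saturated_fullyNormalized hS F hF
      (Cfsg.Agent.Helper86.fullyNormalized_of_le_normalizer F hTS hTnorm)).2
  have hfinS₁ : Finite ↥(centralizerIn S T) := Helper88.finite_of_le inf_le_left
  have hS₁ : IsPGroup p ↥(centralizerIn S T) := hS.to_le inf_le_left
  have hF₁ : (centralizerSystem F T hTS).IsSaturated p := centSys_saturated hS hF hTrec
  have hYsup : Y = sSup {X : Subgroup Ω | X ≤ Cfsg.FusionSystem.centralizerIn S T ∧
      ∀ P : Subgroup Ω, E.Hom P ⊆ F.centralizerHom X P} :=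
    le_antisymm (le_sSup ⟨hY, hEY⟩) (sSup_le fun X hX => hmax X hX.1 hX.2)
  have hfocY : (centralizerSystem F T hTS).focalSubgroup ≤ Y :=
    Cfsg.Agent.S5293.result p hS F hF E hE Y hYsup _ (isCentralizerSystem_centralizerSystem F T hTS)
  have hhyp : (centralizerSystem F T hTS).hyperfocalSubgroup p ≤ Y :=
    (Cfsg.Agent.Helper84.hyperfocal_le_focal _ p).trans hfocY
  obtain ⟨D, ⟨hDs, hDi⟩, -⟩ :=
    Cfsg.Agent.S5113.result p hS₁ (centralizerSystem F T hTS) hF₁ Y hY hhyp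
  have hYn₁ : (Y.subgroupOf (centralizerIn S T)).Normal := by
    refine ⟨fun n hn g => ?_⟩
    rw [Subgroup.mem_subgroupOf] at hn ⊢
    exact hYn g g.2.1 n hn
  have hDn₁ : D.IsNormalIn (centralizerSystem F T hTS) p :=
    Cfsg.Agent.S5120.result p hS₁ _ hF₁ Y hY hYn₁ hhyp D hDs hDi
  have hinv₁ := hDn₁.1.2.2
  have hF₁F : ∀ {P : Subgroup Ω} {f : Ω → Ω}, IsMap (centralizerSystem F T hTS) P f → IsMap F P f :=
    fun h => ((isMap_centSys_iff F hTS).1 h).1
  have hDF : ∀ {P : Subgroup Ω} {f : Ω → Ω}, IsMap D P f → IsMap F P f := fun h =>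
    hF₁F (isMap_of_isSubsystemOf hDi.1 h)
  have hsubF : D.IsSubsystemOf F := fun P φ hφ => (hDi.1 P hφ).1
  have hfoc : ∀ g, IsFocalGen F T g → g ∈ Y := by
    intro g hg
    have hgC := hg.mem_centralizerIn
    have hin : InCX F E (Subgroup.zpowers g) := by
      refine ⟨Subgroup.zpowers_le.2 hgC, fun P f hf => ?_⟩
      obtain ⟨f', hf', hf'P, hf'g⟩ := fixG_all hS hE hg hf
      exact ⟨f', hf', hf'P,
        hf'.fix_zpowers (Subgroup.mem_sup_right (Subgroup.mem_zpowers _)) hf'g⟩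
    exact hmax' _ hin (Subgroup.mem_zpowers g)
  have hTY : T ≤ centralizerIn S Y := fun t ht =>
    mem_centralizerIn_iff.2 ⟨hTS ht, fun y hy => ((mem_centralizerIn_iff.1 (hY hy)).2 t ht).symm⟩
  have hpp : ∀ a ∈ D.autGroup Y, ∀ m : ℕ, a ^ m = 1 → m.Coprime p → CGood F Y (autFun a) := by
    intro a ha m ham hmp
    obtain ⟨β, hβ, b, hbp, hβb, hβY, hβT⟩ := Cfsg.Agent.Helper27.CEEXTA.ce_exta hS hF hTS hT hYsc hY D hDi.1 ha ham hmp
    have hQS : centralizerIn S Y ⊔ Y ≤ S := sup_le inf_le_left hYS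
    exact ⟨autFun β, IsMap.of_mem_autGroup hQS hβ, hβY,
      Cfsg.Agent.Helper93.CEEXTB.ce_extb hS hTS hTn hYS hTY hfoc hβ hbp hβb
        (fun y hy => by rw [hβY y hy]; exact autFun_mem a hy) hβT⟩
  have hgood := ce_extc85 hS hYS D hDs hpp
  refine ⟨D, ⟨⟨hDs, hF, hsubF, hYsc, ?_, ?_⟩, ?_⟩, fun P φ hφ => hDi.1 P hφ⟩
  · -- invariance
    intro P hPY φ hφ α hα
    have ham : IsMap F Y (autFun α) := IsMap.of_mem_autGroup hYS hα
    have h1 := ce_inv85 hS hTS hT hY D hDs hDi hextT hα (isMap_extHom hφ)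
    have himg : (P.subgroupOf Y).map (Y.subtype.comp α.toMonoidHom) = img P (autFun α) := by
      ext y
      constructor
      · rintro ⟨x, hx, rfl⟩
        exact Subgroup.subset_closure ⟨x, Subgroup.mem_subgroupOf.1 hx, autFun_apply α x⟩
      · intro hy
        obtain ⟨x, hx, rfl⟩ := (ham.restrict hPY).mem_img.mp hy
        exact ⟨⟨x, hPY hx⟩, Subgroup.mem_subgroupOf.2 hx, (autFun_apply' α (hPY hx)).symm⟩
    have key : ∀ P' : Subgroup Ω, P' = img P (autFun α) → ∃ χ ∈ D.Hom P',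
        ∀ (x : P) (hφx : φ x ∈ Y) (hαx : ((α ⟨x, hPY x.2⟩ : Y) : Ω) ∈ P'),
          χ ⟨(α ⟨x, hPY x.2⟩ : Y), hαx⟩ = ((α ⟨φ x, hφx⟩ : Y) : Ω) := by
      rintro P' rfl
      obtain ⟨χ, hχ, hχf⟩ := h1
      refine ⟨χ, hχ, fun x hφx hαx => ?_⟩
      rw [hχf]
      show autFun α (extHom φ (autFun α⁻¹ ((α ⟨x, hPY x.2⟩ : Y) : Ω))) = _
      rw [← autFun_apply' α (hPY x.2), autFun_inv_apply α (hPY x.2), extHom_apply,
        autFun_apply' α hφx]
    exact key _ himg
  · -- Frattini condition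
    intro P hPY φ hφ
    obtain ⟨α, hα, f₀, hf₀, hfα⟩ :=
      ce_frat85 hS hTS hT hYsc hY D hinv₁ hah hextT hPY (isMap_extHom hφ)
    obtain ⟨φ₀, hφ₀, hφ₀f⟩ := hf₀
    refine ⟨α, hα, φ₀, hφ₀, fun x hx => ?_⟩
    have h1 := hfα x x.2
    rw [extHom_apply] at h1
    rw [h1, ← hφ₀f x, autFun_apply' α hx]
  · -- extension condition
    intro α hα
    exact ce_conv85 hYS (hgood α hα)

end Cfsg.Agent.S5155
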