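import Cfsg.Statements.S5156
import Cfsg.Agent.Helper85.RsCore
import Cfsg.Agent.Helper85.RsPow
import Cfsg.Agent.Helper85.RsExist
import Cfsg.Agent.Helper10.S5156X
import Cfsg.Agent.Helper42.U5156D
import Cfsg.Agent.Helper47.FusC
import Cfsg.Agent.Helper87.SubConsC
import Cfsg.Agent.Helper63.PSolv
import Cfsg.Agent.S5140

set_option autoImplicit false
universe u
open Cfsg

namespace Cfsg.Agent.S5156

open Cfsg.FusionSystem Cfsg.Agent.Helper85

/-- a terminating residual series forces the system to be constrained with `p`-solvable automizers -/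
theorem s5156_forward {Ω : Type u} [Group Ω] {S : Subgroup Ω} (F : FusionSystem S) (p : ℕ)
    (h : F.HasTerminatingResidualSeries p) :
    ∀ (_ : Finite S) (_ : Fact p.Prime), IsPGroup p S → F.IsSaturated p →
      (F.IsConstrained p ∧ ∀ P : Subgroup Ω, P ≤ S → IsPSolvable p ↥(F.autGroup P)) := by
  induction h with
  | @trivial S F p hS =>
    intro hfin hp hpS hF
    refine ⟨⟨hF, F.core, Helper88.isNormal_core F,
      Helper84.centric_of_normal_of_cent F (Helper88.isNormal_core F) ?_⟩, ?_⟩
    · intro x hx
      have : x ∈ S := hx.1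
      rw [hS, Subgroup.mem_bot] at this
      rw [this]
      exact Subgroup.one_mem _
    · intro P hP
      have hPbot : P = ⊥ := by rw [hS] at hP; exact le_bot_iff.1 hP
      subst hPbot
      haveI : Subsingleton (MulAut (⊥ : Subgroup Ω)) := ⟨fun a b => by
        ext x
        have hx : x = 1 := Subsingleton.elim _ _
        rw [hx, map_one, map_one]⟩
      haveI : Finite ↥(F.autGroup ⊥) := Finite.of_subsingleton
      exact Helper63.PSolv.isPSolvable_of_isSolvable p _ inferInstance
  | @step S F E p D hE hD _ ih =>
    intro hfin hp hpS hF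
    have hTS : E.hyperfocalSubgroup p ≤ S := Helper86.hyperfocalSubgroup_le E p
    haveI : Finite ↥(E.hyperfocalSubgroup p) := Helper88.finite_of_le hTS
    obtain ⟨hDc, hDA⟩ := ih inferInstance hp (hpS.to_le hTS) hD.1
    have hEc : E.IsConstrained p := s5156_cons_ppower p hpS E hE.1 D hD hDc
    have hX : ∀ (G : Type u) [Group G] [Finite G] (N : Subgroup G) [N.Normal],
        IsPSolvable p ↥N → IsPSolvable p (G ⧸ N) → IsPSolvable p G :=
      fun G _ _ N _ h1 h2 => Helper10.s5156_psolv_ext N h1 h2
    have hEA := Helper47.s5156_aut_ppower p hX hpS E hE.1 D hD hDA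
    exact ⟨s5156_cons_pprime p hpS F hF E hE hEc, Helper42.s5156_aut_pprime p hX F E hE.2.1 hEA⟩

/-- a constrained system with `p`-solvable automizers has a terminating residual series -/
theorem s5156_backward {Ω : Type u} [Group Ω] (p : ℕ) [Fact p.Prime] :
    ∀ (n : ℕ) (S : Subgroup Ω) [Finite S], Nat.card S = n → IsPGroup p S →
      ∀ F : FusionSystem S, F.IsConstrained p →
        (∀ P : Subgroup Ω, P ≤ S → IsPSolvable p ↥(F.autGroup P)) → F.HasTerminatingResidualSeries p := by
  intro n
  induction n using Nat.strong_induction_on with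
  | _ n ih =>
    intro S _ hn hS F hFc hFA
    by_cases hbot : S = ⊥
    · exact .trivial F p hbot
    have hF := hFc.1
    obtain ⟨E, hE⟩ := Cfsg.Agent.S5140.result p hS F hF
    have hFinv : F.IsInvariantIn F := s5156_invariant_self p hS F hF
    have hEn : E.IsNormalIn F p := Cfsg.Agent.S5141.result p hS F hF F ⟨hF, hF, hFinv⟩ E hE
    have hEc : E.IsConstrained p := Helper87.constrained_of_isNormalIn p hS F hFc E hEn
    have hEA : ∀ P : Subgroup Ω, P ≤ S → IsPSolvable p ↥(E.autGroup P) :=
      fun P hP => s5156_aut_sub E F hE.2.1.1 hP hP (hFA P hP)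
    obtain ⟨H, _, ι, hM⟩ := Helper84.constrained_exists_model p hS E hEc
    haveI : Finite H := hM.1
    obtain ⟨T, hT⟩ := hM.2.2.1
    obtain ⟨D, hD⟩ := s5156_exists_pres p E ι hM.2.1 T hT
    have hmin : E.IsPPrimeResidual p E := s5156_pprime_self p F E hE
    have hne : E.hyperfocalSubgroup p ≠ S :=
      s5156_hyp_ne p hS E hEc hmin (hEA _ (Helper88.isNormal_core E).1) hbot
    have hTS := Helper86.hyperfocalSubgroup_le E p
    have hlt : E.hyperfocalSubgroup p < S := lt_of_le_of_ne hTS hne
    have hcard := Helper84.card_lt_of_lt hlt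
    haveI : Finite ↥(E.hyperfocalSubgroup p) := Helper88.finite_of_le hTS
    have hTsc := Cfsg.Agent.S5124.result p hS E hE.1
    have hTn : ((E.hyperfocalSubgroup p).subgroupOf S).Normal := by
      refine ⟨fun x hx g => ?_⟩
      rw [Subgroup.mem_subgroupOf] at hx ⊢
      exact Helper87.stronglyClosed_conj_mem E hTsc g.2 hx
    have hDn : D.IsNormalIn E p :=
      Cfsg.Agent.S5120.result p hS E hE.1 _ hTS hTn le_rfl D hD.1 hD.2
    have hDc := Helper87.constrained_of_isNormalIn p hS E hEc D hDn
    have hDA : ∀ P : Subgroup Ω, P ≤ E.hyperfocalSubgroup p → IsPSolvable p ↥(D.autGroup P) :=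
      fun P hP => s5156_aut_sub D E hD.2.1 hP (hP.trans hTS) (hEA P (hP.trans hTS))
    exact .step F E p D hE hD (ih _ (hn ▸ hcard) _ rfl (hS.to_le hTS) D hDc hDA)

/-- A saturated fusion system over a finite p-group has a terminating alternating chain of p'-residual and p-residual subsystems (the chain reaches the trivial system — the notion of solvability adapted to fusion systems of p-solvable groups) if and only if it is constrained and its models are p-solvable (a model is a finite group realizing the system on a Sylow p-subgroup with self-centralizing largest normal p-subgroup; it exists and is unique up to isomorphism for constrained systems). -/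
theorem result {Ω : Type u} [Group Ω] {S : Subgroup Ω} [Finite S] (p : ℕ) [Fact p.Prime] (hS : IsPGroup p S) (F : Cfsg.FusionSystem S) (hF : F.IsSaturated p) : F.HasTerminatingResidualSeries p ↔ (F.IsConstrained p ∧ ∀ (G : Type u) [Group G] (ι : S →* G), F.IsModel p G ι → Cfsg.IsPSolvable p G) := by
  constructor
  · intro h
    obtain ⟨hc, hA⟩ := s5156_forward F p h inferInstance inferInstance hS hF
    exact ⟨hc, fun G _ ι hM =>
      Helper99.psr_model_isPSolvable hS F hc (hA F.core (Helper88.isNormal_core F).1) ι hM⟩
  · rintro ⟨hc, hmod⟩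
    obtain ⟨G, _, ι, hM⟩ := Helper84.constrained_exists_model p hS F hc
    have hG := hmod G ι hM
    exact s5156_backward p _ S rfl hS F hc
      (fun P hP => Helper99.psr_autGroup_isPSolvable F ι hM.2.1 hG hP)


end Cfsg.Agent.S5156
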