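import Mathlib
import Cfsg.Statements.S5186
import Cfsg.Agent.Helper52.AutChain
import Cfsg.Agent.Helper84.FusionAut
import Cfsg.Agent.Helper51.PCube
import Cfsg.Agent.Helper69.Q8
import Cfsg.Agent.Helper63.Extraspecial
import Cfsg.Agent.S0097

set_option autoImplicit false
universe u
open Cfsg

namespace Cfsg.Agent.S5186

/-- A characteristic chain `1 < H₁ < H₂ < H` with `|H₁| = p`, `|H₂| = p²`, `|H| = p³` forces
`p ∤ |A/I|` when `O_p(A/I) = 1`. -/
theorem not_dvd_of_chain3 {H : Type*} [Group H] [Finite H] {p : ℕ} [Fact p.Prime]
    (hcard : Nat.card H = p ^ 3) (H₁ H₂ : Subgroup H) (hc₁ : H₁.Characteristic)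
    (hc₂ : H₂.Characteristic) (h12 : H₁ ≤ H₂) (h1 : Nat.card H₁ = p) (h2 : Nat.card H₂ = p ^ 2)
    (A : Subgroup (MulAut H)) (I : Subgroup A) [I.Normal] (hcore : Cfsg.pCore p (A ⧸ I) = ⊥) :
    ¬ p ∣ Nat.card (A ⧸ I) := by
  have hp : p.Prime := Fact.out
  have hchar : ∀ (K : Subgroup H), K.Characteristic → ∀ α : MulAut H, ∀ x, α x ∈ K ↔ x ∈ K := by
    intro K hK α x
    have h := Subgroup.characteristic_iff_comap_eq.mp hK α
    constructor
    · intro hx
      rw [← h]; exact hx
    · intro hx
      rw [← h] at hx; exact hx
  let c : ℕ → Subgroup H := fun i => if i = 0 then ⊥ else if i = 1 then H₁ else if i = 2 then H₂ else ⊤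
  have hc0 : c 0 = ⊥ := rfl
  have hc1 : c 1 = H₁ := rfl
  have hc2 : c 2 = H₂ := rfl
  have hc3 : c 3 = ⊤ := rfl
  have hcc : ∀ i, (c i).Characteristic := by
    intro i
    show (if i = 0 then (⊥ : Subgroup H) else if i = 1 then H₁ else if i = 2 then H₂ else ⊤).Characteristic
    split_ifs
    · exact Subgroup.botCharacteristic
    · exact hc₁
    · exact hc₂
    · exact Subgroup.topCharacteristic
  refine Cfsg.Agent.Helper52.autchain_not_dvd (IsPGroup.of_card hcard) A 3 c hc0 hc3 ?_ ?_ ?_ I hcore
  · intro i hi
    interval_cases i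
    · rw [hc0, hc1, Subgroup.relIndex_bot_left, h1]
    · rw [hc1, hc2]
      have h3 := Subgroup.relIndex_mul_relIndex ⊥ H₁ H₂ bot_le h12
      rw [Subgroup.relIndex_bot_left, Subgroup.relIndex_bot_left, h1, h2, pow_two] at h3
      exact Nat.eq_of_mul_eq_mul_left hp.pos h3
    · rw [hc2, hc3, Subgroup.relIndex_top_right]
      have h3 := Subgroup.card_mul_index H₂
      rw [h2, hcard, pow_succ] at h3
      exact Nat.eq_of_mul_eq_mul_left (pow_pos hp.pos 2) h3
  · intro i
    have := hcc i
    infer_instance
  · intro i α _ x
    exact hchar (c i) (hcc i) α x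

/-- The closure of a set stable under all automorphisms is characteristic. -/
theorem closure_characteristic {H : Type*} [Group H] (T : Set H)
    (hT : ∀ (ϕ : H ≃* H) (x : H), x ∈ T → ϕ x ∈ T) : (Subgroup.closure T).Characteristic := by
  rw [Subgroup.characteristic_iff_le_comap]
  intro ϕ
  rw [Subgroup.closure_le]
  intro x hx
  exact Subgroup.subset_closure (hT ϕ x hx)

/-- Abelian groups of order `p³` that are not of exponent `p` have a characteristic chain. -/
theorem p3_abelian {H : Type*} [CommGroup H] [Finite H] {p : ℕ} [Fact p.Prime]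
    (hcard : Nat.card H = p ^ 3) (hexp : ∃ x : H, x ^ p ≠ 1) :
    ∃ H₁ H₂ : Subgroup H, H₁.Characteristic ∧ H₂.Characteristic ∧ H₁ ≤ H₂ ∧ Nat.card H₁ = p ∧
      Nat.card H₂ = p ^ 2 := by
  have hp : p.Prime := Fact.out
  let f : H →* H := powMonoidHom p
  have hf : ∀ x : H, f x = x ^ p := fun x => rfl
  have hkc : f.ker.Characteristic := by
    rw [Subgroup.characteristic_iff_le_comap]
    intro ϕ x hx
    rw [Subgroup.mem_comap, MonoidHom.mem_ker, hf]
    rw [MonoidHom.mem_ker, hf] at hx
    show (ϕ x) ^ p = 1
    rw [← map_pow, hx, map_one]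
  have hrc : f.range.Characteristic := by
    rw [Subgroup.characteristic_iff_le_comap]
    rintro ϕ _ ⟨y, rfl⟩
    rw [Subgroup.mem_comap]
    refine ⟨ϕ y, ?_⟩
    rw [hf, hf]
    show (ϕ y) ^ p = ϕ (y ^ p)
    rw [map_pow]
  have hmul : Nat.card f.ker * Nat.card f.range = p ^ 3 := by
    rw [← Subgroup.index_ker, Subgroup.card_mul_index, hcard]
  have hkdvd : Nat.card f.ker ∣ p ^ 3 := Dvd.intro _ hmul
  obtain ⟨j, hj, hkcard⟩ := (Nat.dvd_prime_pow hp).mp hkdvd
  have hktop : f.ker ≠ ⊤ := by
    obtain ⟨x, hx⟩ := hexp
    intro h
    have : x ∈ f.ker := h ▸ Subgroup.mem_top x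
    exact hx this
  have hkbot : f.ker ≠ ⊥ := by
    intro h
    have hdvd : p ∣ Nat.card H := by rw [hcard]; exact dvd_pow_self p (by norm_num)
    obtain ⟨z, hz⟩ := exists_prime_orderOf_dvd_card' p hdvd
    have hz1 : z ∈ f.ker := by
      rw [MonoidHom.mem_ker, hf, ← hz, pow_orderOf_eq_one]
    rw [h, Subgroup.mem_bot] at hz1
    rw [hz1, orderOf_one] at hz
    exact hp.one_lt.ne hz
  have hj0 : j ≠ 0 := by
    intro h
    rw [h, pow_zero] at hkcard
    exact hkbot (Subgroup.card_eq_one.mp hkcard)
  have hj3 : j ≠ 3 := by
    intro h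
    rw [h, ← hcard] at hkcard
    exact hktop ((Subgroup.card_eq_iff_eq_top _).mp hkcard)
  have hj12 : j = 1 ∨ j = 2 := by omega
  rcases hj12 with rfl | rfl
  · -- |ker| = p, |range| = p²
    rw [pow_one] at hkcard
    have hrcard : Nat.card f.range = p ^ 2 := by
      rw [hkcard, pow_succ' p 2] at hmul
      exact Nat.eq_of_mul_eq_mul_left hp.pos hmul
    refine ⟨f.ker, f.range, hkc, hrc, ?_, hkcard, hrcard⟩
    have hdvd : p ∣ Nat.card f.range := by rw [hrcard]; exact dvd_pow_self p (by norm_num)
    obtain ⟨z, hz⟩ := exists_prime_orderOf_dvd_card' p hdvd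
    have hz' : orderOf (z : H) = p := by rw [Subgroup.orderOf_coe]; exact hz
    have hzk : (z : H) ∈ f.ker := by
      rw [MonoidHom.mem_ker, hf, ← hz', pow_orderOf_eq_one]
    have hle : Subgroup.zpowers (z : H) ≤ f.ker := by
      rw [Subgroup.zpowers_le]; exact hzk
    have heq : Subgroup.zpowers (z : H) = f.ker :=
      Subgroup.eq_of_le_of_card_ge hle (by rw [Nat.card_zpowers, hz', hkcard])
    rw [← heq, Subgroup.zpowers_le]
    exact z.2
  · -- |ker| = p², |range| = p
    have hrcard : Nat.card f.range = p := by
      rw [hkcard, pow_succ p 2] at hmul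
      exact Nat.eq_of_mul_eq_mul_left (pow_pos hp.pos 2) hmul
    refine ⟨f.range, f.ker, hrc, hkc, ?_, hrcard, hkcard⟩
    intro x hx
    rw [MonoidHom.mem_ker, hf]
    exact Cfsg.Agent.Helper63.pow_eq_one_of_mem_of_card _ hrcard hx

/-- Groups of order `p³`: elementary abelian, extraspecial of exponent `p` (`p` odd), quaternion,
or with a characteristic chain with factors of order `p`. -/
theorem p3_cases {H : Type*} [Group H] [Finite H] {p : ℕ} [Fact p.Prime]
    (hcard : Nat.card H = p ^ 3) :
    (IsMulCommutative H ∧ ∀ x : H, x ^ p = 1) ∨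
    (Odd p ∧ Cfsg.IsExtraspecial p H ∧ ∀ x : H, x ^ p = 1) ∨
    (p = 2 ∧ Nonempty (H ≃* QuaternionGroup 2)) ∨
    ∃ H₁ H₂ : Subgroup H, H₁.Characteristic ∧ H₂.Characteristic ∧ H₁ ≤ H₂ ∧ Nat.card H₁ = p ∧
      Nat.card H₂ = p ^ 2 := by
  have hp : p.Prime := Fact.out
  by_cases hab : ∀ a b : H, a * b = b * a
  · by_cases hexp : ∀ x : H, x ^ p = 1
    · exact Or.inl ⟨⟨⟨hab⟩⟩, hexp⟩
    · push_neg at hexp
      right; right; right
      exact @p3_abelian H { (inferInstance : Group H) with mul_comm := hab } _ p _ hcard hexp
  · push_neg at hab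
    have hna : ∃ a b : H, a * b ≠ b * a := hab
    have hES := Cfsg.Agent.Helper51.isExtraspecial_of_card_eq_prime_cube hcard hna
    have hZcard : Nat.card (Subgroup.center H) = p := hES.2
    have hZpow : ∀ z ∈ Subgroup.center H, z ^ p = 1 := fun z hz =>
      Cfsg.Agent.Helper63.pow_eq_one_of_mem_of_card _ hZcard hz
    rcases hp.eq_two_or_odd' with h2 | hodd
    · -- p = 2
      subst h2
      right; right
      -- an element of order 4
      have hex : ∃ a : H, a ^ 2 ≠ 1 := by
        by_contra hcon
        push_neg at hcon
        obtain ⟨a, b, hab'⟩ := hna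
        apply hab'
        have h1 : a * b * (a * b) = 1 := by rw [← pow_two]; exact hcon _
        have h2 : a * a = 1 := by rw [← pow_two]; exact hcon _
        have h3 : b * b = 1 := by rw [← pow_two]; exact hcon _
        calc a * b = a * b * (b * a * (a * b)) := by
              rw [show b * a * (a * b) = b * (a * a) * b by group, h2, mul_one, h3, mul_one]
          _ = a * b * (b * a) * (a * b) := by group
          _ = (a * (b * b) * a) * (a * b) := by group
          _ = a * b := by rw [h3, mul_one, h2, one_mul]
          _ = b * a * (a * b * (a * b)) := by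
              rw [show b * a * (a * b * (a * b)) = b * (a * a) * b * (a * b) by group, h2, mul_one,
                h3, one_mul]
          _ = b * a := by rw [h1, mul_one]
      obtain ⟨a, ha⟩ := hex
      have haZ : a ^ 2 ∈ Subgroup.center H := Cfsg.Agent.Helper63.extraspecial_pow_mem_center hES a
      have ha4 : a ^ 4 = 1 := by
        have := hZpow _ haZ
        rw [← pow_mul] at this
        exact this
      -- the centre is {1, a²}
      have hZ2 : ∀ z ∈ Subgroup.center H, z ≠ 1 → z = a ^ 2 := by
        intro z hz hz1
        have h2 := (Nat.card_eq_two_iff' (1 : Subgroup.center H)).mp hZcard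
        obtain ⟨y, -, hy⟩ := h2
        have e1 : (⟨z, hz⟩ : Subgroup.center H) = y := hy _ (by
          intro h; exact hz1 (congrArg Subtype.val h))
        have e2 : (⟨a ^ 2, haZ⟩ : Subgroup.center H) = y := hy _ (by
          intro h; exact ha (congrArg Subtype.val h))
        exact congrArg Subtype.val (e1.trans e2.symm)
      have hord : orderOf a = 4 := by
        have := orderOf_eq_prime_pow (p := 2) (n := 1) (x := a) (by simpa using ha) (by simpa using ha4)
        simpa using this
      have hcardA : Nat.card (Subgroup.zpowers a) = 4 := by rw [Nat.card_zpowers, hord]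
      by_cases hb : ∃ b : H, b ∉ Subgroup.zpowers a ∧ b ^ 2 ≠ 1
      · left
        refine ⟨rfl, ?_⟩
        obtain ⟨b, hbA, hb2⟩ := hb
        have hbZ : b ^ 2 ∈ Subgroup.center H := Cfsg.Agent.Helper63.extraspecial_pow_mem_center hES b
        have hb2a : b ^ 2 = a ^ 2 := hZ2 _ hbZ hb2
        have hgen : Subgroup.closure {a, b} = ⊤ := by
          have hle : Subgroup.zpowers a ≤ Subgroup.closure {a, b} := by
            rw [Subgroup.zpowers_le]; exact Subgroup.subset_closure (by simp)
          have hbm : b ∈ Subgroup.closure {a, b} := Subgroup.subset_closure (by simp)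
          have hd1 : Nat.card (Subgroup.closure {a, b}) ∣ 2 ^ 3 := by
            rw [← hcard]; exact Subgroup.card_subgroup_dvd_card _
          have hd2 : 4 ∣ Nat.card (Subgroup.closure ({a, b} : Set H)) := by
            rw [← hcardA]; exact Subgroup.card_dvd_of_le hle
          obtain ⟨j, hj, hjc⟩ := (Nat.dvd_prime_pow Nat.prime_two).mp hd1
          have hne : Nat.card (Subgroup.closure ({a, b} : Set H)) ≠ 4 := by
            intro h
            have := Subgroup.eq_of_le_of_card_ge hle (by rw [h, hcardA])
            exact hbA (this ▸ hbm)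
          rw [hjc] at hd2 hne
          have hj3 : j = 3 := by
            interval_cases j <;> simp_all
          rw [hj3] at hjc
          apply (Subgroup.card_eq_iff_eq_top _).mp
          rw [hjc, hcard]
        have hcomm : b * a * b⁻¹ * a⁻¹ ∈ Subgroup.center H :=
          Cfsg.Agent.Helper63.extraspecial_comm_mem_center hES b a
        have hba : b * a * b⁻¹ = a⁻¹ := by
          by_cases h1 : b * a * b⁻¹ * a⁻¹ = 1
          · exfalso
            have hcm : a * b = b * a := by
              have : b * a * b⁻¹ = a := by rw [mul_inv_eq_one] at h1; exact h1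
              rw [mul_inv_eq_iff_eq_mul] at this
              exact this.symm
            have haC : a ∈ Subgroup.center H := by
              have hle : Subgroup.closure {a, b} ≤ Subgroup.centralizer ({a} : Set H) := by
                rw [Subgroup.closure_le]
                intro x hx
                rcases hx with rfl | rfl
                · rw [SetLike.mem_coe, Subgroup.mem_centralizer_iff]
                  intro y hy; rw [Set.mem_singleton_iff.mp hy]
                · rw [SetLike.mem_coe, Subgroup.mem_centralizer_iff]
                  intro y hy; rw [Set.mem_singleton_iff.mp hy]; exact hcm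
              rw [hgen] at hle
              rw [Subgroup.mem_center_iff]
              intro g
              have := hle (Subgroup.mem_top g)
              rw [Subgroup.mem_centralizer_iff] at this
              exact (this a rfl).symm
            have hbC : b ∈ Subgroup.center H := by
              have hle : Subgroup.closure {a, b} ≤ Subgroup.centralizer ({b} : Set H) := by
                rw [Subgroup.closure_le]
                intro x hx
                rcases hx with rfl | rfl
                · rw [SetLike.mem_coe, Subgroup.mem_centralizer_iff]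
                  intro y hy; rw [Set.mem_singleton_iff.mp hy]; exact hcm.symm
                · rw [SetLike.mem_coe, Subgroup.mem_centralizer_iff]
                  intro y hy; rw [Set.mem_singleton_iff.mp hy]
              rw [hgen] at hle
              rw [Subgroup.mem_center_iff]
              intro g
              have := hle (Subgroup.mem_top g)
              rw [Subgroup.mem_centralizer_iff] at this
              exact (this b rfl).symm
            have htop : (⊤ : Subgroup H) ≤ Subgroup.center H := by
              rw [← hgen, Subgroup.closure_le]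
              intro x hx
              rcases hx with rfl | rfl
              · exact haC
              · exact hbC
            obtain ⟨x, y, hxy⟩ := hna
            have := htop (Subgroup.mem_top y)
            rw [Subgroup.mem_center_iff] at this
            exact hxy (this x)
          · have h2 := hZ2 _ hcomm h1
            have h3 : b * a * b⁻¹ = a ^ 2 * a := by rw [← h2]; group
            rw [h3]
            have h4 : a ^ 2 * a * a = 1 := by rw [← ha4]; group
            exact eq_inv_of_mul_eq_one_left h4
        exact Cfsg.Agent.Helper69.nonempty_mulEquiv_quaternionGroup_two a b hcard hgen ha4 hb2a hba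
      · right
        push_neg at hb
        have hCle : Subgroup.closure {x : H | x ^ 2 ≠ 1} ≤ Subgroup.zpowers a := by
          rw [Subgroup.closure_le]
          intro x hx
          by_contra hxa
          exact hx (hb x hxa)
        have hCge : Subgroup.zpowers a ≤ Subgroup.closure {x : H | x ^ 2 ≠ 1} := by
          rw [Subgroup.zpowers_le]
          exact Subgroup.subset_closure ha
        have hCeq : Subgroup.closure {x : H | x ^ 2 ≠ 1} = Subgroup.zpowers a :=
          le_antisymm hCle hCge
        refine ⟨Subgroup.center H, Subgroup.closure {x : H | x ^ 2 ≠ 1}, inferInstance, ?_, ?_,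
          hZcard, ?_⟩
        · apply closure_characteristic
          intro ϕ x hx
          show (ϕ x) ^ 2 ≠ 1
          intro h
          apply hx
          rw [← map_pow] at h
          exact (map_eq_one_iff ϕ ϕ.injective).mp h
        · rw [hCeq]
          intro z hz
          by_cases hz1 : z = 1
          · rw [hz1]; exact Subgroup.one_mem _
          · rw [hZ2 z hz hz1]
            exact Subgroup.pow_mem _ (Subgroup.mem_zpowers a) 2
        · rw [hCeq, hcardA]; norm_num
    · -- p odd
      have hp2 : p ≠ 2 := by
        intro h; rw [h] at hodd; exact absurd hodd (by decide)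
      obtain ⟨hidx, hpow⟩ := Cfsg.Agent.S0097.result hp2 hES
      by_cases htop : Subgroup.closure {x : H | x ^ p = 1} = ⊤
      · right; left
        refine ⟨hodd, hES, ?_⟩
        intro x
        exact hpow x (htop ▸ Subgroup.mem_top x)
      · right; right; right
        have hidx1 : (Subgroup.closure {x : H | x ^ p = 1}).index ≠ 1 := by
          intro h; exact htop (Subgroup.index_eq_one.mp h)
        have hdvd : (Subgroup.closure {x : H | x ^ p = 1}).index ∣ p ^ 3 := by
          rw [← hcard]; exact Subgroup.index_dvd_card _
        obtain ⟨j, hj, hjc⟩ := (Nat.dvd_prime_pow hp).mp hdvd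
        have hj1 : j = 1 := by
          have hj0 : j ≠ 0 := by
            intro h; rw [h, pow_zero] at hjc; exact hidx1 hjc
          by_contra hne
          have hj2 : 2 ≤ j := by omega
          have : p ^ 2 ≤ p ^ j := Nat.pow_le_pow_right hp.pos hj2
          rw [← hjc] at this
          have h3 : p ^ 2 ≤ p := this.trans hidx
          have h4 : p * p ≤ p * 1 := by rw [← pow_two, mul_one]; exact h3
          have := Nat.le_of_mul_le_mul_left h4 hp.pos
          exact absurd hp.one_lt (by omega)
        rw [hj1, pow_one] at hjc
        have hcardΩ : Nat.card (Subgroup.closure {x : H | x ^ p = 1}) = p ^ 2 := by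
          have h3 := Subgroup.card_mul_index (Subgroup.closure {x : H | x ^ p = 1})
          rw [hjc, hcard, pow_succ p 2] at h3
          exact Nat.eq_of_mul_eq_mul_right hp.pos h3
        refine ⟨Subgroup.center H, Subgroup.closure {x : H | x ^ p = 1}, inferInstance, ?_, ?_,
          hZcard, hcardΩ⟩
        · apply closure_characteristic
          intro ϕ x hx
          show (ϕ x) ^ p = 1
          rw [← map_pow, show x ^ p = 1 from hx, map_one]
        · intro z hz
          exact Subgroup.subset_closure (hZpow z hz)

/-- Let F be a saturated fusion system over a finite p-group S and H an essential subgroup of order p³. Then H is elementary abelian, or p is odd and H is extraspecial of exponent p, or p = 2 and H is the quaternion group of order 8. -/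
theorem result {Ω : Type u} [Group Ω] {S : Subgroup Ω} [Finite S] (p : ℕ) [Fact p.Prime] (hS : IsPGroup p S)
    (F : Cfsg.FusionSystem S) (hF : F.IsSaturated p) (H : Subgroup Ω) (hH : F.IsEssential p H) (hcard : Nat.card H = p ^ 3) :
    Cfsg.IsElementaryAbelian p H ∨ (Odd p ∧ Cfsg.IsExtraspecial p ↥H ∧ ∀ x ∈ H, x ^ p = 1) ∨
      (p = 2 ∧ Nonempty (↥H ≃* QuaternionGroup 2)) := by
  have _hS := hS
  have _hF := hF
  have hp : p.Prime := Fact.out
  obtain ⟨hc, -, hn, E, hE⟩ := hH
  have hPS : H ≤ S := hc.1
  have hfin : Finite H := Nat.finite_of_card_ne_zero (by rw [hcard]; exact pow_ne_zero 3 hp.ne_zero)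
  have hcore := Cfsg.Agent.Helper84.pCore_eq_bot_of_stronglyPEmbedded hE
  have hdvd : p ∣ Nat.card (↥(F.autGroup H) ⧸ (Inn ↥H).subgroupOf (F.autGroup H)) := hE.1
  rcases p3_cases (H := ↥H) hcard with ⟨h1, h2⟩ | ⟨h1, h2, h3⟩ | h | ⟨H₁, H₂, hc₁, hc₂, h12, h1, h2⟩
  · left
    refine ⟨h1, ?_⟩
    intro a ha
    have := h2 ⟨a, ha⟩
    exact congrArg Subtype.val this
  · right; left
    refine ⟨h1, h2, ?_⟩
    intro a ha
    have := h3 ⟨a, ha⟩
    exact congrArg Subtype.val this
  · right; right
    exact h
  · exfalso
    exact not_dvd_of_chain3 hcard H₁ H₂ hc₁ hc₂ h12 h1 h2 (F.autGroup H)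
      ((Inn ↥H).subgroupOf (F.autGroup H)) hcore hdvd

end Cfsg.Agent.S5186
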