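import Mathlib
import Cfsg.Statements.S5187
import Cfsg.Agent.Helper52.AbelianRankTwo
import Cfsg.Agent.Helper84.FusionAut

set_option autoImplicit false
universe u
open Cfsg

namespace Cfsg.Agent.S5187

/-- Let F be a saturated fusion system over a finite p-group S and H an abelian essential subgroup that can be generated by two elements (its Frattini quotient has order at most p²). Then H is elementary abelian of order p², or p ≤ 3 and H is homocyclic of rank two, that is isomorphic to C_{pᵏ} × C_{pᵏ} for some k. -/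
theorem result {Ω : Type u} [Group Ω] {S : Subgroup Ω} [Finite S] (p : ℕ) [Fact p.Prime] (hS : IsPGroup p S)
    (F : Cfsg.FusionSystem S) (hF : F.IsSaturated p) (H : Subgroup Ω) (hH : F.IsEssential p H) (hab : IsMulCommutative ↥H) (hrk : (frattini ↥H).index ≤ p ^ 2) :
    (Cfsg.IsElementaryAbelian p H ∧ Nat.card H = p ^ 2) ∨
      (p ≤ 3 ∧ ∃ k : ℕ, Nonempty (↥H ≃* Multiplicative (ZMod (p ^ k) × ZMod (p ^ k)))) := by
  have _hF := hF
  have hp : p.Prime := Fact.out
  obtain ⟨hc, -, hn, E, hE⟩ := hH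
  have hHS : H ≤ S := hc.1
  have hfin : Finite H := Finite.of_injective (Subgroup.inclusion hHS) (Subgroup.inclusion_injective hHS)
  have hHp : IsPGroup p H := hS.to_le hHS
  have hcore := Cfsg.Agent.Helper84.pCore_eq_bot_of_stronglyPEmbedded hE
  have hdvd : p ∣ Nat.card (↥(F.autGroup H) ⧸ (Inn ↥H).subgroupOf (F.autGroup H)) := hE.1
  have hcomm : ∀ a b : ↥H, a * b = b * a := fun a b => hab.is_comm.comm a b
  have hI : ∀ α : ↥(F.autGroup H), α ∈ (Inn ↥H).subgroupOf (F.autGroup H) → α = 1 := by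
    intro α hα
    rw [Subgroup.mem_subgroupOf] at hα
    obtain ⟨g, hg⟩ := hα
    apply Subtype.ext
    rw [← hg]
    apply MulEquiv.ext
    intro x
    show g * x * g⁻¹ = x
    rw [hcomm g x, mul_inv_cancel_right]
  have key := @Cfsg.Agent.Helper52.abRk2_main ↥H
    { (inferInstance : Group ↥H) with mul_comm := hcomm } hfin p _ hHp hrk (F.autGroup H)
    ((Inn ↥H).subgroupOf (F.autGroup H)) hn hI hcore hdvd
  rcases key with ⟨h1, h2⟩ | ⟨h1, k, h2⟩
  · left
    refine ⟨⟨hab, ?_⟩, h2⟩
    intro a ha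
    exact congrArg Subtype.val (h1 ⟨a, ha⟩)
  · right
    exact ⟨h1, k, h2⟩

end Cfsg.Agent.S5187
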