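import Cfsg.Statements.S5191

set_option autoImplicit false
open Cfsg

namespace Cfsg.Agent.S5191

open scoped Pointwise

/-- Fusion in a finite group G and in its quotient by O_{p'}(G) agree. -/
theorem result {G : Type*} [Group G] [Finite G] {p : ℕ} [Fact p.Prime]
    [hN : (Cfsg.pPrimeCore p G).Normal] (S : Sylow p G) (P : Subgroup G) (hP : P ≤ (S : Subgroup G))
    (γ : G ⧸ Cfsg.pPrimeCore p G)
    (hγ : ∀ x ∈ P, γ * QuotientGroup.mk x * γ⁻¹ ∈ ((S : Subgroup G).map (QuotientGroup.mk' (Cfsg.pPrimeCore p G)))) :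
    ∃ g : G, ∀ x ∈ P, g * x * g⁻¹ ∈ S ∧
      (QuotientGroup.mk (g * x * g⁻¹) : G ⧸ Cfsg.pPrimeCore p G) = γ * QuotientGroup.mk x * γ⁻¹ := by
  classical
  obtain ⟨g₀, rfl⟩ := QuotientGroup.mk_surjective γ
  set N := Cfsg.pPrimeCore p G with hNdef
  set H : Subgroup G := (S : Subgroup G) ⊔ N with hH
  have hSH : (S : Subgroup G) ≤ H := le_sup_left
  have hNH : N ≤ H := le_sup_right
  -- the conjugate of P by g₀ lies in H
  have hconj : ∀ x ∈ P, g₀ * x * g₀⁻¹ ∈ H := by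
    intro x hx
    obtain ⟨s, hs, hs'⟩ := hγ x hx
    have h1 : (QuotientGroup.mk s : G ⧸ N) = QuotientGroup.mk (g₀ * x * g₀⁻¹) := by
      simpa using hs'
    have h2 : s⁻¹ * (g₀ * x * g₀⁻¹) ∈ N := QuotientGroup.eq.mp h1
    have h3 : g₀ * x * g₀⁻¹ = s * (s⁻¹ * (g₀ * x * g₀⁻¹)) := by group
    rw [h3]
    exact H.mul_mem (hSH hs) (hNH h2)
  -- the p-subgroup of H
  let P' : Subgroup H := (P.map (MulAut.conj g₀).toMonoidHom).subgroupOf H
  have hP' : IsPGroup p P' := by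
    have hPp : IsPGroup p P := S.isPGroup'.to_le hP
    have h1 : IsPGroup p (P.map (MulAut.conj g₀).toMonoidHom) := hPp.map _
    exact h1.comap_of_injective (H.subtype) (Subgroup.subtype_injective H)
  obtain ⟨Q, hQ⟩ := hP'.exists_le_sylow
  let S' : Sylow p H := S.subtype hSH
  obtain ⟨h, hh⟩ := MulAction.exists_smul_eq H Q S'
  have hmem : ∀ x ∈ P, (h : G) * (g₀ * x * g₀⁻¹) * (h : G)⁻¹ ∈ (S : Subgroup G) := by
    intro x hx
    have hx1 : (⟨g₀ * x * g₀⁻¹, hconj x hx⟩ : H) ∈ P' := by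
      rw [Subgroup.mem_subgroupOf]
      exact ⟨x, hx, rfl⟩
    have hx2 : (⟨g₀ * x * g₀⁻¹, hconj x hx⟩ : H) ∈ (Q : Subgroup H) := hQ hx1
    have hx3 : h * (⟨g₀ * x * g₀⁻¹, hconj x hx⟩ : H) * h⁻¹ ∈ ((h • Q : Sylow p H) : Subgroup H) := by
      rw [Sylow.coe_subgroup_smul]
      rw [Subgroup.mem_pointwise_smul_iff_inv_smul_mem]
      simpa [MulAut.smul_def, mul_assoc] using hx2
    rw [hh] at hx3
    have hx4 : h * (⟨g₀ * x * g₀⁻¹, hconj x hx⟩ : H) * h⁻¹ ∈ (S : Subgroup G).subgroupOf H := hx3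
    rw [Subgroup.mem_subgroupOf] at hx4
    simpa using hx4
  -- decompose h = s * n
  have hhH : (h : G) ∈ ((S : Subgroup G) ⊔ N : Subgroup G) := h.2
  have hset : ((h : G)) ∈ ((S : Subgroup G) : Set G) * (N : Set G) := by
    rw [← Subgroup.mul_normal]
    exact hhH
  obtain ⟨s, hs, n, hn, hsn⟩ := hset
  have hsn' : (h : G) = s * n := hsn.symm
  refine ⟨n * g₀, fun x hx => ⟨?_, ?_⟩⟩
  · have h1 := hmem x hx
    rw [hsn'] at h1
    have h2 : n * g₀ * x * (n * g₀)⁻¹ = s⁻¹ * (s * n * (g₀ * x * g₀⁻¹) * (s * n)⁻¹) * s := by group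
    rw [h2]
    exact (S : Subgroup G).mul_mem ((S : Subgroup G).mul_mem ((S : Subgroup G).inv_mem hs) h1) hs
  · have hn1 : (QuotientGroup.mk n : G ⧸ N) = 1 := (QuotientGroup.eq_one_iff n).mpr hn
    have : (QuotientGroup.mk (n * g₀ * x * (n * g₀)⁻¹) : G ⧸ N) =
        QuotientGroup.mk n * (QuotientGroup.mk g₀ * QuotientGroup.mk x * (QuotientGroup.mk g₀)⁻¹) * (QuotientGroup.mk n)⁻¹ := by
      simp [mul_assoc]
    rw [this, hn1, one_mul, inv_one, mul_one]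

end Cfsg.Agent.S5191
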