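import Mathlib
import Cfsg.Statements.S5192
import Cfsg.Agent.Helper86.FocalTransfer
import Cfsg.Agent.Helper84.FusionFocal

set_option autoImplicit false
open Cfsg

namespace Cfsg.Agent.S5192

open Cfsg.FusionSystem Cfsg.Agent.Helper86 MulAction Subgroup

/-- A finite group acting freely on a finite set: its order divides the size of the set. -/
theorem card_dvd_of_free {C Y : Type*} [Group C] [Finite C] [MulAction C Y] [Finite Y]
    (hfree : ∀ (c : C) (y : Y), c • y = y → c = 1) : Nat.card C ∣ Nat.card Y := by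
  classical
  have e := MulAction.selfEquivSigmaOrbitsQuotientStabilizer' C Y
    (φ := fun ω : Quotient (orbitRel C Y) => ω.out) (fun ω => Quotient.out_eq' ω)
  have := Fintype.ofFinite (Quotient (orbitRel C Y))
  rw [Nat.card_congr e, Nat.card_sigma]
  apply Finset.dvd_sum
  intro ω _
  have hst : stabilizer C (ω.out) = ⊥ := by
    rw [eq_bot_iff]
    intro c hc
    exact Subgroup.mem_bot.2 (hfree c _ hc)
  rw [hst, ← Subgroup.index_eq_card, Subgroup.index_bot]

/-- A group acting freely and commuting with `D`: its order divides the number of fixed points of `D`. -/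
theorem card_dvd_fixedPoints_of_free {Γ X C : Type*} [Group Γ] [MulAction Γ X] [Finite X] [Group C]
    [Finite C] (D : Subgroup Γ) (ι : C →* Γ) (hc : ∀ c : C, ∀ d ∈ D, ι c * d = d * ι c)
    (hfree : ∀ (c : C) (x : X), ι c • x = x → c = 1) :
    Nat.card C ∣ Nat.card (fixedPoints D X) := by
  let _ : MulAction C X := MulAction.compHom X ι
  let Y : SubMulAction C X :=
    { carrier := fixedPoints D X
      smul_mem' := by
        intro c x hx d
        show (d : Γ) • (ι c • x) = ι c • x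
        rw [← mul_smul, ← hc c d d.2, mul_smul]
        congr 1
        exact hx d }
  have h1 : Nat.card C ∣ Nat.card Y := by
    apply card_dvd_of_free
    intro c y hy
    apply hfree c y.1
    exact congrArg Subtype.val hy
  exact h1

/-- Summing a class function over a finite group. -/
theorem sum_class_dvd {G : Type*} [Group G] [Fintype G] (Fn : G → ℕ)
    (hF : ∀ s g : G, Fn (s * g * s⁻¹) = Fn g) (d : ℕ)
    (hd : ∀ g : G, d * Nat.card (stabilizer (ConjAct G) g) ∣ Fn g) :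
    d * Nat.card G ∣ ∑ g : G, Fn g := by
  classical
  have := Fintype.ofFinite (Quotient (orbitRel (ConjAct G) G))
  rw [← Finset.sum_fiberwise (s := Finset.univ)
      (g := fun x : G => (Quotient.mk'' x : Quotient (orbitRel (ConjAct G) G))) (f := Fn)]
  apply Finset.dvd_sum
  intro q _
  have hfib : ∀ x : G, (Quotient.mk'' x : Quotient (orbitRel (ConjAct G) G)) = q ↔
      x ∈ orbit (ConjAct G) q.out := by
    intro x
    rw [← orbitRel_apply, ← Quotient.eq'', Quotient.out_eq']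
  have hconst : ∀ x ∈ Finset.univ.filter
      (fun x : G => (Quotient.mk'' x : Quotient (orbitRel (ConjAct G) G)) = q), Fn x = Fn q.out := by
    intro x hx
    obtain ⟨c, rfl⟩ := (hfib x).1 (Finset.mem_filter.1 hx).2
    show Fn (c • q.out) = Fn q.out
    rw [ConjAct.smul_def]
    exact hF _ _
  rw [Finset.sum_congr rfl hconst, Finset.sum_const, smul_eq_mul]
  have hcard : (Finset.univ.filter
      (fun x : G => (Quotient.mk'' x : Quotient (orbitRel (ConjAct G) G)) = q)).card =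
      Nat.card (orbit (ConjAct G) q.out) := by
    rw [natCard_set_eq_card_filter]
    congr 1
    ext x
    simp only [Finset.mem_filter, Finset.mem_univ, true_and]
    exact hfib x
  rw [hcard]
  obtain ⟨t, ht⟩ := hd q.out
  rw [ht]
  have horb : Nat.card (orbit (ConjAct G) q.out) * Nat.card (stabilizer (ConjAct G) q.out) =
      Nat.card G := by
    have e := orbitProdStabilizerEquivGroup (ConjAct G) q.out
    rw [← Nat.card_prod, Nat.card_congr e]
    rfl
  exact ⟨t, by rw [← horb]; ring⟩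

theorem two_mul_dvd_of_lt {a b n : ℕ} (ha : a ∣ 2 ^ n) (hb : b ∣ 2 ^ n) (hab : a < b) : 2 * a ∣ b := by
  obtain ⟨x, -, rfl⟩ := (Nat.dvd_prime_pow Nat.prime_two).1 ha
  obtain ⟨y, -, rfl⟩ := (Nat.dvd_prime_pow Nat.prime_two).1 hb
  have hxy : x < y := (Nat.pow_lt_pow_iff_right (by norm_num)).1 hab
  have : 2 * 2 ^ x = 2 ^ (x + 1) := by rw [pow_succ]; ring
  rw [this]
  exact pow_dvd_pow 2 hxy

theorem zpow_of_sq {Ω : Type*} [Group Ω] {x : Ω} (hx : x ^ 2 = 1) (n : ℤ) : x ^ n = 1 ∨ x ^ n = x := by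
  have e : x ^ n = x ^ (2 * (n / 2) + n % 2) := by rw [Int.mul_ediv_add_emod]
  have h2 : x ^ (2 : ℤ) = 1 := by
    have : x ^ (2 : ℤ) = x ^ (2 : ℕ) := zpow_ofNat x 2
    rw [this, hx]
  rw [e, zpow_add, zpow_mul, h2, one_zpow, one_mul]
  rcases Int.emod_two_eq_zero_or_one n with h | h
  · left; rw [h, zpow_zero]
  · right; rw [h, zpow_one]

/-- The centralizer of an element of `S` is contained in the normalizer of the cyclic subgroup it generates. -/
theorem card_stab_le {Ω : Type*} [Group Ω] (S : Subgroup Ω) [Finite S] (g : ↥S) :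
    Nat.card (stabilizer (ConjAct ↥S) g) ≤ Nat.card (normalizerIn S (zpowers (g : Ω))) := by
  have hfin : Finite (normalizerIn S (zpowers (g : Ω))) :=
    Helper87.finite_of_le (Helper84.normalizerIn_le_S S _)
  have hmem : ∀ c : stabilizer (ConjAct ↥S) g,
      ((ConjAct.ofConjAct (c : ConjAct ↥S) : ↥S) : Ω) ∈ normalizerIn S (zpowers (g : Ω)) := by
    intro c
    have hc : (c : ConjAct ↥S) • g = g := c.2
    rw [ConjAct.smul_def] at hc
    have hc' : ((ConjAct.ofConjAct (c : ConjAct ↥S) : ↥S) : Ω) * (g : Ω) *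
        ((ConjAct.ofConjAct (c : ConjAct ↥S) : ↥S) : Ω)⁻¹ = (g : Ω) := congrArg Subtype.val hc
    generalize ((ConjAct.ofConjAct (c : ConjAct ↥S) : ↥S)) = s at hc'
    refine Subgroup.mem_inf.2 ⟨s.2, ?_⟩
    rw [Subgroup.mem_normalizer_iff]
    intro x
    have hfix : ∀ y ∈ zpowers (g : Ω), (s : Ω) * y * (s : Ω)⁻¹ = y := by
      intro y hy
      obtain ⟨n, rfl⟩ := Subgroup.mem_zpowers_iff.1 hy
      have h1 := map_zpow (MulAut.conj (s : Ω)) (g : Ω) n
      simp only [MulAut.conj_apply] at h1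
      rw [h1, hc']
    constructor
    · intro hx
      rw [hfix x hx]
      exact hx
    · intro hx
      have h2 := hfix _ hx
      have h4 : (s : Ω)⁻¹ * ((s : Ω) * ((s : Ω) * x * (s : Ω)⁻¹) * (s : Ω)⁻¹) * (s : Ω) =
          (s : Ω)⁻¹ * ((s : Ω) * x * (s : Ω)⁻¹) * (s : Ω) := by rw [h2]
      have e1 : (s : Ω)⁻¹ * ((s : Ω) * ((s : Ω) * x * (s : Ω)⁻¹) * (s : Ω)⁻¹) * (s : Ω) =
          (s : Ω) * x * (s : Ω)⁻¹ := by group
      have e2 : (s : Ω)⁻¹ * ((s : Ω) * x * (s : Ω)⁻¹) * (s : Ω) = x := by group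
      rw [e1, e2] at h4
      rw [← h4]
      exact hx
  exact Nat.card_le_card_of_injective
    (fun c => (⟨_, hmem c⟩ : normalizerIn S (zpowers (g : Ω))))
    (fun c c' hcc => by
      have h1 : ((ConjAct.ofConjAct (c : ConjAct ↥S) : ↥S) : Ω) =
          ((ConjAct.ofConjAct (c' : ConjAct ↥S) : ↥S) : Ω) :=
        congrArg (fun t : normalizerIn S (zpowers (g : Ω)) => (t : Ω)) hcc
      apply Subtype.ext
      exact ConjAct.ofConjAct.injective (Subtype.ext h1))

section Pure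

variable {G : Type*} [Group G] [Fintype G] {A : Type*} [CommGroup A]

open Classical in
theorem finprod_two_valued (ε : A) (hA : ∀ a : A, a = 1 ∨ a = ε) {Q : Type*} [Finite Q] (u : Q → A) :
    ∏ᶠ q, u q = ε ^ Nat.card {q // u q = ε} := by
  have := Fintype.ofFinite Q
  rw [finprod_eq_prod_of_fintype, natCard_subtype_eq_card_filter]
  have h : ∀ q ∈ Finset.univ, u q = if u q = ε then ε else 1 := by
    intro q _
    by_cases hq : u q = ε
    · rw [if_pos hq, hq]
    · rw [if_neg hq]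
      exact (hA (u q)).resolve_right hq
  rw [Finset.prod_congr rfl h, Finset.prod_ite, Finset.prod_const, Finset.prod_const_one, mul_one]

omit [Fintype G] in
theorem conj_inv (ν : G →* A) (g t : G) : ν (g * t * g⁻¹) = ν t := by
  rw [map_mul, map_mul, map_inv, mul_comm (ν g), mul_assoc, mul_inv_cancel, mul_one]

/-- The twisted transfer in terms of the numbers of orbits with value `ε`. -/
theorem twisted_eq (ε : A) (hA : ∀ a : A, a = 1 ∨ a = ε) (ν : G →* A) {ι : Type*} [Fintype ι]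
    (H : ι → Subgroup G) (f : ∀ k, H k →* G) (z : ∀ k, H k →* A) (mult : ι → ℕ)
    (hz : ∀ k (x : H k), z k x = ν (f k x) * (ν x)⁻¹) (w : G) :
    ν w ^ (∑ k, mult k * (H k).index) * ∏ k, (MonoidHom.transfer (z k) w) ^ mult k =
      ε ^ (∑ k, mult k * Nat.card {q : orbitRel.Quotient (zpowers w) (G ⧸ H k) //
        valFun (⇑ν) (H k) (f k) w q.out = ε}) := by
  have hν1 : ∀ t t', t ∈ (⊤ : Subgroup G) → t' ∈ (⊤ : Subgroup G) → ν (t * t') = ν t * ν t' :=
    fun t t' _ _ => map_mul ν t t'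
  have hν2 : ∀ g t, ν (g * t * g⁻¹) = ν t := conj_inv ν
  have h1 : ∀ k, MonoidHom.transfer (z k) w =
      ε ^ Nat.card {q : orbitRel.Quotient (zpowers w) (G ⧸ H k) //
        valFun (⇑ν) (H k) (f k) w q.out = ε} * ((ν w)⁻¹) ^ (H k).index := by
    intro k
    rw [transfer_eq_val (T := ⊤) hν1 hν2 (H k) (f k) (z k) (fun x _ => hz k x) (Subgroup.mem_top w),
      finprod_two_valued ε hA]
  rw [Finset.prod_congr rfl (fun k _ => by rw [h1 k, mul_pow, ← pow_mul, ← pow_mul]),
    Finset.prod_mul_distrib, Finset.prod_pow_eq_pow_sum, Finset.prod_pow_eq_pow_sum]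
  have e : ∑ k, (H k).index * mult k = ∑ k, mult k * (H k).index :=
    Finset.sum_congr rfl (fun k _ => mul_comm _ _)
  have e' : ∑ k, Nat.card {q : orbitRel.Quotient (zpowers w) (G ⧸ H k) //
        valFun (⇑ν) (H k) (f k) w q.out = ε} * mult k =
      ∑ k, mult k * Nat.card {q : orbitRel.Quotient (zpowers w) (G ⧸ H k) //
        valFun (⇑ν) (H k) (f k) w q.out = ε} :=
    Finset.sum_congr rfl (fun k _ => mul_comm _ _)
  rw [e, e', inv_pow, mul_left_comm, mul_inv_cancel, mul_one]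

open Classical in
/-- For an involution: the number of orbits with value `ε`, in terms of fixed point numbers. -/
theorem card_val_eps (ε : A) (hε : ε ≠ 1) (hε2 : ε ^ 2 = 1) (hA : ∀ a : A, a = 1 ∨ a = ε) (ν : G →* A)
    (H : Subgroup G) (f : H →* G) (w : G) (hw : w ^ 2 = 1) :
    Nat.card G * Nat.card {q : orbitRel.Quotient (zpowers w) (G ⧸ H) // valFun (⇑ν) H f w q.out = ε} =
      ∑ g : G, (if ν g = ε then
        Nat.card (fixedPoints (zpowers ((w, g) : G × G)) ((G × G) ⧸ gr H f)) else 0) := by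
  have : Fact (Nat.Prime 2) := ⟨Nat.prime_two⟩
  have hν1 : ∀ t t', t ∈ (⊤ : Subgroup G) → t' ∈ (⊤ : Subgroup G) → ν (t * t') = ν t * ν t' :=
    fun t t' _ _ => map_mul ν t t'
  have hν2 : ∀ g t, ν (g * t * g⁻¹) = ν t := conj_inv ν
  have hA2 : ∀ a : A, a ^ 2 = 1 := by
    intro a
    rcases hA a with h | h
    · rw [h, one_pow]
    · rw [h, hε2]
  have hper : ∀ x : G ⧸ H, valFun (⇑ν) H f w x = ε → Function.minimalPeriod (w • ·) x = 2 ^ 0 := by
    intro x hx
    have hd : Function.minimalPeriod (w • ·) x ∣ 2 :=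
      pow_smul_eq_iff_minimalPeriod_dvd.1 (by rw [hw, one_smul])
    rcases (Nat.dvd_prime Nat.prime_two).1 hd with h1 | h2
    · rw [h1, pow_zero]
    · exfalso
      unfold valFun at hx
      rw [h2, hw] at hx
      have e : (x.out)⁻¹ * 1 * x.out = (1 : G) := by group
      rw [e, muFun_of_mem (⇑ν) f H.one_mem] at hx
      have e2 : (⟨1, H.one_mem⟩ : H) = 1 := rfl
      rw [e2, map_one, map_one] at hx
      exact hε hx.symm
  have h1 := card_mu_eq (p := 2) (T := ⊤) hA2 hν1 hν2 H f (fun x _ => Subgroup.mem_top _)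
    (Subgroup.mem_top w) hε 0
  have h2 := sum_fix_eq hν2 H f w hε
  rw [finsum_eq_sum_of_fintype] at h2
  have h3 : Nat.card {q : orbitRel.Quotient (zpowers w) (G ⧸ H) // valFun (⇑ν) H f w q.out = ε} =
      Nat.card {q : orbitRel.Quotient (zpowers w) (G ⧸ H) //
        Function.minimalPeriod (w • ·) q.out = 2 ^ 0 ∧ valFun (⇑ν) H f w q.out = ε} :=
    Nat.card_congr (Equiv.subtypeEquivRight (fun q => ⟨fun hq => ⟨hper _ hq, hq⟩, fun hq => hq.2⟩))
  have h4 : Nat.card {a : G // muFun (⇑ν) H f (a⁻¹ * w * a) = ε} =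
      Nat.card {a : G // muFun (⇑ν) H f (a⁻¹ * w ^ (2 ^ 0) * a) = ε} := by
    simp only [pow_zero, pow_one]
  rw [h4, h1] at h2
  have hHpos : 0 < Nat.card H := Nat.card_pos
  apply Nat.eq_of_mul_eq_mul_left hHpos
  rw [h3, h2]
  ring

/-- Summing the fixed point numbers of `⟨(w, g)⟩` over all `g`. -/
theorem sum_fix_all (H : Subgroup G) (f : H →* G) (w : G) :
    ∑ g : G, Nat.card (fixedPoints (zpowers ((w, g) : G × G)) ((G × G) ⧸ gr H f)) =
      Nat.card G * Nat.card (fixedPoints (zpowers w) (G ⧸ H)) := by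
  have hζ : (-1 : ℤˣ) ≠ 1 := by decide
  have h := sum_fix_eq (ν := fun _ : G => (-1 : ℤˣ)) (fun _ _ => rfl) H f w hζ
  rw [finsum_eq_sum_of_fintype] at h
  simp only [if_true] at h
  have hmu : ∀ a : G, muFun (fun _ : G => (-1 : ℤˣ)) H f (a⁻¹ * w * a) = -1 ↔ a⁻¹ * w * a ∈ H := by
    intro a
    constructor
    · intro hh
      by_contra hn
      rw [muFun_of_not_mem _ f hn] at hh
      exact hζ hh.symm
    · intro hh
      rw [muFun_of_mem _ f hh]
  rw [Nat.card_congr (Equiv.subtypeEquivRight hmu)] at h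
  have h5 := card_fixedPoints_quotient H (zpowers w)
  have h6 : Nat.card {g : G // ∀ d ∈ zpowers w, g⁻¹ * d * g ∈ H} =
      Nat.card {a : G // a⁻¹ * w * a ∈ H} :=
    Nat.card_congr (Equiv.subtypeEquivRight (fun a => ⟨fun hh => hh w (mem_zpowers w), fun hh d hd => by
      obtain ⟨n, rfl⟩ := mem_zpowers_iff.1 hd
      have h1 := map_zpow (MulAut.conj a⁻¹) w n
      simp only [MulAut.conj_apply, inv_inv] at h1
      rw [h1]
      exact zpow_mem hh n⟩))
  rw [h6] at h5
  rw [← h5] at h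
  have hHpos : 0 < Nat.card H := Nat.card_pos
  apply Nat.eq_of_mul_eq_mul_left hHpos
  rw [h]
  ring

open Classical in
/-- **Thompson transfer, counting form.** -/
theorem twisted_ne_one (ε : A) (hε : ε ≠ 1) (hε2 : ε ^ 2 = 1) (hA : ∀ a : A, a = 1 ∨ a = ε)
    (ν : G →* A) {ι : Type*} [Fintype ι] (H : ι → Subgroup G) (f : ∀ k, H k →* G)
    (z : ∀ k, H k →* A) (mult : ι → ℕ)
    (hz : ∀ k (x : H k), z k x = ν (f k x) * (ν x)⁻¹)
    (hodd : ¬ 2 ∣ ∑ k, mult k * (H k).index) (w : G) (hw : w ^ 2 = 1)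
    (hdvd : ∀ g : G, ν g = 1 → 2 * Nat.card (stabilizer (ConjAct G) g) ∣
      ∑ k, mult k * Nat.card (fixedPoints (zpowers ((w, g) : G × G)) ((G × G) ⧸ gr (H k) (f k)))) :
    ν w ^ (∑ k, mult k * (H k).index) * ∏ k, (MonoidHom.transfer (z k) w) ^ mult k ≠ 1 := by
  have : Fact (Nat.Prime 2) := ⟨Nat.prime_two⟩
  rw [twisted_eq ε hA ν H f z mult hz w]
  have hGpos : 0 < Nat.card G := Nat.card_pos
  -- (2)
  have h2 : Nat.card G * (∑ k, mult k * Nat.card {q : orbitRel.Quotient (zpowers w) (G ⧸ H k) //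
        valFun (⇑ν) (H k) (f k) w q.out = ε}) =
      ∑ g : G, (if ν g = ε then ∑ k, mult k *
        Nat.card (fixedPoints (zpowers ((w, g) : G × G)) ((G × G) ⧸ gr (H k) (f k))) else 0) := by
    calc Nat.card G * (∑ k, mult k * Nat.card {q : orbitRel.Quotient (zpowers w) (G ⧸ H k) //
          valFun (⇑ν) (H k) (f k) w q.out = ε})
        = ∑ k, mult k * (Nat.card G * Nat.card {q : orbitRel.Quotient (zpowers w) (G ⧸ H k) //
          valFun (⇑ν) (H k) (f k) w q.out = ε}) := by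
          rw [Finset.mul_sum]
          exact Finset.sum_congr rfl (fun k _ => by ring)
      _ = ∑ k, mult k * ∑ g : G, (if ν g = ε then
            Nat.card (fixedPoints (zpowers ((w, g) : G × G)) ((G × G) ⧸ gr (H k) (f k))) else 0) := by
          refine Finset.sum_congr rfl (fun k _ => ?_)
          rw [card_val_eps ε hε hε2 hA ν (H k) (f k) w hw]
      _ = _ := by
          simp_rw [Finset.mul_sum]
          rw [Finset.sum_comm]
          refine Finset.sum_congr rfl (fun g _ => ?_)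
          by_cases hg : ν g = ε
          · simp only [if_pos hg]
          · simp only [if_neg hg, mul_zero, Finset.sum_const_zero]
  -- (3)
  have h3 : ∑ g : G, ∑ k, mult k *
        Nat.card (fixedPoints (zpowers ((w, g) : G × G)) ((G × G) ⧸ gr (H k) (f k))) =
      Nat.card G * ∑ k, mult k * Nat.card (fixedPoints (zpowers w) (G ⧸ H k)) := by
    rw [Finset.sum_comm, Finset.mul_sum]
    refine Finset.sum_congr rfl (fun k _ => ?_)
    rw [← Finset.mul_sum, sum_fix_all (H k) (f k) w]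
    ring
  -- (4)
  have hzp : IsPGroup 2 (zpowers w) := by
    rintro ⟨g, hg⟩
    obtain ⟨n, rfl⟩ := mem_zpowers_iff.1 hg
    refine ⟨1, Subtype.ext ?_⟩
    show (w ^ n) ^ (2 ^ 1) = 1
    rw [pow_one, ← zpow_natCast, ← zpow_mul, mul_comm, zpow_mul, zpow_natCast, hw, one_zpow]
  have h4 : (∑ k, mult k * Nat.card (fixedPoints (zpowers w) (G ⧸ H k))) % 2 =
      (∑ k, mult k * (H k).index) % 2 := by
    rw [Finset.sum_nat_mod, Finset.sum_nat_mod (f := fun k => mult k * (H k).index)]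
    congr 1
    refine Finset.sum_congr rfl (fun k _ => ?_)
    have h5 : Nat.card (G ⧸ H k) ≡ Nat.card (fixedPoints (zpowers w) (G ⧸ H k)) [MOD 2] :=
      hzp.card_modEq_card_fixedPoints (G ⧸ H k)
    exact (h5.symm.mul_left (mult k))
  -- (5)
  have h5 : 2 * Nat.card G ∣ ∑ g : G, (if ν g = 1 then ∑ k, mult k *
        Nat.card (fixedPoints (zpowers ((w, g) : G × G)) ((G × G) ⧸ gr (H k) (f k))) else 0) := by
    refine sum_class_dvd _ ?_ 2 ?_
    · intro s g
      have e1 : ν (s * g * s⁻¹) = ν g := conj_inv ν s g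
      have e2 : ∀ k, Nat.card (fixedPoints (zpowers ((w, s * g * s⁻¹) : G × G))
          ((G × G) ⧸ gr (H k) (f k))) =
          Nat.card (fixedPoints (zpowers ((w, g) : G × G)) ((G × G) ⧸ gr (H k) (f k))) := by
        intro k
        refine card_fixedPoints_quotient_conj _ _ _ ((1, s) : G × G) ?_
        intro y
        have e3 : zpowers ((w, s * g * s⁻¹) : G × G) =
            (zpowers ((w, g) : G × G)).map (MulAut.conj ((1, s) : G × G)).toMonoidHom := by
          rw [MonoidHom.map_zpowers]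
          congr 1
          apply Prod.ext <;> simp
        rw [e3, Subgroup.mem_map_equiv, MulAut.conj_symm_apply]
      simp only [e1, e2]
    · intro g
      by_cases hg : ν g = 1
      · rw [if_pos hg]
        exact hdvd g hg
      · rw [if_neg hg]
        exact dvd_zero _
  -- (6)
  have h6 : ∑ g : G, ∑ k, mult k *
        Nat.card (fixedPoints (zpowers ((w, g) : G × G)) ((G × G) ⧸ gr (H k) (f k))) =
      (∑ g : G, (if ν g = 1 then ∑ k, mult k *
        Nat.card (fixedPoints (zpowers ((w, g) : G × G)) ((G × G) ⧸ gr (H k) (f k))) else 0)) +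
      ∑ g : G, (if ν g = ε then ∑ k, mult k *
        Nat.card (fixedPoints (zpowers ((w, g) : G × G)) ((G × G) ⧸ gr (H k) (f k))) else 0) := by
    rw [← Finset.sum_add_distrib]
    refine Finset.sum_congr rfl (fun g _ => ?_)
    rcases hA (ν g) with h1 | h1
    · rw [h1, if_pos rfl, if_neg (Ne.symm hε), add_zero]
    · rw [h1, if_neg hε, if_pos rfl, zero_add]
  -- (7)
  obtain ⟨e, he⟩ := h5
  rw [h3, he, ← h2] at h6
  have h7 : ∑ k, mult k * Nat.card (fixedPoints (zpowers w) (G ⧸ H k)) =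
      2 * e + ∑ k, mult k * Nat.card {q : orbitRel.Quotient (zpowers w) (G ⧸ H k) //
        valFun (⇑ν) (H k) (f k) w q.out = ε} := by
    apply Nat.eq_of_mul_eq_mul_left hGpos
    rw [h6]
    ring
  have h8 : (∑ k, mult k * Nat.card {q : orbitRel.Quotient (zpowers w) (G ⧸ H k) //
        valFun (⇑ν) (H k) (f k) w q.out = ε}) % 2 = 1 := by
    have h9 : (∑ k, mult k * (H k).index) % 2 = 1 := by omega
    omega
  obtain ⟨t, ht⟩ : ∃ t, ∑ k, mult k * Nat.card {q : orbitRel.Quotient (zpowers w) (G ⧸ H k) //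
        valFun (⇑ν) (H k) (f k) w q.out = ε} = 2 * t + 1 := ⟨_, (Nat.div_add_mod _ 2).symm.trans (by rw [h8])⟩
  rw [ht, pow_succ, pow_mul, hε2, one_pow, one_mul]
  exact hε

end Pure

/-- The stable homomorphism of the Thompson transfer lemma. -/
theorem main {Ω : Type*} [Group Ω] {S : Subgroup Ω} [Finite S]
    (hS : IsPGroup 2 ↥S) (F : Cfsg.FusionSystem S) (hF : F.IsSaturated 2)
    (T : Subgroup Ω) (hT : T.relIndex S = 2)
    (i : Ω) (hi : i ∈ S) (hi2 : i ^ 2 = 1)
    (h : ∀ j : Ω, F.IsConjElt i j → F.IsFullyNormalized (Subgroup.zpowers j) → j ∉ T) :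
    ∃ Ψ : ↥S →* ℤˣ, (∀ (P : Subgroup Ω) (φ : P →* Ω) (hφ : φ ∈ F.Hom P) (y : P),
        Ψ ⟨φ y, Helper87.hom_mem F hφ y⟩ = Ψ ⟨y, Helper87.hom_le F hφ y.2⟩) ∧ Ψ ⟨i, hi⟩ ≠ 1 := by
  classical
  have : Fact (Nat.Prime 2) := ⟨Nat.prime_two⟩
  have hfinS : Fintype ↥S := Fintype.ofFinite ↥S
  -- the sign homomorphism
  have hT' : (T.subgroupOf S).index = 2 := hT
  let lam : ↥S →* ℤˣ :=
    { toFun := fun s => if s ∈ T.subgroupOf S then 1 else -1
      map_one' := by simp
      map_mul' := by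
        intro a b
        have := Subgroup.mul_mem_iff_of_index_two hT' (a := a) (b := b)
        by_cases ha : a ∈ T.subgroupOf S <;> by_cases hb : b ∈ T.subgroupOf S <;> simp [ha, hb, this] }
  have hlam : ∀ s : ↥S, lam s = if s ∈ T.subgroupOf S then 1 else -1 := fun s => rfl
  obtain ⟨mult, hsupp, hinv, hpm⟩ := exists_biset hS F hF
  have hfinι : Fintype {K : Subgroup (↥S × ↥S) // IsGraph F K} := Fintype.ofFinite _
  have hex : ∀ k : {K : Subgroup (↥S × ↥S) // IsGraph F K},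
      ∃ (P : Subgroup Ω) (φ : P →* Ω), φ ∈ F.Hom P ∧ k.1 = graph S P φ := fun k => k.2
  choose Pc φc hφc hKc using hex
  have hgr : ∀ k : {K : Subgroup (↥S × ↥S) // IsGraph F K},
      gr ((Pc k).subgroupOf S) (restrHom S (φc k) (Helper87.hom_mem F (hφc k))) = k.1 :=
    fun k => (gr_restrHom S (φc k) _).trans (hKc k).symm
  have hzero : ∀ K : Subgroup (↥S × ↥S), ¬ IsGraph F K → mult K = 0 := by
    intro K hK
    by_contra h
    exact hK (hsupp K h)
  have hcnt : ∀ D : Subgroup (↥S × ↥S),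
      ∑ k : {K : Subgroup (↥S × ↥S) // IsGraph F K}, mult k.1 * Nat.card (fixedPoints D
        ((↥S × ↥S) ⧸ gr ((Pc k).subgroupOf S) (restrHom S (φc k) (Helper87.hom_mem F (hφc k))))) =
      cnt mult D := by
    intro D
    have h1 : ∀ k : {K : Subgroup (↥S × ↥S) // IsGraph F K}, mult k.1 * Nat.card (fixedPoints D
        ((↥S × ↥S) ⧸ gr ((Pc k).subgroupOf S) (restrHom S (φc k) (Helper87.hom_mem F (hφc k))))) =
        mult k.1 * Nat.card (fixedPoints D ((↥S × ↥S) ⧸ k.1)) := by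
      intro k
      rw [hgr k]
    rw [Finset.sum_congr rfl (fun k _ => h1 k)]
    exact sum_subtype_isGraph F (fun K => mult K * Nat.card (fixedPoints D ((↥S × ↥S) ⧸ K)))
      (fun K hK => by rw [hzero K hK, zero_mul])
  have hm : ∑ k : {K : Subgroup (↥S × ↥S) // IsGraph F K}, mult k.1 * ((Pc k).subgroupOf S).index =
      ∑ᶠ K : Subgroup (↥S × ↥S), mult K * (Nat.card S / Nat.card K) := by
    have h1 : ∀ k : {K : Subgroup (↥S × ↥S) // IsGraph F K},
        ((Pc k).subgroupOf S).index = Nat.card S / Nat.card k.1 := by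
      intro k
      have hP : Pc k ≤ S := Helper87.hom_le F (hφc k)
      have h2 := Subgroup.card_mul_index ((Pc k).subgroupOf S)
      rw [Nat.card_congr (Subgroup.subgroupOfEquivOfLe hP).toEquiv] at h2
      have h3 : Nat.card k.1 = Nat.card (Pc k) := by
        have h4 := card_graph hP (Helper87.hom_mem F (hφc k))
        rw [← hKc k] at h4
        exact h4
      rw [h3]
      have hfinP : Finite (Pc k) := Helper87.finite_of_le hP
      exact (Nat.div_eq_of_eq_mul_right Nat.card_pos h2.symm).symm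
    rw [Finset.sum_congr rfl (fun k _ => by rw [h1 k])]
    exact sum_subtype_isGraph F (fun K => mult K * (Nat.card S / Nat.card K))
      (fun K hK => by rw [hzero K hK, zero_mul])
  have hpm' : ¬ 2 ∣ ∑ k : {K : Subgroup (↥S × ↥S) // IsGraph F K},
      mult k.1 * ((Pc k).subgroupOf S).index := by
    rw [hm]
    exact hpm
  -- the homomorphisms `z k`
  obtain ⟨z, hz⟩ : ∃ z : ∀ k : {K : Subgroup (↥S × ↥S) // IsGraph F K}, ((Pc k).subgroupOf S) →* ℤˣ,
      ∀ k (a : (Pc k).subgroupOf S), z k a =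
        lam (restrHom S (φc k) (Helper87.hom_mem F (hφc k)) a) * (lam (a : ↥S))⁻¹ :=
    ⟨fun k => (lam.comp (restrHom S (φc k) (Helper87.hom_mem F (hφc k)))) /
      (lam.comp ((Pc k).subgroupOf S).subtype), fun k a => by
        rw [MonoidHom.div_apply, div_eq_mul_inv]
        rfl⟩
  -- the stable map
  have hν2 : ∀ g t : ↥S, lam (g * t * g⁻¹) = lam t := conj_inv lam
  have hstab : ∀ (P : Subgroup Ω) (φ : P →* Ω) (hφ : φ ∈ F.Hom P) (y : P),
      lam ⟨y, Helper87.hom_le F hφ y.2⟩ ^ (∑ k : {K : Subgroup (↥S × ↥S) // IsGraph F K},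
          mult k.1 * ((Pc k).subgroupOf S).index) *
        ∏ k : {K : Subgroup (↥S × ↥S) // IsGraph F K},
          (MonoidHom.transfer (z k) (⟨y, Helper87.hom_le F hφ y.2⟩ : ↥S)) ^ mult k.1 =
      lam ⟨φ y, Helper87.hom_mem F hφ y⟩ ^ (∑ k : {K : Subgroup (↥S × ↥S) // IsGraph F K},
          mult k.1 * ((Pc k).subgroupOf S).index) *
        ∏ k : {K : Subgroup (↥S × ↥S) // IsGraph F K},
          (MonoidHom.transfer (z k) (⟨φ y, Helper87.hom_mem F hφ y⟩ : ↥S)) ^ mult k.1 := by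
    intro P φ hφ y
    have hP : P ≤ S := Helper87.hom_le F hφ
    refine stable_transfer_gen hS (⊤ : Subgroup ↥S) (fun w => lam w) (fun t t' _ _ => map_mul lam t t') hν2
      (fun k : {K : Subgroup (↥S × ↥S) // IsGraph F K} => (Pc k).subgroupOf S)
      (fun k => restrHom S (φc k) (Helper87.hom_mem F (hφc k))) z
      (fun k => mult k.1) (fun _ _ _ => Subgroup.mem_top _) (fun k a _ => hz k a)
      ⟨y, hP y.2⟩ ⟨φ y, Helper87.hom_mem F hφ y⟩ (Subgroup.mem_top _) (Subgroup.mem_top _) ?_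
    intro k g
    have h3 := hcnt (Subgroup.zpowers (((⟨y, hP y.2⟩ : ↥S) ^ k, g) : ↥S × ↥S))
    have h4 := hcnt (Subgroup.zpowers (((⟨φ y, Helper87.hom_mem F hφ y⟩ : ↥S) ^ k, g) : ↥S × ↥S))
    refine h3.trans (Eq.trans ?_ h4.symm)
    have key : ∀ (n : ℤ) (h1 : ((((((⟨y, hP y.2⟩ : ↥S) ^ k, g) : ↥S × ↥S) ^ n).1 : ↥S) : Ω) ∈ P),
        φ ⟨_, h1⟩ = ((((((⟨φ y, Helper87.hom_mem F hφ y⟩ : ↥S) ^ k, g) : ↥S × ↥S) ^ n).1 : ↥S) : Ω) := by
      intro n h1
      have h5 : (⟨_, h1⟩ : P) = (y ^ k) ^ n := by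
        apply Subtype.ext
        simp
      rw [h5, map_zpow, map_pow]
      simp
    refine cnt_eq_of_maps F mult hsupp 0 hinv hφ (Helper87.subtype_mem F (le_refl S)) ?_ ?_ Nat.card_pos
    · intro x hx
      obtain ⟨n, rfl⟩ := Subgroup.mem_zpowers_iff.1 hx
      refine ⟨?_, Subtype.property _⟩
      have h6 : ((((((⟨y, hP y.2⟩ : ↥S) ^ k, g) : ↥S × ↥S) ^ n).1 : ↥S) : Ω) = ((y : Ω) ^ k) ^ n := by
        simp
      rw [h6]
      exact P.zpow_mem (P.pow_mem y.2 k) n
    · intro x'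
      constructor
      · intro hx'
        obtain ⟨n, rfl⟩ := Subgroup.mem_zpowers_iff.1 hx'
        have h6 : ((((((⟨y, hP y.2⟩ : ↥S) ^ k, g) : ↥S × ↥S) ^ n).1 : ↥S) : Ω) ∈ P := by
          have h7 : ((((((⟨y, hP y.2⟩ : ↥S) ^ k, g) : ↥S × ↥S) ^ n).1 : ↥S) : Ω) =
              ((y : Ω) ^ k) ^ n := by simp
          rw [h7]
          exact P.zpow_mem (P.pow_mem y.2 k) n
        exact ⟨_, Subgroup.zpow_mem _ (Subgroup.mem_zpowers _) n, h6, Subtype.property _,
          (key n h6).symm, rfl⟩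
      · rintro ⟨x, hx, h1, h2, e1, e2⟩
        obtain ⟨n, rfl⟩ := Subgroup.mem_zpowers_iff.1 hx
        have h8 : x' = (((⟨φ y, Helper87.hom_mem F hφ y⟩ : ↥S) ^ k, g) : ↥S × ↥S) ^ n := by
          apply Prod.ext
          · exact Subtype.ext (e1.trans (key n h1))
          · exact Subtype.ext e2
        rw [h8]
        exact Subgroup.zpow_mem _ (Subgroup.mem_zpowers _) n
  -- the stable map as a homomorphism
  obtain ⟨Ψ, hΨ⟩ : ∃ Ψ : ↥S →* ℤˣ, ∀ w : ↥S, Ψ w =
      lam w ^ (∑ k : {K : Subgroup (↥S × ↥S) // IsGraph F K}, mult k.1 * ((Pc k).subgroupOf S).index) *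
        ∏ k : {K : Subgroup (↥S × ↥S) // IsGraph F K}, (MonoidHom.transfer (z k) w) ^ mult k.1 :=
    ⟨lam ^ (∑ k : {K : Subgroup (↥S × ↥S) // IsGraph F K}, mult k.1 * ((Pc k).subgroupOf S).index) *
        ∏ k : {K : Subgroup (↥S × ↥S) // IsGraph F K}, (MonoidHom.transfer (z k)) ^ mult k.1, fun w => by
      rw [MonoidHom.mul_apply, MonoidHom.pow_apply, MonoidHom.finsetProd_apply]
      rfl⟩
  refine ⟨Ψ, fun P φ hφ y => ?_, ?_⟩
  · rw [hΨ, hΨ, ← hstab P φ hφ y]
  -- the value at the involution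
  rw [hΨ]
  have hii : (⟨i, hi⟩ : ↥S) ^ 2 = 1 := Subtype.ext (by simpa using hi2)
  refine twisted_ne_one (-1 : ℤˣ) (by decide) (by decide) (fun a => Int.units_eq_one_or a) lam
    (fun k : {K : Subgroup (↥S × ↥S) // IsGraph F K} => (Pc k).subgroupOf S)
    (fun k => restrHom S (φc k) (Helper87.hom_mem F (hφc k))) z (fun k => mult k.1) hz hpm'
    ⟨i, hi⟩ hii ?_
  intro g hg
  rw [hcnt (zpowers (((⟨i, hi⟩ : ↥S), g) : ↥S × ↥S))]
  by_cases hgraph : IsGraph F (zpowers (((⟨i, hi⟩ : ↥S), g) : ↥S × ↥S))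
  swap
  · rw [cnt_eq_zero_of_not_isGraph F mult hsupp hgraph]
    exact dvd_zero _
  obtain ⟨P, φ, hφ, hD⟩ := hgraph
  have hmem : (((⟨i, hi⟩ : ↥S), g) : ↥S × ↥S) ∈ graph S P φ := hD ▸ mem_zpowers _
  obtain ⟨hiP, hφi⟩ := hmem
  have hiP' : i ∈ P := hiP
  have hφi' : φ ⟨i, hiP'⟩ = (g : Ω) := hφi
  have hgT : (g : Ω) ∈ T := by
    by_contra hn
    have h1 : lam g = -1 := by
      rw [hlam, if_neg (fun h' => hn (Subgroup.mem_subgroupOf.1 h'))]
    rw [h1] at hg
    exact absurd hg (by decide)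
  have hconj : F.IsConjElt i (g : Ω) := by
    have hle : zpowers i ≤ P := (zpowers_le).2 hiP'
    exact ⟨φ.comp (Subgroup.inclusion hle), Helper87.hom_restrict F hφ hle, hφi'⟩
  have hnf : ¬ F.IsFullyNormalized (zpowers (g : Ω)) := fun hfn => h _ hconj hfn hgT
  have hgS : zpowers (g : Ω) ≤ S := zpowers_le.2 g.2
  obtain ⟨Q, hQc, hlt⟩ : ∃ Q, F.IsConj (zpowers (g : Ω)) Q ∧
      Nat.card (normalizerIn S (zpowers (g : Ω))) < Nat.card (normalizerIn S Q) := by
    by_contra hcon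
    push Not at hcon
    exact hnf ⟨hgS, fun Q hQ => hcon Q hQ⟩
  obtain ⟨ψ, hψ, hrange⟩ := hQc
  obtain ⟨g', hg'⟩ : ∃ g' : ↥S, (g' : Ω) = ψ ⟨g, mem_zpowers _⟩ :=
    ⟨⟨ψ ⟨g, mem_zpowers _⟩, Helper87.hom_mem F hψ _⟩, rfl⟩
  have hQ : Q = zpowers (g' : Ω) := by
    rw [← hrange, hg']
    ext y
    constructor
    · rintro ⟨⟨x, hx⟩, rfl⟩
      obtain ⟨n, rfl⟩ := mem_zpowers_iff.1 hx
      have e : (⟨(g : Ω) ^ n, hx⟩ : zpowers (g : Ω)) =
          (⟨g, mem_zpowers _⟩ : zpowers (g : Ω)) ^ n := Subtype.ext (by simp)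
      rw [e, map_zpow]
      exact zpow_mem (mem_zpowers _) n
    · intro hy
      obtain ⟨n, rfl⟩ := mem_zpowers_iff.1 hy
      exact ⟨(⟨g, mem_zpowers _⟩ : zpowers (g : Ω)) ^ n, by rw [map_zpow]⟩
  have hg2 : (g : Ω) ^ 2 = 1 := by
    rw [← hφi', ← map_pow]
    have e : (⟨i, hiP'⟩ : P) ^ 2 = 1 := Subtype.ext (by simpa using hi2)
    rw [e, map_one]
  have hg'2 : (g' : Ω) ^ 2 = 1 := by
    rw [hg', ← map_pow]
    have e : (⟨g, mem_zpowers _⟩ : zpowers (g : Ω)) ^ 2 = 1 := Subtype.ext (by simpa using hg2)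
    rw [e, map_one]
  -- transport to the conjugate with larger normalizer
  have hcnteq : cnt mult (zpowers (((⟨i, hi⟩ : ↥S), g) : ↥S × ↥S)) =
      cnt mult (zpowers (((⟨i, hi⟩ : ↥S), g') : ↥S × ↥S)) := by
    have key : ∀ (n : ℤ) (h2 : (((((⟨i, hi⟩ : ↥S), g) : ↥S × ↥S) ^ n).2 : Ω) ∈ zpowers (g : Ω)),
        ψ ⟨_, h2⟩ = (((((⟨i, hi⟩ : ↥S), g') : ↥S × ↥S) ^ n).2 : Ω) := by
      intro n h2
      have h5 : (⟨_, h2⟩ : zpowers (g : Ω)) = (⟨g, mem_zpowers _⟩ : zpowers (g : Ω)) ^ n :=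
        Subtype.ext (by simp)
      rw [h5, map_zpow, ← hg']
      simp
    have hmem2 : ∀ n : ℤ, (((((⟨i, hi⟩ : ↥S), g) : ↥S × ↥S) ^ n).2 : Ω) ∈ zpowers (g : Ω) := by
      intro n
      have h7 : (((((⟨i, hi⟩ : ↥S), g) : ↥S × ↥S) ^ n).2 : Ω) = (g : Ω) ^ n := by simp
      rw [h7]
      exact zpow_mem (mem_zpowers _) n
    refine cnt_eq_of_maps F mult hsupp 0 hinv (Helper87.subtype_mem F (le_refl S)) hψ ?_ ?_ Nat.card_pos
    · intro x hx
      obtain ⟨n, rfl⟩ := mem_zpowers_iff.1 hx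
      exact ⟨Subtype.property _, hmem2 n⟩
    · intro x'
      constructor
      · intro hx'
        obtain ⟨n, rfl⟩ := mem_zpowers_iff.1 hx'
        refine ⟨_, zpow_mem (mem_zpowers _) n, Subtype.property _, hmem2 n, ?_, (key n (hmem2 n)).symm⟩
        simp
      · rintro ⟨x, hx, h1, h2, e1, e2⟩
        obtain ⟨n, rfl⟩ := mem_zpowers_iff.1 hx
        have h8 : x' = (((⟨i, hi⟩ : ↥S), g') : ↥S × ↥S) ^ n := by
          apply Prod.ext
          · apply Subtype.ext
            rw [e1]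
            simp
          · exact Subtype.ext (e2.trans (key n h2))
        rw [h8]
        exact zpow_mem (mem_zpowers _) n
  rw [hcnteq]
  -- the normalizer of `Q` acts freely on the fixed points
  have hNdvd : Nat.card (normalizerIn S Q) ∣ cnt mult (zpowers (((⟨i, hi⟩ : ↥S), g') : ↥S × ↥S)) := by
    rw [← hcnt]
    apply Finset.dvd_sum
    intro k _
    apply Dvd.dvd.mul_left
    have hfinN : Finite (normalizerIn S Q) := Helper87.finite_of_le (Helper84.normalizerIn_le_S S Q)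
    refine card_dvd_fixedPoints_of_free (zpowers (((⟨i, hi⟩ : ↥S), g') : ↥S × ↥S))
      ((MonoidHom.inr ↥S ↥S).comp (Subgroup.inclusion (Helper84.normalizerIn_le_S S Q))) ?_ ?_
    · intro c d hd
      obtain ⟨n, rfl⟩ := mem_zpowers_iff.1 hd
      have hcN : (c : Ω) ∈ Subgroup.normalizer ((zpowers (g' : Ω) : Subgroup Ω) : Set Ω) := by
        rw [← hQ]
        exact (Subgroup.mem_inf.1 c.2).2
      have hcg : (c : Ω) * (g' : Ω) = (g' : Ω) * (c : Ω) := by
        have h1 := (Subgroup.mem_normalizer_iff.1 hcN (g' : Ω)).1 (mem_zpowers _)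
        obtain ⟨m, hm⟩ := mem_zpowers_iff.1 h1
        rcases zpow_of_sq hg'2 m with h2 | h2
        · rw [h2] at hm
          have h3 : (g' : Ω) = (c : Ω)⁻¹ * ((c : Ω) * (g' : Ω) * (c : Ω)⁻¹) * (c : Ω) := by group
          rw [← hm] at h3
          have h4 : (g' : Ω) = 1 := by rw [h3]; group
          rw [h4, mul_one, one_mul]
        · rw [h2] at hm
          exact (mul_inv_eq_iff_eq_mul.1 hm.symm)
      have hcomm : Commute (((MonoidHom.inr ↥S ↥S).comp
          (Subgroup.inclusion (Helper84.normalizerIn_le_S S Q))) c)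
          (((⟨i, hi⟩ : ↥S), g') : ↥S × ↥S) := by
        apply Prod.ext
        · simp
        · apply Subtype.ext
          simpa using hcg
      exact (hcomm.zpow_right n).eq
    · intro c x hx
      induction x using QuotientGroup.induction_on with
      | H a =>
        have h1 : ((((MonoidHom.inr ↥S ↥S).comp
            (Subgroup.inclusion (Helper84.normalizerIn_le_S S Q))) c * a)⁻¹ * a) ∈
            gr ((Pc k).subgroupOf S) (restrHom S (φc k) (Helper87.hom_mem F (hφc k))) :=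
          QuotientGroup.eq.1 hx
        obtain ⟨h2, h3⟩ := h1
        have e1 : ((((MonoidHom.inr ↥S ↥S).comp
            (Subgroup.inclusion (Helper84.normalizerIn_le_S S Q))) c * a)⁻¹ * a).1 = 1 := by simp
        have e2 : (⟨_, h2⟩ : (Pc k).subgroupOf S) = 1 := Subtype.ext e1
        rw [e2, map_one] at h3
        have e3 : ((((MonoidHom.inr ↥S ↥S).comp
            (Subgroup.inclusion (Helper84.normalizerIn_le_S S Q))) c * a)⁻¹ * a).2 =
            a.2⁻¹ * (Subgroup.inclusion (Helper84.normalizerIn_le_S S Q) c)⁻¹ * a.2 := by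
          simp [mul_assoc]
        rw [e3] at h3
        have e4 : Subgroup.inclusion (Helper84.normalizerIn_le_S S Q) c = 1 := by
          have h5 : (Subgroup.inclusion (Helper84.normalizerIn_le_S S Q) c)⁻¹ =
              a.2 * (a.2⁻¹ * (Subgroup.inclusion (Helper84.normalizerIn_le_S S Q) c)⁻¹ * a.2) * a.2⁻¹ := by
            group
          rw [← h3] at h5
          have h6 : (Subgroup.inclusion (Helper84.normalizerIn_le_S S Q) c)⁻¹ = 1 := by
            rw [h5]; group
          exact inv_eq_one.1 h6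
        apply Subtype.ext
        exact congrArg (fun t : ↥S => (t : Ω)) e4
  obtain ⟨n, hn⟩ := IsPGroup.iff_card.1 hS
  have h1 : Nat.card (stabilizer (ConjAct ↥S) g) ∣ 2 ^ n := by
    rw [← hn]
    exact Subgroup.card_subgroup_dvd_card _
  have h2 : Nat.card (normalizerIn S Q) ∣ 2 ^ n := by
    rw [← hn]
    exact Subgroup.card_dvd_of_le (Helper84.normalizerIn_le_S S Q)
  have h3 : Nat.card (stabilizer (ConjAct ↥S) g) < Nat.card (normalizerIn S Q) :=
    lt_of_le_of_lt (card_stab_le S g) hlt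
  exact (two_mul_dvd_of_lt h1 h2 h3).trans hNdvd

/-- A Thompson-type transfer for saturated fusion systems. Let F be a saturated fusion system on a finite 2-group S, T a subgroup of S of index 2, and i an involution of S such that every fully normalized F-conjugate of i lies in S but outside T. Then i does not lie in the hyperfocal subgroup of F (the Sylow group of the 2-residual subsystem). -/
theorem result {Ω : Type*} [Group Ω] [Finite Ω] {S : Subgroup Ω}
    (hS : IsPGroup 2 ↥S) (F : Cfsg.FusionSystem S) (hF : F.IsSaturated 2)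
    (T : Subgroup Ω) (hTS : T ≤ S) (hT : T.relIndex S = 2)
    (i : Ω) (hi : i ∈ S) (hi2 : orderOf i = 2)
    (h : ∀ j : Ω, F.IsConjElt i j → F.IsFullyNormalized (Subgroup.zpowers j) → j ∉ T) :
    i ∉ F.hyperfocalSubgroup 2 := by
  intro hhyp
  have hfocmem : i ∈ F.focalSubgroup := Helper84.hyperfocal_le_focal F 2 hhyp
  have hi2' : i ^ 2 = 1 := by rw [← hi2]; exact pow_orderOf_eq_one i
  obtain ⟨Ψ, hst, hne⟩ := main hS F hF T hT i hi hi2' h
  have hfoc : F.focalSubgroup ≤ Ψ.ker.map S.subtype := by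
    refine (Subgroup.closure_le _).2 ?_
    rintro _ ⟨P, φ, y, hφ, rfl⟩
    refine ⟨(⟨y, Helper87.hom_le F hφ y.2⟩ : ↥S)⁻¹ * ⟨φ y, Helper87.hom_mem F hφ y⟩, ?_, rfl⟩
    show _ ∈ Ψ.ker
    rw [MonoidHom.mem_ker, map_mul, map_inv, hst P φ hφ y, inv_mul_cancel]
  obtain ⟨s, hs, hsx⟩ := hfoc hfocmem
  have hsx' : s = ⟨i, hi⟩ := Subtype.ext hsx
  rw [hsx'] at hs
  exact hne (MonoidHom.mem_ker.1 hs)

end Cfsg.Agent.S5192
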