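import Cfsg.Statements.S5253
import Cfsg.Agent.Helper86.PowClosureD
import Cfsg.Agent.Helper88.FusionCenter

set_option autoImplicit false
universe u
open Cfsg

namespace Cfsg.Agent.S5253

/-- Let p be a prime and W a positive characteristic p-functor with Z(Q) ≤ W(Q): W assigns to every finite p-group Q (in a fixed universe) a subgroup W(Q), nontrivial when Q is, carried to W(R) by every isomorphism Q ≅ R, and containing the centre of Q. Suppose that for every finite group G with Sylow p-subgroup P in which W(P) is not normal there is g ∈ P outside O_p(G) with [Z(O_p(G)), g, g] = 1. Then for every saturated fusion system F over a finite p-group S and every normalizer fusion system N of W(S) in F, every p-th power of an element of Z(S) that lies in the centre of N lies in the centre of F. -/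
theorem result {p : ℕ} [Fact p.Prime] (W : ∀ (Q : Type u) [Group Q], Subgroup Q) (hW1 : ∀ (Q : Type u) [Group Q] [Finite Q], IsPGroup p Q → Nontrivial Q → W Q ≠ ⊥) (hW2 : ∀ (Q R : Type u) [Group Q] [Group R] [Finite Q], IsPGroup p Q → ∀ φ : Q ≃* R, (W Q).map φ.toMonoidHom = W R) (hWZ : ∀ (Q : Type u) [Group Q] [Finite Q], IsPGroup p Q → Subgroup.center Q ≤ W Q) (hq : ∀ (G : Type u) [Group G] [Finite G] (P : Sylow p G), ¬ (((W ↥(P : Subgroup G)).map (P : Subgroup G).subtype : Subgroup G)).Normal → ∃ g : G, g ∈ (P : Subgroup G) ∧ g ∉ Cfsg.pCore p G ∧ ⁅⁅Subgroup.center ↥(Cfsg.pCore p G) |>.map (Cfsg.pCore p G).subtype, Subgroup.zpowers g⁆, Subgroup.zpowers g⁆ = ⊥) {Ω : Type u} [Group Ω] {S : Subgroup Ω} [Finite S] (hS : IsPGroup p S) (F : Cfsg.FusionSystem S) (hF : F.IsSaturated p) (N : Cfsg.FusionSystem (Cfsg.FusionSystem.normalizerIn S ((W ↥S).map S.subtype))) (hN : F.IsNormalizerSystem ((W ↥S).map S.subtype) N) : Subgroup.closure ((fun z => z ^ p) '' ((S ⊓ Subgroup.centralizer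 (S : Set Ω) : Subgroup Ω) : Set Ω)) ⊓ N.center ≤ F.center := by
  have hWS : (W ↥S).map S.subtype ≤ S := Subgroup.map_subtype_le _
  have hWnorm : S ≤ Subgroup.normalizer (((W ↥S).map S.subtype : Subgroup Ω) : Set Ω) :=
    Helper86.le_normalizer_Wsub W hW2 hS
  have hSN : IsPGroup p ↥(Cfsg.FusionSystem.normalizerIn S ((W ↥S).map S.subtype)) :=
    hS.to_le inf_le_left
  have hNsat : N.IsSaturated p :=
    Helper84.normalizerSystem_saturated p hS F hF _
      (Helper86.fullyNormalized_of_le_normalizer F hWS hWnorm) N hN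
  have hX := Helper86.xp_all W hW1 hW2 hWZ hq (Nat.card S) (Helper86.dnn F) Ω S hS F hF rfl rfl
  -- the elements of the closure are `p`-th powers of elements of `Z(S)`
  have hpow : ∀ z ∈ Subgroup.closure ((fun z => z ^ p) ''
      ((S ⊓ Subgroup.centralizer (S : Set Ω) : Subgroup Ω) : Set Ω)),
      ∃ y ∈ (S ⊓ Subgroup.centralizer (S : Set Ω) : Subgroup Ω), z = y ^ p := by
    intro z hz
    induction hz using Subgroup.closure_induction with
    | mem x hx =>
      obtain ⟨y, hy, rfl⟩ := hx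
      exact ⟨y, hy, rfl⟩
    | one => exact ⟨1, Subgroup.one_mem _, (one_pow p).symm⟩
    | mul a b _ _ iha ihb =>
      obtain ⟨ya, hya, rfl⟩ := iha
      obtain ⟨yb, hyb, rfl⟩ := ihb
      refine ⟨ya * yb, Subgroup.mul_mem _ hya hyb, ?_⟩
      have hc : Commute ya yb := Subgroup.mem_centralizer_iff.1 hyb.2 ya hya.1
      exact (hc.mul_pow p).symm
    | inv a _ iha =>
      obtain ⟨ya, hya, rfl⟩ := iha
      exact ⟨ya⁻¹, Subgroup.inv_mem _ hya, (inv_pow ya p).symm⟩
  have hNc := (Helper84.central_iff p hSN N hNsat N.center).1 (Helper88.isCentral_center N)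
  have hZS : Subgroup.closure ((fun z => z ^ p) ''
      ((S ⊓ Subgroup.centralizer (S : Set Ω) : Subgroup Ω) : Set Ω)) ⊓ N.center ≤ S :=
    inf_le_right.trans (hNc.1.trans inf_le_left)
  have hZp : Helper86.PowCen p S (Subgroup.closure ((fun z => z ^ p) ''
      ((S ⊓ Subgroup.centralizer (S : Set Ω) : Subgroup Ω) : Set Ω)) ⊓ N.center) := by
    intro z hz
    obtain ⟨y, hy, rfl⟩ := hpow z hz.1
    refine ⟨y, hy.1, fun s hs => ?_, rfl⟩
    have h1 := Subgroup.mem_centralizer_iff.1 hy.2 s hs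
    rw [h1]
    group
  have hZfix : ∀ z ∈ Subgroup.closure ((fun z => z ^ p) ''
      ((S ⊓ Subgroup.centralizer (S : Set Ω) : Subgroup Ω) : Set Ω)) ⊓ N.center,
      Helper86.FixN F (Helper86.Wsub W S) z := by
    intro z hz P φ hφ x hx
    have hφN : φ ∈ N.Hom P := by rw [hN P]; exact hφ
    have hzP : Subgroup.zpowers z ≤ P := by
      rw [Subgroup.zpowers_le, ← hx]
      exact x.2
    have h2 : φ.comp (Subgroup.inclusion hzP) ∈ N.Hom (Subgroup.zpowers z) :=
      Helper84.hom_of_restrict N hφN hzP (fun _ => rfl)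
    have h3 := hNc.2 z hz.2 (φ x) ⟨_, h2, by
      show φ (Subgroup.inclusion hzP ⟨z, Subgroup.mem_zpowers z⟩) = φ x
      congr 1
      exact Subtype.ext hx.symm⟩
    exact h3
  have h2 := hX _ hZS hZp hZfix
  apply le_sSup
  refine (Helper84.central_iff p hS F hF _).2 ⟨hZS, ?_⟩
  rintro x hx y ⟨φ, hφ, rfl⟩
  exact h2 x hx _ φ hφ ⟨x, Subgroup.mem_zpowers x⟩ rfl

end Cfsg.Agent.S5253
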