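import Cfsg.Statements.S5193
import Cfsg.Agent.Helper86.GlaubermanJ
import Cfsg.Agent.S5253

set_option autoImplicit false
open Cfsg

namespace Cfsg.Agent.S5193

/-- Glauberman's Theorem for fusion systems. Let F be a saturated fusion system over a finite p-group S, let J(S) be the subgroup generated by the abelian subgroups of S of largest order, and let N be the normalizer fusion system of J(S) in F (a fusion system over N_S(J(S)) = S). Then every p-th power of an element of Z(S) that lies in the centre of N lies in the centre of F; and if p is odd, or if the symmetric group of degree 4 is not involved in any model of the normalizer system of a fully normalized F-centric subgroup (F is S₄-free), then the centre of N equals the centre of F. -/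
theorem result {Ω : Type*} [Group Ω] {S : Subgroup Ω} [Finite S] (p : ℕ) [Fact p.Prime] (hS : IsPGroup p S) (F : Cfsg.FusionSystem S) (hF : F.IsSaturated p) (N : Cfsg.FusionSystem (Cfsg.FusionSystem.normalizerIn S (Cfsg.thompsonSubgroupAOf S))) (hN : F.IsNormalizerSystem (Cfsg.thompsonSubgroupAOf S) N) : Subgroup.closure ((fun z : Ω => z ^ p) '' ((S ⊓ Subgroup.centralizer (S : Set Ω) : Subgroup Ω) : Set Ω)) ⊓ N.center ≤ F.center ∧ (p ≠ 2 ∨ F.IsSectionFree p (Equiv.Perm (Fin 4)) → N.center = F.center) := by
  have hWS : Cfsg.thompsonSubgroupAOf S ≤ S := Helper86.Wsub_le Helper86.WJ S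
  have hWnorm : S ≤ Subgroup.normalizer ((Cfsg.thompsonSubgroupAOf S : Subgroup Ω) : Set Ω) :=
    Helper86.le_normalizer_Wsub Helper86.WJ (Helper86.wj_iso p) hS
  have hNS : Cfsg.FusionSystem.normalizerIn S (Cfsg.thompsonSubgroupAOf S) = S :=
    Helper86.normalizerIn_eq_of_le_normalizer hWnorm
  have hSN : IsPGroup p ↥(Cfsg.FusionSystem.normalizerIn S (Cfsg.thompsonSubgroupAOf S)) :=
    hS.to_le inf_le_left
  have hNsat : N.IsSaturated p :=
    Helper84.normalizerSystem_saturated p hS F hF _
      (Helper86.fullyNormalized_of_le_normalizer F hWS hWnorm) N hN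
  refine ⟨?_, fun hD => ?_⟩
  · exact Cfsg.Agent.S5253.result Helper86.WJ (Helper86.wj_pos p) (Helper86.wj_iso p) (Helper86.wj_cen p)
      (Helper86.wj_quad p) hS F hF N hN
  · apply le_antisymm
    · apply sSup_le
      intro Q hQ
      apply le_sSup
      have hQ' := (Helper84.central_iff p hSN N hNsat Q).1 hQ
      have hQS : Q ≤ S := hQ'.1.trans inf_le_left
      refine (Helper84.central_iff p hS F hF Q).2 ⟨hQS, ?_⟩
      have h1 : ∀ z ∈ Q, Helper86.FixN F (Cfsg.thompsonSubgroupAOf S) z := by
        intro z hz P φ hφ x hx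
        have hφN : φ ∈ N.Hom P := by rw [hN P]; exact hφ
        have hzP : Subgroup.zpowers z ≤ P := by
          rw [Subgroup.zpowers_le, ← hx]
          exact x.2
        have h2 : φ.comp (Subgroup.inclusion hzP) ∈ N.Hom (Subgroup.zpowers z) :=
          Helper84.hom_of_restrict N hφN hzP (fun _ => rfl)
        have h3 := hQ'.2 z hz (φ x) ⟨_, h2, by
          show φ (Subgroup.inclusion hzP ⟨z, Subgroup.mem_zpowers z⟩) = φ x
          congr 1
          exact Subtype.ext hx.symm⟩
        exact h3
      have h2 := Helper86.glauberman_fixAll p hS F hF hD hQS h1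
      rintro x hx y ⟨φ, hφ, rfl⟩
      exact h2 x hx _ φ hφ ⟨x, Subgroup.mem_zpowers x⟩ rfl
    · apply sSup_le
      intro Q hQ
      apply le_sSup
      have hQ' := (Helper84.central_iff p hS F hF Q).1 hQ
      refine (Helper84.central_iff p hSN N hNsat Q).2 ⟨hQ'.1.trans (le_of_eq hNS.symm), ?_⟩
      rintro x hx y ⟨φ, hφ, rfl⟩
      exact hQ'.2 x hx _ ⟨φ, Helper84.nsys_hom_le F N hN hφ, rfl⟩

end Cfsg.Agent.S5193
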