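import Cfsg.Statements.S5196
import Cfsg.Agent.Helper86.WeakClosureD

set_option autoImplicit false
universe u
open Cfsg

namespace Cfsg.Agent.S5196

/-- Let p be an odd prime and W a positive characteristic p-functor: W assigns to every finite p-group Q (in a fixed universe) a subgroup W(Q), nontrivial when Q is, carried to W(R) by every isomorphism Q ≅ R; assume also Z(Q) ≤ W(Q) for every finite p-group Q. Suppose W satisfies the local condition: for every finite group G with Sylow p-subgroup P, O_p(G) ∩ Z(G) = O_p(G) ∩ Z(N_G(W(P))). Then W controls weak closure of elements in every saturated fusion system F over a finite p-group S: the centre of the normalizer fusion system of W(S) in F equals the centre of F. (For p = 2 no functor satisfies the local condition, so p is taken odd.) -/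
theorem result {p : ℕ} [Fact p.Prime] (hp : p ≠ 2) (W : ∀ (Q : Type u) [Group Q], Subgroup Q) (hW1 : ∀ (Q : Type u) [Group Q] [Finite Q], IsPGroup p Q → Nontrivial Q → W Q ≠ ⊥) (hW2 : ∀ (Q R : Type u) [Group Q] [Group R] [Finite Q], IsPGroup p Q → ∀ φ : Q ≃* R, (W Q).map φ.toMonoidHom = W R) (hWZ : ∀ (Q : Type u) [Group Q] [Finite Q], IsPGroup p Q → Subgroup.center Q ≤ W Q) (hC : ∀ (G : Type u) [Group G] [Finite G] (P : Sylow p G), Cfsg.pCore p G ⊓ Subgroup.center G = Cfsg.pCore p G ⊓ (Subgroup.center ↥(Subgroup.normalizer (((W ↥(P : Subgroup G)).map (P : Subgroup G).subtype : Subgroup G) : Set G))).map (Subgroup.normalizer (((W ↥(P : Subgroup G)).map (P : Subgroup G).subtype : Subgroup G) : Set G)).subtype) {Ω : Type u} [Group Ω] {S : Subgroup Ω} [Finite S] (hS : IsPGroup p S) (F : Cfsg.FusionSystem S) (hF : F.IsSaturated p) (N : Cfsg.FusionSystem (Cfsg.FusionSystem.normalizerIn S ((W ↥S).map S.subtype))) (hN : F.IsNormalizerSystem ((W ↥S).map S.subtype) N) : N.center = F.center := by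
  have hWS : (W ↥S).map S.subtype ≤ S := Subgroup.map_subtype_le _
  have hWnorm : S ≤ Subgroup.normalizer (((W ↥S).map S.subtype : Subgroup Ω) : Set Ω) :=
    Helper86.le_normalizer_Wsub W hW2 hS
  have hNS : Cfsg.FusionSystem.normalizerIn S ((W ↥S).map S.subtype) = S :=
    Helper86.normalizerIn_eq_of_le_normalizer hWnorm
  have hSN : IsPGroup p ↥(Cfsg.FusionSystem.normalizerIn S ((W ↥S).map S.subtype)) :=
    hS.to_le inf_le_left
  have hNsat : N.IsSaturated p :=
    Helper84.normalizerSystem_saturated p hS F hF _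
      (Helper86.fullyNormalized_of_le_normalizer F hWS hWnorm) N hN
  have hX := Helper86.xw_all W hW1 hW2 hWZ hC (Nat.card S) (Helper86.dnn F) Ω S hS F hF rfl rfl
  apply le_antisymm
  · apply sSup_le
    intro Q hQ
    apply le_sSup
    have hQ' := (Helper84.central_iff p hSN N hNsat Q).1 hQ
    have hQS : Q ≤ S := hQ'.1.trans inf_le_left
    refine (Helper84.central_iff p hS F hF Q).2 ⟨hQS, ?_⟩
    have h1 : ∀ z ∈ Q, Helper86.FixN F (Helper86.Wsub W S) z := by
      intro z hz P φ hφ x hx
      have hφN : φ ∈ N.Hom P := by rw [hN P]; exact hφ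
      have hzP : Subgroup.zpowers z ≤ P := by
        rw [Subgroup.zpowers_le, ← hx]
        exact x.2
      have h2 : φ.comp (Subgroup.inclusion hzP) ∈ N.Hom (Subgroup.zpowers z) :=
        Helper84.hom_of_restrict N hφN hzP (fun _ => rfl)
      have h3 := hQ'.2 z hz (φ x) ⟨_, h2, by
        show φ (Subgroup.inclusion hzP ⟨z, Subgroup.mem_zpowers z⟩) = φ x
        congr 1
        exact Subtype.ext hx.symm⟩
      exact h3
    have h2 := hX Q hQS h1
    rintro x hx y ⟨φ, hφ, rfl⟩
    exact h2 x hx _ φ hφ ⟨x, Subgroup.mem_zpowers x⟩ rfl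
  · apply sSup_le
    intro Q hQ
    apply le_sSup
    have hQ' := (Helper84.central_iff p hS F hF Q).1 hQ
    refine (Helper84.central_iff p hSN N hNsat Q).2 ⟨hQ'.1.trans (le_of_eq hNS.symm), ?_⟩
    rintro x hx y ⟨φ, hφ, rfl⟩
    exact hQ'.2 x hx _ ⟨φ, Helper84.nsys_hom_le F N hN hφ, rfl⟩

end Cfsg.Agent.S5196
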