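import Cfsg.Statements.S5236
import Cfsg.Agent.Helper87.NormalCrit

set_option autoImplicit false
open Cfsg

namespace Cfsg.Agent.S5236

open Cfsg.FusionSystem Cfsg.Agent.Helper87
open scoped commutatorElement

/-- Variant of `pow_eq_one_of_chain`: only the elements of `R ∩ T 0` are fixed. -/
theorem pow_fix_of_chain {Ω : Type*} [Group Ω] {p : ℕ} [Fact p.Prime] (R : Subgroup Ω) [Finite R]
    (hR : IsPGroup p R)
    (A : Set (MulAut R)) (hA : ∀ α ∈ A, ∀ k : ℕ, α ^ k ∈ A)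
    (T : ℕ → Set Ω) (n : ℕ) (hn : ∀ x : R, (x : Ω) ∈ T n → x = 1)
    (hstep : ∀ i < n, ∀ β ∈ A, ∀ x : R, (x : Ω) ∈ T i → ((x⁻¹ * β x : R) : Ω) ∈ T (i + 1)) :
    ∀ α ∈ A, ∃ m : ℕ, ∀ x : R, (x : Ω) ∈ T 0 → (α ^ (p ^ m)) x = x := by
  obtain ⟨j, hj⟩ := (IsPGroup.iff_card (p := p) (G := R)).mp hR
  have key : ∀ k ≤ n, ∀ α ∈ A, ∃ m : ℕ, ∀ x : R, (x : Ω) ∈ T (n - k) → (α ^ (p ^ m)) x = x := by
    intro k
    induction k with
    | zero =>
      intro _ α _
      refine ⟨0, fun x hx => ?_⟩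
      rw [hn x hx]; simp
    | succ k ih =>
      intro hk α hα
      obtain ⟨m, hm⟩ := ih (by omega) α hα
      refine ⟨m + j, fun x hx => ?_⟩
      have hβ : α ^ (p ^ m) ∈ A := hA α hα _
      have h1 := hstep (n - (k + 1)) (by omega) _ hβ x hx
      have h2 : n - (k + 1) + 1 = n - k := by omega
      rw [h2] at h1
      have hc := hm _ h1
      have hx' : (α ^ (p ^ m)) x = x * (x⁻¹ * (α ^ (p ^ m)) x) := by group
      have h3 := aut_pow_apply_of_fix (α ^ (p ^ m)) x _ hx' hc (p ^ j)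
      rw [pow_add, pow_mul, h3, ← hj, pow_card_eq_one', mul_one]
  intro α hα
  obtain ⟨m, hm⟩ := key n le_rfl α hα
  exact ⟨m, fun x hx => hm x (by simpa using hx)⟩

/-- The first chain `S ≥ P`. -/
def chainA {Ω : Type*} [Group Ω] (S P : Subgroup Ω) : ℕ → Subgroup Ω
  | 0 => S
  | _ => P

theorem chainA_le {Ω : Type*} [Group Ω] {S P : Subgroup Ω} (h : P ≤ S) :
    ∀ k < 1, chainA S P (k + 1) ≤ chainA S P k := by
  intro k hk
  match k, hk with
  | 0, _ => exact h

/-- For `p` odd, the automorphisms of `R` centralizing `R/(R ∩ P)` and stabilizing a chain from `Ω₁(P)` down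
to `1` form a `p`-group. -/
theorem isPGroup_inf_chainStab {Ω : Type*} [Group Ω] {p : ℕ} [Fact p.Prime] (hp : p ≠ 2)
    (R S P : Subgroup Ω) [Finite R] (hR : IsPGroup p R) (hRS : R ≤ S) (hPS : P ≤ S)
    (T₂ : ℕ → Subgroup Ω) (n : ℕ) (hT₂ : ∀ k < n, T₂ (k + 1) ≤ T₂ k)
    (h20 : T₂ 0 = omegaOne p P) (h2n : T₂ n = ⊥) :
    IsPGroup p ↥(chainStab R (chainA S P) 1 (chainA_le hPS) ⊓ chainStab R T₂ n hT₂) := by
  have hpp : p.Prime := Fact.out
  rintro ⟨κ, hκ⟩
  suffices h : ∃ a : ℕ, κ ^ (p ^ a) = 1 by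
    obtain ⟨a, ha⟩ := h
    exact ⟨a, Subtype.ext ha⟩
  have hN0 : orderOf κ ≠ 0 := (orderOf_pos κ).ne'
  obtain ⟨a, m, hm, hN⟩ := Nat.exists_eq_pow_mul_and_not_dvd hN0 p hpp.one_lt.ne'
  have hmc : m.Coprime p := ((Nat.Prime.coprime_iff_not_dvd hpp).mpr hm).symm
  refine ⟨a, ?_⟩
  have hκ'm : (κ ^ (p ^ a)) ^ m = 1 := by
    rw [← pow_mul, ← hN, pow_orderOf_eq_one]
  have hκ'K : κ ^ (p ^ a) ∈ chainStab R (chainA S P) 1 (chainA_le hPS) ⊓ chainStab R T₂ n hT₂ :=
    Subgroup.pow_mem _ hκ _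
  generalize κ ^ (p ^ a) = κ' at hκ'm hκ'K
  -- Step A: κ' fixes R ∩ Ω₁(P)
  have hA : ∀ x : R, (x : Ω) ∈ omegaOne p P → κ' x = x := by
    obtain ⟨j, hj⟩ := pow_fix_of_chain R hR (chainStab R T₂ n hT₂ : Set (MulAut R))
      (fun α hα k => Subgroup.pow_mem _ hα k) (fun k => (T₂ k : Set Ω)) n
      (fun x hx => by
        have hx' : (x : Ω) ∈ T₂ n := hx
        rw [h2n] at hx'
        exact Subtype.ext (Subgroup.mem_bot.mp hx'))
      (fun i hi β hβ x hx => hβ i hi x hx) κ' hκ'K.2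
    intro x hx
    have h1 := hj x (by rw [h20]; exact hx)
    rw [mulAut_pow_apply_eq_iterate] at h1
    have h2 : (κ'.toMonoidHom)^[m] x = x := by
      rw [← mulAut_pow_apply_eq_iterate, hκ'm]; rfl
    exact fix_of_iterate_coprime (κ'.toMonoidHom) x (Nat.Coprime.pow_left j hmc.symm) h1 h2
  -- κ' moves by elements of P
  have hmove : ∀ x : R, ((x⁻¹ * κ' x : R) : Ω) ∈ P := fun x => hκ'K.1 0 Nat.zero_lt_one x (hRS x.2)
  -- Step B: κ' fixes R ∩ P
  have hH : ∀ x ∈ P.subgroupOf R, κ'.toMonoidHom x ∈ P.subgroupOf R := by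
    intro x hx
    rw [Subgroup.mem_subgroupOf] at hx ⊢
    have h1 : ((κ' x : R) : Ω) = (x : Ω) * ((x⁻¹ * κ' x : R) : Ω) := by simp
    show ((κ' x : R) : Ω) ∈ P
    rw [h1]
    exact P.mul_mem hx (hmove x)
  have hB : ∀ x : R, (x : Ω) ∈ P → κ' x = x := by
    intro x hx
    have h1 := hom_fix_of_fix_order_p p hp m hmc (Nat.card (P.subgroupOf R)) (P.subgroupOf R) le_rfl
      (hR.to_subgroup _)
      ((κ'.toMonoidHom.comp (P.subgroupOf R).subtype).codRestrict (P.subgroupOf R) (fun y => hH y y.2))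
      (fun y => Subtype.ext (by
        rw [restrict_iterate κ'.toMonoidHom (P.subgroupOf R) hH, ← mulAut_pow_apply_eq_iterate, hκ'm]
        rfl))
      (fun y hy => Subtype.ext (by
        show κ' (y : R) = (y : R)
        apply hA
        refine Subgroup.subset_closure ⟨Subgroup.mem_subgroupOf.mp y.2, ?_⟩
        have h2 := congrArg (fun z : P.subgroupOf R => ((z : R) : Ω)) hy
        simpa using h2))
      ⟨x, Subgroup.mem_subgroupOf.mpr hx⟩
    exact congrArg Subtype.val h1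
  -- Step C
  obtain ⟨j', hj'⟩ := pow_eq_one_of_chain R hR
    {β : MulAut R | (∀ x : R, ((x⁻¹ * β x : R) : Ω) ∈ P) ∧ ∀ x : R, (x : Ω) ∈ P → β x = x}
    (fun α hα k => by
      induction k with
      | zero =>
        refine ⟨fun x => ?_, fun x _ => rfl⟩
        simp
      | succ k ih =>
        refine ⟨fun x => ?_, fun x hx => ?_⟩
        · have h3 : ((x⁻¹ * (α ^ (k + 1)) x : R) : Ω) =
              ((x⁻¹ * α x : R) : Ω) * (((α x)⁻¹ * (α ^ k) (α x) : R) : Ω) := by
            rw [pow_succ]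
            simp [mul_assoc]
          rw [h3]
          exact P.mul_mem (hα.1 x) (ih.1 (α x))
        · rw [pow_succ, MulAut.mul_apply, hα.2 x hx, ih.2 x hx])
    (fun k => if k = 0 then Set.univ else if k = 1 then (P : Set Ω) else {1}) 2
    (fun x => by simp)
    (fun x hx => by
      have : (x : Ω) = 1 := by simpa using hx
      exact Subtype.ext this)
    (fun i hi β hβ x hx => by
      match i, hi, hx with
      | 0, _, _ =>
        simp only [zero_add, one_ne_zero, if_false, if_true]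
        exact hβ.1 x
      | 1, _, hx =>
        have hx' : (x : Ω) ∈ P := by simpa using hx
        have : x⁻¹ * β x = 1 := by rw [hβ.2 x hx', inv_mul_cancel]
        rw [this]
        simp)
    κ' ⟨hmove, hB⟩
  have h1 : orderOf κ' ∣ p ^ j' := orderOf_dvd_of_pow_eq_one hj'
  have h2 : orderOf κ' ∣ m := orderOf_dvd_of_pow_eq_one hκ'm
  have h3 : orderOf κ' ∣ Nat.gcd (p ^ j') m := Nat.dvd_gcd h1 h2
  rw [Nat.Coprime.gcd_eq_one (Nat.Coprime.pow_left j' hmc.symm), Nat.dvd_one] at h3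
  exact orderOf_eq_one_iff.mp h3

theorem omegaOne_le {Ω : Type*} [Group Ω] (p : ℕ) (P : Subgroup Ω) : omegaOne p P ≤ P := by
  unfold omegaOne
  rw [Subgroup.closure_le]
  intro x hx
  exact hx.1

theorem omegaOne_eq_map {Ω : Type*} [Group Ω] (p : ℕ) (P : Subgroup Ω) :
    omegaOne p P = (Subgroup.closure {y : P | y ^ p = 1}).map P.subtype := by
  unfold omegaOne
  rw [MonoidHom.map_closure]
  congr 1
  ext x
  constructor
  · rintro ⟨hx, hxp⟩
    exact ⟨⟨x, hx⟩, Subtype.ext hxp, rfl⟩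
  · rintro ⟨y, hy, rfl⟩
    refine ⟨y.2, ?_⟩
    have := congrArg Subtype.val hy
    simpa using this

theorem omegaOne_conj_mem {Ω : Type*} [Group Ω] (p : ℕ) (P : Subgroup Ω) (g : Ω) (hg : g ∈ P) (w : Ω)
    (hw : w ∈ omegaOne p P) : g * w * g⁻¹ ∈ omegaOne p P := by
  have h : omegaOne p P ≤ (omegaOne p P).comap (MulAut.conj g).toMonoidHom := by
    unfold omegaOne
    rw [Subgroup.closure_le]
    rintro y ⟨hy, hyp⟩
    show g * y * g⁻¹ ∈ Subgroup.closure {x : Ω | x ∈ P ∧ x ^ p = 1}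
    refine Subgroup.subset_closure ⟨P.mul_mem (P.mul_mem hg hy) (P.inv_mem hg), ?_⟩
    rw [conj_pow, hyp, mul_one, mul_inv_cancel]
  exact h hw

theorem omegaOne_aut_mem {Ω : Type*} [Group Ω] (p : ℕ) (P : Subgroup Ω) (σ : MulAut P) (z : P)
    (hz : (z : Ω) ∈ omegaOne p P) : ((σ z : P) : Ω) ∈ omegaOne p P := by
  rw [omegaOne_eq_map] at hz ⊢
  obtain ⟨z', hz', hzz⟩ := hz
  have e : z' = z := Subtype.ext hzz
  rw [e] at hz'
  have h : Subgroup.closure {y : P | y ^ p = 1} ≤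
      (Subgroup.closure {y : P | y ^ p = 1}).comap σ.toMonoidHom := by
    rw [Subgroup.closure_le]
    intro y hy
    show σ y ∈ Subgroup.closure {y : P | y ^ p = 1}
    refine Subgroup.subset_closure ?_
    show (σ y) ^ p = 1
    have hy' : y ^ p = 1 := hy
    rw [← map_pow, hy', map_one]
  exact ⟨σ z, h hz', rfl⟩

/-- Let p be an odd prime, F a saturated fusion system over a finite p-group S and P a subgroup of S strongly closed in F. Then P is normal in F if and only if Ω₁(P) (the subgroup generated by the elements of order p of P) has a chain of subgroups 1 = Q₀ ≤ Q₁ ≤ ⋯ ≤ Qₙ = Ω₁(P), each strongly closed in F, with [Qᵢ₊₁, P] ≤ Qᵢ for all i. -/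
theorem result {Ω : Type*} [Group Ω] {S : Subgroup Ω} [Finite S] (p : ℕ) [Fact p.Prime] (hS : IsPGroup p S) (F : Cfsg.FusionSystem S) (hF : F.IsSaturated p) (hp : p ≠ 2) (P : Subgroup Ω) (hP : F.StronglyClosed P) : F.IsNormal P ↔ ∃ (n : ℕ) (Q : Fin (n + 1) → Subgroup Ω), Q 0 = ⊥ ∧ Q (Fin.last n) = Cfsg.omegaOne p P ∧ Monotone Q ∧ (∀ i : Fin (n + 1), F.StronglyClosed (Q i)) ∧ ∀ i : Fin n, ⁅Q i.succ, P⁆ ≤ Q i.castSucc := by
  have hPS : P ≤ S := hP.1
  have hPnorm : ∀ s ∈ S, ∀ q ∈ P, s * q * s⁻¹ ∈ P := fun s hs q hq => stronglyClosed_conj_mem F hP hs hq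
  constructor
  · -- forward
    intro hN
    have hfinP : Finite P := finite_of_le hPS
    have hnil : Group.IsNilpotent P := (hS.to_le hPS).isNilpotent
    obtain ⟨n, hn⟩ := hnil.nilpotent'
    refine ⟨n, fun i => omegaOne p P ⊓ (Subgroup.upperCentralSeries P i).map P.subtype, ?_, ?_, ?_, ?_, ?_⟩
    · show omegaOne p P ⊓ (Subgroup.upperCentralSeries P 0).map P.subtype = ⊥
      rw [Subgroup.upperCentralSeries_zero, Subgroup.map_bot, inf_bot_eq]
    · show omegaOne p P ⊓ (Subgroup.upperCentralSeries P n).map P.subtype = omegaOne p P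
      rw [hn, ← MonoidHom.range_eq_map, Subgroup.range_subtype]
      exact inf_eq_left.mpr (omegaOne_le p P)
    · intro a b hab
      exact inf_le_inf_left _ (Subgroup.map_mono (Subgroup.upperCentralSeries_mono P (Fin.le_def.mp hab)))
    · intro i
      have hle : omegaOne p P ⊓ (Subgroup.upperCentralSeries P (i : ℕ)).map P.subtype ≤ P :=
        inf_le_left.trans (omegaOne_le p P)
      refine ⟨hle.trans hPS, fun R hR φ hφ x => ?_⟩
      obtain ⟨σ, -, hσ'⟩ := exists_aut_of_isNormal F hN (hR.trans hle) hφ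
      rw [← hσ' x]
      have hx := hR x.2
      refine ⟨omegaOne_aut_mem p P σ _ hx.1, ?_⟩
      obtain ⟨z, hz, hzx⟩ := hx.2
      have hchar : (Subgroup.upperCentralSeries P (i : ℕ)).Characteristic := inferInstance
      have h1 : σ z ∈ Subgroup.upperCentralSeries P (i : ℕ) :=
        (Subgroup.characteristic_iff_map_le.mp hchar) σ ⟨z, hz, rfl⟩
      refine ⟨σ z, h1, ?_⟩
      have e : z = ⟨(x : Ω), (hR.trans hle) x.2⟩ := Subtype.ext hzx
      rw [e]
      rfl
    · intro i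
      rw [Subgroup.commutator_le]
      rintro g₁ ⟨hg₁, ⟨z, hz, rfl⟩⟩ b hb
      refine ⟨?_, ⟨⁅z, ⟨b, hb⟩⁆, Subgroup.mem_upperCentralSeries_succ_iff.mp hz ⟨b, hb⟩, rfl⟩⟩
      have h1 := omegaOne_conj_mem p P b hb _ (Subgroup.inv_mem _ hg₁)
      have h2 : ⁅(P.subtype z : Ω), b⁆ = (P.subtype z : Ω) * (b * (P.subtype z : Ω)⁻¹ * b⁻¹) := by
        rw [commutatorElement_def]; group
      rw [h2]
      exact Subgroup.mul_mem _ hg₁ h1
  · -- backward
    rintro ⟨n, C, hC0, hCn, hCmono, hCsc, hCcomm⟩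
    let D : ℕ → Subgroup Ω := fun i => if h : i < n + 1 then C ⟨i, h⟩ else omegaOne p P
    have hD : ∀ (i : ℕ) (h : i < n + 1), D i = C ⟨i, h⟩ := fun i h => dif_pos h
    have hD0 : D 0 = ⊥ := by rw [hD 0 (Nat.succ_pos n)]; exact hC0
    have hDn : D n = omegaOne p P := by rw [hD n (Nat.lt_succ_self n)]; exact hCn
    have hmono : ∀ i < n, D i ≤ D (i + 1) := by
      intro i hi
      rw [hD i (by omega), hD (i + 1) (by omega)]
      exact hCmono (Fin.mk_le_mk.mpr (Nat.le_succ i))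
    have hcomm : ∀ i < n, ⁅D (i + 1), P⁆ ≤ D i := by
      intro i hi
      rw [hD i (by omega), hD (i + 1) (by omega)]
      exact hCcomm ⟨i, hi⟩
    have hsc : ∀ i ≤ n, F.StronglyClosed (D i) := by
      intro i hi
      rw [hD i (by omega)]
      exact hCsc ⟨i, by omega⟩
    have hT₂ : ∀ k < n, (fun k => D (n - k)) (k + 1) ≤ (fun k => D (n - k)) k := by
      intro k hk
      show D (n - (k + 1)) ≤ D (n - k)
      have h1 := hmono (n - (k + 1)) (by omega)
      have h2 : n - (k + 1) + 1 = n - k := by omega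
      rwa [h2] at h1
    refine isNormal_of_step hS F hF P hP ?_
    intro R hfa hrec hPR
    have hRS : R ≤ S := hfa.1
    have hfinR : Finite R := finite_of_le hRS
    obtain ⟨t, htP, htN, htR⟩ := exists_mem_normalizer_not_mem hS hRS hPS hPnorm hPR
    refine ⟨chainStab R (chainA S P) 1 (chainA_le hPS) ⊓ chainStab R (fun k => D (n - k)) n hT₂,
      isPGroup_inf_chainStab hp R S P (hS.to_le hRS) hRS hPS _ n hT₂ (by show D (n - 0) = _; rw [Nat.sub_zero, hDn])
        (by show D (n - n) = _; rw [Nat.sub_self, hD0]), ?_, ⟨t, htN⟩, hPS htP, htR, ?_, ?_⟩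
    · intro γ hγ κ hκ
      refine ⟨chainStab_normal F _ _ _ ?_ γ hγ κ hκ.1, chainStab_normal F _ _ _ ?_ γ hγ κ hκ.2⟩
      · intro γ hγ k hk x hx
        match k, hk, hx with
        | 0, _, _ => exact hRS (γ x).2
        | 1, _, hx => exact aut_mem_of_stronglyClosed F hP hRS hγ x hx
      · intro γ hγ k hk x hx
        exact aut_mem_of_stronglyClosed F (hsc (n - k) (by omega)) hRS hγ x hx
    · intro k hk x hx
      match k, hk, hx with
      | 0, _, _ =>
        show ((x⁻¹ * R.normalizerMonoidHom ⟨t, htN⟩ x : R) : Ω) ∈ P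
        have hel : ((x⁻¹ * R.normalizerMonoidHom ⟨t, htN⟩ x : R) : Ω) =
            ((x : Ω)⁻¹ * t * (x : Ω)⁻¹⁻¹) * t⁻¹ := by
          rw [Subgroup.coe_mul, Subgroup.normalizerMonoidHom_apply_apply_coe, Subgroup.coe_inv]
          group
        rw [hel]
        exact P.mul_mem (hPnorm _ (S.inv_mem (hRS x.2)) t htP) (P.inv_mem htP)
    · intro k hk x hx
      have hx' : (x : Ω) ∈ D (n - k) := hx
      show ((x⁻¹ * R.normalizerMonoidHom ⟨t, htN⟩ x : R) : Ω) ∈ D (n - (k + 1))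
      have hel : ((x⁻¹ * R.normalizerMonoidHom ⟨t, htN⟩ x : R) : Ω) = ⁅(x : Ω)⁻¹, t⁆ := by
        rw [Subgroup.coe_mul, Subgroup.normalizerMonoidHom_apply_apply_coe, Subgroup.coe_inv,
          commutatorElement_def]
        group
      rw [hel]
      have h0 : n - (k + 1) + 1 = n - k := by omega
      have h1 : ⁅(x : Ω)⁻¹, t⁆ ∈ ⁅D (n - (k + 1) + 1), P⁆ :=
        Subgroup.commutator_mem_commutator (by rw [h0]; exact Subgroup.inv_mem _ hx') htP
      exact hcomm (n - (k + 1)) (by omega) h1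

end Cfsg.Agent.S5236
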