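import Cfsg.Statements.S5245
import Cfsg.Agent.Helper87.AutSys

set_option autoImplicit false
open Cfsg

namespace Cfsg.Agent.S5245

open Cfsg.FusionSystem Cfsg.Agent.Helper87

theorem not_inner_of_prime_order {p q : ℕ} [Fact p.Prime] {Ω : Type*} [Group Ω] (R : Subgroup Ω) [Finite R]
    (hR : IsPGroup p R) (β : MulAut R) (hq : q.Prime) (hqp : q ≠ p) (hβ : orderOf β ∣ q) (g : Ω) (hg : g ∈ R)
    (h : ∀ x : R, ((β x : R) : Ω) = g * x * g⁻¹) : β = 1 := by
  have hp := (Fact.out : p.Prime)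
  have e : β = MulAut.conj (⟨g, hg⟩ : R) := by
    ext x
    exact h x
  have h1 : β ^ Nat.card R = 1 := by
    rw [e, ← map_pow, pow_card_eq_one', map_one]
  obtain ⟨n, hn⟩ := (IsPGroup.iff_card (p := p) (G := R)).mp hR
  have h2 : orderOf β ∣ p ^ n := by
    rw [← hn]; exact orderOf_dvd_of_pow_eq_one h1
  have h3 : Nat.Coprime (p ^ n) q := Nat.Coprime.pow_left n ((Nat.coprime_primes hp hq).mpr hqp.symm)
  have h4 : orderOf β ∣ 1 := by
    have := Nat.dvd_gcd h2 hβ
    rwa [h3] at this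
  exact orderOf_eq_one_iff.mp (Nat.dvd_one.mp h4)

/-- the subgroup `[S, β]` -/
def commSub {Ω : Type*} [Group Ω] {S : Subgroup Ω} (β : MulAut S) : Subgroup Ω :=
  Subgroup.closure {y : Ω | ∃ x : S, y = (x : Ω)⁻¹ * ((β x : S) : Ω)}

theorem commSub_le {Ω : Type*} [Group Ω] {S : Subgroup Ω} (β : MulAut S) : commSub β ≤ S := by
  unfold commSub
  rw [Subgroup.closure_le]
  rintro y ⟨x, rfl⟩
  exact S.mul_mem (S.inv_mem x.2) (β x).2

theorem commSub_inv {Ω : Type*} [Group Ω] {S : Subgroup Ω} (β : MulAut S) :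
    ∀ y, y ∈ commSub β → ∀ hyS : y ∈ S, ((β ⟨y, hyS⟩ : S) : Ω) ∈ commSub β := by
  intro y hy
  unfold commSub at hy
  induction hy using Subgroup.closure_induction with
  | mem y hy =>
    obtain ⟨x, rfl⟩ := hy
    intro hyS
    have e : (⟨(x : Ω)⁻¹ * ((β x : S) : Ω), hyS⟩ : S) = x⁻¹ * β x := Subtype.ext rfl
    rw [e, map_mul, map_inv]
    exact Subgroup.subset_closure ⟨β x, rfl⟩
  | one =>
    intro hyS
    have e : (⟨1, hyS⟩ : S) = 1 := rfl
    rw [e, map_one]; exact (commSub β).one_mem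
  | mul a b ha hb iha ihb =>
    intro hyS
    have haS : a ∈ S := commSub_le β ha
    have hbS : b ∈ S := commSub_le β hb
    have e : (⟨a * b, hyS⟩ : S) = ⟨a, haS⟩ * ⟨b, hbS⟩ := rfl
    rw [e, map_mul]
    exact (commSub β).mul_mem (iha haS) (ihb hbS)
  | inv a ha iha =>
    intro hyS
    have haS : a ∈ S := commSub_le β ha
    have e : (⟨a⁻¹, hyS⟩ : S) = ⟨a, haS⟩⁻¹ := rfl
    rw [e, map_inv]
    exact (commSub β).inv_mem (iha haS)

theorem aut_pow_card_eq_one_of_fix {Ω : Type*} [Group Ω] {S : Subgroup Ω} [Finite S] (β : MulAut S)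
    (hfix : ∀ y (hy : y ∈ commSub β), β ⟨y, commSub_le β hy⟩ = ⟨y, commSub_le β hy⟩) :
    β ^ Nat.card S = 1 := by
  ext x
  have hc : ((x⁻¹ * β x : S) : Ω) ∈ commSub β := Subgroup.subset_closure ⟨x, rfl⟩
  have h1 : β (x⁻¹ * β x) = x⁻¹ * β x := hfix _ hc
  have h2 : β x = x * (x⁻¹ * β x) := by group
  have h3 := aut_pow_apply_of_fix β x (x⁻¹ * β x) h2 h1 (Nat.card S)
  rw [h3, pow_card_eq_one', mul_one]
  rfl

noncomputable def restrictAut {Ω : Type*} [Group Ω] {S T : Subgroup Ω} [Finite S] (hTS : T ≤ S) (β : MulAut S)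
    (hinv : ∀ y (hy : y ∈ T), ((β ⟨y, hTS hy⟩ : S) : Ω) ∈ T) : MulAut T :=
  MulEquiv.ofBijective
    (((S.subtype.comp β.toMonoidHom).comp (Subgroup.inclusion hTS)).codRestrict T (fun x => hinv x.1 x.2)) (by
    have : Finite T := finite_of_le hTS
    apply Finite.injective_iff_bijective.mp
    intro a b hab
    have h1 : ((β ⟨a, hTS a.2⟩ : S) : Ω) = ((β ⟨b, hTS b.2⟩ : S) : Ω) := congrArg (fun z : T => (z : Ω)) hab
    have h2 := β.injective (Subtype.ext h1)
    exact Subtype.ext (congrArg (fun z : S => (z : Ω)) h2))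

theorem restrictAut_apply {Ω : Type*} [Group Ω] {S T : Subgroup Ω} [Finite S] (hTS : T ≤ S) (β : MulAut S)
    (hinv : ∀ y (hy : y ∈ T), ((β ⟨y, hTS hy⟩ : S) : Ω) ∈ T) (x : T) :
    ((restrictAut hTS β hinv x : T) : Ω) = ((β ⟨x, hTS x.2⟩ : S) : Ω) := rfl

theorem restrictAut_pow_apply {Ω : Type*} [Group Ω] {S T : Subgroup Ω} [Finite S] (hTS : T ≤ S) (β : MulAut S)
    (hinv : ∀ y (hy : y ∈ T), ((β ⟨y, hTS hy⟩ : S) : Ω) ∈ T) (k : ℕ) (x : T) :
    ((((restrictAut hTS β hinv) ^ k) x : T) : Ω) = (((β ^ k) ⟨x, hTS x.2⟩ : S) : Ω) := by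
  induction k generalizing x with
  | zero => simp
  | succ k ih =>
    rw [pow_succ, pow_succ, MulAut.mul_apply, MulAut.mul_apply, ih]
    congr 2

theorem main_case {Ω : Type*} [Group Ω] {S : Subgroup Ω} [Finite S] (p : ℕ) [Fact p.Prime] (hS : IsPGroup p S)
    (F : Cfsg.FusionSystem S)
    (hsp : ∀ (T : Subgroup Ω) (E : Cfsg.FusionSystem T), E.IsSaturated p → E.IsSubsystemOf F →
      (T = S ∧ ∀ P : Subgroup Ω, E.Hom P = F.Hom P) ∨ (∀ P : Subgroup Ω, E.Hom P = (Cfsg.innerFusionSystem T).Hom P))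
    (q : ℕ) (hq : q.Prime) (hqp : q ≠ p) (β : MulAut S) (hβq : orderOf β = q)
    (hEF : ∀ P : Subgroup Ω, (autSystem S ((MulAut.conj : S →* MulAut S).range ⊔ Subgroup.zpowers β)
      (fun r => Subgroup.mem_sup_left ⟨r, rfl⟩)).Hom P = F.Hom P) :
    F.IsNormal S ∧ F.focalSubgroup = S ∧ F.hyperfocalSubgroup p = S ∧ ∃ (q : ℕ) (β : MulAut ↥S), q.Prime ∧ q ≠ p ∧
      β ∈ F.autGroup S ∧ orderOf β = q ∧
      (F.autGroup S : Subgroup (MulAut ↥S)) = Cfsg.Inn ↥S ⊔ Subgroup.zpowers β := by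
  have hp := (Fact.out : p.Prime)
  have hmemF : ∀ (P : Subgroup Ω) (φ : P →* Ω), φ ∈ F.Hom P ↔ ∃ hP : P ≤ S,
      ∃ γ ∈ (MulAut.conj : S →* MulAut S).range ⊔ Subgroup.zpowers β, ∀ x : P, φ x = ((γ ⟨x, hP x.2⟩ : S) : Ω) := by
    intro P φ
    rw [← hEF P]; exact Iff.rfl
  have hAut : F.autGroup S = (MulAut.conj : S →* MulAut S).range ⊔ Subgroup.zpowers β := by
    ext α
    rw [mem_autGroup_iff F (le_refl S), hmemF]
    constructor
    · rintro ⟨_, γ, hγ, h⟩
      have : α = γ := by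
        ext x
        exact h x
      rw [this]; exact hγ
    · intro hα
      exact ⟨le_refl S, α, hα, fun x => rfl⟩
  have hβF : β ∈ F.autGroup S := by
    rw [hAut]; exact Subgroup.mem_sup_right (Subgroup.mem_zpowers β)
  have hnormal : F.IsNormal S := by
    refine ⟨le_refl S, fun P φ hφ => ?_⟩
    obtain ⟨hP, γ, hγ, h⟩ := (hmemF P φ).mp hφ
    have hle : P ⊔ S ≤ S := sup_le hP (le_refl S)
    refine ⟨(S.subtype.comp γ.toMonoidHom).comp (Subgroup.inclusion hle),
      (hmemF _ _).mpr ⟨hle, γ, hγ, fun x => rfl⟩, fun x => (h x).symm, ?_⟩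
    ext y
    constructor
    · rintro ⟨x, -, rfl⟩
      exact (γ _).2
    · intro hy
      refine ⟨⟨(γ.symm ⟨y, hy⟩ : S), Subgroup.mem_sup_right (γ.symm ⟨y, hy⟩).2⟩,
        Subgroup.mem_subgroupOf.mpr (γ.symm ⟨y, hy⟩).2, ?_⟩
      show ((γ ⟨((γ.symm ⟨y, hy⟩ : S) : Ω), _⟩ : S) : Ω) = y
      simp
  have hfocS : F.focalSubgroup ≤ S := by
    unfold focalSubgroup
    rw [Subgroup.closure_le]
    rintro y ⟨P, φ, x, hφ, rfl⟩
    exact S.mul_mem (S.inv_mem (hom_le F hφ x.2)) (hom_mem F hφ x)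
  have hhypfoc : F.hyperfocalSubgroup p ≤ F.focalSubgroup := by
    unfold hyperfocalSubgroup
    rw [Subgroup.closure_le]
    rintro y ⟨P, α, x, hP, -, rfl⟩
    exact Subgroup.subset_closure ⟨P, P.subtype.comp (α : MulAut P).toMonoidHom, x,
      (mem_autGroup_iff F hP _).mp α.2, rfl⟩
  have hTS : commSub β ≤ S := commSub_le β
  have hThyp : commSub β ≤ F.hyperfocalSubgroup p := by
    unfold commSub hyperfocalSubgroup
    apply Subgroup.closure_mono
    rintro y ⟨x, rfl⟩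
    refine ⟨S, ⟨β, hβF⟩, x, le_refl S, Subgroup.subset_closure ?_, rfl⟩
    show Nat.Coprime (orderOf (⟨β, hβF⟩ : F.autGroup S)) p
    rw [Subgroup.orderOf_mk, hβq]
    exact (Nat.coprime_primes hq hp).mpr hqp
  have hTeq : commSub β = S := by
    by_contra hne
    have hinv : ∀ y (hy : y ∈ commSub β), ((β ⟨y, hTS hy⟩ : S) : Ω) ∈ commSub β :=
      fun y hy => commSub_inv β y hy (hTS hy)
    have hβTq : (restrictAut hTS β hinv) ^ q = 1 := by
      ext x
      rw [restrictAut_pow_apply, ← hβq, pow_orderOf_eq_one]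
      rfl
    have hβTord : orderOf (restrictAut hTS β hinv) ∣ q := orderOf_dvd_of_pow_eq_one hβTq
    have hpnd : ¬ p ∣ orderOf (restrictAut hTS β hinv) :=
      fun h => hqp ((Nat.prime_dvd_prime_iff_eq hp hq).mp (h.trans hβTord)).symm
    have hTfin : Finite (commSub β) := finite_of_le hTS
    have hTp : IsPGroup p (commSub β) := hS.to_le hTS
    have hβTF : restrictAut hTS β hinv ∈ F.autGroup (commSub β) := by
      rw [mem_autGroup_iff F hTS]
      exact hom_of_restrict F ((mem_autGroup_iff F (le_refl S) β).mp hβF) hTS (fun x => rfl)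
    have hsat := autSystem_saturated (commSub β) hTp (restrictAut hTS β hinv) hpnd
    have hsub := autSystem_isSubsystemOf F hTS ((MulAut.conj : (commSub β) →* MulAut (commSub β)).range ⊔
        Subgroup.zpowers (restrictAut hTS β hinv)) (fun r => Subgroup.mem_sup_left ⟨r, rfl⟩)
      (sup_le (inn_le_autGroup F hTS) ((Subgroup.zpowers_le).mpr hβTF))
    rcases hsp (commSub β) _ hsat hsub with ⟨h1, -⟩ | h2
    · exact hne h1
    · have h3 : (commSub β).subtype.comp (restrictAut hTS β hinv).toMonoidHom ∈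
          (autSystem (commSub β) ((MulAut.conj : (commSub β) →* MulAut (commSub β)).range ⊔
            Subgroup.zpowers (restrictAut hTS β hinv)) (fun r => Subgroup.mem_sup_left ⟨r, rfl⟩)).Hom (commSub β) :=
        ⟨le_refl _, restrictAut hTS β hinv, Subgroup.mem_sup_right (Subgroup.mem_zpowers _), fun x => rfl⟩
      rw [h2 (commSub β)] at h3
      obtain ⟨-, g, hg, hg'⟩ := h3
      have hβT1 : restrictAut hTS β hinv = 1 :=
        not_inner_of_prime_order (commSub β) hTp _ hq hqp hβTord g hg (fun x => hg' x)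
      have hfix : ∀ y (hy : y ∈ commSub β), β ⟨y, commSub_le β hy⟩ = ⟨y, commSub_le β hy⟩ := by
        intro y hy
        have h5 := congrArg (fun γ : MulAut (commSub β) => ((γ ⟨y, hy⟩ : commSub β) : Ω)) hβT1
        exact Subtype.ext h5
      have h4 : β ^ Nat.card S = 1 := aut_pow_card_eq_one_of_fix β hfix
      obtain ⟨n, hn⟩ := (IsPGroup.iff_card (p := p) (G := S)).mp hS
      have h5 : q ∣ p ^ n := by
        rw [← hn, ← hβq]; exact orderOf_dvd_of_pow_eq_one h4
      exact hqp ((Nat.prime_dvd_prime_iff_eq hq hp).mp (hq.dvd_of_dvd_pow h5))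
  refine ⟨hnormal, le_antisymm hfocS ?_, le_antisymm (hhypfoc.trans hfocS) ?_, q, β, hq, hqp, hβF, hβq, hAut⟩
  · exact fun x hx => hhypfoc (hThyp (hTeq.ge hx))
  · exact fun x hx => hThyp (hTeq.ge hx)

/-- Let F be an extremely sparse fusion system over a finite p-group S (saturated, not the inner system, and every saturated fusion system over any subgroup T of S contained in F is F itself or the inner system of T). Then S is normal in F, the focal and hyperfocal subgroups of F are both S, and Aut_F(S) is generated by the inner automorphisms of S together with a single automorphism of prime order q ≠ p (F is the fusion system of the semidirect product of S by a cyclic group of prime order). -/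
theorem result {Ω : Type*} [Group Ω] {S : Subgroup Ω} [Finite S] (p : ℕ) [Fact p.Prime] (hS : IsPGroup p S) (F : Cfsg.FusionSystem S) (hF : F.IsSaturated p) (hxs : ¬ (∀ P : Subgroup Ω, F.Hom P = (Cfsg.innerFusionSystem S).Hom P) ∧ ∀ (T : Subgroup Ω) (E : Cfsg.FusionSystem T), E.IsSaturated p → E.IsSubsystemOf F → (T = S ∧ ∀ P : Subgroup Ω, E.Hom P = F.Hom P) ∨ (∀ P : Subgroup Ω, E.Hom P = (Cfsg.innerFusionSystem T).Hom P)) : F.IsNormal S ∧ F.focalSubgroup = S ∧ F.hyperfocalSubgroup p = S ∧ ∃ (q : ℕ) (β : MulAut ↥S), q.Prime ∧ q ≠ p ∧ β ∈ F.autGroup S ∧ orderOf β = q ∧ (F.autGroup S : Subgroup (MulAut ↥S)) = Cfsg.Inn ↥S ⊔ Subgroup.zpowers β := by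
  obtain ⟨hni, hsp⟩ := hxs
  have hp := (Fact.out : p.Prime)
  have h1 : ∃ R : Subgroup Ω, R ≤ S ∧ ∃ α ∈ F.autGroup R, ∀ m : ℕ, α ^ (p ^ m) ≠ 1 := by
    by_contra hcon
    push Not at hcon
    exact hni (inner_of_aut_pgroup hS F hF hcon)
  obtain ⟨R, hRS, α, hαF, hαp⟩ := h1
  have hRfin : Finite R := finite_of_le hRS
  have hα0 : orderOf α ≠ 0 := (orderOf_pos α).ne'
  have h2 : ∃ q : ℕ, q.Prime ∧ q ≠ p ∧ q ∣ orderOf α := by
    by_contra hcon
    push Not at hcon
    have h3 := Nat.eq_prime_pow_of_unique_prime_dvd (p := p) hα0 (fun {d} hd hdd => by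
      by_contra hne
      exact hcon d hd hne hdd)
    exact hαp _ (by rw [← h3]; exact pow_orderOf_eq_one α)
  obtain ⟨q, hq, hqp, hqd⟩ := h2
  obtain ⟨β, hβdef⟩ : ∃ β : MulAut R, β = α ^ (orderOf α / q) := ⟨_, rfl⟩
  have hβq : orderOf β = q := by
    rw [hβdef]; exact orderOf_pow_orderOf_div hα0 hqd
  have hβF : β ∈ F.autGroup R := by
    rw [hβdef]; exact (F.autGroup R).pow_mem hαF _
  have hRp : IsPGroup p R := hS.to_le hRS
  have hpnd : ¬ p ∣ orderOf β := by
    rw [hβq]; exact fun h => hqp ((Nat.prime_dvd_prime_iff_eq hp hq).mp h).symm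
  have hsat := autSystem_saturated R hRp β hpnd
  have hsub := autSystem_isSubsystemOf F hRS ((MulAut.conj : R →* MulAut R).range ⊔ Subgroup.zpowers β)
    (fun r => Subgroup.mem_sup_left ⟨r, rfl⟩)
    (sup_le (inn_le_autGroup F hRS) ((Subgroup.zpowers_le).mpr hβF))
  rcases hsp R _ hsat hsub with ⟨h1, h2⟩ | h2
  · subst h1
    exact main_case p hS F hsp q hq hqp β hβq h2
  · exfalso
    have h3 : R.subtype.comp β.toMonoidHom ∈
        (autSystem R ((MulAut.conj : R →* MulAut R).range ⊔ Subgroup.zpowers β)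
          (fun r => Subgroup.mem_sup_left ⟨r, rfl⟩)).Hom R :=
      ⟨le_refl R, β, Subgroup.mem_sup_right (Subgroup.mem_zpowers _), fun x => rfl⟩
    rw [h2 R] at h3
    obtain ⟨-, g, hg, hg'⟩ := h3
    have hβ1 : β = 1 := not_inner_of_prime_order R hRp β hq hqp (hβq ▸ dvd_rfl) g hg (fun x => hg' x)
    rw [hβ1, orderOf_one] at hβq
    exact hq.ne_one hβq.symm

end Cfsg.Agent.S5245
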