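import Cfsg.Statements.S5235
import Cfsg.Agent.Helper87.Meta2D
import Cfsg.Agent.Helper87.NormalCrit
import Cfsg.Agent.S5236
import Cfsg.Agent.S5245

set_option autoImplicit false
open Cfsg

namespace Cfsg.Agent.S5235

open Cfsg.FusionSystem Cfsg.Agent.Helper87 Cfsg.Agent.S5236 Cfsg.Agent.S5245

/-- The chain `S ≥ P ≥ W`. -/
def chainB {Ω : Type*} [Group Ω] (S P W : Subgroup Ω) : ℕ → Subgroup Ω
  | 0 => S
  | 1 => P
  | _ => W

theorem chainB_le {Ω : Type*} [Group Ω] {S P W : Subgroup Ω} (h1 : P ≤ S) (h2 : W ≤ P) :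
    ∀ k < 2, chainB S P W (k + 1) ≤ chainB S P W k := by
  intro k hk
  match k, hk with
  | 0, _ => exact h1
  | 1, _ => exact h2


/-- Let F be a saturated fusion system over a finite 2-group S (p = 2) and P a metacyclic subgroup of S strongly closed in F that is not dihedral, not semidihedral and not generalized quaternion (here the group of order 2, the Klein four-group and the cyclic group of order 4 also count as excluded). Then P is normal in F. -/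
theorem result {Ω : Type*} [Group Ω] {S : Subgroup Ω} [Finite S] (p : ℕ) [Fact p.Prime] (hS : IsPGroup p S) (F : Cfsg.FusionSystem S) (hF : F.IsSaturated p) (P : Subgroup Ω) (hP : F.StronglyClosed P) (hp : p = 2) (hm : Cfsg.IsMetacyclic ↥P) (hd : ¬ ∃ m : ℕ, Nonempty (↥P ≃* DihedralGroup m)) (hq : ¬ ∃ m : ℕ, Nonempty (↥P ≃* QuaternionGroup m)) (hsd : ¬ Cfsg.IsQuasiDihedral ↥P) : F.IsNormal P := by
  subst hp
  have hPS : P ≤ S := hP.1
  have hPnorm : ∀ s ∈ S, ∀ q ∈ P, s * q * s⁻¹ ∈ P := fun s hs q hq => stronglyClosed_conj_mem F hP hs hq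
  have hfinP : Finite P := finite_of_le hPS
  obtain ⟨N₀, hnorm, hi, hii, hpf⟩ := metacyclic_two_ambient P (hS.to_le hPS) hm hd hq hsd
  refine isNormal_of_step hS F hF P hP ?_
  intro R hfa hrec hPR
  have hRS : R ≤ S := hfa.1
  have hfinR : Finite R := finite_of_le hRS
  have hR2 : IsPGroup 2 R := hS.to_le hRS
  have hcoe : ∀ (m : Ω) (hm : m ∈ Subgroup.normalizer (R : Set Ω)) (x : R),
      ((R.normalizerMonoidHom ⟨m, hm⟩ x : R) : Ω) = m * (x : Ω) * m⁻¹ := fun m hm x =>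
    Subgroup.normalizerMonoidHom_apply_apply_coe R ⟨m, hm⟩ x
  have hKA : ∀ (m : Ω) (hm : m ∈ Subgroup.normalizer (R : Set Ω)), m ∈ P →
      R.normalizerMonoidHom ⟨m, hm⟩ ∈ chainStab R (chainA S P) 1 (chainA_le hPS) := by
    intro m hm hmP k hk x hx
    match k, hk, hx with
    | 0, _, _ =>
      show ((x⁻¹ * R.normalizerMonoidHom ⟨m, hm⟩ x : R) : Ω) ∈ P
      have hel : ((x⁻¹ * R.normalizerMonoidHom ⟨m, hm⟩ x : R) : Ω) =
          ((x : Ω)⁻¹ * m * (x : Ω)⁻¹⁻¹) * m⁻¹ := by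
        rw [Subgroup.coe_mul, hcoe, Subgroup.coe_inv]
        group
      rw [hel]
      exact P.mul_mem (hPnorm _ (S.inv_mem (hRS x.2)) m hmP) (P.inv_mem hmP)
  have hKAn : ∀ γ ∈ F.autGroup R, ∀ κ ∈ chainStab R (chainA S P) 1 (chainA_le hPS),
      γ * κ * γ⁻¹ ∈ chainStab R (chainA S P) 1 (chainA_le hPS) := by
    refine chainStab_normal F _ _ _ ?_
    intro γ hγ k hk x hx
    match k, hk, hx with
    | 0, _, _ => exact hRS (γ x).2
    | 1, _, hx => exact aut_mem_of_stronglyClosed F hP hRS hγ x hx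
  -- automorphisms centralizing `R / (R ∩ P)` and `R ∩ P` are `2`-elements
  have hfix2 : ∀ κ ∈ chainStab R (chainA S P) 1 (chainA_le hPS), (∀ x : R, (x : Ω) ∈ P → κ x = x) →
      ∃ j : ℕ, κ ^ (2 ^ j) = 1 := by
    intro κ hκ hfix
    have h1 : κ ∈ chainStab R (chainB S P ⊥) 2 (chainB_le hPS bot_le) := by
      intro k hk x hx
      match k, hk, hx with
      | 0, _, hx => exact hκ 0 (by norm_num) x hx
      | 1, _, hx =>
        show ((x⁻¹ * κ x : R) : Ω) ∈ (⊥ : Subgroup Ω)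
        rw [hfix x hx, inv_mul_cancel]
        exact Subgroup.one_mem _
    have h2 : IsPGroup 2 ↥(chainStab R (chainB S P ⊥) 2 (chainB_le hPS bot_le)) :=
      chainStab_isPGroup R hR2 (chainB S P ⊥) 2 (chainB_le hPS bot_le) hRS (inf_bot_eq R)
    obtain ⟨j, hj⟩ := h2 ⟨κ, h1⟩
    exact ⟨j, congrArg Subtype.val hj⟩
  by_cases hI : ∀ κ ∈ chainStab R (chainA S P) 1 (chainA_le hPS) ⊓ F.autGroup R, ∃ n : ℕ, κ ^ (2 ^ n) = 1
  · obtain ⟨t, htP, htN, htR⟩ := exists_mem_normalizer_not_mem hS hRS hPS hPnorm hPR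
    refine ⟨chainStab R (chainA S P) 1 (chainA_le hPS) ⊓ F.autGroup R, ?_, ?_, ⟨t, htN⟩, hPS htP, htR,
      ⟨hKA t htN htP, normalizerMonoidHom_mem_autGroup F hRS ⟨t, htN⟩ (hPS htP)⟩⟩
    · rintro ⟨κ, hκ⟩
      obtain ⟨n, hn⟩ := hI κ hκ
      exact ⟨n, Subtype.ext hn⟩
    · intro γ hγ κ hκ
      exact ⟨hKAn γ hγ κ hκ.1, Subgroup.mul_mem _ (Subgroup.mul_mem _ hγ hκ.2) (Subgroup.inv_mem _ hγ)⟩
  push Not at hI
  obtain ⟨κ, hκ, hκ2⟩ := hI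
  have ho : orderOf κ ≠ 0 := (orderOf_pos κ).ne'
  obtain ⟨c, m, hmodd, hcm⟩ := Nat.exists_eq_two_pow_mul_odd ho
  have hκ'm : (κ ^ (2 ^ c)) ^ m = 1 := by rw [← pow_mul, ← hcm, pow_orderOf_eq_one]
  have hκ'1 : κ ^ (2 ^ c) ≠ 1 := hκ2 c
  have hκ'K : κ ^ (2 ^ c) ∈ chainStab R (chainA S P) 1 (chainA_le hPS) := Subgroup.pow_mem _ hκ.1 _
  have hκ'F : κ ^ (2 ^ c) ∈ F.autGroup R := Subgroup.pow_mem _ hκ.2 _
  generalize κ ^ (2 ^ c) = κ' at hκ'm hκ'1 hκ'K hκ'F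
  have hQR : R ⊓ P ≤ R := inf_le_left
  have hQP : R ⊓ P ≤ P := inf_le_right
  have hfinQ : Finite ↥(R ⊓ P) := finite_of_le (hQR.trans hRS)
  have hQ2 : IsPGroup 2 ↥(R ⊓ P) := hS.to_le (hQR.trans hRS)
  have hγQ : ∀ γ ∈ F.autGroup R, ∀ y (hy : y ∈ R ⊓ P), ((γ ⟨y, hQR hy⟩ : R) : Ω) ∈ R ⊓ P :=
    fun γ hγ y hy => ⟨(γ _).2, aut_mem_of_stronglyClosed F hP hRS hγ _ hy.2⟩
  have hβm : (restrictAut hQR κ' (hγQ κ' hκ'F)) ^ m = 1 := by
    ext x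
    rw [restrictAut_pow_apply, hκ'm]
    rfl
  have hβ1 : restrictAut hQR κ' (hγQ κ' hκ'F) ≠ 1 := by
    intro h
    have hfix : ∀ x : R, (x : Ω) ∈ P → κ' x = x := by
      intro x hx
      have h1 := congrArg (fun γ : MulAut ↥(R ⊓ P) => ((γ ⟨x, x.2, hx⟩ : ↥(R ⊓ P)) : Ω)) h
      exact Subtype.ext h1
    obtain ⟨j, hj⟩ := hfix2 κ' hκ'K hfix
    have h1 : orderOf κ' ∣ Nat.gcd (2 ^ j) m :=
      Nat.dvd_gcd (orderOf_dvd_of_pow_eq_one hj) (orderOf_dvd_of_pow_eq_one hκ'm)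
    have h2 : Nat.gcd (2 ^ j) m = 1 := Nat.Coprime.pow_left _ (Nat.coprime_two_left.mpr hmodd)
    rw [h2, Nat.dvd_one, orderOf_eq_one_iff] at h1
    exact hκ'1 h1
  -- an element of `N_P(R) ∖ R` whose square lies in `R`
  obtain ⟨t₀, ht₀P, ht₀N, ht₀R⟩ := exists_mem_normalizer_not_mem hS hRS hPS hPnorm hPR
  have hex : ∃ j : ℕ, t₀ ^ (2 ^ j) ∈ R := by
    obtain ⟨j, hj⟩ := hS ⟨t₀, hPS ht₀P⟩
    refine ⟨j, ?_⟩
    have : t₀ ^ (2 ^ j) = 1 := congrArg Subtype.val hj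
    rw [this]
    exact R.one_mem
  classical
  have hj0 : Nat.find hex ≠ 0 := by
    intro h0
    have := Nat.find_spec hex
    rw [h0, pow_zero, pow_one] at this
    exact ht₀R this
  obtain ⟨j, hj⟩ : ∃ j, Nat.find hex = j + 1 := ⟨Nat.find hex - 1, by omega⟩
  have htR : t₀ ^ (2 ^ j) ∉ R := Nat.find_min hex (by omega : j < Nat.find hex)
  have ht2R : (t₀ ^ (2 ^ j)) ^ 2 ∈ R := by
    have := Nat.find_spec hex
    rw [hj, pow_succ, pow_mul] at this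
    exact this
  have htP : t₀ ^ (2 ^ j) ∈ P := P.pow_mem ht₀P _
  have htN : t₀ ^ (2 ^ j) ∈ Subgroup.normalizer (R : Set Ω) := Subgroup.pow_mem _ ht₀N _
  generalize t₀ ^ (2 ^ j) = t at htR ht2R htP htN
  have htQ : t ∈ Subgroup.normalizer ((R ⊓ P : Subgroup Ω) : Set Ω) := by
    rw [Subgroup.mem_normalizer_iff]
    intro h
    constructor
    · intro hh
      exact ⟨(Subgroup.mem_normalizer_iff.mp htN h).mp hh.1, hPnorm t (hPS htP) h hh.2⟩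
    · intro hh
      refine ⟨(Subgroup.mem_normalizer_iff.mp htN h).mpr hh.1, ?_⟩
      have := hPnorm t⁻¹ (S.inv_mem (hPS htP)) _ hh.2
      have e : t⁻¹ * (t * h * t⁻¹) * t⁻¹⁻¹ = h := by group
      rw [e] at this
      exact this
  have hBB := conj_mem_frattini_of_odd_aut P N₀ (R ⊓ P) hQ2 hQP hnorm hi hii (hpf _ hQP) _ m hmodd hβm hβ1
    t htP htQ ⟨ht2R, P.pow_mem htP 2⟩
  have hΦP : (frattini ↥(R ⊓ P)).map (R ⊓ P).subtype ≤ P := by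
    rintro _ ⟨y, -, rfl⟩
    exact y.2.2
  refine ⟨chainStab R (chainB S P ((frattini ↥(R ⊓ P)).map (R ⊓ P).subtype)) 2 (chainB_le hPS hΦP), ?_, ?_,
    ⟨t, htN⟩, hPS htP, htR, ?_⟩
  · -- a `2`-group
    rintro ⟨κ₁, hκ₁⟩
    suffices h : ∃ a : ℕ, κ₁ ^ (2 ^ a) = 1 by
      obtain ⟨a, ha⟩ := h
      exact ⟨a, Subtype.ext ha⟩
    have hinvQ : ∀ y (hy : y ∈ R ⊓ P), ((κ₁ ⟨y, hQR hy⟩ : R) : Ω) ∈ R ⊓ P := by
      intro y hy
      have h1 := hκ₁ 1 (by norm_num) ⟨y, hQR hy⟩ hy.2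
      refine ⟨(κ₁ _).2, ?_⟩
      have h2 : ((κ₁ ⟨y, hQR hy⟩ : R) : Ω) = y * (((⟨y, hQR hy⟩ : R)⁻¹ * κ₁ ⟨y, hQR hy⟩ : R) : Ω) := by simp
      rw [h2]
      exact P.mul_mem hy.2 (hΦP h1)
    have htriv : ∀ x : ↥(R ⊓ P), restrictAut hQR κ₁ hinvQ x * x⁻¹ ∈ frattini ↥(R ⊓ P) := by
      intro x
      have h1 := hκ₁ 1 (by norm_num) ⟨x, hQR x.2⟩ x.2.2
      obtain ⟨φ, hφ, hφeq⟩ := h1
      have h2 : restrictAut hQR κ₁ hinvQ x * x⁻¹ = x * φ * x⁻¹ := by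
        apply Subtype.ext
        rw [Subgroup.coe_mul, restrictAut_apply, Subgroup.coe_mul, Subgroup.coe_mul]
        have h3 : ((φ : ↥(R ⊓ P)) : Ω) = (x : Ω)⁻¹ * ((κ₁ ⟨x, hQR x.2⟩ : R) : Ω) := by
          have := hφeq
          simpa using this
        rw [h3]
        group
      rw [h2]
      exact (inferInstance : (frattini ↥(R ⊓ P)).Normal).conj_mem φ hφ x
    obtain ⟨n, hn⟩ := (IsPGroup.iff_card (p := 2) (G := ↥(R ⊓ P))).mp hQ2
    obtain ⟨r, hr⟩ := hQ2.index (frattini ↥(R ⊓ P))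
    have hA : ∀ α ∈ Subgroup.zpowers (restrictAut hQR κ₁ hinvQ), ∀ x, α x * x⁻¹ ∈ frattini ↥(R ⊓ P) := by
      intro α hα
      obtain ⟨i, rfl⟩ := (mem_powers_iff_mem_zpowers (G := MulAut ↥(R ⊓ P))).mpr hα
      exact aut_pow_mul_inv_mem (frattini _) _ (fun x hx => aut_mem_frattini _ x hx) htriv i
    have h1 := Helper70.card_aut_trivial_on_frattini_quotient_dvd hn hr _ hA
    rw [Nat.card_zpowers] at h1
    have h2 : (restrictAut hQR κ₁ hinvQ) ^ (2 ^ (r * (n - r))) = 1 := orderOf_dvd_iff_pow_eq_one.mp h1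
    have hfix : ∀ x : R, (x : Ω) ∈ P → (κ₁ ^ (2 ^ (r * (n - r)))) x = x := by
      intro x hx
      have h3 := congrArg (fun γ : MulAut ↥(R ⊓ P) => ((γ ⟨x, x.2, hx⟩ : ↥(R ⊓ P)) : Ω)) h2
      simp only [restrictAut_pow_apply] at h3
      exact Subtype.ext h3
    have hK : κ₁ ^ (2 ^ (r * (n - r))) ∈ chainStab R (chainA S P) 1 (chainA_le hPS) := by
      apply Subgroup.pow_mem
      intro k hk x hx
      match k, hk, hx with
      | 0, _, hx => exact hκ₁ 0 (by norm_num) x hx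
    obtain ⟨j', hj'⟩ := hfix2 _ hK hfix
    exact ⟨r * (n - r) + j', by rw [pow_add, pow_mul, hj']⟩
  · -- normalized by the automizer
    refine chainStab_normal F _ _ _ ?_
    intro γ hγ k hk x hx
    match k, hk, hx with
    | 0, _, _ => exact hRS (γ x).2
    | 1, _, hx => exact aut_mem_of_stronglyClosed F hP hRS hγ x hx
    | 2, _, hx =>
      obtain ⟨φ, hφ, hφeq⟩ := hx
      have h1 := aut_mem_frattini (restrictAut hQR γ (hγQ γ hγ)) φ hφ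
      refine ⟨_, h1, ?_⟩
      show ((γ ⟨φ, hQR φ.2⟩ : R) : Ω) = ((γ x : R) : Ω)
      have h2 : (⟨φ, hQR φ.2⟩ : R) = x := Subtype.ext hφeq
      rw [h2]
  · -- conjugation by `t`
    intro k hk x hx
    match k, hk, hx with
    | 0, _, hx => exact hKA t htN htP 0 (by norm_num) x hx
    | 1, _, hx =>
      have h1 := hBB ⟨x, x.2, hx⟩
      have h2 := (inferInstance : (frattini ↥(R ⊓ P)).Normal).conj_mem _ h1 (⟨x, x.2, hx⟩ : ↥(R ⊓ P))⁻¹
      refine ⟨_, h2, ?_⟩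
      show ((((⟨x, x.2, hx⟩ : ↥(R ⊓ P))⁻¹ * ((R ⊓ P).normalizerMonoidHom ⟨t, htQ⟩ ⟨x, x.2, hx⟩ *
        (⟨x, x.2, hx⟩ : ↥(R ⊓ P))⁻¹) * (⟨x, x.2, hx⟩ : ↥(R ⊓ P))⁻¹⁻¹ : ↥(R ⊓ P)) : Ω)) =
        ((x⁻¹ * R.normalizerMonoidHom ⟨t, htN⟩ x : R) : Ω)
      rw [Subgroup.coe_mul, Subgroup.coe_mul, Subgroup.coe_mul, Subgroup.coe_mul, hcoe,
        Subgroup.normalizerMonoidHom_apply_apply_coe]
      simp only [Subgroup.coe_inv]
      group

end Cfsg.Agent.S5235
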