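import Cfsg.Statements.S5212
import Cfsg.Agent.Helper87.Meta2H
import Cfsg.Agent.Helper87.Inner
import Cfsg.Agent.Helper87.NormalCrit
import Cfsg.Agent.S5235

set_option autoImplicit false
open Cfsg

namespace Cfsg.Agent.S5212

open Cfsg.FusionSystem Cfsg.Agent.Helper87


/-- Let S be a finite metacyclic 2-group that is not homocyclic abelian (a direct product of cyclic groups of one common order), not dihedral, not semidihedral and not generalized quaternion. Then every saturated fusion system over S is the inner fusion system of S. -/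
theorem result {Ω : Type*} [Group Ω] {S : Subgroup Ω} [Finite S] (hS : IsPGroup 2 S) (F : Cfsg.FusionSystem S) (hF : F.IsSaturated 2) (hm : Cfsg.IsMetacyclic ↥S) (hh : ¬ ∃ n k : ℕ, Nonempty (↥S ≃* Multiplicative (Fin k → ZMod (2 ^ n)))) (hd : ¬ ∃ m : ℕ, Nonempty (↥S ≃* DihedralGroup m)) (hq : ¬ ∃ m : ℕ, Nonempty (↥S ≃* QuaternionGroup m)) (hsd : ¬ Cfsg.IsQuasiDihedral ↥S) : ∀ P : Subgroup Ω, F.Hom P = (Cfsg.innerFusionSystem S).Hom P := by
  have hfact : Fact (Nat.Prime 2) := ⟨Nat.prime_two⟩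
  have hSC : F.StronglyClosed S := ⟨le_rfl, fun R hR φ hφ x => hom_mem F hφ x⟩
  have hnormal : F.IsNormal S := Cfsg.Agent.S5235.result 2 hS F hF S hSC rfl hm hd hq hsd
  have haut : ∀ α : MulAut S, ∃ j : ℕ, α ^ (2 ^ j) = 1 := by
    intro α
    have ho : orderOf α ≠ 0 := (orderOf_pos α).ne'
    obtain ⟨c, m, hmodd, hcm⟩ := Nat.exists_eq_two_pow_mul_odd ho
    refine ⟨c, ?_⟩
    by_contra hne
    have hβm : (α ^ (2 ^ c)) ^ m = 1 := by rw [← pow_mul, ← hcm, pow_orderOf_eq_one]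
    obtain ⟨N, hNn, hNc, hQc⟩ := hm
    obtain ⟨h1, -⟩ := metacyclic_two_structure hS N hNc hQc hd hq hsd
    obtain ⟨n, hn⟩ := homocyclic_of_odd_aut hS N hNc hQc h1 _ m hmodd hβm hne
    exact hh ⟨n, 2, hn⟩
  refine inner_of_aut_pgroup hS F hF ?_
  intro R hRS α hα
  have hφ := (mem_autGroup_iff F hRS α).mp hα
  obtain ⟨σ, hσ, hσx⟩ := exists_aut_of_isNormal F hnormal hRS hφ
  obtain ⟨j, hj⟩ := haut σ
  refine ⟨j, ?_⟩
  have hpow : ∀ (n : ℕ) (x : R), (((σ ^ n) ⟨x, hRS x.2⟩ : S) : Ω) = (((α ^ n) x : R) : Ω) := by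
    intro n
    induction n with
    | zero => intro x; rfl
    | succ n ih =>
      intro x
      rw [pow_succ, pow_succ, MulAut.mul_apply, MulAut.mul_apply]
      have h1 : σ ⟨x, hRS x.2⟩ = ⟨α x, hRS (α x).2⟩ := Subtype.ext (hσx x)
      rw [h1, ih]
  ext x
  have h2 := hpow (2 ^ j) x
  rw [hj] at h2
  exact h2.symm

end Cfsg.Agent.S5212
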