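import Cfsg.Statements.S5233
import Cfsg.Agent.Helper87.GenExtraH
import Cfsg.Agent.S5226

set_option autoImplicit false
open Cfsg

namespace Cfsg.Agent.S5233

open Cfsg.FusionSystem Cfsg.Agent.Helper87
open scoped commutatorElement


/-- Let F be a saturated fusion system over a finite p-group S and P a subgroup of S strongly closed in F that is generalized extraspecial (its Frattini subgroup equals its commutator subgroup and has order p) and not isomorphic to E × A with A elementary abelian and E dihedral of order 8 (p = 2) or extraspecial of order p³ and exponent p (p odd). Then P is normal in F. -/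
theorem result {Ω : Type*} [Group Ω] {S : Subgroup Ω} [Finite S] (p : ℕ) [Fact p.Prime] (hS : IsPGroup p S) (F : Cfsg.FusionSystem S) (hF : F.IsSaturated p) (P : Subgroup Ω) (hP : F.StronglyClosed P) (hge : frattini ↥P = commutator ↥P ∧ Nat.card ↥(commutator ↥P) = p) (h2 : p = 2 → ¬ ∃ (A : Type) (_ : CommGroup A), (∀ a : A, a ^ 2 = 1) ∧ Nonempty (↥P ≃* DihedralGroup 4 × A)) (hodd : p ≠ 2 → ¬ ∃ (E : Type) (_ : Group E) (A : Type) (_ : CommGroup A), Cfsg.IsExtraspecial p E ∧ Nat.card E = p ^ 3 ∧ Monoid.exponent E = p ∧ (∀ a : A, a ^ p = 1) ∧ Nonempty (↥P ≃* E × A)) : F.IsNormal P := by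
  have hpp : p.Prime := Fact.out
  have hPS : P ≤ S := hP.1
  have hfinP : Finite P := finite_of_le hPS
  have hPp : IsPGroup p P := hS.to_le hPS
  obtain ⟨hZcard, hZP, hZc, hpow, hnab⟩ := genExtra_structure P hPp hge
  have hcomm : ∀ x ∈ P, ∀ w ∈ P, x * w * x⁻¹ * w⁻¹ ∈ ⁅P, P⁆ := fun x hx w hw => by
    rw [← commutatorElement_def]; exact Subgroup.commutator_mem_commutator hx hw
  have hZS : ∀ g ∈ S, ∀ z ∈ ⁅P, P⁆, g * z * g⁻¹ ∈ ⁅P, P⁆ := fun g hg z hz =>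
    commutator_conj_mem P g (fun x hx => stronglyClosed_conj_mem F hP hg hx) z hz
  have hZpow : ∀ u ∈ ⁅P, P⁆, u ^ p = 1 := by
    intro u hu
    have h1 : (⟨u, hu⟩ : ↥⁅P, P⁆) ^ Nat.card ↥⁅P, P⁆ = 1 := pow_card_eq_one'
    rw [hZcard] at h1
    exact congrArg Subtype.val h1
  have hnoIIa : ∀ c ∈ ⁅P, P⁆, c ≠ 1 → ∀ t ∈ P, ∀ y ∈ P, t * y * t⁻¹ * y⁻¹ = c → t ^ p = 1 →
      (∀ a ∈ P, ∀ b ∈ P, a * y = y * a → b * y = y * b → a * b = b * a) →
      (∀ a ∈ P, a * y = y * a → a ^ p = 1) → False := by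
    intro c hcZ hc1 t ht y hy hty htp hMab hMexp
    have hc' : ∀ g : ↥P, Commute (⟨c, hZP hcZ⟩ : ↥P) g := fun g => Subtype.ext (hZc c hcZ g g.2)
    have hc1' : (⟨c, hZP hcZ⟩ : ↥P) ≠ 1 := fun h => hc1 (congrArg Subtype.val h)
    have hcp' : (⟨c, hZP hcZ⟩ : ↥P) ^ p = 1 := Subtype.ext (hZpow c hcZ)
    have hZ' : ∀ x w : ↥P, ∃ n : ℕ, x * w * x⁻¹ * w⁻¹ = (⟨c, hZP hcZ⟩ : ↥P) ^ n := by
      intro x w
      obtain ⟨n, hn⟩ := exists_pow_eq_of_card_prime ⁅P, P⁆ hZcard c hcZ hc1 _ (hcomm x x.2 w w.2)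
      exact ⟨n, Subtype.ext hn.symm⟩
    have hty' : (⟨t, ht⟩ : ↥P) * ⟨y, hy⟩ * (⟨t, ht⟩ : ↥P)⁻¹ * (⟨y, hy⟩ : ↥P)⁻¹ = ⟨c, hZP hcZ⟩ := Subtype.ext hty
    have htp' : (⟨t, ht⟩ : ↥P) ^ p = 1 := Subtype.ext htp
    have hMab' : ∀ a b : ↥P, Commute a (⟨y, hy⟩ : ↥P) → Commute b (⟨y, hy⟩ : ↥P) → Commute a b :=
      fun a b ha hb => Subtype.ext (hMab a a.2 b b.2 (congrArg Subtype.val ha.eq) (congrArg Subtype.val hb.eq))
    have hMexp' : ∀ a : ↥P, Commute a (⟨y, hy⟩ : ↥P) → a ^ p = 1 :=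
      fun a ha => Subtype.ext (hMexp a a.2 (congrArg Subtype.val ha.eq))
    by_cases hp2 : p = 2
    · subst hp2
      exact h2 rfl (genExtra_decomp_two _ _ _ hc' hc1' hcp' hZ' hty' htp' hMab' hMexp')
    · exact hodd hp2 (genExtra_decomp_odd hp2 _ _ _ hc' hc1' hcp' hZ' hty' htp' hMab' hMexp')
  have hwc : F.WeaklyClosed ⁅P, P⁆ :=
    genExtra_weaklyClosed hS F hF hP hZP hZcard hZc hcomm hpow hZS hnab hnoIIa
  have hwc0 : F.WeaklyClosed (⊥ : Subgroup Ω) := by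
    refine ⟨bot_le, fun φ hφ => ?_⟩
    apply range_eq_of_forall_mem F hφ
    intro x
    have : x = 1 := Subtype.ext (Subgroup.mem_bot.mp x.2)
    rw [this, map_one]; exact Subgroup.one_mem _
  refine (Cfsg.Agent.S5226.result p hS F hF P).mpr ⟨hP, 2, ![⊥, ⁅P, P⁆, P], rfl, rfl, ?_, ?_, ?_⟩
  · rw [Fin.monotone_iff_le_succ]
    intro i
    fin_cases i
    · exact bot_le
    · exact hZP
  · intro i
    fin_cases i
    · show ⁅⁅P, P⁆, P⁆ ≤ ⊥
      rw [Subgroup.commutator_le]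
      intro g₁ hg₁ g₂ hg₂
      rw [Subgroup.mem_bot, commutatorElement_eq_one_iff_commute]
      exact hZc g₁ hg₁ g₂ hg₂
    · show ⁅P, P⁆ ≤ ⁅P, P⁆
      exact le_rfl
  · intro i
    fin_cases i
    · exact hwc0
    · exact hwc

end Cfsg.Agent.S5233
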