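import Cfsg.Statements.S5234
import Cfsg.Agent.Helper87.MetaEnd
import Cfsg.Agent.S5236

set_option autoImplicit false
open Cfsg

namespace Cfsg.Agent.S5234

open Cfsg.FusionSystem Cfsg.Agent.Helper87 Cfsg.Agent.S5236

/-- The chain `V ≥ W ≥ 1`. -/
def chain3 {Ω : Type*} [Group Ω] (V W : Subgroup Ω) : ℕ → Subgroup Ω
  | 0 => V
  | 1 => W
  | _ => ⊥

theorem chain3_le {Ω : Type*} [Group Ω] {V W : Subgroup Ω} (h : W ≤ V) :
    ∀ k < 2, chain3 V W (k + 1) ≤ chain3 V W k := by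
  intro k hk
  match k, hk with
  | 0, _ => exact h
  | 1, _ => exact bot_le


/-- Let p be an odd prime, F a saturated fusion system over a finite p-group S and P a metacyclic subgroup of S strongly closed in F. Then P is normal in F. -/
theorem result {Ω : Type*} [Group Ω] {S : Subgroup Ω} [Finite S] (p : ℕ) [Fact p.Prime] (hS : IsPGroup p S) (F : Cfsg.FusionSystem S) (hF : F.IsSaturated p) (P : Subgroup Ω) (hP : F.StronglyClosed P) (hp : p ≠ 2) (hm : Cfsg.IsMetacyclic ↥P) : F.IsNormal P := by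
  have hpp : p.Prime := Fact.out
  have hPS : P ≤ S := hP.1
  have hPnorm : ∀ s ∈ S, ∀ q ∈ P, s * q * s⁻¹ ∈ P := fun s hs q hq => stronglyClosed_conj_mem F hP hs hq
  have hfinP : Finite P := finite_of_le hPS
  obtain ⟨A, W, hV1, hVcard, hWcard, hW1, hAP, hcommA, hWcent, hVW, hprodform⟩ :=
    metacyclic_odd_structure hp P (hS.to_le hPS) hm
  generalize hVdef : omegaOne p P = V at hV1 hVcard hVW
  have hVP : V ≤ P := fun x hx => ((hV1 x).mp hx).1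
  have hWA : W ≤ A := fun z hz => ((hW1 z).mp hz).1
  have hWV : W ≤ V := fun z hz => (hV1 z).mpr ⟨hAP (hWA hz), ((hW1 z).mp hz).2⟩
  have hfinV : Finite V := finite_of_le (hVP.trans hPS)
  have hfinW : Finite W := finite_of_le ((hWV.trans hVP).trans hPS)
  refine isNormal_of_step hS F hF P hP ?_
  intro R hfa hrec hPR
  have hRS : R ≤ S := hfa.1
  have hfinR : Finite R := finite_of_le hRS
  obtain ⟨t, htP, htN, htR⟩ := exists_mem_normalizer_not_mem hS hRS hPS hPnorm hPR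
  -- automorphisms in the system preserve V
  have hγV : ∀ γ ∈ F.autGroup R, ∀ x : R, (x : Ω) ∈ V → ((γ x : R) : Ω) ∈ V := by
    intro γ hγ x hx
    rw [hV1] at hx ⊢
    refine ⟨aut_mem_of_stronglyClosed F hP hRS hγ x hx.1, ?_⟩
    have h1 : x ^ p = 1 := Subtype.ext hx.2
    have h2 : (γ x) ^ p = 1 := by rw [← map_pow, h1, map_one]
    exact congrArg Subtype.val h2
  have hcoe : ∀ (m : Ω) (hm : m ∈ Subgroup.normalizer (R : Set Ω)) (x : R),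
      ((R.normalizerMonoidHom ⟨m, hm⟩ x : R) : Ω) = m * (x : Ω) * m⁻¹ := fun m hm x =>
    Subgroup.normalizerMonoidHom_apply_apply_coe R ⟨m, hm⟩ x
  have hKA : ∀ (m : Ω) (hm : m ∈ Subgroup.normalizer (R : Set Ω)), m ∈ P →
      R.normalizerMonoidHom ⟨m, hm⟩ ∈ chainStab R (chainA S P) 1 (chainA_le hPS) := by
    intro m hm hmP k hk x hx
    match k, hk, hx with
    | 0, _, _ =>
      show ((x⁻¹ * R.normalizerMonoidHom ⟨m, hm⟩ x : R) : Ω) ∈ P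
      have hel : ((x⁻¹ * R.normalizerMonoidHom ⟨m, hm⟩ x : R) : Ω) =
          ((x : Ω)⁻¹ * m * (x : Ω)⁻¹⁻¹) * m⁻¹ := by
        rw [Subgroup.coe_mul, hcoe, Subgroup.coe_inv]
        group
      rw [hel]
      exact P.mul_mem (hPnorm _ (S.inv_mem (hRS x.2)) m hmP) (P.inv_mem hmP)
  have hKAn : ∀ γ ∈ F.autGroup R, ∀ κ ∈ chainStab R (chainA S P) 1 (chainA_le hPS),
      γ * κ * γ⁻¹ ∈ chainStab R (chainA S P) 1 (chainA_le hPS) := by
    refine chainStab_normal F _ _ _ ?_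
    intro γ hγ k hk x hx
    match k, hk, hx with
    | 0, _, _ => exact hRS (γ x).2
    | 1, _, hx => exact aut_mem_of_stronglyClosed F hP hRS hγ x hx
  have hK₁p : IsPGroup p ↥(chainStab R (chainA S P) 1 (chainA_le hPS) ⊓
      chainStab R (chainA V ⊥) 1 (chainA_le bot_le)) :=
    isPGroup_inf_chainStab hp R S P (hS.to_le hRS) hRS hPS (chainA V ⊥) 1 (chainA_le bot_le) hVdef.symm rfl
  have hKVn : ∀ γ ∈ F.autGroup R, ∀ κ ∈ chainStab R (chainA V ⊥) 1 (chainA_le bot_le),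
      γ * κ * γ⁻¹ ∈ chainStab R (chainA V ⊥) 1 (chainA_le bot_le) := by
    refine chainStab_normal F _ _ _ ?_
    intro γ hγ k hk x hx
    match k, hk, hx with
    | 0, _, hx => exact hγV γ hγ x hx
    | 1, _, hx =>
      have hx' : (x : Ω) ∈ (⊥ : Subgroup Ω) := hx
      have hx1 : x = 1 := Subtype.ext (Subgroup.mem_bot.mp hx')
      rw [hx1, map_one]
      exact Subgroup.one_mem _
  by_cases hA : ∀ γ ∈ F.autGroup R, ∀ x : R, (x : Ω) ∈ W → ((γ x : R) : Ω) ∈ W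
  · -- Case A: the system's automorphisms preserve `R ∩ W`
    refine ⟨chainStab R (chainA S P) 1 (chainA_le hPS) ⊓ chainStab R (chain3 V W) 2 (chain3_le hWV),
      isPGroup_inf_chainStab hp R S P (hS.to_le hRS) hRS hPS (chain3 V W) 2 (chain3_le hWV) hVdef.symm rfl,
      ?_, ⟨t, htN⟩, hPS htP, htR, hKA t htN htP, ?_⟩
    · intro γ hγ κ hκ
      refine ⟨hKAn γ hγ κ hκ.1, chainStab_normal F _ _ _ ?_ γ hγ κ hκ.2⟩
      intro γ hγ k hk x hx
      match k, hk, hx with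
      | 0, _, hx => exact hγV γ hγ x hx
      | 1, _, hx => exact hA γ hγ x hx
      | 2, _, hx =>
        have hx' : (x : Ω) ∈ (⊥ : Subgroup Ω) := hx
        have hx1 : x = 1 := Subtype.ext (Subgroup.mem_bot.mp hx')
        rw [hx1, map_one]
        exact Subgroup.one_mem _
    · intro k hk x hx
      match k, hk, hx with
      | 0, _, hx =>
        show ((x⁻¹ * R.normalizerMonoidHom ⟨t, htN⟩ x : R) : Ω) ∈ W
        have hel : ((x⁻¹ * R.normalizerMonoidHom ⟨t, htN⟩ x : R) : Ω) =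
            (t * (x : Ω)⁻¹ * t⁻¹ * (x : Ω)⁻¹⁻¹)⁻¹ := by
          rw [Subgroup.coe_mul, hcoe, Subgroup.coe_inv]; group
        rw [hel]
        exact W.inv_mem (hVW _ (V.inv_mem hx) t htP)
      | 1, _, hx =>
        show ((x⁻¹ * R.normalizerMonoidHom ⟨t, htN⟩ x : R) : Ω) ∈ (⊥ : Subgroup Ω)
        rw [Subgroup.mem_bot, Subgroup.coe_mul, hcoe, Subgroup.coe_inv, hWcent _ hx t htP]
        exact inv_mul_cancel _
  by_cases hB : ∃ t' ∈ P, t' ∈ Subgroup.normalizer (R : Set Ω) ∧ t' ∉ R ∧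
      ∀ x : R, (x : Ω) ∈ V → t' * (x : Ω) * t'⁻¹ = x
  · -- Case B1: some element of `N_P(R) ∖ R` centralizes `R ∩ V`
    obtain ⟨t', ht'P, ht'N, ht'R, ht'c⟩ := hB
    refine ⟨_, hK₁p, ?_, ⟨t', ht'N⟩, hPS ht'P, ht'R, hKA t' ht'N ht'P, ?_⟩
    · intro γ hγ κ hκ
      exact ⟨hKAn γ hγ κ hκ.1, hKVn γ hγ κ hκ.2⟩
    · intro k hk x hx
      match k, hk, hx with
      | 0, _, hx =>
        show ((x⁻¹ * R.normalizerMonoidHom ⟨t', ht'N⟩ x : R) : Ω) ∈ (⊥ : Subgroup Ω)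
        rw [Subgroup.mem_bot, Subgroup.coe_mul, hcoe, Subgroup.coe_inv, ht'c x hx]
        exact inv_mul_cancel _
  -- Case B2: contradiction
  exfalso
  push Not at hA hB
  obtain ⟨γ, hγ, w, hwW, hγw⟩ := hA
  have hγinv : γ⁻¹ ∈ F.autGroup R := Subgroup.inv_mem _ hγ
  have hw1 : (w : Ω) ≠ 1 := by
    intro h
    apply hγw
    have h' : w = 1 := Subtype.ext h
    rw [h', map_one]
    exact W.one_mem
  have hWp : Nat.card W = p := by
    apply le_antisymm hWcard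
    have h1 : orderOf (w : Ω) = p := orderOf_eq_prime ((hW1 _).mp hwW).2 hw1
    have h2 : orderOf (w : Ω) ∣ Nat.card W := Subgroup.orderOf_dvd_natCard W hwW
    rw [h1] at h2
    exact Nat.le_of_dvd Nat.card_pos h2
  have he₂V : ((γ w : R) : Ω) ∈ V := hγV γ hγ w (hWV hwW)
  have hVp2 : Nat.card V = p ^ 2 := by
    obtain ⟨k, hk⟩ := (IsPGroup.iff_card (p := p) (G := V)).mp (hS.to_le (hVP.trans hPS))
    have hk2 : k ≤ 2 := by
      rw [hk] at hVcard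
      exact (Nat.pow_le_pow_iff_right hpp.one_lt).mp hVcard
    have hlt : ¬ Nat.card V ≤ Nat.card W := by
      intro hle
      have := Subgroup.eq_of_le_of_card_ge hWV hle
      exact hγw (this ▸ he₂V)
    rw [hk, hWp] at hlt
    interval_cases k
    · exact absurd (by simpa using hpp.one_lt.le) hlt
    · exact absurd (by simp) hlt
    · exact hk
  have hWR : W ≤ R := by
    intro z hz
    obtain ⟨y, rfl⟩ := exists_pow_eq_of_card_prime W hWp (w : Ω) hwW hw1 z hz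
    exact R.pow_mem w.2 y
  have hVR : V ≤ R := le_of_card_sq V W R hVp2 hWp hWV hWR _ he₂V (γ w).2 hγw
  have hVD : V ≤ R ⊓ P := le_inf hVR hVP
  have hDM : R ⊓ P ≤ P ⊓ Subgroup.normalizer (R : Set Ω) := fun x hx => ⟨hx.2, Subgroup.le_normalizer hx.1⟩
  have hfinM : Finite ↥(P ⊓ Subgroup.normalizer (R : Set Ω)) :=
    finite_of_le ((inf_le_left : P ⊓ Subgroup.normalizer (R : Set Ω) ≤ P).trans hPS)
  have hfinD : Finite ↥(R ⊓ P) := finite_of_le ((inf_le_left : R ⊓ P ≤ R).trans hRS)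
  have hDn : ∀ m ∈ P ⊓ Subgroup.normalizer (R : Set Ω), ∀ d ∈ R ⊓ P, m * d * m⁻¹ ∈ R ⊓ P := fun m hm d hd =>
    ⟨(Subgroup.mem_normalizer_iff.mp hm.2 d).mp hd.1, hPnorm m (hPS hm.1) d hd.2⟩
  have hVp : ∀ v ∈ V, v ^ p = 1 := fun v hv => ((hV1 v).mp hv).2
  have hDV : ∀ d ∈ R ⊓ P, d ^ p = 1 → d ∈ V := fun d hd hdp => (hV1 d).mpr ⟨hd.2, hdp⟩
  have hWc : ∀ w ∈ W, ∀ m ∈ P ⊓ Subgroup.normalizer (R : Set Ω), m * w * m⁻¹ = w :=
    fun w hw m hm => hWcent w hw m hm.1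
  have hVW' : ∀ v ∈ V, ∀ m ∈ P ⊓ Subgroup.normalizer (R : Set Ω), m * v * m⁻¹ * v⁻¹ ∈ W :=
    fun v hv m hm => hVW v hv m hm.1
  have hCent : ∀ m ∈ P ⊓ Subgroup.normalizer (R : Set Ω), (∀ v ∈ V, m * v * m⁻¹ = v) → m ∈ R ⊓ P := by
    intro m hm hc
    by_contra hmD
    have hmR : m ∉ R := fun h => hmD ⟨h, hm.1⟩
    obtain ⟨x, hxV, hx⟩ := hB m hm.1 hm.2 hmR
    exact hx (hc _ hxV)
  have htM : t ∈ P ⊓ Subgroup.normalizer (R : Set Ω) := ⟨htP, htN⟩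
  have htD : t ∉ R ⊓ P := fun h => htR h.1
  -- `R ∩ P` is abelian
  have hDab : ∀ x ∈ R ⊓ P, ∀ y ∈ R ⊓ P, x * y = y * x := by
    by_contra hcon
    push Not at hcon
    obtain ⟨x, hx, y, hy, hxy⟩ := hcon
    have hc1 : x * y * x⁻¹ * y⁻¹ ≠ 1 := by
      intro h
      apply hxy
      have := congrArg (· * (y * x)) h
      simpa [mul_assoc] using this
    have hcA : x * y * x⁻¹ * y⁻¹ ∈ A := hcommA x hx.2 y hy.2
    have hcS : x * y * x⁻¹ * y⁻¹ ∈ S := hPS (hAP hcA)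
    obtain ⟨j, hj1, hjp⟩ := exists_pow_order_p (p := p) (x * y * x⁻¹ * y⁻¹) (by
      obtain ⟨k, hk⟩ := hS ⟨_, hcS⟩
      exact ⟨k, congrArg Subtype.val hk⟩) hc1
    have hcjW : (x * y * x⁻¹ * y⁻¹) ^ j ∈ W := (hW1 _).mpr ⟨A.pow_mem hcA j, hjp⟩
    obtain ⟨i, hi⟩ := exists_pow_eq_of_card_prime W hWp _ hcjW hj1 (w : Ω) hwW
    apply hγw
    have hwr : w = ((⟨x, hx.1⟩ : R) * ⟨y, hy.1⟩ * (⟨x, hx.1⟩ : R)⁻¹ * (⟨y, hy.1⟩ : R)⁻¹) ^ (j * i) := by
      apply Subtype.ext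
      rw [← hi, ← pow_mul]
      simp only [Subgroup.coe_pow, Subgroup.coe_mul, Subgroup.coe_inv]
    rw [hW1]
    refine ⟨?_, ((hV1 _).mp he₂V).2⟩
    rw [hwr, map_pow, map_mul, map_mul, map_mul, map_inv, map_inv]
    simp only [Subgroup.coe_pow, Subgroup.coe_mul, Subgroup.coe_inv]
    refine A.pow_mem ?_ _
    exact hcommA _ (aut_mem_of_stronglyClosed F hP hRS hγ _ hx.2) _
      (aut_mem_of_stronglyClosed F hP hRS hγ _ hy.2)
  -- the last power map of `R ∩ P` is onto `V`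
  obtain ⟨e, he1, he2 | ⟨hEW1, hEW2⟩⟩ := exists_exponent_image (R ⊓ P) V W
    (hS.to_le ((inf_le_left : R ⊓ P ≤ R).trans hRS)) hDab hWV hVD hVp2 hWp hDV t (hDn t htM)
    (fun w hw => hWc w hw t htM) (fun v hv => hVW' v hv t htM) (by
      obtain ⟨x, hxV, hx⟩ := hB t htP htN htR
      exact ⟨_, hxV, hx⟩)
  swap
  · obtain ⟨d, hd, hdw⟩ := hEW2 (w : Ω) hwW
    apply hγw
    have hwr : w = (⟨d, hd.1⟩ : R) ^ e := Subtype.ext (by rw [Subgroup.coe_pow]; exact hdw.symm)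
    rw [hwr, map_pow, Subgroup.coe_pow]
    exact hEW1 _ ⟨(γ _).2, aut_mem_of_stronglyClosed F hP hRS hγ _ hd.2⟩
  -- an automorphism in the system inverting `V`
  have hτF : R.normalizerMonoidHom ⟨t, htN⟩ ∈ F.autGroup R :=
    normalizerMonoidHom_mem_autGroup F hRS ⟨t, htN⟩ (hPS htP)
  obtain ⟨h₀, hh₀cl, hh₀⟩ := exists_inverting_aut (p := p) (V.subgroupOf R) (W.subgroupOf R)
    (by rw [Nat.card_congr (Subgroup.subgroupOfEquivOfLe hVR).toEquiv]; exact hVp2)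
    (by rw [Nat.card_congr (Subgroup.subgroupOfEquivOfLe hWR).toEquiv]; exact hWp)
    (fun x hx => Subgroup.mem_subgroupOf.mpr (hWV (Subgroup.mem_subgroupOf.mp hx)))
    (fun x hx y hy => Subtype.ext (hDab _ (hVD (Subgroup.mem_subgroupOf.mp hx)) _
      (hVD (Subgroup.mem_subgroupOf.mp hy))))
    (R.normalizerMonoidHom ⟨t, htN⟩) γ
    (fun x hx => Subtype.ext (by rw [hcoe]; exact hWc _ (Subgroup.mem_subgroupOf.mp hx) t htM))
    (fun x hx => by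
      rw [Subgroup.mem_subgroupOf, Subgroup.coe_mul, hcoe, Subgroup.coe_inv]
      exact hVW' _ (Subgroup.mem_subgroupOf.mp hx) t htM)
    (by
      obtain ⟨x, hxV, hx⟩ := hB t htP htN htR
      exact ⟨x, Subgroup.mem_subgroupOf.mpr hxV, fun h => hx (by rw [← hcoe t htN x, h])⟩)
    (fun x hx => Subgroup.mem_subgroupOf.mpr (hγV γ hγ x (Subgroup.mem_subgroupOf.mp hx)))
    (fun x hx => Subgroup.mem_subgroupOf.mpr (hγV γ⁻¹ hγinv x (Subgroup.mem_subgroupOf.mp hx)))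
    w (Subgroup.mem_subgroupOf.mpr hwW) (fun h => hγw (Subgroup.mem_subgroupOf.mp h))
  have hh₀F : h₀ ∈ F.autGroup R := by
    refine (Subgroup.closure_le _).mpr ?_ hh₀cl
    intro z hz
    rcases hz with rfl | rfl
    · exact hτF
    · exact hγ
  have hh₀' : ∀ x : R, (x : Ω) ∈ V → h₀ x = x⁻¹ := fun x hx => hh₀ x (Subgroup.mem_subgroupOf.mpr hx)
  -- `N_P(R)` lies in the extender of `h₀`
  have hφ := (mem_autGroup_iff F hRS h₀).mp hh₀F
  have hME : P ⊓ Subgroup.normalizer (R : Set Ω) ≤ extender S R (R.subtype.comp h₀.toMonoidHom) := by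
    intro m hm
    have hmS : m ∈ S := hPS hm.1
    have hcmF : R.normalizerMonoidHom ⟨m, hm.2⟩ ∈ F.autGroup R :=
      normalizerMonoidHom_mem_autGroup F hRS ⟨m, hm.2⟩ hmS
    have hcmK := hKA m hm.2 hm.1
    have hcmS : R.normalizerMonoidHom ⟨m, hm.2⟩ ∈ autInducedBy S R :=
      (mem_autInducedBy_iff S R _).mpr ⟨m, hmS, fun x => hcoe m hm.2 x⟩
    have hcoe' := hcoe m hm.2
    generalize R.normalizerMonoidHom ⟨m, hm.2⟩ = cm at hcmF hcmK hcmS hcoe'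
    have hκ1 : h₀ * cm * h₀⁻¹ * cm⁻¹ ∈ chainStab R (chainA S P) 1 (chainA_le hPS) :=
      Subgroup.mul_mem _ (hKAn h₀ hh₀F _ hcmK) (Subgroup.inv_mem _ hcmK)
    have hκ2 : h₀ * cm * h₀⁻¹ * cm⁻¹ ∈ chainStab R (chainA V ⊥) 1 (chainA_le bot_le) := by
      intro k hk x hx
      match k, hk, hx with
      | 0, _, hx =>
        show ((x⁻¹ * (h₀ * cm * h₀⁻¹ * cm⁻¹) x : R) : Ω) ∈ (⊥ : Subgroup Ω)
        have hx₁ : ((cm⁻¹ x : R) : Ω) ∈ V := hγV _ (Subgroup.inv_mem _ hcmF) x hx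
        have h1 : h₀⁻¹ (cm⁻¹ x) = (cm⁻¹ x)⁻¹ := by
          have h := hh₀' (cm⁻¹ x)⁻¹ (by rw [Subgroup.coe_inv]; exact V.inv_mem hx₁)
          rw [inv_inv] at h
          calc h₀⁻¹ (cm⁻¹ x) = h₀⁻¹ (h₀ (cm⁻¹ x)⁻¹) := by rw [h]
            _ = (cm⁻¹ x)⁻¹ := MulAut.inv_apply_self _ _ _
        have h2 : (h₀ * cm * h₀⁻¹ * cm⁻¹) x = x := by
          simp only [MulAut.mul_apply]
          rw [h1, map_inv, MulAut.apply_inv_self,
            hh₀' x⁻¹ (by rw [Subgroup.coe_inv]; exact V.inv_mem hx), inv_inv]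
        rw [h2, inv_mul_cancel, Subgroup.coe_one]
        exact Subgroup.one_mem _
    have hκF : h₀ * cm * h₀⁻¹ * cm⁻¹ ∈ F.autGroup R :=
      Subgroup.mul_mem _ (Subgroup.mul_mem _ (Subgroup.mul_mem _ hh₀F hcmF) (Subgroup.inv_mem _ hh₀F))
        (Subgroup.inv_mem _ hcmF)
    have hκO := mem_pCore_map_of_normal_pgroup (F.autGroup R) _ hK₁p
      (fun γ hγ κ hκ => ⟨hKAn γ hγ κ hκ.1, hKVn γ hγ κ hκ.2⟩) ⟨hκ1, hκ2⟩ hκF
    have hκS := pCore_map_le_autInducedBy F hfa hκO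
    have h3 : h₀ * cm * h₀⁻¹ ∈ autInducedBy S R := by
      have := Subgroup.mul_mem _ hκS hcmS
      simpa [mul_assoc] using this
    rw [mem_extender_iff]
    refine ⟨hmS, hm.2, ?_⟩
    obtain ⟨g, hg, hg'⟩ := (mem_autInducedBy_iff S R _).mp h3
    refine ⟨g, hg, fun x hx => ?_⟩
    have h4 := hg' (h₀ x)
    simp only [MulAut.mul_apply, MulAut.inv_apply_self] at h4
    show ((h₀ ⟨m * x * m⁻¹, hx⟩ : R) : Ω) = g * ((h₀ x : R) : Ω) * g⁻¹
    rw [← h4]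
    congr 2
    exact Subtype.ext (hcoe' x).symm
  obtain ⟨ψ, hψ, hψ'⟩ := hrec.2 R _ hφ (range_subtype_comp_aut R h₀)
  have hRE : R ≤ extender S R (R.subtype.comp h₀.toMonoidHom) := le_extender hRS _ (hom_mem F hφ)
  have hψR : ∀ x : R, ψ ⟨x, hRE x.2⟩ = ((h₀ x : R) : Ω) := fun x => hψ' x x.2 (hRE x.2)
  have hσF : ψ.comp (Subgroup.inclusion hME) ∈ F.Hom (P ⊓ Subgroup.normalizer (R : Set Ω)) :=
    hom_restrict F hψ hME
  have hσconj : ∀ m : ↥(P ⊓ Subgroup.normalizer (R : Set Ω)), ∀ r ∈ R,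
      ψ (Subgroup.inclusion hME m) * r * (ψ (Subgroup.inclusion hME m))⁻¹ ∈ R := by
    intro m r hr
    have hmr : (m : Ω) * ((h₀⁻¹ ⟨r, hr⟩ : R) : Ω) * (m : Ω)⁻¹ ∈ R :=
      (Subgroup.mem_normalizer_iff.mp m.2.2 _).mp (h₀⁻¹ ⟨r, hr⟩ : R).2
    have h2 : ψ ⟨(m : Ω) * ((h₀⁻¹ ⟨r, hr⟩ : R) : Ω) * (m : Ω)⁻¹, hRE hmr⟩ =
        ψ (Subgroup.inclusion hME m) * ψ ⟨((h₀⁻¹ ⟨r, hr⟩ : R) : Ω), hRE (h₀⁻¹ ⟨r, hr⟩ : R).2⟩ *
          (ψ (Subgroup.inclusion hME m))⁻¹ := by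
      rw [← map_inv, ← map_mul, ← map_mul]
      rfl
    rw [hψR, MulAut.apply_inv_self] at h2
    have h3 : ψ ⟨(m : Ω) * ((h₀⁻¹ ⟨r, hr⟩ : R) : Ω) * (m : Ω)⁻¹, hRE hmr⟩ =
        ((h₀ ⟨(m : Ω) * ((h₀⁻¹ ⟨r, hr⟩ : R) : Ω) * (m : Ω)⁻¹, hmr⟩ : R) : Ω) := hψR ⟨_, hmr⟩
    rw [← h2, h3]
    exact (h₀ _).2
  have hσM : ∀ m : ↥(P ⊓ Subgroup.normalizer (R : Set Ω)),
      (ψ.comp (Subgroup.inclusion hME)) m ∈ P ⊓ Subgroup.normalizer (R : Set Ω) := by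
    intro m
    refine ⟨hP.2 _ inf_le_left _ hσF m, Subgroup.mem_normalizer_iff.mpr ?_⟩
    intro r
    constructor
    · intro hr
      exact hσconj m r hr
    · intro hr
      have h5 := hσconj m⁻¹ _ hr
      have e5 : ψ (Subgroup.inclusion hME m⁻¹) * (ψ (Subgroup.inclusion hME m) * r *
          (ψ (Subgroup.inclusion hME m))⁻¹) * (ψ (Subgroup.inclusion hME m⁻¹))⁻¹ = r := by
        rw [map_inv, map_inv]; group
      have h6 : ψ (Subgroup.inclusion hME m⁻¹) * ((ψ.comp (Subgroup.inclusion hME)) m * r *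
          ((ψ.comp (Subgroup.inclusion hME)) m)⁻¹) * (ψ (Subgroup.inclusion hME m⁻¹))⁻¹ ∈ R := h5
      have e6 : ψ (Subgroup.inclusion hME m⁻¹) * ((ψ.comp (Subgroup.inclusion hME)) m * r *
          ((ψ.comp (Subgroup.inclusion hME)) m)⁻¹) * (ψ (Subgroup.inclusion hME m⁻¹))⁻¹ = r := e5
      rwa [e6] at h6
  have hσV : ∀ m : ↥(P ⊓ Subgroup.normalizer (R : Set Ω)), (m : Ω) ∈ V →
      (ψ.comp (Subgroup.inclusion hME)) m = (m : Ω)⁻¹ := by
    intro m hmV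
    have h1 : ψ (Subgroup.inclusion hME m) = ((h₀ ⟨(m : Ω), hVR hmV⟩ : R) : Ω) := hψR ⟨(m : Ω), hVR hmV⟩
    show ψ (Subgroup.inclusion hME m) = (m : Ω)⁻¹
    rw [h1, hh₀' ⟨(m : Ω), hVR hmV⟩ hmV]
    rfl
  exact no_inverting_extension hp (P ⊓ Subgroup.normalizer (R : Set Ω)) (R ⊓ P) V W hWV hVD hDM hDab hDn hVp2 hWp
    hVp hDV hWc hVW' hCent t htM htD e he1 he2 (ψ.comp (Subgroup.inclusion hME)) hσM hσV
    (hprodform _ inf_le_left)

end Cfsg.Agent.S5234
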