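import Cfsg.Statements.S5247
import Cfsg.Agent.Helper87.NormSys

set_option autoImplicit false
open Cfsg

namespace Cfsg.Agent.S5247

open Cfsg.FusionSystem Cfsg.Agent.Helper87

/-- `p`-stability on fully normalized subgroups gives the same conclusion for all subgroups of `S`. -/
theorem pstable_all {Ω : Type*} [Group Ω] {S : Subgroup Ω} [Finite S] (p : ℕ) [Fact p.Prime]
    (F : Cfsg.FusionSystem S)
    (h : ∀ Q : Subgroup Ω, F.IsFullyNormalized Q → ∀ χ : MulAut ↥Q, χ ∈ F.autGroup Q →
      (∀ a : ↥Q, (χ a⁻¹) * a * (χ a⁻¹) * (χ (χ a)) = 1) →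
      χ ∈ ((Cfsg.pCore p ↥(F.autGroup Q)).map (F.autGroup Q).subtype : Subgroup (MulAut ↥Q)))
    (Q : Subgroup Ω) (hQ : Q ≤ S) (χ : MulAut Q) (hχ : χ ∈ F.autGroup Q)
    (hquad : ∀ a : ↥Q, (χ a⁻¹) * a * (χ a⁻¹) * (χ (χ a)) = 1) :
    χ ∈ ((Cfsg.pCore p ↥(F.autGroup Q)).map (F.autGroup Q).subtype : Subgroup (MulAut ↥Q)) := by
  obtain ⟨Q', ⟨φ, hφ, rfl⟩, hfn⟩ := exists_isFullyNormalized_conj F hQ
  have key : ∀ a : Q, (MulAut.congr (MonoidHom.ofInjective (F.injective_of_mem hφ)) χ)
      (MonoidHom.ofInjective (F.injective_of_mem hφ) a) =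
      MonoidHom.ofInjective (F.injective_of_mem hφ) (χ a) := by
    intro a
    show MonoidHom.ofInjective (F.injective_of_mem hφ) (χ ((MonoidHom.ofInjective (F.injective_of_mem hφ)).symm
      (MonoidHom.ofInjective (F.injective_of_mem hφ) a))) = _
    rw [MulEquiv.symm_apply_apply]
  have h1 := h φ.range hfn (MulAut.congr (MonoidHom.ofInjective (F.injective_of_mem hφ)) χ)
    (aut_transport F hφ hχ) (by
      intro b
      have hb : b = MonoidHom.ofInjective (F.injective_of_mem hφ)
          ((MonoidHom.ofInjective (F.injective_of_mem hφ)).symm b) :=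
        (MulEquiv.apply_symm_apply _ b).symm
      rw [hb]
      generalize (MonoidHom.ofInjective (F.injective_of_mem hφ)).symm b = a
      rw [← map_inv, key, key, key, ← map_mul, ← map_mul, ← map_mul, hquad, map_one])
  have h2 := mem_pCore_map_of_equiv (MulAut.congr (MonoidHom.ofInjective (F.injective_of_mem hφ))).symm
    (A := F.autGroup φ.range) (A' := F.autGroup Q) (fun a ha => aut_transport_symm F hφ ha)
    (fun a ha => by
      have := aut_transport F hφ ha
      simpa using this) h1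
  have e : (MulAut.congr (MonoidHom.ofInjective (F.injective_of_mem hφ))).symm
      (MulAut.congr (MonoidHom.ofInjective (F.injective_of_mem hφ)) χ) = χ :=
    MulEquiv.symm_apply_apply _ _
  rw [e] at h2
  exact h2

/-- Let p be an odd prime and F a saturated fusion system over a finite p-group S. Call a fusion system E (over any subgroup) p-stable when, for every fully E-normalized subgroup Q and every χ ∈ Aut_E(Q) with χ(a⁻¹)·a·χ(a⁻¹)·χ(χ(a)) = 1 for all a ∈ Q (χ acts quadratically), χ lies in O_p(Aut_E(Q)). Then F is p-stable if and only if every normalizer fusion system N_F(R) of every non-cyclic fully F-normalized subgroup R of S is p-stable. -/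
theorem result {Ω : Type*} [Group Ω] {S : Subgroup Ω} [Finite S] (p : ℕ) [Fact p.Prime] (hS : IsPGroup p S) (F : Cfsg.FusionSystem S) (hF : F.IsSaturated p) (hp : p ≠ 2) : (∀ Q : Subgroup Ω, F.IsFullyNormalized Q → ∀ χ : MulAut ↥Q, χ ∈ F.autGroup Q → (∀ a : ↥Q, (χ a⁻¹) * a * (χ a⁻¹) * (χ (χ a)) = 1) → χ ∈ ((Cfsg.pCore p ↥(F.autGroup Q)).map (F.autGroup Q).subtype : Subgroup (MulAut ↥Q))) ↔ ∀ R : Subgroup Ω, F.IsFullyNormalized R → ¬ IsCyclic ↥R → ∀ N : Cfsg.FusionSystem (Cfsg.FusionSystem.normalizerIn S R), F.IsNormalizerSystem R N → (∀ Q : Subgroup Ω, N.IsFullyNormalized Q → ∀ χ : MulAut ↥Q, χ ∈ N.autGroup Q → (∀ a : ↥Q, (χ a⁻¹) * a * (χ a⁻¹) * (χ (χ a)) = 1) → χ ∈ ((Cfsg.pCore p ↥(N.autGroup Q)).map (N.autGroup Q).subtype : Subgroup (MulAut ↥Q))) := by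
  constructor
  · -- forward
    intro hst R hR hRcyc N hN Q hQ χ hχ hquad
    have hQS : Q ≤ S := hQ.1.trans inf_le_left
    have hle := normalizerSystem_autGroup_le F hN Q
    have h1 := pstable_all p F hst Q hQS χ (hle hχ) hquad
    exact mem_pCore_map_of_le hle h1 hχ
  · -- backward
    intro hst Q hQ χ hχ hquad
    have hQS := hQ.1
    have hfinQ : Finite Q := finite_of_le hQS
    by_cases hcyc : IsCyclic Q
    · have hpow := quadratic_pow_card χ hquad
      obtain ⟨j, hj⟩ := (IsPGroup.iff_card (p := p) (G := Q)).mp (hS.to_le hQS)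
      rw [hj] at hpow
      refine mem_pCore_map_of_normal_pgroup (F.autGroup Q) (Subgroup.zpowers χ)
        (isPGroup_zpowers_of_pow_eq_one χ j hpow) ?_ (Subgroup.mem_zpowers χ) hχ
      intro γ _ κ hκ
      have : γ * κ * γ⁻¹ = κ := by rw [mulAut_commute_of_isCyclic γ κ, mul_inv_cancel_right]
      rw [this]
      exact hκ
    · have hNs := isNormalizerSystem_normalizerSystem F Q hQS
      have e := normalizerSystem_autGroup F hQS hNs
      have h1 := hst Q hQ hcyc (normalizerSystem F Q hQS) hNs Q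
        (normalizerSystem_isFullyNormalized F hQS hNs) χ (by rw [e]; exact hχ) hquad
      rw [e] at h1
      exact h1

end Cfsg.Agent.S5247
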