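import Cfsg.Statements.S5246
import Cfsg.Agent.Helper87.GroupFus
import Cfsg.Agent.S5247

set_option autoImplicit false
open Cfsg

namespace Cfsg.Agent.S5246

open Cfsg.FusionSystem Cfsg.Agent.Helper87
open scoped commutatorElement Pointwise

theorem quadratic_congr {Q Q₁ : Type*} [Group Q] [Group Q₁] (ε : Q ≃* Q₁) (χ : MulAut Q)
    (h : ∀ a : Q, χ a⁻¹ * a * χ a⁻¹ * χ (χ a) = 1) (b : Q₁) :
    (MulAut.congr ε χ) b⁻¹ * b * (MulAut.congr ε χ) b⁻¹ * (MulAut.congr ε χ) ((MulAut.congr ε χ) b) = 1 := by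
  have key : ∀ a : Q, (MulAut.congr ε χ) (ε a) = ε (χ a) := fun a => by
    show ε (χ (ε.symm (ε a))) = _
    rw [ε.symm_apply_apply]
  obtain ⟨a, rfl⟩ := ε.surjective b
  rw [← map_inv, key, key, key, ← map_mul, ← map_mul, ← map_mul, h, map_one]

theorem symm_conj_apply {Ω : Type*} [Group Ω] {Q Q₁ : Subgroup Ω} (ε : Q ≃* Q₁) (x : Ω)
    (hε : ∀ q : Q, ((ε q : Q₁) : Ω) = x * q * x⁻¹) (y : Q₁) : ((ε.symm y : Q) : Ω) = x⁻¹ * y * x := by
  have := hε (ε.symm y)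
  rw [ε.apply_symm_apply] at this
  rw [this]
  group

theorem congr_conj_apply {Ω : Type*} [Group Ω] {Q Q₁ : Subgroup Ω} (ε : Q ≃* Q₁) (x : Ω)
    (hε : ∀ q : Q, ((ε q : Q₁) : Ω) = x * q * x⁻¹) (α : MulAut Q) (n : Ω)
    (hα : ∀ q : Q, ((α q : Q) : Ω) = n * q * n⁻¹) (y : Q₁) :
    ((MulAut.congr ε α y : Q₁) : Ω) = (x * n * x⁻¹) * y * (x * n * x⁻¹)⁻¹ := by
  show ((ε (α (ε.symm y)) : Q₁) : Ω) = _
  rw [hε, hα, symm_conj_apply ε x hε]
  group

theorem congr_symm_conj_apply {Ω : Type*} [Group Ω] {Q Q₁ : Subgroup Ω} (ε : Q ≃* Q₁) (x : Ω)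
    (hε : ∀ q : Q, ((ε q : Q₁) : Ω) = x * q * x⁻¹) (β : MulAut Q₁) (n : Ω)
    (hβ : ∀ y : Q₁, ((β y : Q₁) : Ω) = n * y * n⁻¹) (q : Q) :
    (((MulAut.congr ε).symm β q : Q) : Ω) = (x⁻¹ * n * x) * q * (x⁻¹ * n * x)⁻¹ := by
  show ((ε.symm (β (ε q)) : Q) : Ω) = _
  rw [symm_conj_apply ε x hε, hβ, hε]
  group

/-- Let p be an odd prime, G a finite group and P a Sylow p-subgroup. Call a fusion system F p-stable when, for every fully normalized subgroup Q and every χ ∈ Aut_F(Q) acting quadratically on Q (that is, χ fixes a⁻¹χ(a) for every a ∈ Q; equivalently χ(a⁻¹)·a·χ(a⁻¹)·χ(χ(a)) = 1), χ lies in O_p(Aut_F(Q)). Then G is p-stable in the normalizer form (for every p-subgroup Q and x ∈ N_G(Q) with [Q, x, x] = 1, the image of x lies in O_p(N_G(Q)/C_G(Q))) if and only if the fusion system of G on P is p-stable. -/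
theorem result {Ω : Type*} [Group Ω] [Finite Ω] {p : ℕ} [Fact p.Prime] (hp : p ≠ 2) (P : Sylow p Ω) : Cfsg.IsNormalizerPStable p Ω ↔ (∀ Q : Subgroup Ω, (Cfsg.groupFusionSystem (P : Subgroup Ω)).IsFullyNormalized Q → ∀ χ : MulAut ↥Q, χ ∈ (Cfsg.groupFusionSystem (P : Subgroup Ω)).autGroup Q → (∀ a : ↥Q, (χ a⁻¹) * a * (χ a⁻¹) * (χ (χ a)) = 1) → χ ∈ ((Cfsg.pCore p ↥((Cfsg.groupFusionSystem (P : Subgroup Ω)).autGroup Q)).map ((Cfsg.groupFusionSystem (P : Subgroup Ω)).autGroup Q).subtype : Subgroup (MulAut ↥Q))) := by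
  constructor
  · -- group ⟹ fusion
    intro hG Q hQ χ hχ hquad
    have hQP : Q ≤ (P : Subgroup Ω) := hQ.1
    have e := groupFusion_autGroup_eq_range (P : Subgroup Ω) hQP
    rw [e] at hχ ⊢
    obtain ⟨⟨g, hg⟩, rfl⟩ := hχ
    have h1 := hG Q (P.isPGroup'.to_le hQP) g hg (commutator_eq_bot_of_quadratic hg hquad)
    exact (mk_mem_pCore_quotient_iff Q.normalizerMonoidHom _ (Subgroup.normalizerMonoidHom_ker Q).symm
      ⟨g, hg⟩).mp h1
  · -- fusion ⟹ group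
    intro hF Q hQ g hg hcomm
    have hall := Cfsg.Agent.S5247.pstable_all p (groupFusionSystem (P : Subgroup Ω)) hF
    obtain ⟨P', hQP'⟩ := hQ.exists_le_sylow
    obtain ⟨x, hx⟩ := MulAction.exists_smul_eq Ω P' P
    have hε : ∀ q : Q, ((((MulAut.conj x).subgroupMap Q) q :
        Q.map ((MulAut.conj x : Ω ≃* Ω) : Ω →* Ω)) : Ω) = x * q * x⁻¹ := fun q => rfl
    have hQ₁P : Q.map ((MulAut.conj x : Ω ≃* Ω) : Ω →* Ω) ≤ (P : Subgroup Ω) := by
      rintro _ ⟨a, ha, rfl⟩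
      have h1 : (P : Subgroup Ω) = MulAut.conj x • (P' : Subgroup Ω) := by rw [← hx]; rfl
      rw [h1]
      exact Subgroup.smul_mem_pointwise_smul a (MulAut.conj x) (P' : Subgroup Ω) (hQP' ha)
    have hχ₁ : MulAut.congr ((MulAut.conj x).subgroupMap Q) (Q.normalizerMonoidHom ⟨g, hg⟩) ∈
        (groupFusionSystem (P : Subgroup Ω)).autGroup (Q.map ((MulAut.conj x : Ω ≃* Ω) : Ω →* Ω)) :=
      (mem_groupFusion_autGroup_iff _ hQ₁P _).mpr ⟨x * g * x⁻¹, fun y =>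
        congr_conj_apply _ x hε _ g (fun q => Subgroup.normalizerMonoidHom_apply_apply_coe Q ⟨g, hg⟩ q) y⟩
    have h1 := hall _ hQ₁P _ hχ₁
      (quadratic_congr _ _ (fun a => quadratic_of_commutator_eq_bot hg hcomm a))
    have h2 := mem_pCore_map_of_equiv (MulAut.congr ((MulAut.conj x).subgroupMap Q)).symm
      (A := (groupFusionSystem (P : Subgroup Ω)).autGroup (Q.map ((MulAut.conj x : Ω ≃* Ω) : Ω →* Ω)))
      (A' := (groupFusionSystem (P' : Subgroup Ω)).autGroup Q)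
      (fun a ha => by
        obtain ⟨n, hn⟩ := (mem_groupFusion_autGroup_iff _ hQ₁P a).mp ha
        exact (mem_groupFusion_autGroup_iff _ hQP' _).mpr ⟨x⁻¹ * n * x, fun q =>
          congr_symm_conj_apply _ x hε a n hn q⟩)
      (fun a ha => by
        obtain ⟨n, hn⟩ := (mem_groupFusion_autGroup_iff _ hQP' a).mp ha
        exact (mem_groupFusion_autGroup_iff _ hQ₁P _).mpr ⟨x * n * x⁻¹, fun y =>
          congr_conj_apply _ x hε a n hn y⟩) h1
    rw [MulEquiv.symm_apply_apply, groupFusion_autGroup_eq_range _ hQP'] at h2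
    exact (mk_mem_pCore_quotient_iff Q.normalizerMonoidHom _ (Subgroup.normalizerMonoidHom_ker Q).symm
      ⟨g, hg⟩).mpr h2

end Cfsg.Agent.S5246
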