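import Cfsg.Statements.S5265
import Cfsg.Agent.Helper31.EssF
import Cfsg.Agent.Helper51.PCube
import Cfsg.Agent.Helper87.GenExtraA
import Cfsg.Agent.Helper45.D8

set_option autoImplicit false
open Cfsg

namespace Cfsg.Agent.S5265

open Cfsg.FusionSystem Cfsg.Agent.Helper84 Cfsg.Agent.Helper31 in
/-- Let p be a prime, S a nontrivial finite p-group whose centre has index at most p², and F a saturated fusion system over S with no nontrivial normal subgroup and with hyperfocal subgroup equal to S. Then S is extraspecial of order p³; for odd p it has exponent p, and for p = 2 it is dihedral of order 8. -/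
theorem result {Ω : Type*} [Group Ω] {S : Subgroup Ω} [Finite S] (p : ℕ) [Fact p.Prime] (hS : IsPGroup p ↥S) (F : Cfsg.FusionSystem S) (hF : F.IsSaturated p) (hS1 : S ≠ ⊥) (hcore : F.core = ⊥) (hhyp : F.hyperfocalSubgroup p = S) (hZ : (Subgroup.center ↥S).index ≤ p ^ 2) : Cfsg.IsExtraspecial p ↥S ∧ Nat.card S = p ^ 3 ∧ (p ≠ 2 → Monoid.exponent ↥S = p) ∧ (p = 2 → Nonempty (↥S ≃* DihedralGroup 4)) := by
  have hpp : p.Prime := Fact.out
  -- an essential subgroup exists
  have hex : ∃ A, F.IsEssential p A := by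
    by_contra hne
    push Not at hne
    have hn : F.IsNormal S := by
      rw [normal_iff_essential p hS F hF]
      intro P hP
      rcases hP with hPS | hess
      · rw [hPS]
        refine ⟨le_rfl, fun α hα => ?_⟩
        rw [Subgroup.subgroupOf_self]
        exact Subgroup.map_top_of_surjective _ α.surjective
      · exact absurd hess (hne P)
    have h1 : S ≤ ⊥ := by rw [← hcore]; exact le_sSup hn
    exact hS1 (le_bot_iff.mp h1)
  obtain ⟨A, hess⟩ := hex
  have hbet := ess_between hS F hF hess
  -- the index of the centre is `p²`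
  have hidx : (Subgroup.center ↥S).index = p ^ 2 := by
    obtain ⟨n, hn⟩ := hS.index (Subgroup.center ↥S)
    have hmul := Subgroup.relIndex_mul_index hbet.1.le
    have h1 : p ∣ (A.subgroupOf S).index := by
      have hd : (A.subgroupOf S).index ∣ p ^ n := hn ▸ Dvd.intro_left _ hmul
      obtain ⟨m, -, hm⟩ := (Nat.dvd_prime_pow hpp).mp hd
      rcases m with _ | m
      · exfalso
        rw [pow_zero] at hm
        exact hbet.2.ne (Subgroup.index_eq_one.mp hm)
      · rw [hm, pow_succ]; exact Dvd.intro_left _ rfl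
    have h2 : p ∣ (Subgroup.center ↥S).relIndex (A.subgroupOf S) := by
      have hd : (Subgroup.center ↥S).relIndex (A.subgroupOf S) ∣ p ^ n := hn ▸ Dvd.intro _ hmul
      obtain ⟨m, -, hm⟩ := (Nat.dvd_prime_pow hpp).mp hd
      rcases m with _ | m
      · exfalso
        rw [pow_zero] at hm
        exact not_le_of_gt hbet.1 (Subgroup.relIndex_eq_one.mp hm)
      · rw [hm, pow_succ]; exact Dvd.intro_left _ rfl
    have h3 : p ^ 2 ∣ p ^ n := by
      rw [← hn, ← hmul, pow_two]; exact Nat.mul_dvd_mul h2 h1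
    have hn2 : 2 ≤ n := (Nat.pow_dvd_pow_iff_le_right hpp.one_lt).mp h3
    have hn2' : n ≤ 2 := by
      rw [hn] at hZ
      exact (Nat.pow_le_pow_iff_right hpp.one_lt).mp hZ
    have : n = 2 := by omega
    rw [hn, this]
  -- `S` is not abelian
  have hnc : ∃ a b : ↥S, a * b ≠ b * a := by
    obtain ⟨a, -, ha⟩ := SetLike.exists_of_lt (hbet.1.trans hbet.2)
    by_contra hcon
    push Not at hcon
    exact ha (Subgroup.mem_center_iff.mpr (fun g => hcon g a))
  obtain ⟨e, he, he1, hep, hcomm⟩ := cls2_exists_e hidx hnc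
  -- the centre consists of powers of `e`
  have hcen : ∀ z ∈ Subgroup.center ↥S, ∃ k : ℕ, z = e ^ k := by
    by_cases hp2 : p = 2
    · subst hp2
      exact center_pow_of_two hS F hF hcore hhyp hidx he he1 hep hcomm hnc hess
    · exact center_pow_of_odd hp2 hS F hF hcore hidx he he1 hep hcomm hnc hess
  have hceq : Subgroup.center ↥S = Subgroup.zpowers e := by
    apply le_antisymm
    · intro z hz
      obtain ⟨k, rfl⟩ := hcen z hz
      exact Subgroup.pow_mem _ (Subgroup.mem_zpowers e) k
    · exact (Subgroup.zpowers_le).mpr he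
  have hccard : Nat.card (Subgroup.center ↥S) = p := by
    rw [hceq, Nat.card_zpowers]; exact orderOf_eq_prime hep he1
  have hcard : Nat.card S = p ^ 3 := by
    rw [← Subgroup.card_mul_index (Subgroup.center ↥S), hccard, hidx]; ring
  refine ⟨Cfsg.Agent.Helper51.isExtraspecial_of_card_eq_prime_cube hcard hnc, hcard, ?_, ?_⟩
  · intro hp2
    have hexp := exp_of_odd hp2 hS F hF hcore hidx he he1 hep hcomm hcen hess
    exact (Cfsg.Agent.Helper87.isExtraspecial_of_card_cube hcard hnc hexp).2
  · intro hp2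
    subst hp2
    obtain ⟨x, c, eA, hP⟩ := exists_essPack hS F hF hidx he he1 hep hcomm hess
    obtain ⟨γ₀, hT⟩ := exists_essTwo hP
    have hcard8 : Nat.card S = 8 := by rw [hcard]; norm_num
    refine Cfsg.Agent.Helper45.d8_of_card_eight hcard8
      ⟨((γ₀ eA : ↥A) : Ω), hP.le (γ₀ eA).2⟩ x ?_ ?_ ?_
    · exact Subtype.ext (congrArg (fun a : ↥A => (a : Ω)) hT.u_sq)
    · intro h
      apply hT.ce
      apply Subtype.ext
      rw [hP.c_apply]
      exact congrArg (fun s : ↥S => (s : Ω)) h
    · have h1 := hP.comm (γ₀ eA) (c (γ₀ eA))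
      apply Subtype.ext
      have h2 := congrArg (fun a : ↥A => (a : Ω)) h1
      have h3 : ((γ₀ eA : ↥A) : Ω) * ((c (γ₀ eA) : ↥A) : Ω) =
          ((c (γ₀ eA) : ↥A) : Ω) * ((γ₀ eA : ↥A) : Ω) := h2
      rw [hP.c_apply] at h3
      exact h3

end Cfsg.Agent.S5265
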