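import Cfsg.Statements.S5270
import Cfsg.Agent.Helper31.MaxClass
import Cfsg.Agent.Helper84.FusionAlperin
import Cfsg.Agent.Helper84.FusionIso
import Cfsg.Agent.Helper84.FusionSat2

set_option autoImplicit false
open Cfsg

namespace Cfsg.Agent.S5270

open Cfsg.FusionSystem Cfsg.Agent.Helper84 Cfsg.Agent.Helper31

theorem fullyNormalized_of_le_normalizer {Ω : Type*} [Group Ω] {S : Subgroup Ω} [Finite S]
    (F : FusionSystem S) {P : Subgroup Ω} (hP : P ≤ S)
    (hN : S ≤ Subgroup.normalizer (P : Set Ω)) : F.IsFullyNormalized P := by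
  refine ⟨hP, fun Q _ => ?_⟩
  have h1 : normalizerIn S P = S := le_antisymm inf_le_left (le_inf le_rfl hN)
  rw [h1]
  exact Subgroup.card_le_of_le (normalizerIn_le_S S Q)

theorem mem_center_map_iff {Ω : Type*} [Group Ω] {S : Subgroup Ω} {x : Ω} :
    x ∈ (Subgroup.center ↥S).map S.subtype ↔ x ∈ S ∧ ∀ y ∈ S, y * x = x * y := by
  constructor
  · rintro ⟨z, hz, rfl⟩
    exact ⟨z.2, fun y hy => congrArg Subtype.val (Subgroup.mem_center_iff.mp hz ⟨y, hy⟩)⟩
  · rintro ⟨hx, h⟩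
    exact ⟨⟨x, hx⟩, Subgroup.mem_center_iff.mpr (fun g => Subtype.ext (h g g.2)), rfl⟩

/-- A map of the system defined on (a subgroup containing) `S` preserves the centre of `S`. -/
theorem hom_top_center_iff {Ω : Type*} [Group Ω] {S : Subgroup Ω} [Finite S]
    (F : FusionSystem S) {Q : Subgroup Ω} (hSQ : S ≤ Q) {ψ : Q →* Ω} (hψ : ψ ∈ F.Hom Q) (w : Q) :
    ψ w ∈ (Subgroup.center ↥S).map S.subtype ↔ (w : Ω) ∈ (Subgroup.center ↥S).map S.subtype := by
  have hQS : Q ≤ S := hom_le F hψ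
  have hinj := F.injective_of_mem hψ
  have hfin : Finite Q := finite_of_le hQS
  have hsurj : ∀ y ∈ S, ∃ y' : Q, ψ y' = y := by
    intro y hy
    let g : Q → Q := fun x => ⟨ψ x, hSQ (hom_mem F hψ x)⟩
    have hg : Function.Injective g := fun a b hab => hinj (congrArg Subtype.val hab)
    obtain ⟨y', hy'⟩ := (Finite.injective_iff_surjective.mp hg) ⟨y, hSQ hy⟩
    exact ⟨y', congrArg Subtype.val hy'⟩
  rw [mem_center_map_iff, mem_center_map_iff]
  constructor
  · rintro ⟨-, h⟩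
    refine ⟨hQS w.2, fun y hy => ?_⟩
    have h1 := h (ψ ⟨y, hSQ hy⟩) (hom_mem F hψ _)
    rw [← map_mul, ← map_mul] at h1
    exact congrArg Subtype.val (hinj h1)
  · rintro ⟨-, h⟩
    refine ⟨hom_mem F hψ w, fun y hy => ?_⟩
    obtain ⟨y', rfl⟩ := hsurj y hy
    rw [← map_mul, ← map_mul]
    congr 1
    exact Subtype.ext (h y' (hQS y'.2))

/-- Let p ≥ 5 be a prime, S a finite p-group of maximal class of order p^n with n ≥ 4, and F a saturated fusion system over S. If some map of F defined on the second centre Z₂(S) with image Z₂(S) does not carry Z(S) into itself, then the centralizer C_S(Z₂(S)) is an F-essential subgroup. -/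
theorem result {Ω : Type*} [Group Ω] {S : Subgroup Ω} [Finite S] (p : ℕ) [Fact p.Prime] (hS : IsPGroup p ↥S) (n : ℕ) (hn : Nat.card S = p ^ n) (h4 : 4 ≤ n) (hmax : Subgroup.lowerCentralSeries S (n - 2) ≠ ⊥) (F : Cfsg.FusionSystem S) (hF : F.IsSaturated p) (hp : 5 ≤ p) (φ : ↥((Subgroup.upperCentralSeries ↥S 2).map S.subtype) →* Ω) (hφ : φ ∈ F.Hom ((Subgroup.upperCentralSeries ↥S 2).map S.subtype)) (hφZ : φ.range = ((Subgroup.upperCentralSeries ↥S 2).map S.subtype)) (hmove : ∃ (z : Ω) (hz : z ∈ ((Subgroup.upperCentralSeries ↥S 2).map S.subtype)), z ∈ ((Subgroup.center ↥S).map S.subtype) ∧ φ ⟨z, hz⟩ ∉ ((Subgroup.center ↥S).map S.subtype)) : F.IsEssential p (S ⊓ Subgroup.centralizer (((Subgroup.upperCentralSeries ↥S 2).map S.subtype) : Set Ω)) := by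
  classical
  have hM := maxclass_centralizer_max p hS n hn h4 hmax
  generalize hZ2 : (Subgroup.upperCentralSeries ↥S 2).map S.subtype = Z2 at *
  have hZ2S : Z2 ≤ S := by
    rw [← hZ2]; rintro _ ⟨y, -, rfl⟩; exact y.2
  have hZ2conj : ∀ s ∈ S, ∀ y ∈ Z2, s * y * s⁻¹ ∈ Z2 := by
    intro s hs y hy
    rw [← hZ2] at hy ⊢
    obtain ⟨y, hy, rfl⟩ := hy
    have hnorm : (Subgroup.upperCentralSeries ↥S 2).Normal := inferInstance
    have h1 : (⟨s, hs⟩ : ↥S) * y * (⟨s, hs⟩ : ↥S)⁻¹ ∈ Subgroup.upperCentralSeries ↥S 2 :=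
      hnorm.conj_mem y hy ⟨s, hs⟩
    exact Subgroup.mem_map.mpr ⟨_, h1, by simp⟩
  have hZ2N : S ≤ Subgroup.normalizer (Z2 : Set Ω) := by
    intro s hs
    rw [Subgroup.mem_normalizer_iff]
    intro y
    constructor
    · exact hZ2conj s hs y
    · intro h
      have h1 := hZ2conj s⁻¹ (inv_mem hs) _ h
      simpa [mul_assoc] using h1
  by_contra hne
  have hES : S ⊓ Subgroup.centralizer (Z2 : Set Ω) ≤ S := inf_le_left
  have aux : ∀ s ∈ S, ∀ x ∈ S ⊓ Subgroup.centralizer (Z2 : Set Ω),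
      s * x * s⁻¹ ∈ S ⊓ Subgroup.centralizer (Z2 : Set Ω) := by
    intro s hs x hx
    refine ⟨S.mul_mem (S.mul_mem hs hx.1) (S.inv_mem hs), ?_⟩
    show s * x * s⁻¹ ∈ Subgroup.centralizer (Z2 : Set Ω)
    rw [Subgroup.mem_centralizer_iff]
    intro y hy
    have h1 := hZ2conj s⁻¹ (inv_mem hs) y hy
    rw [inv_inv] at h1
    have h2 := Subgroup.mem_centralizer_iff.mp hx.2 _ h1
    calc y * (s * x * s⁻¹) = s * (s⁻¹ * y * s * x) * s⁻¹ := by group
      _ = s * (x * (s⁻¹ * y * s)) * s⁻¹ := by rw [h2]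
      _ = s * x * s⁻¹ * y := by group
  have hEN : S ≤ Subgroup.normalizer ((S ⊓ Subgroup.centralizer (Z2 : Set Ω) : Subgroup Ω) : Set Ω) := by
    intro s hs
    rw [Subgroup.mem_normalizer_iff]
    intro x
    constructor
    · exact aux s hs x
    · intro h
      have h1 := aux s⁻¹ (inv_mem hs) _ h
      simpa [mul_assoc] using h1
  have hEfn : F.IsFullyNormalized (S ⊓ Subgroup.centralizer (Z2 : Set Ω)) :=
    fullyNormalized_of_le_normalizer F hES hEN
  have hZ2fn : F.IsFullyNormalized Z2 := fullyNormalized_of_le_normalizer F hZ2S hZ2N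
  obtain ⟨-, hrec⟩ := saturated_fullyNormalized hS F hF hZ2fn
  obtain ⟨ψ, hψ, hψφ⟩ := hrec.2 Z2 φ hφ hφZ
  have hEN' : S ⊓ Subgroup.centralizer (Z2 : Set Ω) ≤ extender S Z2 φ :=
    centralizerIn_le_extender S Z2 φ
  have hZ2N' : Z2 ≤ extender S Z2 φ := le_extender hZ2S φ (fun x => (F.le_of_mem hφ).2 x)
  -- the restriction of ψ to E
  have hθ : ψ.comp (Subgroup.inclusion hEN') ∈ F.Hom (S ⊓ Subgroup.centralizer (Z2 : Set Ω)) :=
    hom_restrict F hψ hEN'
  have hfinE : Finite ↥(S ⊓ Subgroup.centralizer (Z2 : Set Ω)) := finite_of_le hES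
  have hle : (ψ.comp (Subgroup.inclusion hEN')).range ≤ S ⊓ Subgroup.centralizer (Z2 : Set Ω) := by
    rintro _ ⟨x, rfl⟩
    refine ⟨hom_mem F hθ x, ?_⟩
    show (ψ.comp (Subgroup.inclusion hEN')) x ∈ Subgroup.centralizer (Z2 : Set Ω)
    rw [Subgroup.mem_centralizer_iff]
    intro y hy
    have hy' : y ∈ φ.range := by rw [hφZ]; exact hy
    obtain ⟨y', rfl⟩ := hy'
    rw [← hψφ y' y'.2 (hZ2N' y'.2)]
    show ψ ⟨y', hZ2N' y'.2⟩ * ψ (Subgroup.inclusion hEN' x) =
      ψ (Subgroup.inclusion hEN' x) * ψ ⟨y', hZ2N' y'.2⟩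
    rw [← map_mul, ← map_mul]
    congr 1
    apply Subtype.ext
    exact Subgroup.mem_centralizer_iff.mp x.2.2 y' y'.2
  have hinj := F.injective_of_mem hθ
  have hcard : Nat.card (ψ.comp (Subgroup.inclusion hEN')).range =
      Nat.card ↥(S ⊓ Subgroup.centralizer (Z2 : Set Ω)) :=
    (Nat.card_congr (MonoidHom.ofInjective hinj).toEquiv).symm
  have hr : (ψ.comp (Subgroup.inclusion hEN')).range = S ⊓ Subgroup.centralizer (Z2 : Set Ω) :=
    Subgroup.eq_of_le_of_card_ge hle (by rw [hcard])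
  have hθaut : isoOfHom _ hinj hr ∈ F.autGroup (S ⊓ Subgroup.centralizer (Z2 : Set Ω)) :=
    (mem_autGroup_iff_isFIso F hES _).mpr (isFIso_isoOfHom F hθ hr)
  obtain ⟨z, hz, hzZ, hzφ⟩ := hmove
  have hzE : z ∈ S ⊓ Subgroup.centralizer (Z2 : Set Ω) := by
    obtain ⟨hzS, hzc⟩ := mem_center_map_iff.mp hzZ
    refine ⟨hzS, ?_⟩
    show z ∈ Subgroup.centralizer (Z2 : Set Ω)
    rw [Subgroup.mem_centralizer_iff]
    intro y hy
    exact hzc y (hZ2S hy)
  have hθz : ((isoOfHom _ hinj hr ⟨z, hzE⟩ : ↥(S ⊓ Subgroup.centralizer (Z2 : Set Ω))) : Ω) =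
      φ ⟨z, hz⟩ := by
    rw [isoOfHom_apply]
    exact hψφ z hz (hEN' hzE)
  -- the subgroup of automorphisms of E preserving the centre of S
  let K : Subgroup (MulAut ↥(S ⊓ Subgroup.centralizer (Z2 : Set Ω))) :=
    { carrier := {β | ∀ w : ↥(S ⊓ Subgroup.centralizer (Z2 : Set Ω)),
        ((β w : ↥(S ⊓ Subgroup.centralizer (Z2 : Set Ω))) : Ω) ∈ (Subgroup.center ↥S).map S.subtype ↔
          (w : Ω) ∈ (Subgroup.center ↥S).map S.subtype}
      mul_mem' := by
        intro a b ha hb w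
        show ((a (b w) : ↥(S ⊓ Subgroup.centralizer (Z2 : Set Ω))) : Ω) ∈ _ ↔ _
        rw [ha (b w), hb w]
      one_mem' := fun w => Iff.rfl
      inv_mem' := by
        intro a ha w
        have h1 := ha (a⁻¹ w)
        rw [MulAut.apply_inv_self] at h1
        exact h1.symm }
  have hθK : isoOfHom _ hinj hr ∈ K := by
    by_cases hEq : S ⊓ Subgroup.centralizer (Z2 : Set Ω) = S
    · intro w
      rw [isoOfHom_apply]
      exact hom_top_center_iff F hEq.ge hθ w
    · have hlt : S ⊓ Subgroup.centralizer (Z2 : Set Ω) < S := lt_of_le_of_ne hES hEq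
      have hcl := closure_extGen_eq_of_not_essential hS F hF hlt hEfn hne
      rw [← hcl] at hθaut
      refine (Subgroup.closure_le K).mpr ?_ hθaut
      rintro α ⟨Q, hPQ, ψ', hψ', hα⟩ w
      have hSQ : S ≤ Q := hM Q hPQ (hom_le F hψ')
      rw [← hα w]
      exact hom_top_center_iff F hSQ hψ' _
  have h1 := (hθK ⟨z, hzE⟩).mpr hzZ
  rw [hθz] at h1
  exact hzφ h1

end Cfsg.Agent.S5270
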