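import Cfsg.Statements.S5273
-- import your own Cfsg.Agent.* helpers here
import Cfsg.Agent.Helper88.SmallControl

set_option autoImplicit false
open Cfsg

namespace Cfsg.Agent.S5273

/-- Small-exponent abelian subgroups control fusion. Let E and F be saturated fusion systems over the same finite p-group S with E contained in F. Suppose that E and F have the same maps between A and B for all subgroups A, B of S that are elementary abelian when p is odd, respectively abelian of exponent dividing 4 when p = 2. Then E = F (they have the same maps on every subgroup). -/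
theorem result {Ω : Type*} [Group Ω] {S : Subgroup Ω} [Finite S] (p : ℕ) [Fact p.Prime] (hS : IsPGroup p ↥S) (E F : Cfsg.FusionSystem S) (hE : E.IsSaturated p) (hF : F.IsSaturated p) (hEF : E.IsSubsystemOf F) (hodd : p ≠ 2 → ∀ A B : Subgroup Ω, A ≤ S → B ≤ S → Cfsg.IsElementaryAbelian p A → Cfsg.IsElementaryAbelian p B → E.homSet A B = F.homSet A B) (htwo : p = 2 → ∀ A B : Subgroup Ω, A ≤ S → B ≤ S → IsMulCommutative ↥A → IsMulCommutative ↥B → (∀ a ∈ A, a ^ 4 = 1) → (∀ b ∈ B, b ^ 4 = 1) → E.homSet A B = F.homSet A B) : ∀ P : Subgroup Ω, E.Hom P = F.Hom P := by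
  refine Cfsg.Agent.Helper88.small_abelian_control p hS E F hE hF hEF S ?_ ?_ ?_
  · intro P f hf x hx _
    exact hf.mem hx
  · intro R hR α hα m hm hαm x
    exact S.mul_mem (S.inv_mem (hR x.2)) (hR (α x).2)
  · intro A hA hAS _ f hf
    have hB : Cfsg.Agent.Helper88.SmallAb p (Cfsg.Agent.Helper88.img A f) := hA.img hf
    have hBS : Cfsg.Agent.Helper88.img A f ≤ S := hf.img_le
    have hval : ∀ x ∈ A, f x ∈ Cfsg.Agent.Helper88.img A f := fun x hx => hf.apply_mem_img hx
    obtain ⟨φ, hφ, hfφ⟩ := hf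
    have hmem : φ ∈ F.homSet A (Cfsg.Agent.Helper88.img A f) :=
      ⟨hφ, fun x => by rw [hfφ x]; exact hval x x.2⟩
    have hcA : IsMulCommutative ↥A :=
      IsMulCommutative.of_comm (fun a b => Subtype.ext (hA.1 a a.2 b b.2))
    have hcB : IsMulCommutative ↥(Cfsg.Agent.Helper88.img A f) :=
      IsMulCommutative.of_comm (fun a b => Subtype.ext (hB.1 a a.2 b b.2))
    have heq : E.homSet A (Cfsg.Agent.Helper88.img A f) = F.homSet A (Cfsg.Agent.Helper88.img A f) := by
      by_cases hp2 : p = 2
      · exact htwo hp2 A _ hAS hBS hcA hcB (fun a ha => (hA.2 a ha).pow_four hp2)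
          (fun b hb => (hB.2 b hb).pow_four hp2)
      · exact hodd hp2 A _ hAS hBS ⟨hcA, fun a ha => (hA.2 a ha).pow_p hp2⟩
          ⟨hcB, fun b hb => (hB.2 b hb).pow_p hp2⟩
    rw [← heq] at hmem
    exact ⟨φ, hmem.1, hfφ⟩

end Cfsg.Agent.S5273
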