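import Cfsg.Statements.S5276
import Cfsg.Agent.Helper86.FrattiniMod
import Cfsg.Agent.Helper86.NormSys

set_option autoImplicit false
open Cfsg

namespace Cfsg.Agent.S5276

/-- Let p be a prime and F a saturated fusion system over a finite p-group S. Then F is the inner fusion system of S if and only if the normalizer fusion system of S itself in F is the inner fusion system (equivalently, Aut_F(S) is induced by S) and the Frattini subgroup Φ(S) is strongly closed in F. -/
theorem result {Ω : Type*} [Group Ω] {S : Subgroup Ω} [Finite S] (p : ℕ) [Fact p.Prime] (hS : IsPGroup p ↥S) (F : Cfsg.FusionSystem S) (hF : F.IsSaturated p) : (∀ P : Subgroup Ω, F.Hom P = (Cfsg.innerFusionSystem S).Hom P) ↔ (∀ N : Cfsg.FusionSystem (Cfsg.FusionSystem.normalizerIn S S), F.IsNormalizerSystem S N → ∀ P : Subgroup Ω, N.Hom P = (Cfsg.innerFusionSystem (Cfsg.FusionSystem.normalizerIn S S)).Hom P) ∧ F.StronglyClosed ((frattini ↥S).map S.subtype) := by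
  constructor
  · intro hin
    refine ⟨?_, ?_, ?_⟩
    · intro N hN P
      rw [hN P]
      ext φ
      rw [Helper86.mem_normalizerHom_self_iff]
      constructor
      · rintro ⟨hPS, χ, hχ, h⟩
        rw [hin S] at hχ
        obtain ⟨-, g, hg, hg'⟩ := hχ
        refine ⟨le_inf hPS (hPS.trans Subgroup.le_normalizer), g,
          Subgroup.mem_inf.2 ⟨hg, Subgroup.le_normalizer hg⟩, fun x => ?_⟩
        rw [h x (hPS x.2), hg']
      · rintro ⟨hPN, g, hgN, hg'⟩
        have hPS : P ≤ S := hPN.trans inf_le_left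
        refine ⟨hPS, conjHom S g, F.conj_mem le_rfl (Subgroup.mem_inf.1 hgN).1, fun x hx => ?_⟩
        rw [hg' x]
        rfl
    · rintro _ ⟨x, -, rfl⟩
      exact x.2
    · intro R hR φ hφ x
      rw [hin R] at hφ
      obtain ⟨hRS, g, hg, hg'⟩ := hφ
      rw [hg']
      obtain ⟨y, hy, hyx⟩ := hR x.2
      have hn : (frattini ↥S).Normal := inferInstance
      refine ⟨(⟨g, hg⟩ : ↥S) * y * (⟨g, hg⟩ : ↥S)⁻¹, hn.conj_mem y hy _, ?_⟩
      show g * (S.subtype y) * g⁻¹ = g * (x : Ω) * g⁻¹
      rw [hyx]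
  · rintro ⟨hN, hΦ⟩
    have hInn := Helper86.inn_of_normalizerSelf F hN
    exact Helper86.inner_of_hyperfocal_eq_bot hS F hF
      (Helper86.hyperfocal_eq_bot_of_top_inner hS F hF hInn hΦ)

end Cfsg.Agent.S5276
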