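import Cfsg.Statements.S5281
import Cfsg.Agent.Helper87.PStable
import Cfsg.Agent.S5247

set_option autoImplicit false
open Cfsg

namespace Cfsg.Agent.S5281

open Cfsg.FusionSystem Cfsg.Agent.Helper87

/-- `p`-stability at a conjugate of `Q` gives `p`-stability at `Q`. -/
theorem pstable_of_conj {Ω : Type*} [Group Ω] {S : Subgroup Ω} (p : ℕ) [Fact p.Prime]
    (F : Cfsg.FusionSystem S) {Q Q' : Subgroup Ω} (hc : F.IsConj Q Q')
    (h : ∀ χ : MulAut ↥Q', χ ∈ F.autGroup Q' →
      (∀ a : ↥Q', (χ a⁻¹) * a * (χ a⁻¹) * (χ (χ a)) = 1) →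
      χ ∈ ((Cfsg.pCore p ↥(F.autGroup Q')).map (F.autGroup Q').subtype : Subgroup (MulAut ↥Q')))
    (χ : MulAut Q) (hχ : χ ∈ F.autGroup Q)
    (hquad : ∀ a : ↥Q, (χ a⁻¹) * a * (χ a⁻¹) * (χ (χ a)) = 1) :
    χ ∈ ((Cfsg.pCore p ↥(F.autGroup Q)).map (F.autGroup Q).subtype : Subgroup (MulAut ↥Q)) := by
  obtain ⟨φ, hφ, rfl⟩ := hc
  have key : ∀ a : Q, (MulAut.congr (MonoidHom.ofInjective (F.injective_of_mem hφ)) χ)
      (MonoidHom.ofInjective (F.injective_of_mem hφ) a) =
      MonoidHom.ofInjective (F.injective_of_mem hφ) (χ a) := by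
    intro a
    show MonoidHom.ofInjective (F.injective_of_mem hφ) (χ ((MonoidHom.ofInjective (F.injective_of_mem hφ)).symm
      (MonoidHom.ofInjective (F.injective_of_mem hφ) a))) = _
    rw [MulEquiv.symm_apply_apply]
  have h1 := h (MulAut.congr (MonoidHom.ofInjective (F.injective_of_mem hφ)) χ)
    (aut_transport F hφ hχ) (by
      intro b
      have hb : b = MonoidHom.ofInjective (F.injective_of_mem hφ)
          ((MonoidHom.ofInjective (F.injective_of_mem hφ)).symm b) :=
        (MulEquiv.apply_symm_apply _ b).symm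
      rw [hb]
      generalize (MonoidHom.ofInjective (F.injective_of_mem hφ)).symm b = a
      rw [← map_inv, key, key, key, ← map_mul, ← map_mul, ← map_mul, hquad, map_one])
  have h2 := mem_pCore_map_of_equiv (MulAut.congr (MonoidHom.ofInjective (F.injective_of_mem hφ))).symm
    (A := F.autGroup φ.range) (A' := F.autGroup Q) (fun a ha => aut_transport_symm F hφ ha)
    (fun a ha => by
      have := aut_transport F hφ ha
      simpa using this) h1
  have e : (MulAut.congr (MonoidHom.ofInjective (F.injective_of_mem hφ))).symm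
      (MulAut.congr (MonoidHom.ofInjective (F.injective_of_mem hφ)) χ) = χ :=
    MulEquiv.symm_apply_apply _ _
  rw [e] at h2
  exact h2

/-- Let p be an odd prime and F a saturated fusion system over a finite p-group S. Call a fusion system E (over any subgroup) p-stable when, for every fully E-normalized subgroup Q and every χ in Aut_E(Q) with χ(a⁻¹)·a·χ(a⁻¹)·χ(χ(a)) = 1 for all a in Q (χ acts quadratically), χ lies in O_p(Aut_E(Q)). Then F is p-stable if and only if the normalizer fusion system of R in F is p-stable for every fully F-normalized, F-centric, F-radical subgroup R of S. -/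
theorem result {Ω : Type*} [Group Ω] {S : Subgroup Ω} [Finite S] (p : ℕ) [Fact p.Prime] (hS : IsPGroup p ↥S) (F : Cfsg.FusionSystem S) (hF : F.IsSaturated p) (hp : p ≠ 2) : (∀ Q : Subgroup Ω, F.IsFullyNormalized Q → ∀ χ : MulAut ↥Q, χ ∈ F.autGroup Q → (∀ a : ↥Q, (χ a⁻¹) * a * (χ a⁻¹) * (χ (χ a)) = 1) → χ ∈ ((Cfsg.pCore p ↥(F.autGroup Q)).map (F.autGroup Q).subtype : Subgroup (MulAut ↥Q))) ↔ ∀ R : Subgroup Ω, F.IsFullyNormalized R → F.IsCentric R → F.IsRadical p R → ∀ N : Cfsg.FusionSystem (Cfsg.FusionSystem.normalizerIn S R), F.IsNormalizerSystem R N → (∀ Q : Subgroup Ω, N.IsFullyNormalized Q → ∀ χ : MulAut ↥Q, χ ∈ N.autGroup Q → (∀ a : ↥Q, (χ a⁻¹) * a * (χ a⁻¹) * (χ (χ a)) = 1) → χ ∈ ((Cfsg.pCore p ↥(N.autGroup Q)).map (N.autGroup Q).subtype : Subgroup (MulAut ↥Q))) := by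
  constructor
  · intro hst R hR hcen hrad N hN Q hQ χ hχ hquad
    have hQS : Q ≤ S := hQ.1.trans inf_le_left
    have hle := normalizerSystem_autGroup_le F hN Q
    have h1 := Cfsg.Agent.S5247.pstable_all p F hst Q hQS χ (hle hχ) hquad
    exact mem_pCore_map_of_le hle h1 hχ
  · intro hst Q hQ χ hχ hquad
    have hQS := hQ.1
    obtain ⟨Q', R', hc, he, hmax⟩ := exists_max_extProp F hQS
    obtain ⟨R'', ⟨θ, hθ, rfl⟩, hfa, hrec⟩ := hF R' he.2.1
    obtain ⟨Q'', hc', he'⟩ := extProp_transport F he hθ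
    have he'' := extProp_pCoreNormalizer hS F hfa hrec he'
    have hcard := hmax Q'' _ (isConj_trans F hc hc') he''
    have hRle : θ.range ≤ pCoreNormalizer F p θ.range := le_pCoreNormalizer hS F hrec.1
    have hfinN : Finite (pCoreNormalizer F p θ.range) := finite_of_le (S := S) inf_le_right
    have heq : pCoreNormalizer F p θ.range = θ.range := by
      symm
      apply Subgroup.eq_of_le_of_card_ge hRle
      rw [card_range_eq F hθ]; exact hcard
    obtain ⟨hfn, hcen, hrad⟩ := centric_radical_of_pCoreNormalizer_eq hS F hfa hrec heq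
    have hNs := isNormalizerSystem_normalizerSystem F θ.range hrec.1
    have hstN := hst θ.range hfn hcen hrad (normalizerSystem F θ.range hrec.1) hNs
    have hfinNS : Finite (normalizerIn S θ.range) := finite_of_le (S := S) inf_le_left
    have hQ''N : Q'' ≤ normalizerIn S θ.range := he'.1.trans (le_normalizerIn hrec.1)
    have hautEq : (normalizerSystem F θ.range hrec.1).autGroup Q'' = F.autGroup Q'' := by
      apply le_antisymm (normalizerSystem_autGroup_le F hNs Q'')
      intro α hα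
      obtain ⟨ψ, hψ, hψα⟩ := he'.2.2 α hα
      rw [mem_autGroup_iff _ hQ''N]
      show Q''.subtype.comp α.toMonoidHom ∈ F.normalizerHom θ.range Q''
      have hsup : Q'' ⊔ θ.range ≤ θ.range := sup_le he'.1 le_rfl
      refine ⟨(mem_autGroup_iff F (he'.1.trans hrec.1) α).mp hα, hQ''N, fun x => hQ''N (α x).2,
        (θ.range.subtype.comp ψ.toMonoidHom).comp (Subgroup.inclusion hsup),
        hom_restrict F ((mem_autGroup_iff F hrec.1 ψ).mp hψ) hsup, fun x => hψα x _, ?_⟩
      ext y
      constructor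
      · rintro ⟨x, -, rfl⟩
        exact (ψ _).2
      · intro hy
        refine ⟨⟨(ψ.symm ⟨y, hy⟩ : θ.range), Subgroup.mem_sup_right (ψ.symm ⟨y, hy⟩).2⟩,
          Subgroup.mem_subgroupOf.mpr (ψ.symm ⟨y, hy⟩).2, ?_⟩
        show ((ψ ⟨((ψ.symm ⟨y, hy⟩ : θ.range) : Ω), _⟩ : θ.range) : Ω) = y
        simp
    refine pstable_of_conj p F (isConj_trans F hc hc') ?_ χ hχ hquad
    intro χ'' hχ'' hquad''
    have h1 := Cfsg.Agent.S5247.pstable_all p (normalizerSystem F θ.range hrec.1) hstN Q'' hQ''N χ''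
      (hautEq.ge hχ'') hquad''
    rw [hautEq] at h1
    exact h1

end Cfsg.Agent.S5281
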