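import Cfsg.Statements.S5296
-- import your own Cfsg.Agent.* helpers here
import Cfsg.Agent.Helper88.SmallControl
import Cfsg.Agent.S5124

set_option autoImplicit false
universe u
open Cfsg

namespace Cfsg.Agent.S5296

/-- Small-exponent abelian subgroups of the hyperfocal subgroup control fusion. Let E and F be saturated fusion systems over the same finite p-group S with E contained in F. Suppose that E and F have the same maps between A and B for all subgroups A, B of the hyperfocal subgroup of F that are elementary abelian when p is odd, respectively abelian of exponent dividing 4 when p = 2. Then E = F. -/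
theorem result {Ω : Type u} [Group Ω] {S : Subgroup Ω} [Finite S] (p : ℕ) [Fact p.Prime] (hS : IsPGroup p S)
    (E F : Cfsg.FusionSystem S) (hE : E.IsSaturated p) (hF : F.IsSaturated p) (hEF : E.IsSubsystemOf F)
    (hodd : p ≠ 2 → ∀ A B : Subgroup Ω, A ≤ (F.hyperfocalSubgroup p) → B ≤ (F.hyperfocalSubgroup p) →
      Cfsg.IsElementaryAbelian p A → Cfsg.IsElementaryAbelian p B → E.homSet A B = F.homSet A B)
    (htwo : p = 2 → ∀ A B : Subgroup Ω, A ≤ (F.hyperfocalSubgroup p) → B ≤ (F.hyperfocalSubgroup p) →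
      IsMulCommutative ↥A → IsMulCommutative ↥B → (∀ a ∈ A, a ^ 4 = 1) → (∀ b ∈ B, b ^ 4 = 1) → E.homSet A B = F.homSet A B) :
    ∀ P : Subgroup Ω, E.Hom P = F.Hom P := by
  have hsc := Cfsg.Agent.S5124.result p hS F hF
  refine Cfsg.Agent.Helper88.small_abelian_control p hS E F hE hF hEF (F.hyperfocalSubgroup p) ?_ ?_ ?_
  · intro P f hf x hx hxW
    exact Cfsg.Agent.Helper88.stronglyClosed_mapsTo hsc (hf.restrict inf_le_left) inf_le_right x
      ⟨hx, hxW⟩
  · intro R hR α hα m hm hαm x
    refine Subgroup.subset_closure ⟨R, ⟨α, hα⟩, x, hR, ?_, rfl⟩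
    refine Subgroup.subset_closure ?_
    show Nat.Coprime (orderOf (⟨α, hα⟩ : F.autGroup R)) p
    rw [Subgroup.orderOf_mk]
    exact Nat.Coprime.coprime_dvd_left (orderOf_dvd_of_pow_eq_one hαm) hm
  · intro A hA hAS hAW f hf
    have hB : Cfsg.Agent.Helper88.SmallAb p (Cfsg.Agent.Helper88.img A f) := hA.img hf
    have hBW : Cfsg.Agent.Helper88.img A f ≤ F.hyperfocalSubgroup p := by
      intro y hy
      obtain ⟨x, hx, rfl⟩ := hf.mem_img.mp hy
      exact Cfsg.Agent.Helper88.stronglyClosed_mapsTo hsc hf hAW x hx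
    have hval : ∀ x ∈ A, f x ∈ Cfsg.Agent.Helper88.img A f := fun x hx => hf.apply_mem_img hx
    obtain ⟨φ, hφ, hfφ⟩ := hf
    have hmem : φ ∈ F.homSet A (Cfsg.Agent.Helper88.img A f) :=
      ⟨hφ, fun x => by rw [hfφ x]; exact hval x x.2⟩
    have hcA : IsMulCommutative ↥A :=
      IsMulCommutative.of_comm (fun a b => Subtype.ext (hA.1 a a.2 b b.2))
    have hcB : IsMulCommutative ↥(Cfsg.Agent.Helper88.img A f) :=
      IsMulCommutative.of_comm (fun a b => Subtype.ext (hB.1 a a.2 b b.2))
    have heq : E.homSet A (Cfsg.Agent.Helper88.img A f) = F.homSet A (Cfsg.Agent.Helper88.img A f) := by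
      by_cases hp2 : p = 2
      · exact htwo hp2 A _ hAW hBW hcA hcB (fun a ha => (hA.2 a ha).pow_four hp2)
          (fun b hb => (hB.2 b hb).pow_four hp2)
      · exact hodd hp2 A _ hAW hBW ⟨hcA, fun a ha => (hA.2 a ha).pow_p hp2⟩
          ⟨hcB, fun b hb => (hB.2 b hb).pow_p hp2⟩
    rw [← heq] at hmem
    exact ⟨φ, hmem.1, hfφ⟩

end Cfsg.Agent.S5296
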