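import Cfsg.Statements.S5299

set_option autoImplicit false
universe u
open Cfsg

namespace Cfsg.Agent.S5299

open Cfsg.FusionSystem

/-- A group `A` with an injective homomorphism into `G` and a surjective one onto `H` shows that `H` is
involved in `G`. -/
theorem involves_of_hom {H : Type*} {G : Type*} {A : Type*} [Group H] [Group G] [Group A] (j : A →* G)
    (hj : Function.Injective j) (f : A →* H) (hf : Function.Surjective f) : Involves H G := by
  let e : A ≃* j.range := MonoidHom.ofInjective hj
  let f' : j.range →* H := f.comp e.symm.toMonoidHom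
  have hf' : Function.Surjective f' := hf.comp e.symm.surjective
  have hR : (f'.ker.map j.range.subtype).subgroupOf j.range = f'.ker :=
    Subgroup.comap_map_eq_self_of_injective (Subgroup.subtype_injective _) _
  have hn : ((f'.ker.map j.range.subtype).subgroupOf j.range).Normal := by rw [hR]; infer_instance
  exact ⟨j.range, f'.ker.map j.range.subtype, hn,
    ⟨(QuotientGroup.quotientMulEquivOfEq hR).trans (QuotientGroup.quotientKerEquivOfSurjective f' hf')⟩⟩

/-- A `p`-subgroup of a section of a finite group `L` is a section of any Sylow `p`-subgroup of `L`;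
here in the form: it is a section of any group into which a Sylow subgroup embeds. -/
theorem involves_sylow {L : Type*} [Group L] [Finite L] {p : ℕ} [Fact p.Prime] {H : Type*} [Group H]
    (hL : Involves H L) (Q : Subgroup H) (hQ : IsPGroup p Q) (T : Sylow p L) {N : Type*} [Group N]
    (ι : N →* L) (hι : Function.Injective ι) (hT : (T : Subgroup L) = ι.range) : Involves Q N := by
  obtain ⟨K, R, hn, ⟨e⟩⟩ := hL
  let f : K →* H := e.toMonoidHom.comp (QuotientGroup.mk' (R.subgroupOf K))
  have hf : Function.Surjective f := e.surjective.comp (QuotientGroup.mk'_surjective _)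
  let K₁ : Subgroup K := Q.comap f
  let f₁ : K₁ →* Q := (f.comp K₁.subtype).codRestrict Q (fun x => x.2)
  have hf₁ : Function.Surjective f₁ := by
    rintro ⟨q, hq⟩
    obtain ⟨k, hk⟩ := hf q
    refine ⟨⟨k, ?_⟩, Subtype.ext hk⟩
    show f k ∈ Q
    rw [hk]; exact hq
  obtain ⟨P₁⟩ : Nonempty (Sylow p K₁) := inferInstance
  have hsurj : Function.Surjective (f₁.comp (P₁ : Subgroup K₁).subtype) := by
    intro q
    have h1 : ((P₁.mapSurjective hf₁ : Sylow p Q) : Subgroup Q) = ⊤ := by
      have := (P₁.mapSurjective hf₁).is_maximal' (Q := ⊤) (hQ.to_subgroup _) le_top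
      exact this.symm
    rw [Sylow.coe_mapSurjective] at h1
    have h2 : q ∈ (P₁ : Subgroup K₁).map f₁ := by rw [h1]; trivial
    obtain ⟨x, hx, hxq⟩ := h2
    exact ⟨⟨x, hx⟩, hxq⟩
  -- embed `P₁` into `N`
  let j₀ : (P₁ : Subgroup K₁) →* L := K.subtype.comp (K₁.subtype.comp (P₁ : Subgroup K₁).subtype)
  have hj₀ : Function.Injective j₀ :=
    (Subgroup.subtype_injective K).comp ((Subgroup.subtype_injective K₁).comp (Subgroup.subtype_injective _))
  have hp : IsPGroup p j₀.range := P₁.isPGroup'.of_surjective j₀.rangeRestrict j₀.rangeRestrict_surjective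
  obtain ⟨Q₁, hQ₁⟩ := hp.exists_le_sylow
  obtain ⟨l, hl⟩ := MulAction.exists_smul_eq L Q₁ T
  have hmem : ∀ x : (P₁ : Subgroup K₁), (MulAut.conj l).toMonoidHom (j₀ x) ∈ ι.range := by
    intro x
    have h1 : j₀ x ∈ (Q₁ : Subgroup L) := hQ₁ ⟨x, rfl⟩
    have h2 : l * j₀ x * l⁻¹ ∈ ((l • Q₁ : Sylow p L) : Subgroup L) := by
      rw [Sylow.coe_subgroup_smul]
      have := Subgroup.smul_mem_pointwise_smul _ (MulAut.conj l) _ h1
      simpa [MulAut.smul_def] using this
    rw [hl, hT] at h2
    exact h2
  let j₁ : (P₁ : Subgroup K₁) →* ι.range := ((MulAut.conj l).toMonoidHom.comp j₀).codRestrict ι.range hmem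
  have hj₁ : Function.Injective j₁ := by
    intro x y hxy
    have h1 : (MulAut.conj l).toMonoidHom (j₀ x) = (MulAut.conj l).toMonoidHom (j₀ y) :=
      congrArg Subtype.val hxy
    exact hj₀ ((MulAut.conj l).injective h1)
  let j : (P₁ : Subgroup K₁) →* N := (MonoidHom.ofInjective hι).symm.toMonoidHom.comp j₁
  have hj : Function.Injective j := (MonoidHom.ofInjective hι).symm.injective.comp hj₁
  exact involves_of_hom j hj _ hsurj

/-- Let F be a saturated fusion system over a finite p-group S, H a finite group and Q a p-subgroup of H. If Q is not involved in S (no section of S is isomorphic to Q), then F is H-free: H is involved in no model of the normalizer system of a fully normalized centric subgroup. -/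
theorem result {Ω : Type u} [Group Ω] {S : Subgroup Ω} [Finite S] (p : ℕ) [Fact p.Prime] (hS : IsPGroup p S)
    (F : Cfsg.FusionSystem S) (hF : F.IsSaturated p) (H : Type*) [Group H] [Finite H] (Q : Subgroup H) (hQ : IsPGroup p Q)
    (hfree : ¬ Cfsg.Involves (↥Q) (↥S)) : F.IsSectionFree p H := by
  intro Q' _ _ N _ L _ ι hmodel hinv
  obtain ⟨hfin, hreal, ⟨T, hT⟩, -⟩ := hmodel
  apply hfree
  have h1 : Involves Q (normalizerIn S Q') := involves_sylow hinv Q hQ T ι hreal.1 hT
  obtain ⟨K, R, hn, ⟨e⟩⟩ := h1
  -- transport along the inclusion `N_S(Q') ≤ S`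
  let f : K →* Q := e.toMonoidHom.comp (QuotientGroup.mk' (R.subgroupOf K))
  have hf : Function.Surjective f := e.surjective.comp (QuotientGroup.mk'_surjective _)
  have hle : normalizerIn S Q' ≤ S := inf_le_left
  exact involves_of_hom ((Subgroup.inclusion hle).comp K.subtype)
    ((Subgroup.inclusion_injective hle).comp (Subgroup.subtype_injective K)) f hf

end Cfsg.Agent.S5299
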