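-- Statement S5522: M11 on the 12 points outside the dodecad of squares is elusive.
import Cfsg.Statements.S5522
import Cfsg.Agent.Helper91.M11Chain
import Cfsg.Agent.Helper91.Fast

set_option autoImplicit false
open Cfsg

namespace Cfsg.Agent.S5522

open Cfsg.Agent.Helper91

/-- Indices of the points outside the dodecad of squares. -/
def outIdx : List Nat := [5, 7, 10, 11, 14, 15, 17, 19, 20, 21, 22, 23]

/-- The packed table fixes a point outside the dodecad. -/
def hasFix (P : Nat) : Bool := anyL outIdx (fun i => Nat.beq (dg P i) i)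

/-- Some point outside the dodecad lies in a cycle of length 4. -/
def cyc4 (P : Nat) : Bool :=
  anyL outIdx (fun i => Bool.and (Nat.beq (dg P (dg P (dg P (dg P i)))) i) (Bool.not (Nat.beq (dg P (dg P i)) i)))

/-- The test. -/
def test (P : Nat) : Bool := Bool.or (hasFix P) (cyc4 P)

theorem test_all : allProdP test (m11Levels.map (fun lv => lv.tabs)) pkId = true := by
  decide +kernel

theorem outIdx_spec : ∀ i ∈ outIdx, i < 24 ∧ pt i ∉ Spor.squareDodecad := by
  decide +kernel

theorem hasFix_sound {P : Nat} (h : hasFix P = true) {g : Equiv.Perm GolayPt}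
    (hg : Rep P g) : ∃ x : GolayPt, x ∉ Spor.squareDodecad ∧ g x = x := by
  rw [hasFix, anyL_eq, List.any_eq_true] at h
  obtain ⟨i, hi, hPi⟩ := h
  obtain ⟨hi24, hout⟩ := outIdx_spec i hi
  refine ⟨pt i, hout, ?_⟩
  have := hg i hi24
  rw [Nat.eq_of_beq_eq_true hPi] at this
  rw [← pt_idx (g (pt i)), ← this]

theorem not_prime_of_four_cycle {g : Equiv.Perm GolayPt} {q : GolayPt} (h4 : (g ^ 4) q = q)
    (h2 : (g ^ 2) q ≠ q) : ¬ (orderOf g).Prime := by
  intro hp
  by_cases h : orderOf g = 2
  · apply h2
    rw [← h, pow_orderOf_eq_one]; rfl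
  · have hcop : Nat.Coprime 4 (orderOf g) := by
      have h2' : Nat.Coprime 2 (orderOf g) := by
        rw [Nat.coprime_comm]
        exact (Nat.coprime_primes hp Nat.prime_two).2 h
      exact Nat.Coprime.pow_left 2 h2'
    obtain ⟨m, hm⟩ := exists_pow_eq_self_of_coprime hcop
    have h1 : ((g ^ 4) ^ m) q = q := Equiv.Perm.pow_apply_eq_self_of_apply_eq_self h4 m
    rw [hm] at h1
    apply h2
    rw [pow_two, Equiv.Perm.mul_apply, h1, h1]

theorem cyc4_sound {P : Nat} (h : cyc4 P = true) {g : Equiv.Perm GolayPt} (hg : Rep P g) :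
    ¬ (orderOf g).Prime := by
  rw [cyc4, anyL_eq, List.any_eq_true] at h
  obtain ⟨i, hi, hPi⟩ := h
  obtain ⟨hi24, -⟩ := outIdx_spec i hi
  have e1 : dg P i = idx (g (pt i)) := hg i hi24
  have e2 : dg P (dg P i) = idx ((g ^ 2) (pt i)) := by
    rw [e1, hg.apply, pow_two]; rfl
  have e4 : dg P (dg P (dg P (dg P i))) = idx ((g ^ 4) (pt i)) := by
    rw [e2, hg.apply, hg.apply, show g ^ 4 = g * (g * g ^ 2) by group]; rfl
  have hPi' : (dg P (dg P (dg P (dg P i))) = i) ∧ ¬ (dg P (dg P i) = i) := by
    have := hPi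
    simp only [Bool.and_eq_true, Bool.not_eq_true'] at this
    refine ⟨Nat.eq_of_beq_eq_true this.1, ?_⟩
    intro hc
    have h' := this.2
    rw [hc, Nat.beq_refl] at h'
    exact Bool.noConfusion h'
  apply not_prime_of_four_cycle (q := pt i)
  · rw [← pt_idx ((g ^ 4) (pt i)), ← e4, hPi'.1]
  · intro hc
    apply hPi'.2
    rw [e2, hc, idx_pt hi24]

/-- The Mathieu group M₁₁, realised as the stabiliser of one point of the dodecad of squares inside the stabiliser M₁₂ of that dodecad in M₂₄, acts on the twelve coordinate positions outside the dodecad of squares (its 3-transitive action of degree 12); in this action every element of prime order fixes a point, i.e. the action is elusive. -/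
theorem result (g : Equiv.Perm Cfsg.GolayPt) (hg : g ∈ Cfsg.Spor.M11) (hord : (orderOf g).Prime) :
    ∃ x : Cfsg.GolayPt, x ∉ Cfsg.Spor.squareDodecad ∧ g x = x := by
  obtain ⟨P, hf, hrep⟩ := forall_of_allProdP test_all (m11_isChainProd hg)
  rw [test, Bool.or_eq_true] at hf
  rcases hf with hf | hf
  · exact hasFix_sound hf hrep
  · exact absurd hord (cyc4_sound hf hrep)

end Cfsg.Agent.S5522
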