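import Cfsg.Statements.S5610
import Cfsg.Agent.Helper91.Sep

set_option autoImplicit false
open scoped Pointwise
open Cfsg

namespace Cfsg.Agent.S5610

open Cfsg.Agent.Helper91

set_option maxRecDepth 100000

/-- Generators of the stabilizer of the octad `oct0`. -/
def sGens : List (List Nat) :=
  [[2, 3, 23, 5, 19, 1, 6, 16, 8, 13, 7, 21, 4, 18, 14, 15, 10, 17, 9, 12, 11, 20, 22, 0],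
   [14, 1, 3, 5, 21, 23, 22, 12, 19, 6, 10, 8, 13, 18, 2, 11, 16, 0, 20, 9, 4, 7, 15, 17]]

theorem sGens_ok : sGens.all (genSetOK oct0) = true := by decide +kernel

def s1o1I : List Nat :=
  [2, 1, 1, 0, 2, 1, 1, 2, 0, 0, 0, 2, 2, 2, 0, 0, 0, 0, 0, 2, 2, 2, 2]

theorem s1o1_run : orbCount trioAct (trioKey 101) sGens s1o1I [132594499135424]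
    (Nat.shiftLeft 1 (trioKey 101 132594499135424)) 1 = 15 := by
  decide +kernel

theorem s1o1_v : trioValid 132594499135424 := (trioValid_iff _).2 (by decide +kernel)

theorem s1o1_le : 15 ≤ (MulAction.orbit ↥(MulAction.stabilizer ↥M24 (setM oct0)) (trioDec 132594499135424)).ncard :=
  trio_orbit_le _ 101 (gens_of_setOK sGens_ok) s1o1_v s1o1_run (by norm_num)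

theorem s1o1_e : trioDec 132594499135424 = famOf [337856, 7903248, 8536111] := trioDec_eq_famOf s1o1_v

def s1o2I : List Nat :=
  [1, 1, 2, 1, 1, 2, 1, 2, 1, 2, 0, 0, 2, 1, 2, 1, 0, 0, 0, 0, 0, 0, 2, 1, 1, 0, 2, 0, 0, 2, 1, 2, 2, 0, 0, 0,
   2, 2, 2, 0, 0, 0, 0, 0, 0, 0, 2, 1, 1, 2, 1, 0, 2, 1, 2, 1, 0, 0, 0, 0, 0, 0, 2, 1, 1, 2, 2, 0, 0, 0, 0, 2,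
   1, 2, 1, 1, 0, 0, 0, 0, 0, 0, 0, 2, 1, 1, 0, 2, 2, 2, 2, 0, 0, 0, 0, 0, 2, 2, 2, 1, 1, 2, 0, 0, 0, 0, 0, 0,
   0, 0, 0, 2, 1, 1, 2, 1, 1, 0, 2, 1, 0, 0, 0, 0, 0, 2, 1, 2, 1, 0, 0, 0, 2, 1, 0, 2, 1, 2, 2, 0, 0, 0, 2, 1,
   1, 2, 0, 0, 2, 0, 0, 2, 0, 0, 0, 0, 0, 0, 2, 1, 1, 2, 1, 2, 2, 0, 0, 0, 2, 1, 0, 2, 0, 0, 0, 0, 2, 1, 1, 2,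
   0, 0, 2, 1, 0, 2, 2, 0, 0, 0, 0, 2, 1, 2, 0, 0, 2, 2, 1, 0, 0, 0, 0, 0, 0, 2, 1, 1, 0, 0, 2, 1, 2, 2, 2, 1,
   0, 0, 0, 0, 0, 2, 0, 0, 0, 0, 0, 0, 0, 2, 2, 1, 1, 0, 2, 1, 1, 2, 1, 2, 0, 0, 2, 2, 0, 0, 0, 0, 2, 1, 1, 0,
   2, 1, 0, 2, 0, 0, 0, 2, 2, 1, 0, 0, 0, 0, 0, 2, 1, 1, 2, 1, 1, 2, 2, 0, 0, 0, 2, 0, 0, 2, 0, 0, 0, 2, 0, 0,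
   2, 1, 2, 1, 0, 2, 0, 0, 0, 0, 0, 0, 0, 2, 1, 1, 2, 1, 1, 2, 0, 0, 0, 2, 0, 0, 0, 2, 1, 1, 2, 0, 0, 2, 2, 2,
   0, 0, 0, 0, 2, 1, 1, 2, 0, 0, 2, 1, 0, 0, 0, 0, 0, 0, 2, 1, 1, 2, 1, 0, 2, 0, 0, 0, 2, 1, 2, 0, 0, 2, 1, 1,
   0, 0, 2, 2, 0, 0, 0, 0, 0, 2, 2, 1, 1, 0, 2, 2, 0, 0, 0, 0, 0, 0, 0, 0, 0, 0, 2, 1, 1, 2, 1, 1, 2, 2, 1, 2,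
   0, 0, 0, 0, 0, 2, 1, 1, 2, 2, 2, 0, 0, 0, 0, 0, 2, 1, 1, 0, 0, 0, 0, 0, 2, 1, 2, 1, 1, 0, 0, 0, 0, 2, 1, 1,
   0, 2, 0, 0, 2, 2, 1, 1, 0, 0, 2, 1, 0, 0, 0, 0, 0, 0, 0, 0, 2, 1, 1, 2, 1, 1, 2, 2, 0, 0, 0, 2, 2, 0, 0, 0,
   0, 0, 2, 1, 1, 2, 1, 0, 0, 0, 2, 1, 1, 0, 0, 0, 0, 2, 2, 2, 1, 0, 2, 1, 0, 0, 0, 0, 0, 0, 0, 2, 1, 1, 2, 1,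
   1, 2, 1, 0, 0, 0, 0, 2, 0, 0, 0, 2, 1, 1, 2, 0, 0, 0, 2, 1, 1, 2, 0, 0, 2, 1, 1, 0, 0, 0, 0, 2, 1, 1, 0, 0,
   2, 1, 2, 2, 2, 0, 0, 0, 0, 0, 0, 0, 0, 0, 2, 1, 1, 2, 1, 0, 0, 0, 0, 2, 1, 1, 2, 0, 0, 0, 2, 2, 0, 0, 0, 0,
   0, 0, 0, 2, 1, 1, 2, 1, 0, 2, 2, 2, 1, 0, 2, 2, 0, 0, 0, 0, 0, 0, 0, 2, 1, 1, 2, 1, 1, 0, 2, 1, 0, 2, 0, 0,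
   0, 2, 1, 0, 2, 0, 0, 0, 0, 2, 1, 1, 2, 1, 0, 2, 0, 0, 0, 2, 1, 0, 0, 0, 2, 1, 0, 2, 1, 0, 0, 0, 0, 0, 2, 1,
   1, 2, 1, 2, 2, 0, 0, 0, 2, 1, 0, 2, 2, 0, 0, 0, 0, 0, 2, 1, 2, 0, 0, 0, 0, 2, 1, 1, 0, 2, 2, 0, 0, 0, 2, 1,
   1, 2, 1, 0, 0, 0, 0, 2, 2, 1, 0, 0, 0, 0, 0, 0, 0, 0, 2, 1, 1, 2, 2, 1, 0, 2, 2, 2, 0, 0, 0, 0, 0, 0, 2, 1,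
   1, 2, 2, 0, 0, 0, 2, 1, 1, 0, 0, 2, 0, 0, 0, 2, 1, 1, 2, 0, 0, 0, 2, 1, 2, 1, 2, 0, 0, 0, 0, 0, 0, 0, 0, 2,
   1, 2, 1, 1, 2, 0, 0, 0, 2, 1, 1, 2, 0, 0, 2, 2, 0, 0, 0, 2, 2, 1, 0, 0, 0, 0, 0, 0, 2, 1, 1, 2, 1, 0, 2, 1,
   0, 0, 0, 0, 2, 1, 1, 0, 2, 1, 0, 0, 0, 2, 0, 0, 0, 2, 1, 1, 2, 1, 2, 0, 0, 2, 1, 0, 0, 0, 0, 2, 1, 1, 0, 2]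

theorem s1o2_run : orbCount trioAct (trioKey 22051) sGens s1o2I [67761699034271]
    (Nat.shiftLeft 1 (trioKey 22051 67761699034271)) 1 = 420 := by
  decide +kernel

theorem s1o2_v : trioValid 67761699034271 := (trioValid_iff _).2 (by decide +kernel)

theorem s1o2_le : 420 ≤ (MulAction.orbit ↥(MulAction.stabilizer ↥M24 (setM oct0)) (trioDec 67761699034271)).ncard :=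
  trio_orbit_le _ 22051 (gens_of_setOK sGens_ok) s1o2_v s1o2_run (by norm_num)

theorem s1o2_e : trioDec 67761699034271 = famOf [5279, 4038912, 12733024] := trioDec_eq_famOf s1o2_v

def s1o3I : List Nat :=
  [1, 1, 2, 1, 1, 2, 1, 1, 2, 1, 1, 0, 0, 2, 1, 1, 0, 2, 2, 2, 1, 0, 2, 0, 0, 0, 0, 0, 2, 1, 0, 0, 0, 0, 0, 2,
   1, 1, 2, 2, 2, 2, 0, 0, 0, 0, 0, 2, 1, 2, 1, 2, 1, 1, 0, 0, 2, 0, 0, 0, 0, 0, 2, 2, 2, 1, 0, 2, 0, 0, 0, 0,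
   0, 0, 2, 2, 1, 1, 0, 2, 1, 2, 1, 0, 0, 0, 2, 1, 1, 0, 0, 0, 0, 0, 2, 1, 0, 2, 1, 2, 1, 2, 0, 0, 0, 0, 2, 0,
   0, 0, 0, 0, 0, 0, 2, 1, 2, 1, 1, 2, 1, 2, 1, 2, 0, 0, 2, 0, 0, 0, 2, 2, 0, 0, 0, 0, 2, 1, 1, 2, 2, 0, 0, 0,
   2, 1, 0, 2, 1, 0, 0, 0, 0, 2, 1, 0, 2, 2, 1, 0, 0, 0, 0, 0, 0, 2, 1, 1, 0, 2, 1, 2, 0, 0, 2, 2, 0, 0, 0, 0,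
   0, 0, 0, 2, 1, 1, 2, 1, 1, 2, 1, 0, 0, 0, 2, 0, 0, 2, 1, 0, 0, 0, 0, 2, 1, 2, 1, 1, 0, 2, 0, 0, 2, 0, 0, 0,
   2, 1, 2, 0, 0, 2, 1, 1, 0, 2, 1, 0, 0, 0, 0, 0, 0, 0, 2, 1, 1, 2, 1, 1, 0, 2, 0, 0, 2, 0, 0, 0, 0, 2, 1, 1,
   0, 0, 2, 1, 1, 0, 0, 0, 0, 0, 0, 0, 0, 0, 2, 1, 1, 2, 1, 1, 2, 1, 1, 0, 2, 1, 2, 0, 0, 2, 1, 0, 0, 0, 0, 2,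
   1, 0, 2, 2, 2, 0, 0, 0, 0, 0, 0, 2, 2, 1, 1, 0, 2, 1, 0, 0, 0, 2, 2, 1, 0, 0, 0, 0, 0, 0, 2, 1, 1, 2, 0, 0,
   2, 1, 1, 0, 2, 0, 0, 0, 0, 2, 1, 2, 1, 1, 0, 2, 1, 0, 2, 0, 0, 0, 0, 0, 2, 1, 1, 0, 2, 1, 0, 2, 0, 0, 0, 2,
   1, 2, 0, 0, 0, 0, 0, 0, 0, 0, 2, 2, 1, 2, 1, 1, 2, 1, 0, 0, 0, 0, 2, 1, 1, 0, 0, 2, 0, 0, 0, 0, 2, 1, 1, 2,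
   1, 2, 2, 0, 0, 0, 2, 2, 1, 0, 2, 0, 0, 0, 0, 0, 2, 2, 1, 1, 0, 2, 0, 0, 2, 1, 0, 0, 0, 0, 0, 2, 1, 1, 0, 2,
   1, 2, 0, 0, 2, 0, 0, 0, 2, 1, 2, 0, 0, 0, 0, 0, 0, 0, 0, 2, 1, 1, 2, 1, 2, 1, 2, 1, 0, 0, 0, 2, 1, 0, 2, 0,
   0, 0, 0, 2, 1, 2, 1, 1, 2, 0, 0, 2, 0, 0, 2, 1, 1, 0, 0, 0, 0, 0, 2, 1, 1, 2, 2, 0, 0, 0, 2, 1, 2, 0, 0, 2,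
   0, 0, 0, 2, 1, 0, 2, 1, 0, 0, 0, 0, 0, 0, 0, 2, 1, 1, 2, 1, 1, 0, 2, 1, 0, 0, 0, 2, 0, 0, 0, 2, 1, 1, 0, 0,
   2, 2, 2, 2, 0, 0, 0, 0, 0, 0, 2, 2, 1, 1, 0, 2, 0, 0, 2, 2, 1, 1, 0, 0, 2, 0, 0, 0, 0, 0, 0, 0, 2, 1, 1, 2,
   1, 1, 0, 2, 1, 1, 2, 0, 0, 2, 0, 0, 2, 1, 0, 0, 0, 0, 2, 0, 0, 0, 2, 1, 1, 0, 2, 2, 2, 2, 0, 0, 0, 0, 0, 2,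
   1, 1, 0, 2, 1, 0, 0, 0, 2, 1, 1, 0, 2, 1, 1, 0, 0, 0, 0, 2, 0, 0, 0, 0, 0, 2, 1, 1, 2, 0, 0, 2, 1, 1, 2, 2,
   0, 0, 0, 2, 1, 1, 0, 0, 0, 0, 0, 0, 2, 1, 1, 2, 0, 0, 0, 2, 0, 0, 0, 0, 0, 0, 0, 2, 1, 1, 2, 1, 1, 2, 0, 0,
   2, 1, 1, 2, 1, 2, 1, 0, 0, 0, 2, 1, 2, 0, 0, 0, 0, 0, 2, 1, 1, 2, 0, 0, 2, 0, 0, 2, 2, 1, 2, 0, 0, 2, 0, 0,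
   0, 0, 0, 2, 1, 1, 2, 0, 0, 2, 0, 0, 2, 1, 1, 2, 0, 0, 2, 1, 1, 0, 0, 2, 2, 0, 0, 0, 0, 2, 0, 0, 0, 0, 0, 2,
   1, 1, 2, 2, 1, 2, 0, 0, 2, 0, 0, 0, 0, 0, 0, 0, 0, 2, 1, 1, 2, 1, 2, 1, 2, 1, 0, 2, 0, 0, 0, 2, 2, 2, 0, 0,
   0, 0, 0, 2, 1, 1, 0, 0, 2, 1, 0, 2, 1, 1, 0, 2, 0, 0, 0, 0, 0, 0, 0, 2, 1, 1, 2, 1, 1, 2, 0, 0, 2, 1, 0, 0,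
   0, 2, 2, 0, 0, 0, 0, 2, 1, 1, 2, 0, 0, 0, 2, 2, 1, 0, 0, 0, 0, 0, 0, 0, 2, 1, 1, 2, 1, 1, 2, 1, 1, 0, 0, 2,
   0, 0, 0, 2, 1, 1, 0, 2, 2, 0, 0, 0, 0, 0, 2, 1, 2, 1, 0, 2, 1, 0, 0, 0, 0, 2, 1, 1, 0, 2, 0, 0, 0, 0, 0, 0,
   2, 1, 1, 2, 1, 0, 0, 0, 2, 1, 0, 2, 1, 1, 0, 0, 2, 1, 0, 2, 0, 0, 0, 0, 0, 2, 1, 1, 0, 0, 2, 2, 1, 2, 2, 0,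
   0, 0, 0, 0, 0, 0, 0, 2, 1, 1, 2, 2, 2, 1, 1, 0, 0, 0, 0, 0, 0, 2, 1, 1, 2, 1, 0, 2, 0, 0, 0, 2, 1, 1, 0, 0,
   2, 2, 2, 0, 0, 0, 0, 0, 2, 1, 1, 0, 2, 0, 0, 2, 1, 0, 0, 0, 0, 0, 2, 2, 1, 1, 2, 0, 0, 2, 1, 0, 2, 0, 0, 0,
   2, 1, 1, 0, 0, 0, 0, 0, 0, 0, 0, 0, 2, 1, 1, 2, 1, 1, 2, 2, 1, 0, 0, 0, 0, 2, 1, 1, 0, 2, 1, 1, 0, 0, 2, 1,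
   0, 2, 0, 0, 0, 0, 2, 0, 0, 0, 2, 1, 1, 2, 2, 2, 0, 0, 0, 0, 0, 0, 0, 0, 2, 1, 1, 2, 1, 0, 2, 1, 2, 2, 0, 0,
   0, 2, 1, 1, 0, 0, 2, 2, 0, 0, 0, 0, 0, 0, 2, 2, 1, 1, 2, 0, 0, 2, 1, 2, 0, 0, 0, 0, 2, 1, 1, 0, 2, 0, 0, 2,
   0, 0, 0, 0, 0, 2, 1, 1, 2, 1, 1, 2, 2, 0, 0, 0, 2, 0, 0, 2, 1, 0, 2, 0, 0, 0, 0, 2, 2, 2, 1, 1, 0, 0, 2, 2,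
   0, 0, 0, 0, 0, 0, 2, 1, 1, 2, 1, 1, 0, 0, 2, 2, 0, 0, 0, 0, 2, 1, 1, 0, 2, 1, 0, 2, 2, 0, 0, 0, 0, 2, 2, 1,
   0, 0, 0, 0, 0, 2, 1, 1, 0, 0, 0, 0, 0, 0, 0, 2, 1, 1, 2, 1, 1, 2, 2, 0, 0, 0, 2, 1, 0, 2, 2, 0, 0, 0, 0, 2,
   0, 0, 0, 2, 1, 1, 2, 1, 1, 0, 0, 2, 1, 2, 1, 0, 0, 0, 0, 0, 0, 2, 1, 1, 2, 1, 0, 2, 1, 0, 0, 0, 0, 2, 1, 2,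
   0, 0, 2, 2, 0, 0, 0, 0, 2, 1, 2, 0, 0, 2, 1, 1, 0, 2, 0, 0, 2, 2, 0, 0, 0, 0, 0, 0, 2, 1, 1, 2, 1, 0, 0, 0,
   2, 1, 1, 2, 0, 0, 2, 2, 0, 0, 0, 2, 1, 0, 0, 0, 0, 2, 1, 1, 2, 2, 0, 0, 0, 2, 1, 1, 0, 0, 2, 0, 0, 0, 2, 1,
   1, 2, 0, 0, 2, 0, 0, 0, 0, 0, 0, 0, 2, 1, 2, 1, 1, 0, 2, 1, 1, 2, 1, 0, 0, 0, 0, 0, 0, 2, 1, 2, 1, 0, 0, 0,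
   2, 0, 0, 0, 0, 2, 1, 1, 2, 1, 0, 0, 0, 2, 1, 1, 0, 2, 1, 1, 0, 2, 0, 0, 2, 1, 0, 2, 0, 0, 0, 0, 2, 1, 1, 2,
   1, 1, 0, 0, 0, 0, 2, 1, 0, 2, 0, 0, 0, 2, 0, 0, 0, 0, 0, 0, 0, 0, 0, 0, 0, 2, 1, 1, 2, 1, 1, 2, 1, 1, 2, 1,
   1, 0, 2, 2, 0, 0, 0, 2, 2, 0, 0, 0, 0, 2, 1, 1, 0, 0, 2, 1, 1, 0, 0, 2, 1, 0, 2, 1, 0, 0, 0, 0, 0, 0, 2, 1,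
   2, 1, 1, 0, 2, 1, 0, 2, 0, 0, 0, 2, 1, 2, 0, 0, 2, 2, 0, 0, 0, 0, 0, 2, 1, 1, 2, 2, 1, 1, 0, 0, 0, 0, 0, 0,
   2, 2, 2, 0, 0, 0, 0, 0, 0, 0, 2, 1, 1, 0, 2, 1, 1, 0, 2, 1, 2, 2, 1, 0, 0, 0, 0, 2, 1, 1, 0, 0, 0, 0, 0, 2,
   1, 2, 1, 1, 0, 0, 2, 0, 0, 0, 2, 1, 2, 0, 0, 2, 1, 0, 2, 1, 1, 0, 0, 0, 0, 0, 0, 0, 0, 2, 1, 1, 2, 1, 0, 2,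
   1, 0, 2, 2, 0, 0, 0, 0, 0, 2, 1, 2, 1, 1, 0, 0, 2, 2, 0, 0, 0, 0, 2, 2, 1, 0, 2, 0, 0, 0, 0, 0, 2, 1, 1, 2,
   1, 2, 1, 0, 0, 0, 2, 0, 0, 0, 2, 1, 1, 2, 0, 0, 0, 2, 2, 2, 1, 0, 2, 0, 0, 0, 0, 0, 0, 2, 1, 2, 1, 2, 0, 0,
   0, 0, 2, 1, 2, 1, 0, 0, 0, 2, 1, 1, 2, 0, 0, 0, 0, 0, 0, 0, 0, 0, 0, 2, 1, 1, 2, 1, 1, 2, 1, 2, 1, 0, 2, 1,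
   0, 0, 0, 0, 2, 1, 0, 0, 0, 0, 0, 0, 0, 2, 1, 1, 2, 1, 1, 0, 0, 2, 0, 0, 0, 2, 0, 0, 2, 1, 1, 0, 2, 1, 0, 2,
   1, 2, 0, 0, 2, 2, 0, 0, 0, 0, 0, 2, 1, 2, 2, 1, 0, 0, 0, 0, 2, 1, 1, 0, 2, 0, 0, 2, 1, 0, 2, 1, 0, 0, 0, 0,
   0, 0, 0, 0, 2, 1, 1, 2, 1, 1, 2, 1, 1, 0, 0, 0, 0, 2, 0, 0, 2, 2, 1, 2, 0, 0, 2, 0, 0, 0, 0, 0, 2, 1, 2, 1,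
   1, 0, 0, 0, 0, 2, 1, 1, 2, 0, 0, 0, 2, 1, 1, 2, 0, 0, 0, 2, 1, 2, 2, 0, 0, 0, 0, 0, 0, 0, 0, 2, 1, 1, 2, 1,
   1, 0, 0, 2, 2, 0, 0, 0, 0, 2, 1, 1, 2, 0, 0, 2, 1, 0, 0, 0, 2, 2, 1, 1, 0, 0, 2, 2, 0, 0, 0, 0, 0, 0, 2, 1,
   1, 2, 1, 1, 0, 2, 0, 0, 0, 0, 2, 1, 2, 2, 2, 0, 0, 0, 0, 2, 1, 0, 2, 0, 0, 0, 0, 2, 1, 1, 0, 2, 1, 0, 0, 0,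
   0, 0, 0, 0, 0, 0, 0, 2, 1, 1, 2, 1, 1, 2, 1, 1, 2, 2, 0, 0, 0, 2, 1, 1, 0, 2, 0, 0, 2, 2, 0, 0, 0, 0, 0, 0,
   2, 1, 2, 2, 1, 0, 0, 0, 0, 2, 1, 1, 0, 2, 1, 1, 0, 0, 0, 0, 2, 1, 2, 2, 0, 0, 0, 2, 2, 2, 0, 0, 0, 0, 0, 0,
   0, 2, 1, 1, 2, 2, 1, 2, 0, 0, 0, 0, 0, 0, 2, 1, 2, 1, 1, 0, 0, 2, 1, 1, 0, 0, 0, 0, 0, 2, 1, 1, 0, 2, 2, 0,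
   0, 0, 2, 1, 1, 2, 0, 0, 0, 0, 0, 0, 0, 0, 0, 2, 1, 1, 2, 1, 1, 0, 2, 1, 1, 0, 0, 2, 1, 2, 0, 0, 0, 0, 0, 2,
   1, 1, 2, 0, 0, 2, 1, 1, 0, 2, 0, 0, 0, 0, 2, 2, 2, 2, 0, 0, 0, 0, 0, 0, 0, 2, 1, 1, 2, 1, 1, 2, 0, 0, 2, 1,
   0, 2, 0, 0, 0, 2, 2, 2, 0, 0, 0, 0, 0, 2, 1, 1, 2, 2, 1, 0, 2, 0, 0, 0, 0, 0, 0, 0, 2, 1, 0, 2, 1, 1, 2, 0,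
   0, 2, 1, 2, 0, 0, 2, 0, 0, 0, 2, 1, 0, 2, 1, 1, 0, 2, 2, 0, 0, 0, 2, 1, 0, 0, 0, 0, 0, 0, 0, 0, 2, 1, 1, 2,
   1, 1, 2, 0, 0, 0, 2, 1, 1, 0, 0, 0, 0, 0, 2, 2, 1, 1, 2, 0, 0, 2, 1, 0, 0, 0, 2, 2, 0, 0, 0, 0, 0, 2, 1, 1,
   2, 1, 2, 1, 0, 0, 0, 2, 2, 1, 0, 0, 0, 0, 0, 2, 1, 2, 1, 0, 2, 0, 0, 0, 2, 2, 2, 1, 0, 0, 0, 0, 0, 0, 2, 1,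
   1, 2, 2, 2, 0, 0, 0, 0, 2, 1, 1, 2, 0, 0, 2, 0, 0, 0, 0, 2, 1, 1, 0, 2, 1, 2, 0, 0, 2, 0, 0, 0, 2, 1, 1, 0,
   0, 0, 0, 0, 0, 0, 0, 0, 2, 1, 1, 2, 1, 1, 2, 1, 1, 0, 0, 2, 1, 1, 0, 0, 2, 0, 0, 0, 0, 2, 1, 1, 2, 2, 0, 0,
   0, 2, 2, 1, 1, 0, 0, 2, 0, 0, 0, 0, 2, 1, 1, 0, 2, 0, 0, 0, 0, 0, 2, 1, 1, 2, 0, 0, 2, 1, 2, 1, 0, 2, 0, 0,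
   0, 0, 0, 2, 1, 1, 0, 2, 1, 0, 2, 0, 0, 0, 2, 1, 1, 0, 2, 1, 0, 0, 0, 2, 1, 0, 2, 1, 1, 0, 0, 0, 0, 0, 0, 0,
   0, 0, 2, 1, 1, 2, 1, 1, 2, 1, 2, 0, 0, 2, 1, 0, 0, 0, 0, 2, 1, 1, 2, 0, 0, 2, 0, 0, 0, 0, 2, 2, 1, 2, 0, 0,
   2, 0, 0, 0, 0, 0, 2, 1, 1, 2, 0, 0, 2, 1, 1, 0, 2, 2, 0, 0, 0, 2, 2, 0, 0, 0, 0, 2, 1, 1, 2, 2, 2, 0, 0, 0,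
   0, 0, 2, 2, 2, 0, 0, 0, 0, 0, 0, 2, 1, 1, 2, 1, 1, 0, 2, 0, 0, 2, 1, 1, 0, 0, 2, 0, 0, 0, 0, 2, 1, 1, 2, 1,
   1, 0, 0, 0, 0, 2, 1, 0, 2, 0, 0, 0, 2, 2, 1, 1, 0, 0, 2, 0, 0, 0, 0, 0, 2, 1, 1, 2, 0, 0, 0, 2, 1, 2, 0, 0,
   2, 1, 0, 0, 0, 0, 0, 0, 0, 2, 1, 1, 2, 1, 1, 2, 1, 1, 0, 0, 2, 0, 0, 0, 0, 0, 0, 2, 1, 1, 2, 1, 1, 0, 0, 2,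
   1, 1, 0, 0, 2, 0, 0, 0, 0, 2, 2, 1, 2, 2, 0, 0, 0, 2, 0, 0, 0, 0, 2, 1, 1, 2, 1, 2, 0, 0, 0, 0, 0, 2, 1, 2,
   1, 0, 2, 1, 0, 0, 0, 0, 2, 1, 2, 1, 1, 0, 0, 0, 0, 2, 0, 0, 0, 0, 0, 0, 2, 1, 1, 2, 1, 1, 0, 2, 0, 0, 2, 2,
   1, 0, 0, 0, 0, 0, 2, 1, 1, 0, 2, 1, 0, 0, 0, 2, 1, 2, 2, 1, 0, 0, 0, 0, 2, 1, 1, 2, 0, 0, 0, 2, 1, 1, 0, 0,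
   2, 1, 1, 0, 0, 0, 0, 0, 0, 0, 0, 2, 2, 1, 1, 2, 1, 2, 0, 0, 2, 1, 0, 0, 0, 0, 2, 1, 0, 0, 0, 0, 0, 0, 0, 0,
   0, 0, 2, 1, 1, 2, 1, 1, 2, 1, 1, 2, 1, 0, 2, 0, 0, 0, 2, 0, 0, 2, 1, 1, 2, 0, 0, 2, 1, 1, 0, 2, 0, 0, 0, 0,
   2, 1, 2, 2, 0, 0, 0, 2, 2, 1, 2, 0, 0, 0, 0, 0, 0, 0, 0, 2, 1, 1, 2, 2, 1, 0, 0, 0, 0, 2, 1, 1, 2, 1, 0, 2,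
   1, 0, 0, 0, 0, 0, 0, 0, 0, 0, 2, 2, 1, 2, 1, 0, 2, 1, 1, 0, 0, 0, 0, 0, 2, 1, 1, 0, 2, 0, 0, 2, 1, 1, 0, 2,
   2, 2, 2, 0, 0, 0, 0, 0, 2, 0, 0, 0, 0, 0, 0, 0, 2, 1, 1, 2, 1, 1, 2, 2, 0, 0, 0, 0, 2, 1, 1, 2, 1, 2, 0, 0,
   2, 0, 0, 0, 2, 2, 2, 2, 0, 0, 0, 0, 0, 2, 2, 1, 2, 2, 0, 0, 0, 2, 2, 0, 0, 0, 0, 0, 0, 0, 2, 1, 1, 2, 1, 1,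
   2, 0, 0, 2, 1, 0, 0, 0, 2, 1, 1, 2, 0, 0, 2, 0, 0, 0, 0, 0, 2, 1, 1, 2, 2, 1, 2, 0, 0, 0, 0, 0, 2, 1, 1, 0,
   0, 2, 1, 0, 0, 0, 0, 2, 2, 1, 0, 2, 1, 0, 2, 1, 0, 2, 0, 0, 0, 0, 0, 0, 0, 2, 1, 1, 2, 1, 2, 1, 0, 2, 1, 0,
   0, 0, 0, 2, 1, 2, 2, 0, 0, 0, 0, 0, 0, 2, 1, 0, 2, 1, 2, 2, 0, 0, 0, 2, 1, 2, 0, 0, 2, 0, 0, 0, 0, 0, 2, 0,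
   0, 0, 0, 2, 1, 1, 2, 1, 1, 0, 2, 1, 2, 1, 0, 2, 2, 0, 0, 0, 0, 2, 2, 0, 0, 0, 0, 2, 2, 2, 1, 2, 0, 0, 2, 1,
   0, 0, 0, 0, 0, 0, 0, 2, 2, 1, 1, 2, 2, 1, 2, 0, 0, 0, 0, 0, 0, 2, 2, 2, 1, 2, 0, 0, 2, 0, 0, 0, 0, 0, 0, 0,
   2, 1, 1, 2, 1, 1, 0, 2, 1, 2, 0, 0, 0, 0, 2, 2, 2, 0, 0, 0, 0, 0, 2, 1, 1, 2, 1, 1, 0, 0, 2, 0, 0, 0, 2, 1,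
   1, 2, 0, 0, 2, 1, 0, 0, 0, 2, 2, 1, 0, 0, 0, 0, 0, 2, 1, 1, 0, 0, 0, 0, 0, 2, 1, 1, 0, 2, 2, 1, 0, 2, 1, 1,
   0, 0, 2, 0, 0, 0, 0, 0, 2, 1, 1, 0, 2, 1, 1, 0, 0, 2, 1, 0, 0, 0, 0, 2, 1, 1, 2, 1, 0, 0, 0, 0, 0, 0, 0, 0,
   0, 0, 0, 2, 1, 1, 2, 1, 1, 2, 1, 1, 2, 1, 0, 0, 0, 2, 1, 0, 2, 2, 0, 0, 0, 0, 2, 1, 0, 2, 1, 2, 0, 0, 0, 0,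
   0, 0, 2, 1, 1, 2, 1, 1, 0, 2, 0, 0, 0, 0, 2, 1, 1, 0, 2, 0, 0, 0, 0, 2, 1, 2, 2, 0, 0, 0, 2, 1, 1, 0, 2, 1,
   0, 0, 0, 2, 0, 0, 0, 0, 0, 2, 1, 2, 1, 1, 2, 1, 0, 0, 0, 2, 1, 0, 2, 0, 0, 0, 2, 1, 0, 2, 1, 2, 0, 0, 0, 0,
   0, 0, 2, 1, 1, 2, 0, 0, 2, 1, 0, 2, 1, 0, 0, 0, 0, 2, 1, 1, 2, 0, 0, 2, 1, 2, 0, 0, 2, 2, 0, 0, 0, 0, 2, 1,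
   1, 2, 2, 0, 0, 0, 0, 0, 0, 0, 0, 0, 0, 2, 1, 1, 2, 1, 1, 2, 1, 0, 0, 0, 2, 1, 2, 0, 0, 2, 1, 0, 2, 0, 0, 0,
   0, 2, 2, 1, 1, 0, 0, 2, 1, 0, 0, 0, 0, 0, 0, 2, 1, 1, 2, 2, 1, 1, 0, 2, 0, 0, 2, 1, 0, 0, 0, 0, 0, 2, 1, 1,
   2, 1, 0, 0, 0, 2, 1, 0, 0, 0, 2, 1, 2, 0, 0, 0, 0, 0, 2, 1, 1, 2, 1, 2, 0, 0, 0, 0, 0, 2, 2, 2, 2, 0, 0, 0,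
   0, 0, 0, 0, 2, 1, 1, 2, 1, 1, 0, 0, 2, 1, 1, 2, 2, 0, 0, 0, 0, 2, 2, 0, 0, 0, 0, 0, 0, 2, 1, 1, 2, 1, 1, 2,
   0, 0, 0, 2, 2, 0, 0, 0, 0, 2, 1, 1, 2, 1, 0, 0, 0, 2, 1, 0, 2, 1, 1, 0, 2, 0, 0, 0, 0, 0, 2, 2, 2, 0, 0, 0,
   0, 0, 2, 1, 1, 0, 0, 2, 2, 1, 1, 0, 0, 0, 0, 0, 0, 0, 0, 0, 2, 1, 1, 2, 1, 1, 2, 2, 0, 0, 0, 2, 1, 1, 2, 1,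
   0, 0, 0, 2, 0, 0, 2, 1, 2, 1, 0, 0, 0, 2, 1, 0, 2, 1, 0, 0, 0, 0, 0, 0, 2, 1, 1, 2, 0, 0, 2, 1, 1, 0, 0, 2,
   1, 1, 0, 2, 0, 0, 2, 0, 0, 0, 0, 2, 1, 1, 0, 2, 1, 0, 0, 0, 2, 0, 0, 0, 0, 0, 2, 1, 1, 2, 1, 1, 2, 2, 0, 0,
   0, 0, 2, 2, 2, 1, 0, 0, 0, 0, 0, 0, 2, 1, 1, 2, 1, 0, 0, 0, 2, 0, 0, 2, 1, 1, 2, 0, 0, 2, 1, 2, 0, 0, 2, 1,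
   2, 0, 0, 0, 0, 0, 2, 1, 1, 0, 2, 0, 0, 2, 1, 0, 2, 1, 0, 2, 1, 0, 0, 0, 0, 0, 0, 0, 0, 2, 1, 1, 2, 1, 0, 0,
   0, 2, 1, 1, 2, 1, 0, 0, 0, 0, 2, 2, 2, 2, 0, 0, 0, 0, 0, 0, 2, 1, 1, 0, 2, 1, 2, 2, 0, 0, 0, 0, 0, 2, 1, 2,
   1, 0, 0, 0, 2, 1, 1, 0, 0, 2, 0, 0, 0, 0, 0, 0, 0, 2, 1, 1, 0, 2, 1, 1, 0, 2, 1, 2, 2, 0, 0, 0, 2, 0, 0, 0,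
   2, 1, 1, 2, 1, 0, 0, 0, 2, 1, 0, 2, 0, 0, 0, 2, 2, 0, 0, 0, 0, 0, 2, 1, 1, 2, 1, 2, 1, 2, 0, 0, 0, 0, 2, 1,
   0, 2, 1, 0, 2, 0, 0, 0, 0, 0, 2, 1, 1, 0, 2, 1, 2, 1, 0, 0, 0, 2, 1, 1, 0, 0, 0, 0, 0, 2, 1, 1, 2, 1, 0, 0,
   0, 2, 2, 1, 0, 0, 0, 0, 2, 1, 1, 2, 2, 0, 0, 0, 0, 2, 2, 0, 0, 0, 0, 0, 0, 0, 0, 0, 0, 0, 0, 0, 2, 1, 1, 2,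
   1, 1, 2, 1, 1, 2, 1, 1, 0, 2, 1, 1, 0, 0, 0, 0, 2, 1, 1, 0, 0, 2, 0, 0, 0, 0, 2, 1, 1, 2, 1, 1, 0, 0, 0, 0,
   2, 2, 1, 2, 0, 0, 2, 0, 0, 0, 0, 2, 0, 0, 0, 2, 1, 1, 2, 2, 1, 2, 0, 0, 2, 0, 0, 0, 0, 2, 1, 1, 0, 2, 0, 0,
   2, 1, 0, 0, 0, 0, 2, 1, 1, 2, 0, 0, 2, 0, 0, 2, 1, 1, 2, 0, 0, 2, 1, 1, 2, 0, 0, 2, 0, 0, 0, 0, 2, 1, 1, 0,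
   0, 2, 1, 1, 2, 0, 0, 0, 0, 0, 0, 0, 0, 0, 0, 2, 1, 1, 2, 2, 1, 1, 0, 2, 1, 0, 2, 0, 0, 0, 2, 2, 2, 1, 0, 0,
   0, 0, 0, 0, 0, 2, 2, 1, 2, 1, 1, 0, 2, 1, 0, 0, 0, 2, 2, 2, 0, 0, 0, 0, 0, 2, 1, 1, 2, 0, 0, 2, 0, 0, 2, 1,
   1, 2, 0, 0, 0, 2, 1, 1, 0, 2, 0, 0, 0, 0, 0, 0, 0, 0, 2, 1, 1, 2, 1, 1, 2, 2, 0, 0, 0, 2, 0, 0, 0, 0, 2, 1,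
   2, 2, 0, 0, 0, 2, 2, 2, 1, 0, 0, 0, 0, 0, 0, 2, 1, 1, 2, 1, 2, 1, 0, 0, 0, 2, 2, 2, 2, 0, 0, 0, 0, 0, 0, 2,
   2, 1, 2, 2, 0, 0, 0, 2, 2, 0, 0, 0, 0, 0, 2, 1, 1, 0, 2, 1, 0, 2, 1, 0, 0, 0, 0, 2, 1, 1, 0, 2, 1, 0, 2, 0,
   0, 0, 0, 0, 0, 0, 0, 0, 2, 1, 1, 2, 1, 1, 2, 1, 0, 2, 1, 1, 0, 0, 2, 1, 2, 0, 0, 0, 0, 0, 0, 2, 1, 2, 2, 0,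
   0, 0, 2, 1, 0, 2, 0, 0, 0, 0, 0, 0, 2, 2, 1, 1, 2, 1, 0, 0, 0, 2, 2, 1, 1, 0, 2, 0, 0, 0, 0, 0, 2, 1, 1, 2,
   2, 0, 0, 0, 0, 2, 2, 1, 0, 2, 0, 0, 0, 0, 0, 0, 0, 2, 1, 1, 0, 2, 1, 1, 2, 1, 2, 1, 0, 0, 0, 0, 0, 0, 2, 1,
   1, 2, 0, 0, 2, 2, 1, 1, 0, 0, 2, 0, 0, 0, 0, 2, 1, 1, 2, 0, 0, 2, 0, 0, 2, 1, 1, 2, 2, 0, 0, 0, 2, 0, 0, 2,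
   1, 2, 1, 0, 0, 0, 0, 0, 0, 0, 0, 0, 2, 1, 2, 1, 1, 2, 0, 0, 2, 1, 2, 0, 0, 2, 2, 0, 0, 0, 0, 2, 1, 1, 0, 2,
   1, 0, 0, 0, 0, 0, 0, 2, 1, 1, 0, 2, 2, 1, 2, 1, 0, 0, 0, 2, 1, 1, 0, 2, 0, 0, 0, 0, 0, 0, 2, 1, 1, 2, 2, 0,
   0, 0, 2, 2, 1, 0, 0, 0, 0, 0, 0, 0, 0, 0, 0, 0, 2, 1, 1, 2, 1, 1, 2, 1, 2, 1, 1, 0, 2, 0, 0, 2, 1, 1, 2, 0,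
   0, 0, 2, 1, 1, 0, 0, 0, 0, 0, 0, 2, 1, 1, 2, 2, 0, 0, 0, 2, 1, 0, 2, 1, 0, 0, 0, 0, 2, 2, 1, 1, 0, 2, 0, 0,
   2, 1, 2, 0, 0, 0, 0, 0, 0, 0, 0, 2, 1, 1, 2, 1, 0, 2, 1, 1, 0, 2, 0, 0, 0, 0, 0, 2, 1, 1, 2, 1, 0, 0, 0, 2,
   1, 1, 0, 2, 2, 0, 0, 0, 0, 0, 2, 1, 0, 2, 1, 0, 2, 0, 0, 0, 0, 0, 2, 1, 2, 2, 1, 0, 2, 2, 1, 0, 0, 0, 0, 0,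
   0, 2, 0, 0, 0, 0, 2, 1, 2, 1, 1, 0, 2, 0, 0, 2, 1, 1, 2, 0, 0, 0, 2, 1, 0, 2, 1, 0, 0, 0, 0, 0, 0, 2, 1, 1,
   2, 2, 1, 0, 0, 0, 0, 0, 2, 1, 1, 0, 0, 2, 0, 0, 0, 0, 0, 0, 2, 1, 1, 2, 2, 1, 1, 2, 0, 0, 2, 1, 1, 0, 2, 0,
   0, 2, 1, 1, 0, 2, 2, 0, 0, 0, 2, 0, 0, 0, 0, 0, 0, 0, 2, 1, 2, 1, 1, 2, 2, 1, 0, 0, 0, 0, 2, 2, 1, 1, 2, 0,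
   0, 0, 2, 2, 0, 0, 0, 0, 0, 2, 1, 1, 2, 2, 0, 0, 0, 0, 2, 2, 1, 0, 2, 1, 0, 2, 0, 0, 0, 0, 0, 0, 0, 2, 1, 1,
   0, 2, 2, 0, 0, 0, 2, 1, 2, 1, 1, 2, 0, 0, 2, 0, 0, 0, 0, 2, 0, 0, 0, 0, 0, 2, 1, 1, 2, 1, 1, 2, 0, 0, 0, 2,
   1, 1, 0, 2, 1, 0, 2, 0, 0, 0, 2, 0, 0, 0, 0, 0, 2, 1, 1, 2, 1, 1, 0, 2, 0, 0, 2, 2, 0, 0, 0, 0, 2, 1, 1, 0,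
   2, 2, 0, 0, 0, 2, 1, 1, 2, 0, 0, 2, 2, 0, 0, 0, 2, 2, 0, 0, 0, 0, 0, 2, 1, 2, 1, 1, 2, 0, 0, 0, 2, 1, 2, 0,
   0, 2, 1, 0, 2, 0, 0, 0, 0, 0, 2, 1, 1, 2, 1, 2, 0, 0, 0, 0, 2, 1, 2, 0, 0, 2, 1, 0, 2, 2, 0, 0, 0, 0, 0, 2,
   1, 2, 0, 0, 0, 0, 0, 0, 0, 0, 0, 2, 1, 1, 2, 1, 1, 2, 1, 1, 2, 0, 0, 0, 2, 1, 0, 0, 0, 0, 2, 1, 1, 0, 0, 2,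
   1, 1, 2, 2, 0, 0, 0, 2, 1, 0, 2, 2, 0, 0, 0, 0, 2, 1, 1, 0, 2, 0, 0, 2, 2, 0, 0, 0, 0, 0, 0, 2, 1, 1, 2, 1,
   1, 0, 2, 2, 0, 0, 0, 0, 0, 2, 1, 1, 2, 1, 0, 0, 0, 2, 0, 0, 2, 2, 2, 2, 0, 0, 0, 0, 0, 0, 0, 0, 0, 2, 1, 1,
   2, 1, 1, 2, 0, 0, 2, 1, 1, 0, 2, 0, 0, 0, 0, 0, 0, 2, 1, 1, 2, 1, 0, 0, 0, 2, 1, 1, 2, 1, 1, 0, 0, 2, 0, 0,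
   0, 2, 1, 0, 0, 0, 2, 1, 1, 0, 2, 0, 0, 0, 0, 0, 2, 1, 1, 0, 2, 1, 1, 0, 0, 2, 1, 2, 0, 0, 2, 0, 0, 0, 0, 2,
   1, 1, 2, 0, 0, 2, 1, 2, 0, 0, 2, 0, 0, 0, 2, 0, 0, 0, 0, 0, 2, 1, 1, 2, 1, 2, 1, 0, 2, 0, 0, 0, 2, 0, 0, 0,
   2, 1, 1, 2, 1, 1, 0, 0, 0, 0, 0, 2, 1, 0, 2, 0, 0, 0, 0, 2, 1, 1, 2, 2, 0, 0, 0, 2, 1, 1, 0, 2, 2, 0, 0, 0,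
   0, 0, 2, 1, 1, 0, 2, 1, 0, 2, 2, 0, 0, 0, 0, 0, 0, 0, 0, 0, 2, 1, 1, 2, 1, 1, 0, 2, 1, 2, 0, 0, 2, 1, 1, 2,
   0, 0, 0, 0, 0, 0, 2, 2, 1, 0, 2, 1, 1, 0, 2, 0, 0, 2, 1, 1, 0, 0, 0, 0, 0, 0, 0, 0, 2, 1, 2, 1, 1, 0, 2, 1,
   2, 0, 0, 2, 0, 0, 0, 2, 1, 0, 0, 0, 0, 2, 1, 1, 2, 1, 0, 2, 1, 0, 2, 0, 0, 0, 0, 2, 1, 1, 0, 2, 1, 1, 0, 0,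
   0, 0, 2, 0, 0, 0, 2, 1, 1, 2, 0, 0, 2, 1, 0, 2, 1, 0, 2, 1, 2, 0, 0, 0, 0, 0, 0, 2, 1, 2, 1, 0, 2, 0, 0, 0,
   2, 1, 1, 0, 0, 0, 0, 0, 0, 0, 0, 2, 1, 1, 2, 1, 2, 1, 2, 1, 2, 0, 0, 0, 0, 2, 1, 1, 0, 2, 2, 0, 0, 0, 0, 0,
   0, 0, 0, 2, 1, 1, 0, 0, 0, 0, 2, 1, 1, 2, 1, 1, 0, 0, 2, 1, 1, 0, 2, 0, 0, 2, 0, 0, 0, 0, 2, 1, 1, 0, 2, 1,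
   0, 0, 0, 2, 1, 2, 0, 0, 2, 1, 1, 2, 0, 0, 2, 1, 0, 0, 0, 2, 2, 0, 0, 0, 0, 0, 0, 2, 0, 0, 0, 0, 0, 0, 0, 2,
   1, 1, 2, 1, 1, 2, 1, 1, 0, 2, 1, 1, 0, 2, 1, 0, 0, 0, 2, 1, 1, 0, 2, 1, 0, 0, 0, 2, 1, 2, 0, 0, 0, 0, 0, 0,
   2, 1, 1, 2, 1, 0, 2, 1, 0, 0, 0, 0, 2, 1, 1, 2, 0, 0, 2, 0, 0, 0, 0, 2, 1, 2, 0, 0, 2, 1, 2, 0, 0, 2, 1, 0,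
   2, 0, 0, 0, 0, 0, 0, 0, 0, 2, 1, 1, 2, 1, 1, 2, 1, 1, 0, 2, 0, 0, 2, 0, 0, 0, 2, 2, 2, 0, 0, 0, 0, 2, 1, 1,
   0, 2, 0, 0, 0, 0, 0, 2, 2, 1, 2, 1, 2, 0, 0, 0, 0, 2, 1, 2, 0, 0, 0, 0, 0, 0, 2, 1, 1, 2, 1, 0, 2, 0, 0, 0,
   2, 1, 2, 1, 2, 2, 0, 0, 0, 2, 1, 2, 0, 0, 0, 0, 0, 2, 2, 1, 1, 2, 0, 0, 2, 2, 2, 0, 0, 0, 0, 0, 0, 0, 0, 2,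
   1, 1, 2, 2, 1, 1, 0, 0, 0, 0, 0, 2, 1, 1, 2, 0, 0, 0, 0, 0, 2, 1, 1, 2, 2, 0, 0, 0, 2, 1, 2, 2, 0, 0, 0, 2,
   0, 0, 0, 2, 1, 1, 2, 0, 0, 2, 0, 0, 0, 0, 0, 0, 0, 0, 0, 2, 1, 1, 2, 1, 1, 2, 1, 1, 2, 2, 0, 0, 0, 2, 1, 0,
   0, 0, 2, 1, 1, 0, 2, 0, 0, 0, 0, 0, 2, 1, 1, 2, 1, 2, 0, 0, 0, 0, 2, 1, 1, 0, 2, 0, 0, 2, 1, 2, 2, 0, 0, 0,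
   2, 2, 0, 0, 0, 0, 0, 0, 0, 2, 1, 1, 0, 2, 1, 1, 2, 1, 0, 2, 0, 0, 0, 2, 1, 0, 2, 1, 0, 0, 0, 0, 2, 1, 0, 2,
   1, 1, 0, 0, 2, 1, 0, 0, 0, 0, 0, 0, 2, 2, 2, 1, 1, 0, 0, 2, 0, 0, 0, 0, 0, 0, 0, 2, 1, 1, 2, 1, 2, 1, 1, 0,
   0, 0, 0, 2, 1, 1, 2, 1, 0, 0, 0, 2, 1, 0, 0, 0, 2, 1, 1, 0, 0, 0, 0, 0, 0, 2, 1, 2, 1, 1, 2, 0, 0, 2, 1, 1,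
   0, 0, 0, 0, 2, 2, 1, 1, 0, 0, 0, 0, 0, 0, 2, 1, 1, 2, 1, 0, 0, 0, 2, 2, 0, 0, 0, 0, 0, 0, 2, 1, 2, 1, 1, 0,
   2, 0, 0, 2, 1, 1, 0, 0, 2, 0, 0, 0, 0, 2, 1, 1, 2, 1, 1, 0, 2, 0, 0, 2, 2, 1, 0, 0, 0, 0, 0, 0, 2, 1, 1, 2,
   1, 0, 2, 2, 0, 0, 0, 0, 2, 1, 1, 0, 2, 0, 0, 0, 0, 2, 2, 0, 0, 0, 0, 0, 0, 0, 0, 0, 2, 1, 1, 2, 1, 1, 2, 1,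
   1, 2, 1, 0, 0, 0, 2, 1, 1, 0, 0, 2, 1, 0, 2, 0, 0, 0, 0, 2, 2, 1, 0, 0, 0, 0, 0, 0, 2, 1, 1, 2, 1, 1, 0, 2,
   0, 0, 2, 2, 1, 2, 0, 0, 2, 0, 0, 0, 0, 0, 2, 2, 1, 1, 2, 2, 0, 0, 0, 0, 2, 1, 1, 0, 2, 0, 0, 2, 0, 0, 0, 0,
   0, 2, 1, 1, 0, 2, 1, 0, 2, 1, 1, 0, 2, 2, 0, 0, 0, 2, 0, 0, 0, 0, 2, 1, 1, 2, 2, 0, 0, 0, 2, 1, 2, 0, 0, 0,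
   0, 2, 1, 1, 2, 0, 0, 0, 2, 1, 1, 0, 2, 1, 0, 0, 0, 0, 0, 0, 0, 0, 0, 0, 2, 1, 1, 2, 1, 1, 0, 0, 2, 1, 1, 2,
   1, 1, 2, 1, 0, 0, 0, 2, 0, 0, 2, 1, 0, 0, 0, 0, 2, 1, 1, 0, 0, 2, 1, 0, 0, 0, 0, 2, 1, 2, 1, 1, 0, 2, 0, 0,
   0, 0, 0, 0, 0, 0, 2, 1, 1, 0, 2, 0, 0, 2, 1, 1, 2, 1, 1, 0, 0, 2, 1, 0, 2, 0, 0, 0, 0, 2, 1, 2, 0, 0, 2, 1,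
   0, 2, 0, 0, 0, 0, 2, 1, 1, 2, 1, 0, 2, 0, 0, 0, 2, 1, 0, 2, 2, 1, 0, 0, 0, 0, 0, 0, 0, 0, 0, 2, 1, 1, 2, 1,
   0, 2, 2, 2, 2, 1, 0, 0, 0, 0, 0, 0, 0, 2, 1, 1, 2, 1, 1, 0, 2, 2, 0, 0, 0, 2, 1, 0, 2, 0, 0, 0, 0, 2, 1, 1,
   0, 2, 0, 0, 2, 1, 2, 0, 0, 2, 0, 0, 0, 0, 2, 1, 1, 0, 2, 1, 1, 0, 2, 1, 0, 2, 0, 0, 0, 2, 1, 1, 0, 2, 0, 0,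
   2, 0, 0, 0, 0, 2, 2, 1, 1, 2, 0, 0, 2, 0, 0, 2, 1, 0, 0, 0, 0, 0, 0, 0, 2, 1, 1, 2, 1, 1, 0, 2, 2, 0, 0, 0,
   0, 0, 2, 1, 1, 2, 1, 1, 0, 0, 0, 0, 2, 1, 2, 0, 0, 0, 0, 2, 1, 2, 2, 0, 0, 0, 0, 0, 0, 2, 1, 1, 2, 0, 0, 2,
   2, 0, 0, 0, 2, 1, 1, 2, 1, 1, 0, 0, 2, 0, 0, 0, 2, 1, 2, 0, 0, 0, 0, 2, 1, 1, 0, 2, 1, 1, 0, 0, 0, 0, 0, 0,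
   0, 0, 0, 0, 0, 2, 1, 1, 2, 1, 1, 2, 1, 1, 2, 0, 0, 0, 0, 0, 2, 1, 1, 2, 2, 0, 0, 0, 2, 2, 2, 0, 0, 0, 0, 2,
   1, 1, 2, 0, 0, 0, 2, 2, 1, 0, 0, 0, 0, 0, 0, 2, 1, 1, 2, 1, 1, 0, 0, 0, 0, 0, 2, 1, 1, 2, 1, 0, 0, 0, 2, 1,
   2, 0, 0, 2, 2, 0, 0, 0, 0, 2, 1, 1, 2, 0, 0, 2, 1, 0, 0, 0, 0, 0, 0, 0, 0, 2, 1, 1, 2, 1, 1, 0, 2, 1, 1, 2,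
   1, 0, 0, 0, 0, 0, 0, 2, 1, 1, 2, 0, 0, 2, 2, 0, 0, 0, 0, 0, 0, 2, 1, 2, 0, 0, 2, 1, 1, 2, 2, 1, 0, 2, 0, 0,
   0, 0, 2, 1, 1, 2, 0, 0, 0, 2, 2, 2, 0, 0, 0, 0, 0, 2, 1, 1, 0, 0, 2, 2, 2, 0, 0, 0, 0, 0, 0, 0, 2, 1, 1, 2,
   2, 1, 1, 2, 0, 0, 2, 0, 0, 2, 2, 0, 0, 0, 0, 0, 2, 1, 1, 2, 1, 2, 0, 0, 0, 0, 2, 0, 0, 2, 1, 1, 2, 0, 0, 0,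
   2, 0, 0, 0, 0, 2, 1, 1, 0, 2, 1, 1, 2, 0, 0, 2, 0, 0, 0, 0, 2, 1, 1, 2, 2, 0, 0, 0, 2, 1, 1, 0, 2, 2, 0, 0,
   0, 2, 1, 0, 0, 0, 0, 2, 2, 1, 2, 2, 0, 0, 0, 0, 0, 0, 0, 0, 0, 0, 2, 1, 1, 2, 1, 1, 0, 0, 2, 1, 1, 2, 0, 0,
   2, 2, 0, 0, 0, 2, 2, 2, 0, 0, 0, 0, 0, 0, 2, 1, 1, 2, 1, 2, 1, 0, 0, 0, 2, 2, 1, 0, 0, 0, 0, 0, 2, 1, 1, 2,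
   1, 2, 0, 0, 0, 0, 2, 0, 0, 2, 1, 1, 2, 0, 0, 0, 2, 1, 2, 2, 1, 0, 0, 0, 0, 2, 1, 0, 0, 0, 0, 0, 0, 2, 1, 2,
   1, 1, 2, 0, 0, 2, 1, 2, 1, 0, 0, 0, 0, 0, 2, 1, 2, 2, 0, 0, 0, 2, 1, 0, 0, 0, 0, 0, 2, 1, 1, 2, 1, 0, 0, 0,
   2, 1, 1, 2, 0, 0, 0, 0, 0, 2, 1, 0, 2, 1, 0, 0, 0, 0, 0, 0, 0, 2, 1, 1, 2, 1, 1, 2, 0, 0, 2, 1, 2, 1, 0, 0,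
   0, 0, 0, 0, 0, 2, 1, 1, 2, 1, 0, 0, 0, 2, 1, 1, 2, 0, 0, 2, 1, 0, 2, 0, 0, 0, 2, 0, 0, 0, 2, 1, 2, 1, 0, 0,
   0, 2, 1, 2, 2, 1, 0, 2]

theorem s1o3_run : orbCount trioAct (trioKey 1411235) sGens s1o3I [16940424762527]
    (Nat.shiftLeft 1 (trioKey 1411235 16940424762527)) 1 = 3360 := by
  decide +kernel

theorem s1o3_v : trioValid 16940424762527 := (trioValid_iff _).2 (by decide +kernel)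

theorem s1o3_le : 3360 ≤ (MulAction.orbit ↥(MulAction.stabilizer ↥M24 (setM oct0)) (trioDec 16940424762527)).ncard :=
  trio_orbit_le _ 1411235 (gens_of_setOK sGens_ok) s1o3_v s1o3_run (by norm_num)

theorem s1o3_e : trioDec 16940424762527 = famOf [5279, 1009728, 15762208] := trioDec_eq_famOf s1o3_v

theorem s1_orbits : Orbits3 (setM oct0) trios 15 420 3360 := by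
  refine orbits3_of_lower (setM oct0) trios (fun g hg x hx => smul_mem_trios hg hx)
    (trioDec_mem s1o1_v) (trioDec_mem s1o2_v) (trioDec_mem s1o3_v)
    s1o1_le s1o2_le s1o3_le
    (by rw [Helper26.trios_ncard]) ?_ ?_ ?_
  · exact not_orbit_of_interB (zs := [8536111]) (xs := [337856, 7903248, 8536111]) (xs' := [5279, 4038912, 12733024])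
      (fun g h => fam_of_set g h) (fam_of_eq s1o1_e s1o2_e)
      (by decide +kernel) (by decide +kernel) (by decide +kernel) 4 (by decide +kernel)
  · exact not_orbit_of_interB (zs := [8536111]) (xs := [337856, 7903248, 8536111]) (xs' := [5279, 1009728, 15762208])
      (fun g h => fam_of_set g h) (fam_of_eq s1o1_e s1o3_e)
      (by decide +kernel) (by decide +kernel) (by decide +kernel) 0 (by decide +kernel)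
  · exact not_orbit_of_interB (zs := [8536111]) (xs := [5279, 4038912, 12733024]) (xs' := [5279, 1009728, 15762208])
      (fun g h => fam_of_set g h) (fam_of_eq s1o2_e s1o3_e)
      (by decide +kernel) (by decide +kernel) (by decide +kernel) 0 (by decide +kernel)

def s2o1I : List Nat :=
  [1, 1, 2, 1, 1, 2, 0, 0, 2, 1, 1, 0, 0, 2, 0, 0, 0, 2, 2, 1, 0, 0, 0, 0, 0, 2, 0, 0, 2, 1, 1, 2, 1, 2, 0, 0,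
   2, 0, 0, 0, 2, 1, 1, 0, 0, 0, 0, 2, 1, 0, 2, 1, 1, 2, 0, 0, 0, 2, 1, 0, 2, 2]

theorem s2o1_run : orbCount pullMask syn sGens s2o1I [15]
    (Nat.shiftLeft 1 (syn 15)) 1 = 35 := by
  decide +kernel

theorem s2o1_v : tetValid 15 := (tetValid_iff _).2 (by decide +kernel)

theorem s2o1_le : 35 ≤ (MulAction.orbit ↥(MulAction.stabilizer ↥M24 (setM oct0)) (sextDec 15)).ncard :=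
  sext_orbit_le _ (gens_of_setOK sGens_ok) s2o1_v s2o1_run (by norm_num)

theorem s2o1_e : sextDec 15 = famOf [15, 5264, 622848, 3416064, 4196928, 8536096] :=
  sextDec_eq_famOf s2o1_v (by decide +kernel)

def s2o2I : List Nat :=
  [1, 1, 2, 1, 2, 1, 1, 2, 1, 1, 0, 2, 1, 0, 2, 1, 2, 0, 0, 0, 0, 0, 2, 1, 2, 1, 0, 2, 2, 0, 0, 0, 0, 2, 2, 1,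
   0, 2, 0, 0, 0, 0, 0, 0, 2, 1, 1, 2, 1, 1, 0, 2, 2, 0, 0, 0, 2, 1, 0, 0, 0, 0, 2, 0, 0, 2, 2, 1, 1, 0, 2, 2,
   1, 0, 0, 0, 0, 2, 1, 2, 0, 0, 0, 0, 0, 0, 0, 2, 1, 1, 2, 1, 0, 2, 1, 0, 2, 2, 0, 0, 0, 0, 0, 2, 1, 2, 1, 0,
   2, 1, 1, 0, 0, 0, 0, 0, 2, 1, 1, 2, 0, 0, 2, 1, 0, 2, 0, 0, 0, 2, 1, 1, 2, 0, 0, 0, 0, 0, 0, 0, 2, 1, 2, 1,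
   2, 1, 0, 0, 0, 2, 0, 0, 0, 2, 1, 1, 2, 2, 1, 0, 2, 0, 0, 0, 0, 2, 2, 1, 0, 2, 0, 0, 0, 0, 2, 1, 1, 2, 2, 0,
   0, 0, 0, 2, 1, 2, 0, 0, 0, 0, 0, 0, 0, 0, 0, 2, 1, 1, 2, 1, 1, 2, 2, 2, 0, 0, 0, 0, 0, 2, 1, 1, 2, 0, 0, 2,
   1, 1, 0, 0, 2, 0, 0, 0, 2, 1, 1, 0, 0, 2, 2, 0, 0, 0, 0, 0, 0, 2, 1, 2, 1, 1, 0, 0, 2, 1, 2, 1, 0, 2, 0, 0,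
   0, 2, 2, 1, 1, 0, 0, 0, 0, 0, 0, 0, 2, 1, 1, 0, 2, 1, 2, 2, 2, 0, 0, 0, 0, 0, 0, 2, 2, 1, 1, 0, 2, 2, 0, 0,
   0, 2, 1, 1, 0, 2, 0, 0, 0, 0, 0, 0, 0, 0, 2, 1, 1, 2, 1, 1, 0, 2, 0, 0, 2, 1, 2, 0, 0, 2, 1, 0, 2, 1, 1, 0,
   0, 2, 2, 0, 0, 0, 0, 0, 0, 0, 2, 1, 1, 2, 1, 1, 0, 2, 0, 0, 2, 0, 0, 0, 2, 1, 1, 0, 2, 1, 1, 0, 0, 0, 0, 2,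
   1, 0, 2, 0, 0, 0, 0, 2, 1, 1, 2, 2, 1, 0, 0, 0, 0, 2, 0, 0, 2, 2, 0, 0, 0, 0, 0, 2, 1, 1, 0, 2, 1, 1, 0, 2,
   1, 2, 2, 0, 0, 0, 0, 0, 0, 0, 2, 1, 1, 2, 1, 0, 2, 1, 0, 0, 0, 0, 0, 2, 0, 0, 0, 0, 0, 0, 0, 2, 2, 1, 1, 2,
   1, 1, 2, 1, 1, 0, 0, 2, 1, 0, 0, 0, 0, 2, 1, 1, 2, 0, 0, 0, 2, 2, 2, 0, 0, 0, 0, 0, 2, 1, 2, 2, 2, 0, 0, 0,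
   0, 2, 1, 2, 1, 0, 0, 0, 2, 1, 1, 0, 0, 2, 1, 0, 2, 1, 0, 0, 0, 0, 0, 0, 0, 0, 2, 1, 1, 2, 1, 1, 0, 2, 2, 0,
   0, 0, 2, 2, 1, 1, 0, 0, 2, 1, 0, 0, 0, 0, 0, 0, 2, 1, 1, 2, 1, 1, 2, 0, 0, 2, 0, 0, 2, 1, 0, 0, 0, 0, 2, 1,
   2, 0, 0, 2, 0, 0, 0, 2, 2, 1, 0, 2, 1, 2, 0, 0, 2, 0, 0, 0, 0, 0, 0, 2, 1, 1, 2, 1, 0, 2, 0, 0, 0, 0, 2, 2,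
   1, 1, 0, 2, 1, 0, 2, 2, 1, 0, 0, 0, 0, 0, 2, 1, 2, 0, 0, 2, 1, 0, 0, 0, 0, 0, 0, 0, 0, 2, 1, 1, 2, 1, 1, 2,
   2, 0, 0, 0, 2, 2, 2, 1, 0, 2, 0, 0, 0, 0, 0, 0, 0, 2, 1, 1, 0, 2, 2, 1, 1, 0, 0, 2, 1, 1, 0, 2, 0, 0, 2, 0,
   0, 0, 0, 0, 2, 1, 1, 2, 1, 1, 0, 0, 2, 0, 0, 0, 2, 1, 1, 0, 0, 0, 0, 2, 1, 2, 2, 1, 2, 0, 0, 0, 0, 0, 2, 1,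
   0, 2, 0, 0, 0, 0, 0, 0, 2, 1, 1, 2, 1, 2, 1, 0, 2, 0, 0, 0, 2, 1, 2, 2, 0, 0, 0, 2, 1, 2, 0, 0, 0, 0, 0, 0,
   2, 2, 1, 1, 0, 0, 2, 2, 1, 2, 0, 0, 0, 0, 0, 0, 0, 2, 1, 1, 2, 1, 1, 0, 2, 1, 0, 0, 0, 2, 0, 0, 0, 2, 1, 1,
   2, 1, 0, 0, 0, 0, 2, 1, 1, 0, 2, 1, 0, 0, 0, 2, 1, 0, 2, 0, 0, 0, 0, 0, 2, 1, 1, 2, 2, 1, 0, 0, 0, 0, 2, 1,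
   1, 2, 2, 0, 0, 0, 2, 2, 0, 0, 0, 2, 1, 0, 0, 0, 0, 0, 0, 0, 0, 0, 0, 0, 2, 1, 1, 2, 1, 1, 2, 1, 1, 0, 2, 1,
   1, 0, 2, 1, 0, 2, 1, 0, 0, 0, 0, 2, 1, 0, 2, 1, 0, 0, 0, 0, 0, 2, 1, 2, 1, 1, 2, 0, 0, 0, 0, 0, 2, 1, 0, 2,
   0, 0, 0, 0, 0, 2, 2, 1, 1, 2, 1, 0, 2, 1, 2, 0, 0, 0, 0, 0, 2, 1, 1, 0, 0, 2, 0, 0, 0, 2, 2, 1, 2, 0, 0, 2,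
   0, 0, 0, 0, 0, 0, 2, 1, 1, 0, 2, 1, 1, 2, 1, 2, 0, 0, 0, 0, 2, 0, 0, 2, 1, 1, 2, 0, 0, 0, 2, 1, 0, 0, 0, 0,
   0, 2, 1, 2, 1, 1, 0, 0, 2, 2, 2, 1, 0, 0, 0, 0, 0, 0, 2, 1, 1, 0, 2, 1, 1, 2, 0, 0, 2, 0, 0, 0, 0, 2, 2, 1,
   1, 2, 0, 0, 0, 0, 0, 0, 0, 0, 0, 0, 2, 1, 1, 2, 1, 1, 2, 1, 1, 0, 2, 2, 2, 0, 0, 0, 0, 2, 2, 0, 0, 0, 0, 2,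
   1, 1, 2, 0, 0, 0, 2, 1, 2, 0, 0, 0, 0, 0, 2, 1, 1, 2, 0, 0, 2, 1, 1, 2, 1, 0, 2, 0, 0, 0, 0, 2, 0, 0, 0, 0,
   0, 0, 2, 1, 1, 0, 0, 2, 1, 1, 2, 1, 0, 0, 0, 2, 1, 1, 2, 1, 1, 0, 0, 0, 0, 2, 1, 0, 0, 0, 2, 0, 0, 0, 2, 1,
   1, 2, 1, 0, 2, 0, 0, 0, 0, 2, 1, 1, 0, 0, 2, 1, 2, 0, 0, 0, 0, 0, 0, 0, 0, 2, 1, 1, 2, 1, 0, 2, 1, 0, 0, 0,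
   0, 2, 1, 1, 0, 2, 1, 1, 2, 0, 0, 0, 2, 1, 0, 2, 2, 1, 0, 0, 0, 0, 0, 0, 2, 1, 1, 0, 2, 1, 1, 0, 2, 0, 0, 2,
   0, 0, 0, 2, 1, 2, 1, 0, 2, 1, 0, 0, 0, 0, 2, 2, 1, 0, 0, 0, 0, 0, 0, 0, 2, 1, 1, 2, 1, 1, 2, 2, 0, 0, 0, 2,
   1, 1, 0, 0, 2, 2, 0, 0, 0, 0, 2, 0, 0, 0, 2, 0, 0, 2, 1, 1, 2, 1, 1, 0, 0, 0, 0, 2, 1, 1, 0, 0, 2, 1, 1, 2,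
   2, 0, 0, 0, 2, 1, 0, 0, 0, 2, 1, 1, 0, 0, 2, 2, 2, 0, 0, 0, 0, 0, 0, 0, 2, 1, 1, 2, 1, 0, 0, 0, 2, 1, 1, 0,
   0, 2, 2, 0, 0, 0, 0, 2, 1, 1, 2, 1, 0, 0, 0, 0, 0, 0, 0, 0, 0, 0, 0, 2, 1, 1, 2, 1, 0, 2, 1, 1, 0, 2, 1, 1,
   0, 2, 1, 0, 0, 0, 0, 0, 2, 1, 1, 2, 2, 1, 0, 0, 0, 0, 2, 1, 2, 0, 0, 2, 2, 0, 0, 0, 0, 2, 1, 1, 0, 2, 0, 0,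
   0, 0, 0, 0, 0, 2, 1, 1, 2, 1, 1, 0, 2, 2, 0, 0, 0, 2, 2, 2, 2, 0, 0, 0, 0, 0, 0, 2, 1, 1, 0, 2, 1, 1, 2, 0,
   0, 2, 1, 0, 0, 0, 2, 1, 0, 0, 0, 0, 2, 1, 1, 0, 2, 2, 2, 0, 0, 0, 0, 2, 1, 1, 0, 2, 2, 2, 0, 0, 0, 0, 0, 0,
   0, 0, 2, 1, 1, 0, 2, 2, 1, 2, 1, 2, 0, 0, 0, 0, 2, 1, 1, 2, 0, 0, 0, 2, 1, 0, 2, 0, 0, 0, 0, 0, 0, 2, 2, 2,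
   0, 0, 0, 0, 0, 0, 2, 1, 1, 2, 1, 1, 0, 2, 1, 1, 0, 2, 1, 1, 0, 2, 2, 0, 0, 0, 0, 0, 2, 1, 0, 0, 0, 0, 2, 1,
   1, 2, 1, 1, 0, 0, 0, 0, 2, 2, 0, 0, 0, 2, 1, 1, 0, 2, 1, 2, 1, 0, 0, 0, 0, 0, 2, 1, 1, 0, 2, 1, 0, 0, 0, 2,
   1, 2, 2, 0, 0, 0, 0, 0, 0, 0, 0, 0, 2, 1, 1, 2, 1, 1, 0, 2, 0, 0, 2, 1, 0, 0, 0, 0, 2, 1, 1, 2, 0, 0, 2, 2,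
   1, 1, 0, 2, 0, 0, 0, 0, 0, 2, 2, 1, 0, 2, 0, 0, 0, 0, 0, 2, 1, 1, 2, 1, 1, 0, 2, 0, 0, 0, 0, 2, 2, 1, 0, 2,
   2, 0, 0, 0, 0, 0, 2, 1, 1, 2, 1, 0, 0, 0, 2, 1, 1, 0, 2, 0, 0, 0, 0, 2, 2, 0, 0, 0, 0, 0, 0, 2, 1, 1, 2, 1,
   1, 0, 0, 2, 1, 1, 2, 0, 0, 2, 2, 1, 0, 2, 0, 0, 0, 0, 2, 0, 0, 0, 0, 0, 2, 2, 1, 1, 2, 1, 0, 2, 2, 1, 0, 2,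
   0, 0, 0, 0, 0, 2, 1, 1, 0, 2, 2]

theorem s2o2_run : orbCount pullMask syn sGens s2o2I [83]
    (Nat.shiftLeft 1 (syn 83)) 1 = 840 := by
  decide +kernel

theorem s2o2_v : tetValid 83 := (tetValid_iff _).2 (by decide +kernel)

theorem s2o2_le : 840 ≤ (MulAction.orbit ↥(MulAction.stabilizer ↥M24 (setM oct0)) (sextDec 83)).ncard :=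
  sext_orbit_le _ (gens_of_setOK sGens_ok) s2o2_v s2o2_run (by norm_num)

theorem s2o2_e : sextDec 83 = famOf [83, 272512, 1065220, 2162728, 4752384, 8524288] :=
  sextDec_eq_famOf s2o2_v (by decide +kernel)

def s2o3I : List Nat :=
  [1, 1, 2, 1, 1, 2, 1, 1, 2, 1, 2, 1, 0, 0, 0, 2, 1, 1, 0, 0, 2, 0, 0, 0, 0, 2, 1, 1, 2, 0, 0, 2, 1, 1, 0, 0,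
   2, 0, 0, 0, 2, 1, 1, 0, 2, 2, 0, 0, 0, 2, 0, 0, 0, 0, 2, 1, 1, 0, 2, 1, 1, 0, 0, 2, 2, 0, 0, 0, 0, 2, 1, 2,
   2, 1, 0, 2, 0, 0, 0, 0, 2, 2, 2, 1, 0, 0, 0, 0, 0, 0, 0, 0, 2, 1, 1, 2, 1, 1, 2, 0, 0, 2, 2, 2, 1, 0, 0, 0,
   0, 0, 2, 1, 1, 0, 0, 2, 1, 0, 2, 1, 1, 0, 0, 0, 0, 0, 0, 0, 2, 1, 1, 2, 1, 0, 2, 1, 0, 2, 0, 0, 0, 0, 0, 0,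
   0, 2, 1, 1, 2, 1, 2, 1, 1, 0, 0, 2, 0, 0, 0, 2, 1, 2, 0, 0, 2, 1, 0, 0, 0, 0, 0, 2, 1, 1, 0, 2, 1, 0, 0, 0,
   2, 1, 1, 2, 2, 2, 0, 0, 0, 0, 2, 0, 0, 2, 2, 0, 0, 0, 0, 0, 2, 1, 1, 2, 2, 2, 0, 0, 0, 0, 2, 1, 0, 2, 1, 2,
   0, 0, 2, 0, 0, 0, 0, 2, 1, 2, 2, 2, 0, 0, 0, 0, 2, 1, 0, 0, 0, 0, 0, 0, 0, 2, 1, 1, 2, 1, 1, 0, 2, 2, 0, 0,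
   0, 2, 1, 1, 2, 0, 0, 2, 1, 0, 0, 0, 2, 1, 1, 0, 0, 2, 0, 0, 0, 0, 0, 2, 1, 1, 2, 1, 2, 2, 2, 0, 0, 0, 0, 2,
   1, 1, 2, 0, 0, 2, 0, 0, 0, 0, 0, 2, 1, 1, 2, 1, 0, 0, 0, 2, 2, 2, 0, 0, 0, 0, 2, 1, 2, 0, 0, 2, 1, 1, 0, 0,
   0, 0, 0, 0, 2, 1, 2, 1, 1, 2, 2, 0, 0, 0, 2, 0, 0, 2, 2, 0, 0, 0, 0, 0, 0, 0, 2, 1, 1, 2, 1, 1, 2, 2, 0, 0,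
   0, 2, 0, 0, 2, 1, 0, 2, 2, 0, 0, 0, 0, 0, 2, 1, 1, 2, 0, 0, 2, 0, 0, 2, 1, 1, 2, 2, 0, 0, 0, 2, 1, 1, 0, 2,
   0, 0, 0, 0, 2, 1, 1, 0, 0, 2, 1, 0, 0, 0, 0, 0, 0, 2, 1, 1, 2, 1, 1, 2, 0, 0, 2, 0, 0, 2, 2, 1, 0, 0, 0, 0,
   0, 2, 2, 0, 0, 0, 2, 1, 1, 2, 2, 2, 1, 0, 2, 0, 0, 0, 0, 0, 2, 1, 2, 0, 0, 0, 0, 0, 0, 0, 0, 0, 0, 2, 1, 1,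
   2, 2, 1, 1, 2, 1, 1, 0, 0, 2, 1, 1, 0, 0, 2, 1, 0, 0, 0, 0, 0, 2, 1, 1, 2, 0, 0, 2, 2, 2, 0, 0, 0, 0, 2, 2,
   1, 2, 0, 0, 0, 0, 0, 0, 2, 2, 2, 1, 1, 0, 0, 0, 0, 0, 0, 0, 0, 2, 1, 1, 2, 1, 1, 2, 1, 0, 2, 1, 0, 2, 0, 0,
   0, 0, 0, 2, 1, 1, 2, 0, 0, 2, 1, 0, 0, 0, 2, 1, 1, 2, 0, 0, 0, 0, 0, 0, 0, 2, 1, 1, 2, 1, 1, 0, 0, 2, 1, 1,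
   0, 0, 0, 0, 0, 2, 1, 1, 2, 1, 2, 0, 0, 2, 0, 0, 0, 2, 1, 0, 0, 0, 2, 1, 1, 0, 2, 0, 0, 2, 1, 0, 0, 0, 0, 0,
   2, 1, 1, 0, 0, 2, 1, 1, 0, 0, 2, 1, 1, 0, 2, 2, 0, 0, 0, 2, 0, 0, 0, 0, 0, 0, 2, 1, 1, 2, 1, 1, 2, 1, 0, 0,
   0, 0, 2, 1, 0, 2, 2, 0, 0, 0, 0, 0, 2, 1, 1, 0, 2, 2, 2, 1, 2, 0, 0, 0, 0, 0, 0, 2, 1, 1, 2, 2, 0, 0, 0, 0,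
   2, 1, 1, 2, 0, 0, 2, 0, 0, 0, 0, 0, 0, 2, 1, 1, 0, 2, 1, 1, 0, 0, 2, 2, 2, 1, 0, 0, 0, 0, 0, 0, 2, 1, 1, 2,
   2, 1, 0, 0, 0, 0, 2, 1, 0, 0, 0, 2, 1, 2, 2, 2, 0, 0, 0, 0, 2, 1, 1, 0, 0, 0, 0, 0, 0, 0, 0, 0, 2, 1, 1, 2,
   2, 1, 1, 2, 0, 0, 0, 2, 1, 1, 2, 0, 0, 2, 1, 0, 2, 1, 0, 0, 0, 0, 2, 2, 1, 0, 2, 0, 0, 0, 0, 0, 0, 0, 2, 1,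
   1, 2, 2, 0, 0, 0, 2, 2, 1, 0, 2, 1, 0, 0, 0, 0, 0, 2, 1, 1, 2, 1, 2, 2, 0, 0, 0, 2, 0, 0, 0, 2, 1, 0, 0, 0,
   2, 2, 1, 1, 0, 2, 2, 1, 0, 0, 0, 0, 0, 0, 0, 0, 0, 2, 1, 1, 2, 1, 1, 2, 2, 0, 0, 0, 2, 2, 0, 0, 0, 2, 1, 2,
   1, 0, 0, 0, 2, 1, 1, 2, 1, 0, 0, 0, 0, 2, 2, 1, 0, 2, 1, 1, 0, 0, 0, 0, 0, 0, 0, 0, 0, 2, 1, 1, 2, 0, 0, 2,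
   1, 2, 2, 0, 0, 0, 2, 2, 1, 2, 0, 0, 2, 0, 0, 0, 0, 0, 2, 1, 1, 2, 2, 0, 0, 0, 2, 1, 1, 0, 2, 0, 0, 2, 1, 0,
   0, 0, 0, 2, 1, 1, 0, 2, 1, 1, 0, 2, 0, 0, 2, 2, 0, 0, 0, 0, 2, 2, 1, 2, 0, 0, 2, 0, 0, 0, 0, 0, 0, 0, 2, 1,
   1, 2, 1, 1, 2, 0, 0, 2, 1, 2, 2, 0, 0, 0, 0, 0, 2, 2, 2, 2, 0, 0, 0, 0, 0, 0, 2, 1, 1, 2, 1, 0, 0, 0, 0, 2,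
   0, 0, 0, 2, 1, 1, 0, 2, 1, 1, 0, 0, 2, 1, 1, 2, 0, 0, 2, 0, 0, 2, 0, 0, 0, 0, 2, 1, 1, 0, 2, 2, 1, 0, 2, 1,
   0, 0, 0, 0, 0, 0, 0, 0, 0, 0, 0, 0, 2, 1, 1, 2, 2, 1, 1, 2, 1, 1, 0, 2, 1, 0, 2, 1, 1, 0, 0, 2, 0, 0, 0, 0,
   0, 0, 2, 2, 1, 1, 2, 2, 0, 0, 0, 2, 0, 0, 2, 1, 1, 0, 2, 0, 0, 2, 2, 1, 2, 0, 0, 0, 0, 0, 0, 0, 0, 2, 1, 1,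
   2, 1, 1, 2, 0, 0, 0, 2, 0, 0, 0, 2, 1, 2, 2, 1, 0, 0, 0, 0, 0, 0, 2, 1, 1, 2, 1, 0, 0, 0, 2, 1, 2, 0, 0, 2,
   0, 0, 0, 2, 2, 1, 1, 0, 0, 0, 0, 0, 0, 0, 0, 0, 2, 1, 1, 2, 1, 1, 2, 1, 1, 2, 0, 0, 2, 0, 0, 2, 2, 1, 0, 0,
   0, 0, 0, 2, 1, 1, 2, 2, 0, 0, 0, 0, 0, 0, 2, 1, 1, 0, 2, 1, 2, 0, 0, 2, 0, 0, 0, 0, 0, 0, 2, 1, 2, 1, 1, 2,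
   2, 0, 0, 0, 0, 2, 1, 2, 1, 0, 2, 0, 0, 0, 2, 2, 2, 0, 0, 0, 0, 0, 0, 2, 1, 1, 2, 1, 2, 0, 0, 0, 0, 2, 2, 2,
   0, 0, 0, 0, 2, 1, 1, 2, 2, 0, 0, 0, 0, 0, 0, 0, 0, 2, 1, 1, 2, 1, 0, 2, 0, 0, 0, 2, 1, 1, 2, 1, 2, 2, 0, 0,
   0, 2, 0, 0, 0, 2, 2, 1, 0, 2, 1, 0, 0, 0, 0, 0, 2, 1, 1, 2, 1, 1, 0, 0, 2, 0, 0, 0, 2, 1, 2, 0, 0, 0, 0, 2,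
   1, 1, 0, 2, 1, 0, 0, 0, 0, 0, 0, 0, 2, 1, 1, 2, 1, 1, 2, 0, 0, 0, 2, 2, 1, 1, 0, 2, 0, 0, 2, 0, 0, 0, 0, 0,
   2, 1, 1, 2, 1, 0, 0, 0, 2, 1, 0, 2, 1, 1, 2, 0, 0, 0, 0, 0, 0, 2, 2, 1, 2, 1, 0, 0, 0, 0, 0, 0, 0, 2, 1, 1,
   2, 2, 1, 2, 0, 0, 0, 0, 0, 2, 1, 1, 2, 0, 0, 2, 0, 0, 2, 2, 0, 0, 0, 0, 2, 1, 1, 2, 2, 0, 0, 0, 2, 2, 2, 1,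
   0, 0, 0, 0, 0, 0, 0, 0, 0, 0, 0, 2, 1, 1, 2, 1, 1, 2, 1, 2, 0, 0, 2, 2, 2, 0, 0, 0, 0, 0, 0, 2, 1, 1, 0, 2,
   1, 1, 0, 2, 0, 0, 2, 0, 0, 0, 2, 1, 1, 0, 2, 2, 2, 2, 0, 0, 0, 0, 0, 2, 1, 1, 0, 2, 0, 0, 0, 0, 0, 0, 0, 2,
   1, 1, 2, 1, 2, 1, 0, 2, 1, 2, 0, 0, 0, 0, 0, 2, 1, 2, 0, 0, 2, 2, 0, 0, 0, 0, 0, 2, 1, 1, 0, 2, 2, 1, 1, 0,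
   0, 2, 0, 0, 0, 0, 2, 1, 1, 2, 0, 0, 0, 2, 1, 1, 0, 2, 1, 0, 0, 0, 2, 1, 1, 0, 0, 0, 0, 0, 0, 0, 2, 1, 1, 0,
   2, 1, 1, 2, 0, 0, 2, 1, 2, 0, 0, 0, 0, 0, 0, 2, 1, 1, 0, 0, 2, 1, 1, 2, 1, 0, 0, 0, 2, 1, 0, 0, 0, 2, 1, 1,
   0, 2, 0, 0, 2, 1, 0, 0, 0, 0, 0, 0, 0, 0, 2, 1, 1, 2, 1, 1, 2, 1, 1, 0, 2, 0, 0, 2, 0, 0, 0, 2, 2, 2, 1, 0,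
   0, 0, 0, 0, 2, 1, 1, 2, 0, 0, 2, 0, 0, 2, 1, 1, 2, 0, 0, 0, 0, 0, 0, 0, 0, 2, 1, 1, 2, 1, 1, 2, 1, 0, 2, 1,
   0, 0, 0, 0, 0, 2, 1, 2, 2, 0, 0, 0, 2, 2, 0, 0, 0, 0, 0, 2, 1, 1, 2, 0, 0, 2, 1, 2, 2, 0, 0, 0, 0, 0, 0, 0,
   2, 1, 2, 1, 1, 2, 1, 0, 2, 0, 0, 0, 2, 1, 0, 0, 0, 2, 1, 1, 2, 0, 0, 0, 2, 1, 1, 0, 0, 2, 2, 0, 0, 0, 0, 0,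
   0, 2, 1, 1, 2, 1, 2, 0, 0, 0, 0, 2, 2, 2, 2]

theorem s2o3_run : orbCount pullMask syn sGens s2o3I [23]
    (Nat.shiftLeft 1 (syn 23)) 1 = 896 := by
  decide +kernel

theorem s2o3_v : tetValid 23 := (tetValid_iff _).2 (by decide +kernel)

theorem s2o3_le : 896 ≤ (MulAction.orbit ↥(MulAction.stabilizer ↥M24 (setM oct0)) (sextDec 23)).ncard :=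
  sext_orbit_le _ (gens_of_setOK sGens_ok) s2o3_v s2o3_run (by norm_num)

theorem s2o3_e : sextDec 23 = famOf [23, 5256, 786976, 1065280, 2263040, 12656640] :=
  sextDec_eq_famOf s2o3_v (by decide +kernel)

theorem s2_orbits : Orbits3 (setM oct0) sextets 35 840 896 := by
  refine orbits3_of_lower (setM oct0) sextets (fun g hg x hx => smul_mem_sextets hg hx)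
    (sextDec_mem s2o1_v) (sextDec_mem s2o2_v) (sextDec_mem s2o3_v)
    s2o1_le s2o2_le s2o3_le
    (by rw [Helper26.sextets_ncard]) ?_ ?_ ?_
  · exact not_orbit_of_interB (zs := [8536111]) (xs := [15, 5264, 622848, 3416064, 4196928, 8536096]) (xs' := [83, 272512, 1065220, 2162728, 4752384, 8524288])
      (fun g h => fam_of_set g h) (fam_of_eq s2o1_e s2o2_e)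
      (by decide +kernel) (by decide +kernel) (by decide +kernel) 2 (by decide +kernel)
  · exact not_orbit_of_interB (zs := [8536111]) (xs := [15, 5264, 622848, 3416064, 4196928, 8536096]) (xs' := [23, 5256, 786976, 1065280, 2263040, 12656640])
      (fun g h => fam_of_set g h) (fam_of_eq s2o1_e s2o3_e)
      (by decide +kernel) (by decide +kernel) (by decide +kernel) 0 (by decide +kernel)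
  · exact not_orbit_of_interB (zs := [8536111]) (xs := [83, 272512, 1065220, 2162728, 4752384, 8524288]) (xs' := [23, 5256, 786976, 1065280, 2263040, 12656640])
      (fun g h => fam_of_set g h) (fam_of_eq s2o2_e s2o3_e)
      (by decide +kernel) (by decide +kernel) (by decide +kernel) 0 (by decide +kernel)

/-- The stabiliser of an octad in the group of the length-24 code has exactly three orbits on the 3795 trios, of sizes 15, 420 and 3360, and exactly three orbits on the 1771 sextets, of sizes 35, 840 and 896. -/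
theorem result (o : Finset Cfsg.GolayPt) (ho : o ∈ Cfsg.octads) : (∃ X₁ ∈ Cfsg.trios, ∃ X₂ ∈ Cfsg.trios, ∃ X₃ ∈ Cfsg.trios, (MulAction.orbit ↥(MulAction.stabilizer Cfsg.M24 o) X₁).ncard = 15 ∧ (MulAction.orbit ↥(MulAction.stabilizer Cfsg.M24 o) X₂).ncard = 420 ∧ (MulAction.orbit ↥(MulAction.stabilizer Cfsg.M24 o) X₃).ncard = 3360 ∧ Cfsg.trios = MulAction.orbit ↥(MulAction.stabilizer Cfsg.M24 o) X₁ ∪ MulAction.orbit ↥(MulAction.stabilizer Cfsg.M24 o) X₂ ∪ MulAction.orbit ↥(MulAction.stabilizer Cfsg.M24 o) X₃) ∧ (∃ Y₁ ∈ Cfsg.sextets, ∃ Y₂ ∈ Cfsg.sextets, ∃ Y₃ ∈ Cfsg.sextets, (MulAction.orbit ↥(MulAction.stabilizer Cfsg.M24 o) Y₁).ncard = 35 ∧ (MulAction.orbit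 ↥(MulAction.stabilizer Cfsg.M24 o) Y₂).ncard = 840 ∧ (MulAction.orbit ↥(MulAction.stabilizer Cfsg.M24 o) Y₃).ncard = 896 ∧ Cfsg.sextets = MulAction.orbit ↥(MulAction.stabilizer Cfsg.M24 o) Y₁ ∪ MulAction.orbit ↥(MulAction.stabilizer Cfsg.M24 o) Y₂ ∪ MulAction.orbit ↥(MulAction.stabilizer Cfsg.M24 o) Y₃) := by
  obtain ⟨u, hu, rfl⟩ := exists_m24_oct0 ho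
  exact ⟨s1_orbits.smul hu (fun g hg x hx => smul_mem_trios hg hx),
    s2_orbits.smul hu (fun g hg x hx => smul_mem_sextets hg hx)⟩

end Cfsg.Agent.S5610
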