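import Cfsg.Statements.S5611
import Cfsg.Agent.Helper91.Sep

set_option autoImplicit false
open scoped Pointwise
open Cfsg

namespace Cfsg.Agent.S5611

open Cfsg.Agent.Helper91

set_option maxRecDepth 100000

/-- The tetrads of the sextet of the points 0, 1, 2, 3. -/
def sZ : List Nat := [15, 5264, 622848, 3416064, 4196928, 8536096]

theorem sZ_eq : sextDec 15 = famOf sZ := sextDec_eq_famOf tetValid_15 (by decide +kernel)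

/-- Generators of the stabilizer of the sextet `sZ`. -/
def sGens : List (List Nat) :=
  [[19, 8, 16, 15, 13, 11, 17, 20, 10, 23, 18, 14, 21, 3, 22, 4, 12, 9, 1, 7, 0, 2, 5, 6],
   [15, 16, 19, 8, 3, 20, 22, 2, 10, 6, 1, 9, 0, 23, 21, 7, 12, 13, 14, 4, 5, 17, 11, 18]]

theorem sGens_ok : sGens.all (genFamOK sZ) = true := by decide +kernel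

def s1o1I : List Nat :=
  [1, 2, 1, 1, 1, 0, 0, 2, 0, 0, 2, 2, 1, 1, 0, 2, 0, 0, 0, 0, 0, 0, 2, 1, 1]

theorem s1o1_run : orbCount pullMask (fun m => Nat.mod m 4096) sGens s1o1I [5279]
    (Nat.shiftLeft 1 (Nat.mod 5279 4096)) 1 = 15 := by
  decide +kernel

theorem s1o1_v : setM 5279 ∈ octads := (setM_mem_octads_iff (by norm_num)).2 (by decide +kernel)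

theorem s1o1_le : 15 ≤ (MulAction.orbit ↥(MulAction.stabilizer ↥M24 (famOf sZ)) (setM 5279)).ncard :=
  set_orbit_le _ (fun m => Nat.mod m 4096) (gens_of_famOK sGens_ok) (by norm_num) s1o1_run (by norm_num)

def s1o2I : List Nat :=
  [1, 2, 1, 1, 1, 2, 1, 1, 2, 0, 0, 2, 1, 2, 1, 0, 0, 0, 2, 1, 0, 2, 2, 0, 0, 0, 0, 0, 0, 0, 2, 1, 1, 1, 0, 2,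
   0, 0, 2, 1, 1, 0, 2, 1, 0, 0, 0, 2, 1, 0, 2, 2, 0, 0, 0, 0, 0, 2, 1, 1, 1, 0, 0, 2, 0, 0, 2, 2, 2, 2, 0, 0,
   0, 0, 0, 0, 0, 2, 1, 2, 1, 1, 0, 2, 0, 0, 0, 0, 2, 1, 1, 1, 2, 0, 0, 2, 1, 2, 1, 0, 0, 0, 0, 0, 0, 2, 1, 1,
   2, 0, 0, 2, 1, 0, 0, 0, 2, 1, 1, 0, 2, 0, 0, 2, 1, 0, 0, 0, 0, 0, 0, 0, 2, 1, 1, 1, 2, 1, 1, 2, 0, 0, 0, 2,
   2, 0, 0, 0, 0, 2, 1, 0, 2, 1, 2, 2, 1, 2, 0, 0, 0, 0, 0, 2, 1, 0, 0, 0, 0, 0, 2, 1, 1, 0, 2, 1, 1, 1, 0, 0,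
   2, 0, 0, 2, 1, 2, 0, 0, 2, 0, 0, 0, 0, 2, 1, 1, 0, 0, 2, 2, 1, 1, 0, 0, 2, 1, 0, 0, 0, 0, 0, 0, 0, 2, 1, 1,
   1, 0, 2, 1, 1, 0, 0, 0, 0, 2, 1, 1, 0, 0, 2, 1, 1, 2, 0, 0, 2, 2, 0, 0, 0, 2, 0, 0, 0, 0, 2, 1, 2, 2, 1, 0,
   0, 0, 0, 2, 1, 1, 0, 0, 2, 2, 2, 0, 0, 0, 0, 0, 0, 0, 0, 0, 2, 1, 1, 1, 2, 1, 1, 1, 0, 2, 2, 2, 1, 0, 0, 0,
   0, 0, 2, 1, 0, 2, 1, 1, 0, 2, 0, 0, 0, 0, 0, 2, 1, 1, 1, 0, 0, 2, 1, 0, 2, 1, 0, 0, 0, 0, 2, 1, 2, 0, 0, 2,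
   1, 2, 1, 0, 0, 0, 0, 0, 0, 0, 0, 2, 1, 1, 2, 1, 2, 1, 0, 0, 0, 2, 0, 0, 0, 2, 0, 0, 2, 1, 1, 1, 2, 1, 0, 0,
   0, 0, 2, 1, 2, 0, 0, 0, 0, 2, 2, 2, 2, 1, 1, 0, 2, 0, 0, 2, 0, 0, 0, 0, 0, 0, 0, 0, 2, 1, 1, 1, 2, 1, 1, 2,
   0, 0, 0, 2, 0, 0, 0, 2, 1, 1, 0, 0, 2, 2, 1, 1, 0, 0, 0, 0, 0, 0, 2, 1, 2, 1, 1, 1, 0, 0, 2, 0, 0, 2, 0, 0,
   0, 2, 1, 1, 2, 1, 0, 0, 0, 2, 2, 0, 0, 0, 2, 1, 1, 0, 0, 2, 0, 0, 0, 0, 0, 2, 1, 1, 1, 0, 2, 1, 1, 0, 0, 2,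
   2, 1, 0, 0, 0, 0, 0, 0, 2, 1, 2, 1, 2, 2, 0, 0, 0, 2, 2, 0, 0, 0, 0, 2, 2, 1, 1, 0, 2, 0, 0, 2, 1, 0, 0, 0,
   0, 0, 0, 0, 0, 2, 1, 1, 1, 2, 1, 1, 0, 2, 2, 0, 0, 0, 2, 1, 1, 1, 2, 0, 0, 0, 2, 0, 0, 2, 0, 0, 0, 0, 2, 1,
   1, 1, 2, 0, 0, 2, 0, 0, 2, 1, 2, 0, 0, 2, 0, 0, 0, 2, 1, 1, 2, 0, 0, 0, 2, 2, 1, 0, 2, 1, 0, 0, 0, 0, 0, 0,
   0, 2, 1, 1, 1, 2, 1, 0, 0, 0, 2, 1, 0, 2, 1, 0, 0, 0, 0, 0, 2, 1, 2, 1, 2, 0, 0, 0, 0, 2, 1, 1, 0, 0, 2, 1,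
   1, 0, 0, 0, 0, 0, 0, 0, 2, 1, 1, 1, 0, 2, 1, 1, 1, 0, 0, 0, 2, 1, 0, 2, 1, 0, 2, 0, 0, 0, 0, 0, 2, 1, 1, 1,
   0, 0, 0, 2, 2, 1, 0, 2, 0, 0, 0, 0, 0, 2, 1, 1, 2, 1, 0, 0, 0, 2, 1, 2, 0, 0, 0, 0, 2, 1, 1, 1, 0, 0, 2, 1,
   2, 1, 0, 0, 0, 0, 0, 2, 1, 1, 0, 2, 2, 1, 1, 0, 0, 0, 0, 0, 2, 1, 1, 2]

theorem s1o2_run : orbCount pullMask (fun m => Nat.mod m 4096) sGens s1o2I [18147]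
    (Nat.shiftLeft 1 (Nat.mod 18147 4096)) 1 = 360 := by
  decide +kernel

theorem s1o2_v : setM 18147 ∈ octads := (setM_mem_octads_iff (by norm_num)).2 (by decide +kernel)

theorem s1o2_le : 360 ≤ (MulAction.orbit ↥(MulAction.stabilizer ↥M24 (famOf sZ)) (setM 18147)).ncard :=
  set_orbit_le _ (fun m => Nat.mod m 4096) (gens_of_famOK sGens_ok) (by norm_num) s1o2_run (by norm_num)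

def s1o3I : List Nat :=
  [1, 1, 1, 2, 1, 1, 1, 2, 1, 2, 0, 0, 0, 0, 2, 1, 1, 1, 0, 0, 2, 2, 0, 0, 0, 0, 0, 2, 1, 1, 2, 1, 0, 2, 0, 0,
   0, 2, 2, 1, 0, 2, 0, 0, 0, 0, 2, 1, 1, 0, 0, 0, 0, 0, 2, 1, 1, 1, 2, 1, 0, 2, 0, 0, 0, 2, 0, 0, 2, 1, 0, 0,
   0, 2, 1, 2, 1, 0, 0, 0, 2, 1, 1, 1, 0, 2, 0, 0, 0, 2, 1, 0, 0, 0, 0, 0, 0, 0, 2, 1, 1, 1, 2, 1, 2, 1, 0, 0,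
   0, 2, 1, 0, 0, 0, 0, 2, 2, 2, 2, 0, 0, 0, 0, 0, 2, 1, 1, 0, 2, 1, 2, 1, 0, 0, 0, 2, 0, 0, 0, 2, 1, 1, 1, 0,
   0, 2, 2, 0, 0, 0, 2, 1, 2, 1, 0, 2, 0, 0, 0, 2, 2, 0, 0, 0, 0, 0, 0, 2, 1, 1, 1, 0, 2, 1, 2, 0, 0, 0, 0, 2,
   1, 1, 1, 0, 0, 2, 2, 0, 0, 0, 2, 1, 0, 0, 0, 0, 2, 2, 2, 0, 0, 0, 0, 0, 0, 2, 1, 1, 1, 2, 1, 1, 2, 0, 0, 0,
   2, 1, 0, 0, 0, 0, 2, 1, 2, 1, 1, 0, 2, 0, 0, 2, 1, 1, 0, 2, 0, 0, 0, 0, 0, 2, 1, 1, 0, 0, 2, 2, 0, 0, 0, 0,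
   0, 2, 1, 1, 0, 2, 1, 1, 1, 0, 0, 0, 2, 1, 0, 2, 0, 0, 0, 0, 2, 1, 1, 1, 2, 2, 0, 0, 0, 0, 0, 2, 1, 2, 2, 1,
   0, 0, 0, 0, 2, 1, 2, 1, 0, 2, 0, 0, 0, 2, 2, 2, 0, 0, 0, 0, 0, 0, 0, 0, 2, 1, 1, 1, 2, 1, 1, 0, 2, 1, 0, 0,
   0, 2, 1, 0, 2, 0, 0, 0, 0, 2, 1, 1, 0, 0, 2, 1, 1, 0, 0, 2, 0, 0, 0, 0, 2, 1, 1, 1, 0, 2, 2, 2, 0, 0, 0, 0,
   2, 2, 1, 0, 2, 0, 0, 0, 0, 2, 1, 1, 1, 0, 0, 0, 0, 0, 0, 2, 1, 1, 1, 0, 2, 2, 1, 0, 0, 0, 0, 2, 1, 1, 0, 2,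
   1, 0, 0, 0, 2, 1, 0, 0, 0, 0, 0, 0, 0, 0, 2, 1, 1, 1, 2, 1, 1, 1, 2, 1, 0, 0, 0, 0, 2, 1, 1, 0, 0, 2, 2, 0,
   0, 0, 0, 2, 1, 1, 1, 0, 0, 2, 0, 0, 2, 1, 2, 2, 0, 0, 0, 0, 0, 0, 0, 2, 1, 1, 1, 2, 1, 0, 0, 0, 2, 1, 2, 0,
   0, 2, 2, 1, 0, 2, 0, 0, 0, 0, 0, 2, 1, 2, 0, 0, 2, 2, 0, 0, 0, 0, 2, 1, 1, 0, 2, 1, 2, 0, 0, 2, 0, 0, 0, 2,
   1, 2, 2, 0, 0, 0, 2, 1, 2, 0, 0, 2, 1, 0, 2, 0, 0, 0, 0, 0, 0, 0, 2, 1, 1, 1, 2, 1, 0, 0, 0, 2, 1, 1, 1, 2,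
   0, 0, 0, 2, 1, 2, 2, 0, 0, 0, 0, 0, 0, 0, 2, 1, 1, 1, 2, 2, 0, 0, 0, 2, 2, 0, 0, 0, 2, 1, 0, 2, 0, 0, 0, 2,
   2, 1, 1, 0, 2, 2, 0, 0, 0, 2, 1, 1, 0, 0, 2, 0, 0, 0, 0, 0, 0, 2, 1, 1, 2, 1, 2, 0, 0, 2, 0, 0, 0, 2, 1, 0,
   2, 1, 0, 2, 1, 0, 2, 2, 0, 0, 0, 0, 0, 0, 2, 1, 2, 2, 0, 0, 0, 2, 1, 2, 1, 0, 0, 0, 2, 0, 0, 0, 0, 0, 0, 2,
   1, 1, 2, 1, 1, 2, 2, 0, 0, 0, 0, 2, 1, 1, 2, 1, 0, 0, 0, 0, 2, 1, 0, 0, 0, 0, 0, 2, 1, 2, 0, 0, 2, 0, 0, 0,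
   2, 1, 1, 0, 2, 1, 1, 1, 0, 2, 1, 2, 0, 0, 2, 0, 0, 0, 2, 1, 0, 2, 0, 0, 0, 2, 1, 2, 2, 0, 0, 0, 2, 1, 0, 0,
   0, 0, 0, 2, 1, 1, 1, 2, 0, 0, 2, 0, 0, 2, 1, 2, 2, 1, 0, 0, 0, 0, 2, 0, 0, 0, 2, 2, 1, 2, 1, 0, 0, 0, 2, 2,
   1]

theorem s1o3_run : orbCount pullMask (fun m => Nat.mod m 4096) sGens s1o3I [10558]
    (Nat.shiftLeft 1 (Nat.mod 10558 4096)) 1 = 384 := by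
  decide +kernel

theorem s1o3_v : setM 10558 ∈ octads := (setM_mem_octads_iff (by norm_num)).2 (by decide +kernel)

theorem s1o3_le : 384 ≤ (MulAction.orbit ↥(MulAction.stabilizer ↥M24 (famOf sZ)) (setM 10558)).ncard :=
  set_orbit_le _ (fun m => Nat.mod m 4096) (gens_of_famOK sGens_ok) (by norm_num) s1o3_run (by norm_num)

theorem s1_orbits : Orbits3 (famOf sZ) octads 15 360 384 := by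
  refine orbits3_of_lower (famOf sZ) octads (fun g hg x hx => smul_mem_octads hg hx)
    s1o1_v s1o2_v s1o3_v
    s1o1_le s1o2_le s1o3_le
    (by rw [Helper26.octads_ncard]) ?_ ?_ ?_
  · exact not_orbit_of_interB (zs := sZ) (xs := [5279]) (xs' := [18147])
      (fun g h => h) (fun g h => fam_of_set g h)
      (by decide +kernel) (by decide +kernel) (by decide +kernel) 2 (by decide +kernel)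
  · exact not_orbit_of_interB (zs := sZ) (xs := [5279]) (xs' := [10558])
      (fun g h => h) (fun g h => fam_of_set g h)
      (by decide +kernel) (by decide +kernel) (by decide +kernel) 0 (by decide +kernel)
  · exact not_orbit_of_interB (zs := sZ) (xs := [18147]) (xs' := [10558])
      (fun g h => h) (fun g h => fam_of_set g h)
      (by decide +kernel) (by decide +kernel) (by decide +kernel) 0 (by decide +kernel)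

def s2o1I : List Nat :=
  [2, 1, 1, 1, 2, 1, 1, 0, 0, 2, 0, 0, 0, 2, 1, 0, 2, 0, 0, 0, 0, 2, 1, 0, 2]

theorem s2o1_run : orbCount trioAct (trioKey 55) sGens s2o1I [67761699034271]
    (Nat.shiftLeft 1 (trioKey 55 67761699034271)) 1 = 15 := by
  decide +kernel

theorem s2o1_v : trioValid 67761699034271 := (trioValid_iff _).2 (by decide +kernel)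

theorem s2o1_le : 15 ≤ (MulAction.orbit ↥(MulAction.stabilizer ↥M24 (famOf sZ)) (trioDec 67761699034271)).ncard :=
  trio_orbit_le _ 55 (gens_of_famOK sGens_ok) s2o1_v s2o1_run (by norm_num)

theorem s2o1_e : trioDec 67761699034271 = famOf [5279, 4038912, 12733024] := trioDec_eq_famOf s2o1_v

def s2o2I : List Nat :=
  [1, 2, 1, 1, 1, 2, 1, 1, 2, 2, 0, 0, 0, 0, 2, 1, 2, 0, 0, 2, 2, 1, 0, 2, 0, 0, 0, 0, 0, 0, 0, 2, 1, 1, 1, 2,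
   0, 0, 2, 1, 2, 0, 0, 2, 2, 1, 0, 2, 0, 0, 0, 0, 0, 2, 1, 2, 0, 0, 2, 1, 0, 0, 0, 0, 2, 1, 1, 1, 0, 0, 2, 1,
   0, 2, 0, 0, 0, 2, 0, 0, 0, 0, 2, 1, 1, 1, 2, 1, 0, 0, 0, 0, 2, 1, 1, 2, 1, 1, 0, 2, 0, 0, 0, 0, 2, 1, 0, 0,
   0, 2, 1, 2, 2, 0, 0, 0, 2, 2, 0, 0, 0, 0, 0, 2, 1, 1, 1, 2, 0, 0, 0, 2, 1, 1, 1, 0, 0, 0, 2, 1, 0, 2, 1, 0,
   0, 0, 0, 0, 2, 1, 2, 1, 1, 0, 2, 2, 0, 0, 0, 2, 0, 0, 0, 2, 1, 1, 1, 0, 2, 0, 0, 2, 1, 0, 0, 0, 2, 1, 2, 2,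
   0, 0, 0, 0, 0, 0, 0, 0, 0, 0, 2, 1, 1, 1, 2, 1, 1, 1, 0, 0, 2, 1, 0, 0, 0, 2, 0, 0, 0, 0, 2, 1, 1, 1, 0, 2,
   1, 2, 2, 0, 0, 0, 0, 0, 2, 1, 2, 1, 0, 2, 0, 0, 0, 2, 2, 1, 1, 0, 2, 0, 0, 0, 0, 0, 0, 2, 1, 2, 1, 2, 0, 0,
   0, 0, 2, 1, 1, 2, 2, 0, 0, 0, 2, 1, 0, 0, 0, 2, 2, 0, 0, 0, 0, 0, 0, 2, 1, 1, 1, 2, 1, 1, 0, 2, 0, 0, 0, 0,
   2, 1, 1, 2, 1, 0, 0, 0, 2, 0, 0, 0, 0, 2, 1, 1, 1, 0, 0, 0, 2, 1, 2, 0, 0, 2, 1, 1, 0, 2, 0, 0, 2, 2, 0, 0,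
   0, 0, 0, 0, 2, 1, 1, 1, 2, 2, 2, 0, 0, 0, 0, 2, 2, 1, 0, 0, 0, 0, 2, 1, 0, 0, 0, 2, 1]

theorem s2o2_run : orbCount trioAct (trioKey 4283) sGens s2o2I [16940424762527]
    (Nat.shiftLeft 1 (trioKey 4283 16940424762527)) 1 = 180 := by
  decide +kernel

theorem s2o2_v : trioValid 16940424762527 := (trioValid_iff _).2 (by decide +kernel)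

theorem s2o2_le : 180 ≤ (MulAction.orbit ↥(MulAction.stabilizer ↥M24 (famOf sZ)) (trioDec 16940424762527)).ncard :=
  trio_orbit_le _ 4283 (gens_of_famOK sGens_ok) s2o2_v s2o2_run (by norm_num)

theorem s2o2_e : trioDec 16940424762527 = famOf [5279, 1009728, 15762208] := trioDec_eq_famOf s2o2_v

def s2o3I : List Nat :=
  [1, 2, 1, 1, 1, 2, 1, 1, 1, 0, 2, 1, 0, 2, 0, 0, 0, 2, 1, 2, 1, 2, 0, 0, 2, 2, 0, 0, 0, 0, 0, 0, 2, 1, 1, 1,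
   0, 2, 2, 1, 0, 0, 0, 0, 2, 1, 2, 0, 0, 0, 0, 2, 1, 1, 1, 0, 2, 2, 1, 0, 0, 0, 0, 2, 2, 2, 0, 0, 0, 0, 0, 0,
   0, 0, 2, 1, 2, 1, 0, 2, 1, 1, 2, 0, 0, 0, 0, 0, 0, 2, 2, 2, 2, 1, 2, 0, 0, 2, 1, 0, 0, 0, 0, 0, 0, 0, 0, 2,
   1, 2, 1, 1, 1, 0, 2, 1, 0, 0, 0, 2, 1, 0, 2, 1, 2, 0, 0, 2, 1, 0, 2, 2, 0, 0, 0, 0, 0, 0, 2, 2, 0, 0, 0, 0,
   2, 1, 1, 1, 2, 0, 0, 2, 1, 2, 1, 0, 0, 0, 2, 0, 0, 0, 2, 1, 2, 0, 0, 2, 2, 1, 1, 1, 0, 2, 0, 0, 0, 2, 1, 0,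
   2, 2, 0, 0, 0, 0, 0, 0, 0, 2, 1, 0, 2, 1, 1, 1, 0, 2, 1, 0, 2, 0, 0, 0, 2, 1, 0, 2, 0, 0, 0, 2, 1, 1, 1, 2,
   0, 0, 0, 2, 0, 0, 2, 1, 1, 0, 2, 1, 0, 2, 0, 0, 0, 2, 2, 0, 0, 0, 0, 0, 0, 0, 0, 0, 2, 1, 1, 1, 2, 1, 1, 1,
   0, 2, 1, 1, 1, 0, 0, 0, 0, 0, 0, 2, 1, 1, 2, 0, 0, 2, 1, 0, 2, 0, 0, 0, 2, 1, 0, 2, 1, 0, 2, 1, 0, 0, 0, 0,
   0, 0, 0, 2, 1, 1, 1, 2, 0, 0, 2, 1, 1, 0, 2, 1, 0, 0, 0, 0, 0, 2, 1, 1, 0, 0, 2, 1, 0, 2, 2, 0, 0, 0, 0, 0,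
   2, 1, 1, 1, 2, 0, 0, 0, 2, 1, 1, 0, 2, 1, 0, 0, 0, 2, 1, 0, 2, 1, 0, 0, 0, 0, 0, 2, 1, 1, 2, 0, 0, 0, 2, 2,
   0, 0, 0, 0, 0, 0, 0, 2, 1, 1, 1, 0, 2, 1, 1, 2, 0, 0, 0, 2, 2, 1, 2, 0, 0, 0, 0, 0, 0, 2, 1, 1, 1, 2, 0, 0,
   0, 0, 2, 1, 1, 2, 2, 0, 0, 0, 2, 1, 1, 0, 0, 0, 0, 2, 1, 2, 0, 0, 2, 1, 1, 0, 2, 1, 0, 0, 0, 2, 0, 0, 0, 0,
   0, 0, 2, 1, 1, 1, 2, 0, 0, 2, 1, 2, 1, 2, 0, 0, 2, 0, 0, 0, 0, 0, 2, 1, 0, 2, 0, 0, 0, 2, 1, 1, 1, 2, 0, 0,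
   2, 1, 1, 0, 2, 0, 0, 0, 0, 2, 1, 1, 2, 0, 0, 2, 2, 0, 0, 0, 2, 2, 0, 0, 0, 0, 2, 1, 2, 1, 1, 0, 0, 0, 0, 2,
   1, 1, 2, 0, 0, 0, 0, 0, 0, 0, 0, 0, 0, 0, 2, 1, 1, 1, 2, 1, 1, 1, 0, 2, 2, 2, 1, 0, 0, 0, 0, 0, 2, 1, 2, 1,
   2, 2, 0, 0, 0, 2, 1, 0, 2, 0, 0, 0, 0, 2, 0, 0, 0, 2, 1, 1, 1, 2, 1, 0, 0, 0, 2, 1, 1, 0, 2, 0, 0, 2, 0, 0,
   0, 2, 1, 2, 1, 0, 0, 0, 2, 2, 1, 2, 0, 0, 2, 2, 0, 0, 0, 0, 0, 0, 2, 1, 2, 1, 1, 0, 0, 0, 0, 2, 2, 1, 0, 2,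
   0, 0, 0, 0, 0, 0, 0, 2, 1, 1, 1, 2, 0, 0, 2, 1, 0, 2, 1, 0, 2, 1, 1, 0, 0, 2, 0, 0, 0, 0, 0, 2, 1, 1, 1, 2,
   1, 0, 0, 0, 2, 2, 1, 2, 0, 0, 2, 0, 0, 0, 0, 2, 1, 2, 1, 0, 2, 1, 0, 0, 0, 0, 2, 1, 0, 2, 2, 0, 0, 0, 0, 0,
   2, 1, 1, 2, 1, 0, 0, 0, 0, 2, 1, 1, 0, 0, 2, 1, 1, 0, 2, 0, 0, 0, 0, 0, 0, 0, 2, 1, 1, 1, 2, 1, 0, 2, 0, 0,
   0, 0, 2, 1, 1, 2, 2, 0, 0, 0, 2, 0, 0, 2, 1, 2, 1, 0, 2, 0, 0, 0, 0, 0, 0, 2, 2, 1, 1, 1, 0, 0, 2, 2, 0, 0,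
   0, 2, 1, 1, 2, 0, 0, 2, 1, 0, 0, 0, 2, 1, 1, 0, 0, 2, 1, 0, 2, 2, 0, 0, 0, 0, 0, 0, 0, 0, 0, 0, 2, 1, 1, 1,
   2, 1, 1, 2, 1, 0, 0, 0, 2, 1, 0, 0, 0, 2, 2, 0, 0, 0, 0, 2, 1, 1, 2, 0, 0, 2, 1, 0, 2, 0, 0, 0, 2, 1, 0, 2,
   1, 1, 2, 1, 0, 0, 0, 2, 1, 0, 0, 0, 2, 2, 0, 0, 0, 0, 0, 0, 2, 1, 1, 1, 0, 2, 1, 0, 2, 2, 1, 0, 0, 0, 0, 0,
   2, 1, 2, 0, 0, 2, 1, 2, 0, 0, 0, 0, 0, 2, 1, 1, 1, 0, 2, 2, 2, 0, 0, 0, 0, 0, 2, 2, 1, 1, 2, 1, 0, 0, 0, 0,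
   2, 0, 0, 0, 0, 0, 0, 2, 1, 1, 1, 2, 2, 1, 2, 0, 0, 0, 0, 0, 2, 1, 1, 2, 2, 0, 0, 0, 2, 0, 0, 2, 0, 0, 0, 2,
   1, 1, 1, 2, 0, 0, 2, 1, 1, 0, 0, 0, 0, 2, 0, 0, 2, 1, 1, 1, 0, 0, 2, 1, 0, 2, 0, 0, 0, 2, 1, 0, 2, 1, 1, 0,
   2, 0, 0, 2, 1, 2, 0, 0, 0, 0, 0, 0, 0, 0, 2, 1, 2, 1, 2, 0, 0, 0, 0, 2, 1, 1, 1, 0, 2, 1, 0, 2, 0, 0, 0, 2,
   1, 0, 2, 2, 2, 0, 0, 0, 0, 0, 2, 1, 1, 1, 2, 0, 0, 0, 2, 0, 0, 2, 1, 1, 0, 0, 0, 0, 0, 0, 0, 0, 0, 2, 1, 1,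
   1, 2, 1, 1, 1, 2, 0, 0, 2, 1, 0, 2, 2, 0, 0, 0, 0, 2, 1, 1, 2, 0, 0, 0, 0, 0, 2, 1, 1, 1, 2, 1, 0, 0, 0, 0,
   2, 1, 0, 2, 1, 0, 0, 0, 0, 2, 1, 0, 2, 1, 0, 2, 0, 0, 0, 0, 0, 0, 2, 1, 1, 1, 2, 0, 0, 2, 1, 1, 1, 0, 0, 2,
   2, 0, 0, 0, 0, 0, 2, 2, 0, 0, 0, 2, 1, 1, 1, 2, 1, 0, 0, 0, 2, 2, 1, 0, 0, 0, 0, 2, 1, 1, 2, 0, 0, 2, 1, 0,
   2, 0, 0, 0, 2, 1, 0, 0, 0, 0, 2, 1, 1, 2, 0, 0, 2, 0, 0, 2, 2, 0, 0, 0, 0, 0, 0, 2, 1, 1, 1, 2, 1, 1, 0, 0,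
   0, 0, 2, 1, 1, 1, 2, 1, 0, 0, 0, 0, 2, 0, 0, 2, 2, 1, 2, 0, 0, 0, 0, 0, 0, 2, 1, 1, 2, 2, 1, 0, 0, 0, 0, 2,
   1, 0, 2, 1, 0, 0, 0, 0, 2, 1, 2, 2, 0, 0, 0, 0, 0, 0, 2, 1, 2, 1, 1, 2, 0, 0, 2, 1, 0, 2, 1, 0, 0, 0, 0, 0,
   0, 2, 2, 2, 2, 2, 0, 0, 0, 0, 0, 0, 0, 0, 2, 1, 1, 2, 1, 1, 0, 0, 2, 1, 1, 1, 2, 0, 0, 2, 1, 0, 0, 0, 0, 2,
   2, 2, 1, 0, 0, 0, 0, 0, 0, 0, 2, 1, 0, 2, 1, 0, 2, 1, 0, 2, 1, 1, 0, 0, 2, 2, 0, 0, 0, 0, 0, 0, 0, 2, 1, 1,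
   1, 0, 2, 1, 2, 1, 2, 0, 0, 2, 0, 0, 0, 0, 0, 2, 1, 2, 1, 1, 1, 0, 0, 0, 0, 0, 2, 0, 0, 0, 2, 1, 1, 2, 1, 1,
   1, 2, 0, 0, 0, 2, 2, 1, 0, 0, 0, 0, 2, 0, 0, 0, 2, 1, 1, 0, 2, 2, 0, 0, 0, 2, 0, 0, 0, 2, 1, 2, 1, 1, 0, 0,
   2, 1, 1, 0, 0, 2, 1, 0, 0, 0, 0, 0, 2, 1, 1, 1, 0, 0, 0, 2, 1, 1, 0, 0, 2]

theorem s2o3_run : orbCount trioAct (trioKey 65251) sGens s2o3I [30859809801955]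
    (Nat.shiftLeft 1 (trioKey 65251 30859809801955)) 1 = 720 := by
  decide +kernel

theorem s2o3_v : trioValid 30859809801955 := (trioValid_iff _).2 (by decide +kernel)

theorem s2o3_le : 720 ≤ (MulAction.orbit ↥(MulAction.stabilizer ↥M24 (famOf sZ)) (trioDec 30859809801955)).ncard :=
  trio_orbit_le _ 65251 (gens_of_famOK sGens_ok) s2o3_v s2o3_run (by norm_num)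

theorem s2o3_e : trioDec 30859809801955 = famOf [18147, 1839388, 14919680] := trioDec_eq_famOf s2o3_v

def s2o4I : List Nat :=
  [1, 1, 1, 2, 1, 1, 1, 2, 1, 1, 2, 1, 0, 2, 1, 1, 0, 2, 0, 0, 0, 0, 0, 2, 0, 0, 2, 1, 1, 1, 2, 0, 0, 2, 1, 0,
   2, 0, 0, 0, 0, 2, 1, 2, 1, 0, 2, 0, 0, 0, 2, 1, 1, 0, 0, 2, 0, 0, 0, 0, 0, 0, 2, 1, 1, 1, 2, 1, 1, 1, 0, 0,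
   0, 2, 1, 0, 2, 0, 0, 0, 0, 2, 1, 1, 1, 0, 0, 2, 0, 0, 2, 1, 0, 0, 0, 0, 2, 1, 1, 1, 0, 0, 2, 1, 1, 0, 0, 2,
   2, 0, 0, 0, 0, 2, 1, 0, 2, 0, 0, 0, 0, 2, 1, 1, 1, 0, 0, 2, 1, 1, 1, 0, 0, 0, 0, 0, 2, 1, 1, 1, 0, 0, 2, 1,
   2, 1, 0, 0, 0, 2, 1, 0, 0, 0, 0, 2, 1, 0, 0, 0, 0, 0, 0, 2, 1, 1, 1, 0, 0, 2, 1, 1, 1, 2, 2, 0, 0, 0, 0, 2,
   1, 1, 2, 2, 0, 0, 0, 0, 2, 2, 1, 0, 2, 0, 0, 0, 0, 0, 2, 1, 1, 0, 2, 0, 0, 2, 1, 1, 0, 2, 0, 0, 2, 1, 2, 0,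
   0, 2, 1, 0, 0, 0, 0, 0, 0, 0, 2, 1, 2, 1, 1, 0, 2, 1, 1, 0, 0, 2, 1, 0, 2, 0, 0, 0, 0, 2, 1, 1, 2, 0, 0, 0,
   2, 0, 0, 0, 0, 2, 1, 1, 1, 2, 1, 2, 0, 0, 0, 0, 2, 2, 0, 0, 0, 2, 1, 0, 0, 0, 2, 1, 2, 1, 1, 0, 0, 2, 0, 0,
   0, 0, 0, 0, 0, 0, 2, 1, 1, 1, 2, 1, 1, 1, 0, 0, 0, 2, 1, 1, 1, 0, 0, 2, 0, 0, 2, 1, 0, 0, 0, 0, 0, 2, 2, 1,
   1, 1, 0, 2, 1, 2, 0, 0, 0, 0, 0, 0, 0, 0, 2, 1, 1, 1, 0, 0, 2, 2, 1, 1, 0, 2, 2, 2, 0, 0, 0, 0, 2, 1, 0, 2,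
   2, 2, 0, 0, 0, 0, 0, 0, 0, 2, 1, 1, 1, 2, 2, 0, 0, 0, 0, 2, 1, 1, 0, 0, 0, 0, 2, 1, 1, 1, 0, 0, 2, 1, 1, 0,
   0, 0, 0, 2, 1, 1, 0, 0, 2, 2, 1, 0, 2, 0, 0, 0, 0, 0, 0, 0, 0, 2, 1, 1, 1, 2, 1, 2, 0, 0, 2, 1, 1, 2, 0, 0,
   2, 0, 0, 2, 0, 0, 0, 0, 2, 1, 1, 1, 0, 2, 1, 0, 0, 0, 0, 2, 1, 1, 2, 0, 0, 2, 0, 0, 0, 0, 0, 2, 1, 1, 1, 0,
   2, 1, 1, 2, 0, 0, 0, 0, 0, 2, 1, 2, 2, 0, 0, 0, 2, 1, 0, 0, 0, 0, 0, 0, 2, 1, 1, 1, 2, 1, 2, 0, 0, 0, 0, 2,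
   1, 1, 0, 0, 2, 2, 1, 2, 0, 0, 0, 0, 0, 0, 2, 1, 1, 0, 2, 1, 0, 2, 0, 0, 0, 2, 2, 2, 1, 0, 0, 0, 0, 0, 0, 0,
   0, 0, 0, 0, 2, 1, 1, 1, 2, 1, 1, 1, 2, 1, 2, 0, 0, 0, 0, 2, 1, 0, 2, 2, 2, 2, 0, 0, 0, 0, 0, 0, 2, 2, 0, 0,
   0, 2, 1, 1, 1, 2, 2, 1, 0, 0, 0, 0, 0, 0, 2, 1, 1, 1, 2, 0, 0, 2, 2, 0, 0, 0, 2, 1, 0, 2, 1, 0, 0, 0, 0, 2,
   1, 2, 0, 0, 2, 2, 2, 0, 0, 0, 0, 0, 0, 0, 0, 2, 1, 1, 1, 2, 1, 1, 0, 0, 0, 0, 2, 1, 1, 1, 2, 0, 0, 0, 2, 1,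
   2, 0, 0, 2, 0, 0, 0, 2, 1, 1, 1, 2, 0, 0, 0, 2, 0, 0, 0, 0, 0, 2, 1, 1, 1, 0, 2, 1, 0, 0, 0, 0, 2, 2, 1, 2,
   0, 0, 2, 1, 0, 0, 0, 0, 0, 0, 2, 1, 1, 1, 2, 1, 0, 2, 2, 1, 0, 0, 0, 0, 0, 2, 1, 2, 2, 1, 0, 2, 0, 0, 0, 0,
   2, 1, 2, 0, 0, 2, 0, 0, 0, 0, 2, 1, 1, 1, 0, 2, 2, 0, 0, 0, 2, 0, 0, 2, 1, 2, 1, 0, 0, 0, 2, 1, 1, 0, 0, 2,
   0, 0, 0, 0, 0, 2, 1, 1, 1, 0, 2, 1, 0, 2, 0, 0, 0, 0, 2, 1, 2, 2, 0, 0, 0, 2, 1, 2, 0, 0, 2, 1, 0, 2, 0, 0,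
   0, 0, 0, 0, 0, 0, 2, 1, 1, 1, 2, 1, 1, 1, 0, 0, 2, 1, 0, 0, 0, 2, 1, 0, 2, 1, 0, 2, 2, 0, 0, 0, 0, 0, 0, 0,
   2, 1, 1, 1, 2, 2, 0, 0, 0, 0, 2, 1, 0, 0, 0, 2, 1, 1, 1, 2, 1, 0, 2, 0, 0, 0, 2, 1, 0, 2, 0, 0, 0, 2, 1, 0,
   2, 1, 0, 2, 0, 0, 0, 0, 2, 1, 0, 0, 0, 0, 0, 2, 1, 1, 1, 0, 2, 1, 1, 2, 2, 2, 0, 0, 0, 0, 2, 1, 0, 2, 1, 0,
   0, 0, 0, 2, 1, 1, 1, 0, 2, 0, 0, 0, 2, 1, 2, 0, 0, 0, 0, 0, 0, 2, 1, 1, 1, 2, 0, 0, 0, 2, 1, 1, 2, 0, 0, 2,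
   0, 0, 2, 2, 1, 0, 0, 0, 0, 0, 2, 1, 1, 1, 0, 2, 0, 0, 2, 1, 2, 0, 0, 2, 0, 0, 0, 2, 1, 1, 0, 0, 0, 0, 0, 0,
   2, 1, 1, 1, 2, 0, 0, 0, 2, 1, 1, 1, 0, 0, 2, 2, 0, 0, 0, 2, 1, 0, 0, 0, 0, 2, 1, 1, 2, 1, 0, 2, 0, 0, 0, 2,
   2, 1, 0, 0, 0, 0, 2, 1, 1, 1, 0, 2, 1, 0, 2, 0, 0, 0, 2, 1, 0, 2, 1, 0, 2, 0, 0, 0, 0, 2, 1, 0, 0, 0, 0, 0,
   0, 0, 0, 2, 1, 1, 1, 2, 1, 1, 1, 2, 0, 0, 2, 1, 0, 2, 1, 0, 0, 0, 0, 2, 2, 1, 1, 0, 0, 0, 0, 0, 2, 1, 1, 1,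
   0, 2, 2, 0, 0, 0, 2, 2, 1, 0, 0, 0, 0, 2, 2, 1, 2, 0, 0, 0, 0, 0, 0, 0, 2, 1, 1, 2, 2, 1, 0, 2, 2, 0, 0, 0,
   0, 0, 2, 0, 0, 2, 1, 1, 2, 1, 0, 0, 0, 2, 1, 2, 2, 0, 0, 0, 2, 1, 2, 0, 0, 2, 0, 0, 0, 0, 2, 1, 1, 0, 2, 1,
   1, 1, 0, 0, 2, 2, 0, 0, 0, 0, 0, 2, 2, 1, 0, 0, 0, 0, 0, 0, 0, 2, 1, 1, 1, 2, 1, 1, 0, 0, 2, 2, 0, 0, 0, 0,
   2, 1, 2, 0, 0, 2, 1, 2, 1, 0, 0, 0, 2, 0, 0, 0, 0, 2, 1, 1, 1, 0, 0, 2, 2, 1, 0, 2, 0, 0, 0, 0, 2, 1, 1, 2,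
   2, 0, 0, 0, 2, 1, 2, 0, 0, 2, 0, 0, 0, 2, 1, 0, 0, 0, 0, 0, 2, 1, 1, 1, 0, 2, 2, 1, 2, 0, 0, 2, 1, 0, 0, 0,
   0, 0, 2, 2, 2, 0, 0, 0, 0, 2, 1, 1, 1, 2, 1, 1, 0, 0, 2, 0, 0, 0, 2, 0, 0, 2, 1, 0, 2, 1, 0, 2, 2, 1, 0, 0,
   0, 0, 0, 0, 2, 1, 1, 1, 0, 2, 0, 0, 0, 2, 1, 0, 2, 2, 0, 0, 0, 0, 0, 0, 0, 0, 2, 1, 1, 2, 1, 1, 2, 2, 2, 0,
   0, 0, 0, 2, 2, 2, 0, 0, 0, 0, 0, 0, 2, 1, 1, 1, 2, 2, 1, 0, 0, 0, 0, 2, 1, 1, 0, 0, 2, 1, 1, 0, 0, 2, 0, 0,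
   0, 0, 2, 1, 1, 1, 0, 2, 1, 2, 0, 0, 0, 0, 2, 2, 0, 0, 0, 2, 1, 2, 1, 0, 0, 0, 2, 1, 2, 0, 0, 0, 0, 0, 0, 2,
   1, 1, 1, 0, 2, 0, 0, 2, 2, 0, 0, 0, 2, 1, 2, 1, 0, 2, 1, 2, 0, 0, 2, 0, 0, 0, 0, 2, 1, 0, 2, 1, 0, 2, 2, 0,
   0, 0, 0, 0, 0, 0, 0, 2, 1, 1, 1, 2, 2, 2, 2, 0, 0, 0, 0, 0, 2, 0, 0, 2, 1, 2, 2, 1, 0, 2, 1, 0, 2, 0, 0, 0,
   0, 0, 2, 1, 1, 1, 0, 0, 2, 1, 1, 0, 0, 2, 1, 0, 0, 0, 0, 0, 0, 0, 2, 1, 1, 0, 2, 1, 1, 1, 0, 0, 2, 2, 0, 0,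
   0, 2, 1, 1, 2, 2, 0, 0, 0, 0, 2, 2, 0, 0, 0, 0, 0, 2, 1, 1, 1, 2, 2, 0, 0, 0, 0, 2, 1, 2, 0, 0, 2, 1, 2, 0,
   0, 2, 1, 0, 0, 0, 0, 0, 2, 1, 1, 0, 2, 1, 0, 2, 1, 0, 0, 0, 0, 0, 0, 0, 0, 0, 0, 0, 0, 2, 1, 1, 1, 2, 1, 1,
   1, 2, 1, 1, 0, 0, 2, 1, 1, 1, 0, 0, 0, 0, 0, 0, 2, 1, 1, 2, 0, 0, 2, 1, 0, 0, 0, 0, 0, 2, 1, 1, 1, 2, 1, 0,
   0, 0, 2, 2, 0, 0, 0, 2, 1, 1, 1, 0, 0, 0, 2, 1, 2, 2, 0, 0, 0, 2, 2, 0, 0, 0, 0, 0, 2, 1, 1, 0, 2, 1, 0, 2,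
   0, 0, 0, 2, 1, 1, 2, 0, 0, 2, 1, 0, 2, 0, 0, 0, 2, 1, 0, 0, 0, 0, 0, 0, 2, 1, 1, 1, 2, 1, 1, 0, 0, 2, 0, 0,
   0, 2, 1, 0, 2, 1, 0, 0, 0, 0, 2, 1, 1, 2, 0, 0, 0, 2, 1, 0, 2, 2, 0, 0, 0, 0, 0, 2, 1, 1, 1, 2, 1, 0, 0, 0,
   2, 0, 0, 2, 1, 1, 0, 2, 0, 0, 2, 2, 1, 2, 0, 0, 0, 0, 0, 0, 2, 2, 1, 1, 0, 2, 1, 0, 0, 0, 2, 2, 2, 0, 0, 0,
   0, 0, 0, 0, 0, 0, 2, 1, 1, 1, 2, 1, 1, 1, 0, 2, 0, 0, 0, 2, 2, 2, 2, 0, 0, 0, 0, 0, 0, 2, 1, 2, 1, 1, 0, 2,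
   2, 0, 0, 0, 2, 2, 2, 0, 0, 0, 0, 0, 0, 0, 0, 2, 1, 1, 1, 2, 1, 1, 2, 0, 0, 2, 0, 0, 2, 1, 0, 0, 0, 0, 0, 2,
   1, 1, 1, 2, 1, 0, 0, 0, 2, 0, 0, 2, 1, 2, 0, 0, 2, 0, 0, 0, 2, 2, 1, 1, 2, 0, 0, 0, 2, 1, 0, 2, 1, 1, 0, 0,
   0, 0, 0, 0, 0, 0, 2, 1, 1, 1, 0, 2, 0, 0, 2, 1, 1, 0, 0, 2, 1, 0, 2, 2, 0, 0, 0, 0, 0, 2, 1, 1, 1, 0, 2, 1,
   1, 0, 0, 2, 1, 0, 0, 0, 0, 2, 1, 2, 0, 0, 0, 0, 2, 1, 1, 2, 2, 0, 0, 0, 2, 0, 0, 0, 0, 0, 0, 0, 0, 2, 1, 1,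
   1, 2, 1, 2, 1, 2, 0, 0, 0, 0, 2, 1, 1, 1, 2, 0, 0, 0, 2, 1, 0, 0, 0, 2, 2, 1, 2, 0, 0, 2, 0, 0, 0, 0, 0, 0,
   2, 1, 1, 1, 2, 2, 0, 0, 0, 2, 1, 2, 0, 0, 0, 0, 0, 2, 1, 1, 1, 2, 1, 0, 0, 0, 0, 2, 1, 1, 0, 0, 2, 1, 0, 0,
   0, 0, 2, 1, 2, 0, 0, 2, 1, 0, 2, 1, 1, 0, 2, 1, 0, 0, 0, 0, 0, 0, 0, 0, 0, 2, 1, 1, 1, 2, 2, 2, 0, 0, 0, 0,
   2, 1, 0, 2, 1, 1, 1, 0, 0, 2, 2, 0, 0, 0, 2, 2, 2, 0, 0, 0, 0, 0, 0, 2, 1, 1, 1, 2, 0, 0, 0, 2, 1, 1, 2, 0,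
   0, 2, 0, 0, 2, 1, 0, 0, 0, 0, 2, 1, 0, 2, 0, 0, 0, 0, 2, 1, 0, 2, 1, 0, 0, 0, 0, 0, 2, 1, 1, 1, 2, 1, 1, 2,
   2, 0, 0, 0, 0, 0, 0, 0, 2, 1, 1, 2, 2, 0, 0, 0, 2, 1, 1, 2, 0, 0, 2, 1, 0, 0, 0, 2, 1, 1, 1, 0, 0, 2, 2, 0,
   0, 0, 2, 2, 1, 0, 0, 0, 0, 0, 0, 2, 1, 1, 1, 0, 2, 2, 1, 0, 0, 0, 0, 2, 1, 1, 1, 0, 0, 0, 2, 1, 0, 2, 0, 0,
   0, 0, 2, 1, 2, 1, 2, 0, 0, 2, 0, 0, 0, 0, 0, 0, 0, 2, 1, 1, 1, 2, 0, 0, 2, 2, 2, 0, 0, 0, 0, 2, 2, 1, 1, 0,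
   2, 0, 0, 2, 1, 2, 0, 0, 0, 0, 0, 0, 2, 1, 1, 1, 2, 0, 0, 2, 2, 1, 0, 0, 0, 0, 2, 1, 1, 1, 0, 0, 2, 1, 2, 0,
   0, 0, 0, 2, 0, 0, 0, 2, 1, 1, 1, 0, 2, 1, 0, 2, 1, 0, 2, 0, 0, 0, 0, 0, 2, 2, 1, 0, 2, 1, 1, 0, 0, 0, 0, 0,
   0, 0, 0, 0, 0, 0, 2, 1, 1, 1, 2, 1, 1, 1, 2, 2, 1, 2, 0, 0, 0, 0, 0, 2, 2, 0, 0, 0, 2, 1, 1, 0, 2, 0, 0, 2,
   1, 1, 0, 2, 0, 0, 0, 0, 0, 2, 1, 1, 1, 0, 2, 0, 0, 2, 1, 2, 2, 1, 0, 0, 0, 0, 2, 1, 0, 0, 0, 0, 2, 1, 1, 1,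
   0, 0, 2, 0, 0, 2, 1, 1, 0, 2, 0, 0, 2, 1, 0, 0, 0, 0, 0, 0, 0, 2, 1, 1, 1, 2, 1, 2, 0, 0, 2, 0, 0, 0, 2, 1,
   0, 0, 0, 2, 1, 1, 1, 2, 1, 0, 0, 0, 0, 0, 2, 1, 1, 1, 0, 0, 2, 1, 0, 0, 0, 2, 1, 2, 2, 0, 0, 0, 2, 2, 0, 0,
   0, 0, 0, 0, 2, 1, 1, 1, 2, 1, 0, 0, 0, 2, 2, 1, 1, 0, 0, 2, 2, 0, 0, 0, 0, 0, 2, 2, 1, 1, 0, 2, 0, 0, 2, 1,
   0, 2, 2, 0, 0, 0, 0, 0, 0, 2, 1, 1, 1, 2, 0, 0, 2, 2, 1, 0, 0, 0, 0, 2, 2, 2, 0, 0, 0, 0, 2, 2, 1, 1, 0, 0,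
   2, 1, 0, 0, 0, 0, 0, 0, 0, 0, 2, 1, 1, 1, 2, 1, 1, 1, 0, 0, 2, 0, 0, 2, 2, 2, 0, 0, 0, 0, 0, 2, 1, 2, 1, 1,
   0, 0, 0, 0, 2, 1, 2, 2, 1, 0, 0, 0, 0, 2, 1, 0, 2, 1, 2, 2, 0, 0, 0, 0, 0, 0, 0, 0, 2, 1, 1, 1, 2, 0, 0, 0,
   2, 1, 0, 2, 1, 1, 0, 0, 2, 0, 0, 0, 0, 2, 2, 1, 0, 2, 1, 1, 0, 2, 1, 0, 0, 0, 2, 1, 2, 0, 0, 2, 0, 0, 0, 0,
   0, 0, 0, 2, 1, 1, 1, 0, 2, 1, 1, 1, 0, 2, 1, 0, 2, 0, 0, 0, 2, 0, 0, 2, 0, 0, 0, 2, 1, 1, 1, 0, 2, 2, 2, 0,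
   0, 0, 0, 2, 1, 2, 1, 2, 0, 0, 0, 0, 2, 2, 0, 0, 0, 0, 2, 1, 1, 0, 2, 2, 0, 0, 0, 0, 0, 0, 2, 1, 2, 1, 1, 0,
   2, 1, 0, 2, 2, 0, 0, 0, 0, 2, 1, 0, 2, 1, 1, 0, 0, 0, 0, 0, 0, 2, 1, 1, 1, 2, 0, 0, 0, 2, 2, 1, 0, 2, 0, 0,
   0, 0, 2, 2, 1, 0, 2, 2, 0, 0, 0, 0, 0, 0, 0, 0, 0, 2, 1, 1, 1, 2, 1, 1, 1, 2, 0, 0, 2, 1, 0, 2, 0, 0, 0, 2,
   2, 0, 0, 0, 2, 1, 2, 1, 0, 2, 0, 0, 0, 2, 1, 1, 1, 0, 0, 0, 2, 0, 0, 0, 0, 0, 2, 1, 1, 1, 2, 1, 0, 2, 2, 1,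
   0, 0, 0, 0, 0, 2, 1, 1, 1, 2, 0, 0, 0, 2, 0, 0, 2, 0, 0, 0, 2, 1, 1, 0, 0, 0, 0, 2, 1, 1, 1, 2, 0, 0, 2, 0,
   0, 2, 1, 1, 1, 0, 0, 2, 0, 0, 0, 0, 2, 1, 1, 0, 2, 1, 0, 2, 1, 0, 2, 0, 0, 0, 0, 2, 1, 2, 1, 0, 2, 0, 0, 0,
   2, 1, 0, 2, 0, 0, 0, 0, 0, 0, 0, 2, 1, 1, 1, 2, 2, 0, 0, 0, 0, 2, 1, 1, 0, 2, 2, 1, 0, 0, 0, 0, 2, 1, 0, 2,
   2, 0, 0, 0, 0, 0, 2, 2, 1, 1, 2, 2, 0, 0, 0, 0, 2, 2, 2, 1, 2, 0, 0, 2, 0, 0, 0, 0, 0, 0, 0, 0, 2, 1, 1, 1,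
   2, 1, 1, 0, 2, 0, 0, 0, 0, 2, 1, 2, 1, 0, 2, 0, 0, 0, 2, 2, 1, 0, 2, 1, 0, 2, 0, 0, 0, 0, 0, 0, 2, 1, 1, 1,
   0, 2, 2, 0, 0, 0, 0, 2, 1, 1, 1, 2, 0, 0, 0, 2, 2, 1, 0, 0, 0, 0, 2, 1, 1, 1, 0, 2, 2, 0, 0, 0, 0, 2, 1, 0,
   0, 0, 0, 0, 0, 2, 1, 1, 1, 2, 1, 0, 0, 0, 2, 1, 1, 0, 0, 2, 1, 2, 1, 2, 0, 0, 0, 0, 2, 0, 0, 0, 0, 2, 1, 1,
   1, 2, 2, 2, 0, 0, 0, 0, 0, 2, 1, 1, 0, 0, 2, 2, 1, 0, 2, 0, 0, 0, 0, 0, 2, 2, 1, 0, 2, 1, 2, 2, 0, 0, 0, 0,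
   0, 0, 0, 0, 2, 1, 1, 1, 2, 0, 0, 2, 1, 1, 0, 2, 0, 0, 0, 0, 2, 1, 0, 2, 1, 2, 0, 0, 2, 1, 0, 0, 0, 0, 0, 2,
   1, 1, 1, 0, 2, 0, 0, 2, 1, 1, 1, 0, 0, 2, 0, 0, 2, 0, 0, 0, 2, 1, 2, 1, 0, 0, 0, 2, 1, 1, 0, 2, 1, 0, 0, 0,
   2, 1, 0, 0, 0, 0, 0, 0, 0, 0, 0, 0, 0, 0, 2, 1, 1, 1, 2, 1, 1, 1, 2, 1, 1, 2, 0, 0, 2, 1, 0, 0, 0, 2, 2, 2,
   0, 0, 0, 0, 0, 0, 2, 1, 1, 1, 2, 0, 0, 2, 1, 1, 2, 1, 0, 0, 0, 0, 0, 0, 2, 1, 1, 1, 2, 0, 0, 2, 0, 0, 2, 2,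
   0, 0, 0, 2, 1, 2, 0, 0, 2, 2, 0, 0, 0, 0, 0, 2, 1, 1, 1, 0, 2, 1, 2, 0, 0, 2, 0, 0, 0, 2, 1, 2, 0, 0, 0, 0,
   2, 1, 1, 0, 2, 0, 0, 0, 0, 0, 0, 2, 1, 1, 1, 2, 1, 1, 1, 0, 2, 0, 0, 0, 2, 2, 0, 0, 0, 0, 2, 1, 1, 1, 2, 1,
   0, 0, 0, 0, 0, 0, 0, 2, 1, 1, 1, 2, 0, 0, 2, 0, 0, 2, 1, 1, 0, 2, 0, 0, 2, 0, 0, 0, 2, 1, 1, 0, 2, 0, 0, 2,
   1, 2, 2, 0, 0, 0, 2, 0, 0, 0, 0, 0, 2, 1, 2, 2, 2, 1, 1, 0, 0, 0, 0, 0, 0, 2, 1, 1, 0, 2, 1, 1, 1, 0, 2, 0,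
   0, 2, 0, 0, 2, 1, 0, 0, 0, 0, 2, 1, 1, 2, 2, 0, 0, 0, 2, 0, 0, 2, 2, 1, 2, 0, 0, 0, 0, 0, 0, 0, 0, 0, 0, 2,
   1, 1, 1, 2, 1, 2, 1, 2, 0, 0, 2, 1, 0, 2, 0, 0, 0, 0, 0, 0, 2, 1, 1, 0, 2, 1, 1, 2, 0, 0, 2, 2, 0, 0, 0, 2,
   1, 2, 1, 0, 0, 0, 0, 0, 0, 2, 1, 1, 0, 0, 2, 1, 1, 2, 1, 0, 2, 0, 0, 0, 0, 2, 2, 1, 1, 0, 0, 2, 0, 0, 0, 0,
   0, 0, 0, 2, 1, 1, 1, 0, 2, 1, 2, 1, 0, 2, 2, 0, 0, 0, 0, 2, 1, 1, 0, 0, 2, 0, 0, 0, 0, 2, 1, 1, 1, 2, 1, 0,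
   0, 0, 0, 2, 1, 2, 1, 0, 0, 0, 2, 2, 0, 0, 0, 0, 2, 1, 1, 1, 0, 0, 2, 2, 0, 0, 0, 0, 0, 0, 2, 1, 1, 1, 2, 1,
   0, 0, 0, 2, 1, 1, 0, 0, 0, 0, 2, 2, 0, 0, 0, 2, 1, 1, 1, 0, 2, 2, 1, 0, 0, 0, 0, 2, 1, 2, 0, 0, 2, 1, 0, 0,
   0, 0, 2, 2, 1, 0, 2, 0, 0, 0, 0, 0, 0, 0, 2, 1, 1, 1, 2, 1, 2, 0, 0, 2, 1, 0, 2, 1, 0, 2, 0, 0, 0, 0, 0, 2,
   1, 0, 2, 1, 1, 1, 2, 0, 0, 0, 2, 0, 0, 2, 1, 1, 0, 0, 2, 0, 0, 0, 0, 0, 2, 1, 1, 1, 2, 0, 0, 0, 2, 1, 1, 1,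
   0, 0, 2, 2, 1, 0, 0, 0, 0, 2, 1, 1, 0, 0, 2, 0, 0, 0, 0, 2, 1, 1, 1, 2, 0, 0, 2, 0, 0, 2, 1, 1, 2, 0, 0, 0,
   2, 2, 0, 0, 0, 0, 2, 1, 1, 1, 0, 0, 0, 2, 1, 0, 2, 1, 0, 2, 0, 0, 0, 0, 0, 0, 0, 2, 1, 1, 1, 2, 1, 1, 2, 0,
   0, 0, 0, 0, 2, 1, 1, 2, 2, 0, 0, 0, 0, 0, 0, 2, 1, 1, 1, 0, 0, 2, 0, 0, 2, 1, 2, 1, 0, 2, 1, 0, 0, 0, 0, 2,
   1, 0, 2, 1, 1, 0, 0, 2, 2, 0, 0, 0, 0, 0, 0, 0, 2, 1, 1, 1, 2, 0, 0, 2, 1, 1, 0, 0, 2, 2, 0, 0, 0, 0, 2, 1,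
   1, 1, 0, 0, 2, 1, 2, 0, 0, 0, 0, 2, 1, 0, 0, 0, 0, 2, 1, 1, 1, 0, 2, 0, 0, 0, 2, 2, 2, 0, 0, 0, 0, 0, 0, 0,
   0, 0, 2, 1, 1, 1, 2, 1, 1, 2, 1, 1, 2, 0, 0, 0, 0, 0, 2, 1, 1, 1, 0, 0, 2, 1, 1, 0, 0, 0, 0, 2, 1, 1, 0, 0,
   2, 0, 0, 0, 0, 2, 2, 1, 1, 0, 2, 0, 0, 0, 0, 0, 0, 2, 1, 1, 1, 2, 0, 0, 2, 1, 1, 1, 0, 0, 0, 2, 2, 0, 0, 0,
   0, 2, 1, 1, 1, 2, 0, 0, 0, 2, 1, 1, 0, 0, 2, 1, 0, 0, 0, 0, 0, 0, 2, 1, 1, 2, 0, 0, 0, 2, 1, 1, 2, 2, 0, 0,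
   0, 0, 2, 2, 1, 1, 0, 0, 2, 1, 0, 0, 0, 0, 0, 0, 0, 0, 2, 1, 1, 1, 2, 2, 1, 1, 1, 0, 2, 0, 0, 2, 0, 0, 2, 1,
   0, 2, 0, 0, 0, 0, 0, 2, 1, 1, 1, 2, 0, 0, 2, 1, 2, 0, 0, 0, 0, 2, 0, 0, 2, 1, 1, 0, 0, 2, 1, 1, 0, 0, 2, 1,
   0, 0, 0, 0, 0, 0, 2, 1, 1, 1, 2, 0, 0, 2, 1, 2, 0, 0, 2, 0, 0, 0, 0, 2, 0, 0, 0, 2, 1, 1, 1, 0, 2, 0, 0, 2,
   1, 1, 1, 0, 0, 2, 2, 0, 0, 0, 2, 2, 1, 1, 2, 1, 0, 0, 0, 2, 2, 0, 0, 0, 2, 2, 0, 0, 0, 0, 0, 0, 2, 1, 1, 1,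
   0, 0, 2, 1, 0, 2, 1, 0, 2, 1, 2, 0, 0, 0, 0, 0, 0, 2, 2, 1, 1, 2, 0, 0, 2, 2, 0, 0, 0, 2, 1, 0, 2, 2, 0, 0,
   0, 0, 0, 0, 0, 0, 0, 2, 1, 1, 1, 2, 1, 2, 1, 2, 0, 0, 2, 2, 0, 0, 0, 0, 2, 1, 1, 1, 0, 2, 0, 0, 2, 2, 0, 0,
   0, 2, 1, 2, 2, 0, 0, 0, 0, 0, 0, 0, 2, 1, 1, 1, 0, 2, 1, 1, 0, 2, 0, 0, 0, 0, 2, 2, 1, 0, 2, 0, 0, 0, 0, 2,
   2, 2, 1, 0, 2, 2, 0, 0, 0, 0, 0, 0, 0, 2, 1, 1, 1, 0, 2, 1, 1, 0, 2, 1, 0, 2, 1, 0, 0, 0, 0, 2, 1, 0, 2, 1,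
   2, 0, 0, 0, 0, 0, 0, 2, 1, 1, 1, 0, 2, 0, 0, 2, 1, 2, 0, 0, 0, 0, 2, 1, 1, 1, 0, 0, 2, 0, 0, 2, 1, 0, 0, 0,
   0, 0, 2, 1, 1, 2, 0, 0, 2, 1, 2, 0, 0, 2, 1, 0, 2, 1, 0, 0, 0, 0, 0, 2, 1, 1, 1, 0, 0, 2, 1, 0, 2, 2, 0, 0,
   0, 0, 2, 1, 0, 2, 1, 0, 2, 2, 0, 0, 0, 0, 0, 0, 0, 0, 2, 1, 1, 1, 2, 1, 1, 0, 0, 2, 0, 0, 0, 2, 1, 1, 2, 1,
   0, 2, 0, 0, 0, 0, 2, 1, 1, 1, 2, 0, 0, 2, 0, 0, 0, 2, 1, 0, 2, 1, 2, 1, 0, 0, 0, 0, 0, 0, 0, 0, 2, 1, 1, 0,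
   2, 1, 2, 2, 0, 0, 0, 0, 0, 2, 1, 1, 2, 0, 0, 2, 1, 2, 0, 0, 2, 1, 0, 0, 0, 0, 2, 1, 1, 0, 0, 2, 2, 2, 0, 0,
   0, 0, 0, 0, 0, 2, 1, 1, 1, 0, 2, 2, 2, 0, 0, 0, 0, 2, 1, 2, 1, 2, 0, 0, 0, 0, 2, 1, 1, 0, 2, 1, 0, 0, 0, 2,
   1, 0, 2, 0, 0, 0, 0, 0, 2, 1, 1, 1, 0, 0, 2, 1, 1, 2, 0, 0, 2, 1, 0, 0, 0, 2, 0, 0, 0, 2, 1, 0, 2, 1, 2, 0,
   0, 2, 1, 1, 0, 0, 0, 0, 0, 0, 0, 0, 0, 0, 0, 2, 1, 1, 1, 2, 1, 1, 1, 2, 1, 1, 2, 0, 0, 0, 0, 0, 2, 2, 2, 2,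
   0, 0, 0, 0, 0, 2, 1, 1, 1, 0, 2, 0, 0, 0, 0, 0, 2, 1, 1, 1, 0, 0, 0, 2, 1, 2, 2, 0, 0, 0, 2, 1, 1, 1, 0, 2,
   0, 0, 2, 2, 0, 0, 0, 2, 2, 0, 0, 0, 0, 0, 0, 0, 2, 1, 1, 1, 2, 1, 2, 1, 1, 0, 0, 0, 0, 2, 0, 0, 0, 2, 1, 1,
   1, 0, 0, 2, 1, 0, 2, 1, 1, 0, 0, 2, 0, 0, 0, 0, 2, 2, 2, 1, 0, 0, 0, 0, 0, 0, 2, 1, 1, 1, 0, 0, 2, 1, 1, 2,
   0, 0, 2, 1, 0, 2, 1, 0, 0, 0, 0, 2, 1, 2, 1, 0, 0, 0, 2, 2, 0, 0, 0, 0, 0, 2, 1, 2, 1, 0, 2, 0, 0, 0, 2, 2,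
   0, 0, 0, 0, 0, 2, 1, 1, 1, 0, 2, 1, 0, 2, 0, 0, 0, 2, 1, 1, 1, 0, 2, 2, 0, 0, 0, 2, 0, 0, 2, 1, 1, 2, 0, 0,
   2, 1, 2, 2, 0, 0, 0, 2, 0, 0, 0, 2, 1, 0, 2, 0, 0, 0, 0, 0, 2, 1, 1, 1, 2, 0, 0, 0, 2, 1, 1, 2, 0, 0, 2, 2,
   0, 0, 0, 2, 1, 1, 1, 0, 0, 0, 2, 1, 0, 0, 0, 0, 0, 2, 1, 1, 1, 2, 0, 0, 0, 0, 2, 1, 1, 0, 0, 2, 1, 1, 0, 0,
   0, 0, 0, 0, 0, 0, 0, 2, 1, 1, 1, 2, 1, 1, 1, 2, 2, 0, 0, 0, 2, 0, 0, 2, 1, 0, 2, 2, 1, 0, 0, 0, 0, 0, 2, 1,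
   1, 2, 1, 0, 0, 0, 2, 0, 0, 2, 1, 2, 2, 0, 0, 0, 2, 1, 1, 1, 0, 0, 0, 2, 0, 0, 0, 0, 0, 0, 2, 1, 1, 1, 2, 1,
   2, 0, 0, 2, 2, 0, 0, 0, 0, 2, 1, 0, 0, 0, 2, 2, 2, 1, 0, 0, 0, 0, 0, 2, 1, 1, 2, 2, 0, 0, 0, 2, 1, 1, 0, 0,
   2, 1, 0, 0, 0, 0, 2, 0, 0, 0, 0, 2, 1, 1, 1, 0, 2, 2, 0, 0, 0, 2, 1, 1, 1, 0, 2, 1, 0, 2, 0, 0, 0, 2, 1, 0,
   2, 1, 0, 0, 0, 0, 2, 2, 1, 2, 0, 0, 2, 2, 0, 0, 0, 0, 0, 0, 0, 0, 2, 1, 1, 1, 2, 1, 1, 1, 0, 2, 1, 2, 0, 0,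
   0, 0, 2, 1, 0, 0, 0, 2, 0, 0, 0, 2, 1, 1, 2, 0, 0, 2, 1, 2, 0, 0, 0, 0, 0, 0, 2, 1, 2, 1, 1, 1, 0, 2, 0, 0,
   0, 2, 1, 0, 2, 2, 0, 0, 0, 0, 0, 0, 0, 2, 1, 1, 1, 0, 2, 1, 1, 1, 0, 0, 2, 0, 0, 2, 1, 0, 2, 1, 0, 0, 0, 0,
   0, 2, 1, 1, 1, 0, 2, 1, 0, 0, 0, 0, 2, 1, 1, 2, 0, 0, 0, 2, 0, 0, 0, 0, 2, 1, 1, 1, 2, 0, 0, 2, 1, 0, 0, 0,
   2, 1, 1, 0, 0, 2, 1, 0, 0, 0, 0, 2, 1, 1, 0, 2, 0, 0, 2, 1, 1, 1, 0, 0, 0, 2, 1, 2, 0, 0, 2, 1, 0, 0, 0, 0,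
   0, 0, 0, 0, 0, 0, 2, 1, 1, 1, 2, 1, 1, 1, 0, 2, 0, 0, 2, 1, 1, 0, 2, 2, 0, 0, 0, 0, 0, 2, 1, 2, 0, 0, 0, 0,
   0, 2, 1, 1, 1, 2, 1, 0, 0, 0, 2, 1, 1, 1, 2, 0, 0, 0, 0, 0, 0, 2, 2, 0, 0, 0, 2, 2, 1, 1, 1, 2, 0, 0, 0, 2,
   1, 1, 0, 2, 0, 0, 2, 0, 0, 0, 2, 2, 1, 2, 0, 0, 2, 0, 0, 0, 0, 0, 0, 0, 2, 1, 1, 2, 1, 1, 2, 2, 0, 0, 0, 2,
   2, 1, 0, 0, 0, 0, 2, 1, 1, 1, 0, 0, 2, 1, 0, 2, 0, 0, 0, 2, 1, 1, 0, 0, 0, 0, 0, 0, 2, 1, 1, 1, 2, 2, 0, 0,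
   0, 2, 1, 1, 0, 0, 2, 2, 1, 0, 0, 0, 0, 0, 2, 2, 2, 0, 0, 0, 0, 2, 1, 2, 1, 0, 2, 1, 1, 0, 0, 0, 0, 0, 2, 0,
   0, 0, 0, 2, 1, 1, 1, 2, 2, 1, 0, 0, 0, 0, 2, 1, 1, 0, 2, 1, 0, 2, 0, 0, 0, 2, 2, 1, 2, 0, 0, 0, 0, 0, 0, 2,
   1, 1, 2, 1, 0, 2, 0, 0, 0, 2, 2, 1, 0, 0, 0, 0, 2, 1, 2, 1, 0, 0, 0, 2, 1, 0, 0, 0, 0, 0, 2, 1, 1, 1, 2, 0,
   0, 0, 2, 1, 1, 2, 1, 0, 0, 0, 0, 2, 1, 1, 0, 2, 0, 0, 2, 0, 0, 0, 0, 2, 1, 0, 2, 1, 0, 2, 1, 2, 0, 0, 2, 0,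
   0, 0, 0, 0, 0, 0, 0, 2, 1, 1, 1, 2, 1, 2, 2, 1, 2, 0, 0, 0, 0, 0, 0, 0, 0, 2, 1, 1, 1, 0, 0, 2, 1, 1, 1, 0,
   2, 1, 0, 0, 0, 2, 2, 0, 0, 0, 2, 1, 2, 1, 0, 0, 0, 2, 1, 0, 2, 2, 0, 0, 0, 0, 0, 0, 2, 1, 1, 1, 2, 2, 1, 0,
   0, 0, 0, 2, 1, 2, 0, 0, 0, 0, 2, 1, 1, 2, 2, 0, 0, 0, 2, 1, 1, 0, 0, 2, 0, 0, 0, 2, 1, 1, 0, 0, 2, 2, 2, 0,
   0, 0, 0, 0, 0, 2, 1, 1, 1, 2, 0, 0, 2, 1, 0, 0, 0, 2, 2, 0, 0, 0, 2, 1, 1, 0, 0, 2, 2, 0, 0, 0, 0, 0, 0, 0,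
   2, 1, 1, 1, 2, 1, 2, 1, 2, 0, 0, 0, 0, 2, 1, 0, 2, 1, 0, 0, 0, 0, 0, 2, 1, 1, 1, 0, 0, 2, 1, 1, 0, 0, 2, 0,
   0, 0, 2, 2, 2, 2, 0, 0, 0, 0, 0, 0, 2, 1, 1, 1, 0, 2, 1, 2, 0, 0, 0, 0, 2, 2, 2, 0, 0, 0, 0, 2, 1, 2, 1, 0,
   0, 0, 2, 1, 2, 0, 0, 2, 2, 1, 0, 0, 0, 0, 0, 0, 0, 2, 1, 1, 1, 2, 1, 2, 0, 0, 2, 1, 0, 0, 0, 0, 2, 1, 1, 0,
   2, 1, 0, 0, 0, 2, 2, 0, 0, 0, 0, 2, 1, 1, 1, 2, 1, 0, 0, 0, 2, 2, 0, 0, 0, 2, 1, 2, 0, 0, 0, 0, 2, 1, 1, 2,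
   0, 0, 0, 2, 1, 0, 0, 0, 0, 0, 2, 1, 1, 0, 2, 1, 0, 2, 2, 1, 0, 2, 0, 0, 0, 0, 0, 2, 1, 1, 1, 0, 2, 1, 0, 0,
   0, 2, 1, 1, 0, 0, 0, 0, 2, 1, 1, 1, 0, 2, 1, 0, 0, 0, 2, 2, 0, 0, 0, 2]

theorem s2o4_run : orbCount trioAct (trioKey 1036859) sGens s2o4I [15144071473470]
    (Nat.shiftLeft 1 (trioKey 1036859 15144071473470)) 1 = 2880 := by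
  decide +kernel

theorem s2o4_v : trioValid 15144071473470 := (trioValid_iff _).2 (by decide +kernel)

theorem s2o4_le : 2880 ≤ (MulAction.orbit ↥(MulAction.stabilizer ↥M24 (famOf sZ)) (trioDec 15144071473470)).ncard :=
  trio_orbit_le _ 1036859 (gens_of_famOK sGens_ok) s2o4_v s2o4_run (by norm_num)

theorem s2o4_e : trioDec 15144071473470 = famOf [10558, 902657, 15864000] := trioDec_eq_famOf s2o4_v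

theorem s2_orbits : Orbits4 (famOf sZ) trios 15 180 720 2880 := by
  refine orbits4_of_lower (famOf sZ) trios (fun g hg x hx => smul_mem_trios hg hx)
    (trioDec_mem s2o1_v) (trioDec_mem s2o2_v) (trioDec_mem s2o3_v) (trioDec_mem s2o4_v)
    s2o1_le s2o2_le s2o3_le s2o4_le
    (by rw [Helper26.trios_ncard]) ?_ ?_ ?_ ?_ ?_ ?_
  · exact not_orbit_of_interB (zs := sZ) (xs := [5279, 4038912, 12733024]) (xs' := [5279, 1009728, 15762208])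
      (fun g h => h) (fam_of_eq s2o1_e s2o2_e)
      (by decide +kernel) (by decide +kernel) (by decide +kernel) 2 (by decide +kernel)
  · exact not_orbit_of_interB (zs := sZ) (xs := [5279, 4038912, 12733024]) (xs' := [18147, 1839388, 14919680])
      (fun g h => h) (fam_of_eq s2o1_e s2o3_e)
      (by decide +kernel) (by decide +kernel) (by decide +kernel) 2 (by decide +kernel)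
  · exact not_orbit_of_interB (zs := sZ) (xs := [5279, 4038912, 12733024]) (xs' := [10558, 902657, 15864000])
      (fun g h => h) (fam_of_eq s2o1_e s2o4_e)
      (by decide +kernel) (by decide +kernel) (by decide +kernel) 1 (by decide +kernel)
  · exact not_orbit_of_interB (zs := sZ) (xs := [5279, 1009728, 15762208]) (xs' := [18147, 1839388, 14919680])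
      (fun g h => h) (fam_of_eq s2o2_e s2o3_e)
      (by decide +kernel) (by decide +kernel) (by decide +kernel) 4 (by decide +kernel)
  · exact not_orbit_of_interB (zs := sZ) (xs := [5279, 1009728, 15762208]) (xs' := [10558, 902657, 15864000])
      (fun g h => h) (fam_of_eq s2o2_e s2o4_e)
      (by decide +kernel) (by decide +kernel) (by decide +kernel) 1 (by decide +kernel)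
  · exact not_orbit_of_interB (zs := sZ) (xs := [18147, 1839388, 14919680]) (xs' := [10558, 902657, 15864000])
      (fun g h => h) (fam_of_eq s2o3_e s2o4_e)
      (by decide +kernel) (by decide +kernel) (by decide +kernel) 1 (by decide +kernel)

/-- The stabiliser of a sextet in the group of the length-24 code has exactly three orbits on the 759 octads, of sizes 15, 360 and 384, and exactly four orbits on the 3795 trios, of sizes 15, 180, 720 and 2880. -/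
theorem result (S : Finset (Finset Cfsg.GolayPt)) (hS : S ∈ Cfsg.sextets) : (∃ X₁ ∈ Cfsg.octads, ∃ X₂ ∈ Cfsg.octads, ∃ X₃ ∈ Cfsg.octads, (MulAction.orbit ↥(MulAction.stabilizer Cfsg.M24 S) X₁).ncard = 15 ∧ (MulAction.orbit ↥(MulAction.stabilizer Cfsg.M24 S) X₂).ncard = 360 ∧ (MulAction.orbit ↥(MulAction.stabilizer Cfsg.M24 S) X₃).ncard = 384 ∧ Cfsg.octads = MulAction.orbit ↥(MulAction.stabilizer Cfsg.M24 S) X₁ ∪ MulAction.orbit ↥(MulAction.stabilizer Cfsg.M24 S) X₂ ∪ MulAction.orbit ↥(MulAction.stabilizer Cfsg.M24 S) X₃) ∧ (∃ Y₁ ∈ Cfsg.trios, ∃ Y₂ ∈ Cfsg.trios, ∃ Y₃ ∈ Cfsg.trios, ∃ Y₄ ∈ Cfsg.trios, (MulAction.orbit ↥(MulAction.stabilizer Cfsg.M24 S) Y₁).ncard = 15 ∧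 (MulAction.orbit ↥(MulAction.stabilizer Cfsg.M24 S) Y₂).ncard = 180 ∧ (MulAction.orbit ↥(MulAction.stabilizer Cfsg.M24 S) Y₃).ncard = 720 ∧ (MulAction.orbit ↥(MulAction.stabilizer Cfsg.M24 S) Y₄).ncard = 2880 ∧ Cfsg.trios = MulAction.orbit ↥(MulAction.stabilizer Cfsg.M24 S) Y₁ ∪ MulAction.orbit ↥(MulAction.stabilizer Cfsg.M24 S) Y₂ ∪ MulAction.orbit ↥(MulAction.stabilizer Cfsg.M24 S) Y₃ ∪ MulAction.orbit ↥(MulAction.stabilizer Cfsg.M24 S) Y₄) := by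
  obtain ⟨u, hu, rfl⟩ := exists_m24_sextet hS
  rw [sZ_eq]
  exact ⟨s1_orbits.smul hu (fun g hg x hx => smul_mem_octads hg hx),
    s2_orbits.smul hu (fun g hg x hx => smul_mem_trios hg hx)⟩

end Cfsg.Agent.S5611
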