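import Cfsg.Statements.S5612
import Cfsg.Agent.Helper91.Sep

set_option autoImplicit false
open scoped Pointwise
open Cfsg

namespace Cfsg.Agent.S5612

open Cfsg.Agent.Helper91

set_option maxRecDepth 100000

/-- The octads of a trio. -/
def sZ : List Nat := [8536111, 337856, 7903248]

theorem sZ_v : trioValid 5668291625007 := (trioValid_iff _).2 (by decide +kernel)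

theorem sZ_eq : trioDec 5668291625007 = famOf sZ := trioDec_eq_famOf sZ_v

/-- Generators of the stabilizer of the trio `sZ`. -/
def sGens : List (List Nat) :=
  [[2, 23, 0, 5, 10, 3, 12, 11, 21, 22, 4, 7, 6, 20, 17, 16, 15, 14, 19, 18, 13, 8, 9, 1],
   [7, 8, 16, 6, 22, 13, 17, 0, 23, 2, 1, 20, 12, 14, 9, 21, 3, 10, 5, 15, 4, 11, 19, 18]]

theorem sGens_ok : sGens.all (genFamOK sZ) = true := by decide +kernel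

def s1o1I : List Nat :=
  [1, 0, 2]

theorem s1o1_run : orbCount pullMask (fun m => Nat.mod m 4096) sGens s1o1I [337856]
    (Nat.shiftLeft 1 (Nat.mod 337856 4096)) 1 = 3 := by
  decide +kernel

theorem s1o1_v : setM 337856 ∈ octads := (setM_mem_octads_iff (by norm_num)).2 (by decide +kernel)

theorem s1o1_le : 3 ≤ (MulAction.orbit ↥(MulAction.stabilizer ↥M24 (famOf sZ)) (setM 337856)).ncard :=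
  set_orbit_le _ (fun m => Nat.mod m 4096) (gens_of_famOK sGens_ok) (by norm_num) s1o1_run (by norm_num)

def s1o2I : List Nat :=
  [1, 2, 1, 2, 1, 2, 1, 2, 1, 0, 2, 0, 0, 0, 2, 1, 2, 2, 2, 0, 0, 0, 0, 2, 0, 0, 0, 0, 2, 1, 2, 1, 0, 2, 2, 1,
   0, 2, 0, 0, 0, 0, 0, 0, 0, 0, 2, 2, 1, 2, 1, 2, 2, 1, 0, 0, 0, 0, 2, 1, 0, 0, 0, 0, 2, 1, 2, 2, 1, 0, 2, 2,
   0, 0, 0, 0, 0, 0, 0, 0, 0, 0, 2, 1, 2, 1, 2, 1, 0, 2, 1, 2, 1, 2, 0, 0, 2, 2, 0, 0, 0, 0, 2, 2, 0, 0, 0, 0,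
   0, 2, 1, 2, 0, 0, 2, 0, 0, 0, 0, 2, 2, 1, 2, 1, 2, 2, 0, 0, 0, 2, 0, 0, 0, 2, 1, 2, 2, 1, 2, 1, 2, 0, 0, 0,
   0, 0, 0, 0, 2, 1, 2, 2, 2, 0, 0, 0, 0, 2, 1]

theorem s1o2_run : orbCount pullMask (fun m => Nat.mod m 4096) sGens s1o2I [18147]
    (Nat.shiftLeft 1 (Nat.mod 18147 4096)) 1 = 84 := by
  decide +kernel

theorem s1o2_v : setM 18147 ∈ octads := (setM_mem_octads_iff (by norm_num)).2 (by decide +kernel)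

theorem s1o2_le : 84 ≤ (MulAction.orbit ↥(MulAction.stabilizer ↥M24 (famOf sZ)) (setM 18147)).ncard :=
  set_orbit_le _ (fun m => Nat.mod m 4096) (gens_of_famOK sGens_ok) (by norm_num) s1o2_run (by norm_num)

def s1o3I : List Nat :=
  [1, 2, 1, 2, 1, 2, 1, 2, 1, 2, 1, 0, 2, 1, 2, 0, 0, 0, 0, 0, 2, 1, 0, 2, 1, 0, 2, 0, 0, 0, 0, 0, 2, 1, 2, 1,
   2, 2, 1, 0, 2, 2, 1, 2, 0, 0, 0, 0, 0, 0, 0, 2, 1, 0, 0, 0, 0, 2, 1, 2, 1, 2, 0, 0, 0, 0, 2, 1, 2, 1, 0, 0,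
   0, 2, 1, 0, 2, 1, 2, 2, 0, 0, 0, 2, 2, 0, 0, 0, 0, 0, 0, 0, 0, 0, 2, 1, 2, 1, 2, 1, 2, 1, 2, 0, 0, 0, 0, 2,
   1, 2, 0, 0, 2, 2, 0, 0, 0, 0, 0, 2, 1, 2, 2, 1, 2, 1, 0, 0, 0, 0, 0, 0, 2, 1, 2, 0, 0, 2, 1, 0, 2, 2, 2, 0,
   0, 0, 0, 0, 0, 0, 0, 2, 1, 2, 1, 2, 2, 1, 2, 0, 0, 2, 2, 2, 0, 0, 0, 0, 0, 0, 2, 1, 2, 2, 1, 0, 2, 0, 0, 0,
   0, 2, 1, 0, 2, 1, 0, 0, 0, 0, 0, 0, 2, 1, 2, 1, 2, 1, 0, 2, 2, 1, 0, 0, 0, 0, 0, 2, 1, 2, 1, 2, 0, 0, 2, 1,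
   0, 2, 0, 0, 0, 0, 2, 1, 2, 1, 0, 0, 0, 2, 0, 0, 0, 0, 0, 2, 1, 2, 1, 2, 2, 2, 0, 0, 0, 0, 0, 0, 2, 1, 0, 0,
   0, 0, 0, 0, 0, 0, 2, 1, 2, 1, 2, 1, 2, 1, 0, 2, 1, 0, 2, 0, 0, 0, 0, 2, 1, 2, 1, 0, 2, 1, 2, 2, 2, 0, 0, 0,
   0, 0, 0, 0, 2, 1, 2, 2, 1, 2, 0, 0, 2, 1, 0, 2, 0, 0, 0, 0, 0, 2, 1, 0, 0, 0, 0, 0, 0, 2, 1, 2, 1, 0, 2, 2,
   1, 2, 0, 0, 2, 1, 2, 1, 0, 2, 2, 0, 0, 0, 0, 2, 0, 0, 0, 0, 0, 0, 2, 1, 2, 1, 0, 2, 1, 2, 0, 0, 2, 1, 2, 2,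
   0, 0, 0, 2, 1, 2, 0, 0, 2, 0, 0, 0, 0, 0, 0, 2, 1, 2, 1, 2, 2, 0, 0, 0, 2, 1, 2, 1, 0, 2, 2, 0, 0, 0, 0, 2,
   0, 0, 0, 0, 2, 1, 2, 2, 1, 2, 0, 0, 2, 1, 2, 1, 0, 0, 0, 0, 0, 0, 0, 2, 1, 2, 1, 2, 1, 0, 0, 0, 0, 0, 2, 1,
   0, 2, 1, 0, 2, 0, 0, 0, 0, 0, 0, 0, 0, 0, 0, 2, 1, 2, 1, 2, 1, 2, 2, 2, 1, 0, 2, 1, 0, 2, 0, 0, 0, 0, 0, 0,
   2, 1, 0, 2, 1, 2, 1, 0, 2, 0, 0, 0, 2, 1, 0, 2, 2, 1, 2, 1, 0, 0, 0, 0, 0, 0, 0, 0, 0, 0, 2, 1, 2, 1, 2, 1,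
   0, 2, 1, 2, 0, 0, 0, 0, 0, 2, 2, 2, 1, 0, 2, 2, 0, 0, 0, 0, 0, 0, 0, 2, 1, 2, 1, 2, 2, 1, 0, 2, 0, 0, 0, 0,
   2, 1, 0, 2, 2, 1, 2, 2, 0, 0, 0, 0, 0, 0, 0, 0, 2, 1, 2, 0, 0, 2, 2, 0, 0, 0, 0, 0, 0, 0, 2, 1, 2, 1, 2, 1,
   2, 1, 0, 0, 0, 2, 1, 2, 1, 0, 0, 0, 2, 0, 0, 0, 0, 2, 2, 2, 1, 0, 2, 2, 2, 0, 0, 0, 0, 0, 0, 0, 0, 2, 1, 2,
   1, 2, 1, 2, 2, 1, 0, 0, 0, 0, 2, 2, 0, 0, 0, 0, 2, 1, 0, 2, 2, 1, 0, 2, 2, 1, 0, 2, 0, 0, 0, 0, 0, 0, 0, 0,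
   2, 2, 1, 2, 1, 0, 0, 0, 2, 1, 0, 2, 2, 2, 1, 0, 0, 0, 0, 0, 0, 0, 0, 0, 0, 0, 0, 0, 2, 1, 2, 1, 2, 1, 2, 1,
   2, 1, 0, 0, 0, 2, 1, 2, 1, 0, 2, 1, 0, 2, 1, 0, 0, 0, 0, 0, 2, 1, 2, 0, 0, 2, 2, 1, 2, 0, 0, 2, 1, 0, 2, 0,
   0, 0, 0, 0, 0, 0, 0, 2, 1, 2, 1, 2, 2, 0, 0, 0, 0, 0, 2, 1, 2, 1, 2, 2, 1, 2, 2, 2, 0, 0, 0, 0, 2, 1, 0, 0,
   0, 0, 0, 2, 1, 0, 2, 0, 0, 0, 0, 2, 1, 2, 1, 2, 2, 2, 2, 0, 0, 0, 0, 0, 2, 2, 0, 0, 0, 0, 2, 2, 2, 1, 0, 0,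
   0, 0, 0, 0, 0, 0, 0, 2, 1, 2, 1, 2, 1, 2, 2, 2, 2, 2, 2, 0, 0, 0, 0, 0, 0, 0, 2, 1, 2, 0, 0, 2, 1, 2, 0, 0,
   2, 1, 2, 1, 0, 0, 0, 2, 1, 0, 2, 0, 0, 0, 0, 0, 0, 0, 2, 1, 2, 2, 1, 2, 1, 0, 2, 1, 0, 2, 1, 0, 2, 1, 0, 0,
   0, 0, 0, 0, 0, 0, 0, 2, 2, 1, 2, 1, 0, 0, 0, 2, 1, 2, 2, 1, 0, 0, 0, 0, 2, 2, 0, 0, 0, 0, 0, 0, 0, 0, 2, 1,
   2, 1, 2, 1, 2, 1, 0, 0, 0, 2, 2, 1, 0, 2, 2, 0, 0, 0, 0, 0, 0, 2, 1, 2, 1, 2, 1, 0, 2, 2, 0, 0, 0, 0, 2, 2,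
   1, 0, 2, 1, 0, 0, 0, 0, 0, 0, 2, 1, 0, 2, 1, 2, 1, 2, 2, 0, 0, 0, 0, 0, 2, 1, 0, 0, 0, 0, 0, 0, 0, 2, 1, 2,
   1, 2, 1, 2, 0, 0, 0, 0, 2, 1, 2, 1, 2, 1, 2, 0, 0, 0, 0, 0, 0, 0, 0, 0, 2, 1, 2, 1, 2, 0, 0, 2, 1, 0, 2, 1,
   0, 2, 1, 0, 0, 0, 0, 0, 0, 2, 1, 2, 1, 0, 2, 1, 2, 1, 0, 0, 0, 0, 0, 0, 2, 2, 1, 0, 0, 0, 0, 0, 0, 0, 0, 0,
   0, 2, 2, 1, 2, 1, 2, 1, 2, 1, 0, 2, 1, 2, 1, 0, 2, 0, 0, 0, 0, 0, 0, 2, 1, 0, 2, 1, 2, 2, 2, 0, 0, 0, 0, 2,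
   1, 0, 2, 1, 0, 0, 0, 0, 0, 0, 0, 2, 1, 2, 1, 2, 1, 0, 2, 1, 2, 2, 0, 0, 0, 0, 0, 0, 2, 1, 0, 0, 0, 0, 2, 1,
   2, 1, 2, 1, 2, 0, 0, 0, 0, 2, 1, 2, 2, 1, 2, 0, 0, 2, 2, 0, 0, 0, 0, 0, 2, 1, 2, 1, 0, 0, 0, 2, 1, 0, 0, 0,
   0, 0, 0, 2, 1, 2, 1, 2, 1, 2, 0, 0, 0, 0, 0, 0, 2, 2, 1, 2, 1, 0, 0, 0, 0, 0, 0, 0, 0, 0, 0, 2, 1, 2, 1, 2,
   1, 2, 1, 0, 0, 0, 0, 0, 0, 0, 2, 1, 2, 1, 2, 1, 2, 1, 2, 2, 0, 0, 0, 2, 1, 2, 2, 0, 0, 0, 2, 0, 0, 0, 0, 2,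
   1, 2, 1, 0, 0, 0, 0, 0, 0, 2, 1, 2, 1, 0, 2, 0, 0, 0, 2, 1, 2, 2, 1, 2, 0, 0, 0, 0, 0, 0, 0, 0, 0, 2, 1, 2,
   2, 2, 1, 2, 0, 0, 2, 1, 2, 1, 0, 2, 0, 0, 0, 0, 0, 0, 0, 0, 2, 1, 2, 1, 0, 2, 2, 2, 0, 0, 0, 0, 0, 2, 1, 2,
   1, 2, 2, 0, 0, 0, 2, 1, 0, 2, 0, 0, 0, 0, 2, 1, 2, 2, 1, 0, 2, 1, 0, 0, 0, 0, 0, 2, 2, 2, 1, 2]

theorem s1o3_run : orbCount pullMask (fun m => Nat.mod m 4096) sGens s1o3I [5279]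
    (Nat.shiftLeft 1 (Nat.mod 5279 4096)) 1 = 672 := by
  decide +kernel

theorem s1o3_v : setM 5279 ∈ octads := (setM_mem_octads_iff (by norm_num)).2 (by decide +kernel)

theorem s1o3_le : 672 ≤ (MulAction.orbit ↥(MulAction.stabilizer ↥M24 (famOf sZ)) (setM 5279)).ncard :=
  set_orbit_le _ (fun m => Nat.mod m 4096) (gens_of_famOK sGens_ok) (by norm_num) s1o3_run (by norm_num)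

theorem s1_orbits : Orbits3 (famOf sZ) octads 3 84 672 := by
  refine orbits3_of_lower (famOf sZ) octads (fun g hg x hx => smul_mem_octads hg hx)
    s1o1_v s1o2_v s1o3_v
    s1o1_le s1o2_le s1o3_le
    (by rw [Helper26.octads_ncard]) ?_ ?_ ?_
  · exact not_orbit_of_interB (zs := sZ) (xs := [337856]) (xs' := [18147])
      (fun g h => h) (fun g h => fam_of_set g h)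
      (by decide +kernel) (by decide +kernel) (by decide +kernel) 4 (by decide +kernel)
  · exact not_orbit_of_interB (zs := sZ) (xs := [337856]) (xs' := [5279])
      (fun g h => h) (fun g h => fam_of_set g h)
      (by decide +kernel) (by decide +kernel) (by decide +kernel) 0 (by decide +kernel)
  · exact not_orbit_of_interB (zs := sZ) (xs := [18147]) (xs' := [5279])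
      (fun g h => h) (fun g h => fam_of_set g h)
      (by decide +kernel) (by decide +kernel) (by decide +kernel) 0 (by decide +kernel)

def s2o1I : List Nat :=
  [2, 1, 2, 0, 0, 2, 1, 2]

theorem s2o1_run : orbCount pullMask syn sGens s2o1I [45]
    (Nat.shiftLeft 1 (syn 45)) 1 = 7 := by
  decide +kernel

theorem s2o1_v : tetValid 45 := (tetValid_iff _).2 (by decide +kernel)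

theorem s2o1_le : 7 ≤ (MulAction.orbit ↥(MulAction.stabilizer ↥M24 (famOf sZ)) (sextDec 45)).ncard :=
  sext_orbit_le _ (gens_of_famOK sGens_ok) s2o1_v s2o1_run (by norm_num)

theorem s2o1_e : sextDec 45 = famOf [45, 75264, 262592, 2627584, 5275664, 8536066] :=
  sextDec_eq_famOf s2o1_v (by decide +kernel)

def s2o2I : List Nat :=
  [1, 2, 1, 2, 1, 2, 1, 2, 1, 0, 2, 0, 0, 0, 2, 2, 0, 0, 0, 0, 2, 1, 2, 2, 0, 0, 0, 2, 1, 2, 2, 2, 1, 0, 0, 0,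
   0, 0, 2, 1, 2, 0, 0, 2, 0, 0, 0, 0, 0, 0, 2, 1, 2, 1, 0, 0, 0, 2, 1, 2, 1, 2, 1, 2, 0, 0, 0, 0, 2, 2, 1, 0,
   0, 0, 0, 0, 2, 2, 2, 2, 1, 2, 1, 0, 0, 0, 0, 0, 0, 0, 0, 0, 0, 0, 2, 1, 2, 1, 2, 1, 2, 2, 0, 0, 0, 0, 0, 2,
   1, 2, 1, 0, 0, 0, 2, 1, 2, 1, 0, 0, 0, 2, 2, 1, 2, 1, 0, 0, 0, 2, 0, 0, 0, 0, 0, 0, 0, 2, 2, 1, 2, 1, 2, 2,
   0, 0, 0, 2, 1, 0, 2, 1, 0, 2, 2, 2]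

theorem s2o2_run : orbCount pullMask syn sGens s2o2I [15]
    (Nat.shiftLeft 1 (syn 15)) 1 = 84 := by
  decide +kernel

theorem s2o2_v : tetValid 15 := (tetValid_iff _).2 (by decide +kernel)

theorem s2o2_le : 84 ≤ (MulAction.orbit ↥(MulAction.stabilizer ↥M24 (famOf sZ)) (sextDec 15)).ncard :=
  sext_orbit_le _ (gens_of_famOK sGens_ok) s2o2_v s2o2_run (by norm_num)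

theorem s2o2_e : sextDec 15 = famOf [15, 5264, 622848, 3416064, 4196928, 8536096] :=
  sextDec_eq_famOf s2o2_v (by decide +kernel)

def s2o3I : List Nat :=
  [1, 2, 1, 2, 1, 2, 2, 1, 2, 2, 1, 0, 2, 1, 0, 2, 1, 0, 2, 0, 0, 0, 0, 0, 0, 2, 1, 2, 1, 0, 2, 1, 2, 1, 0, 0,
   0, 0, 0, 0, 0, 0, 0, 0, 2, 1, 2, 1, 0, 2, 1, 2, 1, 2, 0, 0, 2, 1, 2, 1, 0, 2, 2, 0, 0, 0, 0, 0, 0, 0, 0, 0,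
   0, 2, 1, 2, 1, 0, 0, 0, 2, 1, 2, 1, 0, 2, 1, 2, 1, 0, 0, 0, 2, 2, 0, 0, 0, 0, 0, 2, 1, 2, 1, 2, 0, 0, 2, 1,
   0, 2, 1, 2, 0, 0, 0, 0, 0, 0, 2, 1, 0, 2, 1, 2, 0, 0, 2, 1, 2, 2, 0, 0, 0, 2, 2, 0, 0, 0, 0, 0, 0, 0, 0, 0,
   0, 0, 2, 1, 2, 1, 0, 2, 1, 2, 1, 2, 1, 2, 1, 2, 0, 0, 2, 0, 0, 0, 2, 0, 0, 0, 2, 1, 2, 1, 2, 0, 0, 2, 0, 0,
   0, 2, 0, 0, 0, 0, 2, 1, 2, 2, 0, 0, 0, 0, 0, 0, 0, 2, 1, 2, 1, 2, 1, 2, 1, 0, 0, 0, 2, 1, 2, 2, 0, 0, 0, 2,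
   2, 2, 0, 0, 0, 0, 0, 0, 2, 1, 2, 1, 2, 1, 0, 0, 0, 2, 2, 0, 0, 0, 0, 2, 1, 2, 1, 0, 2, 0, 0, 0, 2, 1, 2, 1,
   0, 0, 0, 2, 1, 0, 0, 0, 0, 0, 0, 0, 2, 1, 2, 1, 2, 2, 1, 2, 0, 0, 0, 0, 0, 0, 0, 2, 1, 2, 0, 0, 2, 1, 2, 1,
   0, 0, 0, 2, 1, 2, 1, 2, 1, 0, 0, 0, 2, 0, 0, 0, 2, 2, 1, 0, 0, 0, 0, 0, 0, 0, 0, 0, 0, 0, 2, 1, 2, 1, 2, 2,
   1, 2, 1, 0, 2, 1, 2, 0, 0, 0, 0, 0, 2, 1, 2, 1, 0, 2, 2, 0, 0, 0, 0, 2, 2, 2, 1, 2, 0, 0, 0, 0, 0, 0, 0, 0,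
   0, 2, 1, 2, 1, 0, 0, 0, 2, 1, 2, 1, 0, 2, 1, 2, 1, 0, 0, 0, 2, 0, 0, 0, 0, 2, 1, 2, 1, 2, 1, 2, 0, 0, 0, 0,
   2, 0, 0, 0, 2, 2, 1, 2, 2, 1, 0, 2, 2, 0, 0, 0, 0, 0, 2, 1, 0, 2, 1, 2, 2, 0, 0, 0, 2, 1, 0, 2, 0, 0, 0, 0,
   0, 0, 0, 0, 0, 0, 0, 2, 1, 2, 1, 0, 2, 1, 2, 1, 2, 2, 1, 2, 0, 0, 0, 0, 0, 2, 1, 2, 1, 0, 2, 1, 2, 0, 0, 2,
   1, 2, 0, 0, 2, 1, 0, 0, 0, 0, 0, 0, 0, 0, 0, 2, 1, 2, 2, 1, 0, 2, 2, 1, 2, 0, 0, 0, 0, 0, 0, 0, 2, 1, 2, 1,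
   2, 0, 0, 0, 0, 2, 1, 2, 2, 2, 0, 0, 0, 0, 0, 0, 0, 0, 0, 0, 2, 1, 2, 1, 2, 1, 2, 1, 0, 2, 0, 0, 0, 2, 1, 2,
   1, 0, 0, 0, 2, 0, 0, 0, 0, 2, 1, 2, 2, 2, 2, 2, 1, 0, 0, 0, 0, 0, 0, 0, 2, 1, 2, 1, 0, 2, 2, 0, 0, 0, 0, 2,
   2, 1, 2, 1, 0, 0, 0, 0, 0, 0, 0, 0, 0, 2, 1, 2, 2, 1, 2, 1, 2, 0, 0, 0, 0, 0, 0, 0, 2, 1, 2, 1, 2, 2, 0, 0,
   0, 2, 1, 2, 1, 2, 1, 0, 0, 0, 2, 2, 2, 2, 0, 0, 0, 0, 0, 0, 2, 1, 0, 0, 0, 0, 0, 2, 1, 2, 1, 0, 2, 0, 0, 0,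
   2, 1, 0, 2, 2, 1, 0, 2, 1, 2]

theorem s2o3_run : orbCount pullMask syn sGens s2o3I [195]
    (Nat.shiftLeft 1 (syn 195)) 1 = 336 := by
  decide +kernel

theorem s2o3_v : tetValid 195 := (tetValid_iff _).2 (by decide +kernel)

theorem s2o3_le : 336 ≤ (MulAction.orbit ↥(MulAction.stabilizer ↥M24 (famOf sZ)) (sextDec 195)).ncard :=
  sext_orbit_le _ (gens_of_famOK sGens_ok) s2o3_v s2o3_run (by norm_num)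

theorem s2o3_e : sextDec 195 = famOf [195, 17952, 272400, 1212424, 4264192, 11010052] :=
  sextDec_eq_famOf s2o3_v (by decide +kernel)

def s2o4I : List Nat :=
  [1, 2, 1, 2, 1, 2, 1, 2, 2, 1, 0, 2, 1, 0, 2, 1, 0, 2, 1, 2, 0, 0, 0, 0, 0, 0, 0, 0, 2, 1, 0, 2, 1, 2, 1, 0,
   2, 1, 2, 1, 2, 2, 0, 0, 0, 2, 0, 0, 0, 2, 1, 2, 1, 0, 2, 1, 0, 2, 0, 0, 0, 0, 2, 1, 2, 0, 0, 2, 0, 0, 0, 0,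
   0, 0, 2, 1, 2, 1, 2, 1, 2, 0, 0, 2, 2, 1, 2, 0, 0, 2, 1, 0, 0, 0, 0, 0, 0, 0, 0, 2, 1, 2, 2, 1, 2, 1, 0, 0,
   0, 2, 1, 0, 0, 0, 0, 0, 2, 1, 2, 1, 0, 0, 0, 2, 1, 2, 1, 0, 0, 0, 2, 2, 0, 0, 0, 0, 0, 0, 0, 0, 0, 0, 2, 1,
   2, 1, 2, 1, 2, 1, 2, 1, 0, 2, 1, 2, 0, 0, 2, 2, 0, 0, 0, 0, 0, 0, 0, 2, 1, 2, 2, 1, 2, 0, 0, 0, 0, 0, 2, 2,
   1, 0, 2, 1, 2, 0, 0, 2, 1, 2, 1, 0, 0, 0, 2, 1, 0, 2, 1, 0, 0, 0, 0, 0, 0, 0, 0, 0, 0, 2, 1, 2, 2, 1, 2, 2,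
   1, 0, 2, 2, 1, 0, 0, 0, 0, 0, 0, 2, 1, 2, 0, 0, 2, 2, 0, 0, 0, 0, 0, 0, 2, 1, 2, 1, 2, 2, 1, 2, 0, 0, 0, 0,
   0, 2, 1, 0, 2, 1, 0, 2, 2, 2, 0, 0, 0, 0, 0, 0, 0, 2, 1, 2, 0, 0, 2, 1, 2, 0, 0, 2, 1, 0, 2, 1, 0, 2, 1, 2,
   0, 0, 0, 0, 0, 0, 0, 0, 0, 0, 0, 2, 1, 2, 2, 1, 0, 2, 2, 1, 2, 1, 0, 0, 0, 2, 1, 2, 1, 0, 2, 1, 0, 2, 0, 0,
   0, 0, 0, 0, 0, 0, 0, 0, 2, 1, 2, 1, 0, 2, 1, 2, 1, 2, 1, 2, 0, 0, 0, 0, 2, 2, 1, 0, 0, 0, 0, 0, 2, 1, 0, 2,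
   2, 1, 2, 1, 0, 2, 0, 0, 0, 2, 2, 0, 0, 0, 0, 0, 0, 0, 0, 2, 1, 2, 1, 2, 1, 0, 0, 0, 2, 1, 2, 1, 0, 0, 0, 2,
   1, 2, 1, 0, 0, 0, 0, 0, 0, 0, 2, 1, 2, 1, 2, 0, 0, 0, 0, 0, 0, 0, 0, 0, 0, 0, 2, 1, 2, 1, 2, 1, 2, 1, 2, 1,
   0, 2, 1, 2, 2, 1, 0, 2, 0, 0, 0, 0, 2, 1, 0, 0, 0, 0, 0, 2, 1, 2, 1, 0, 2, 1, 2, 2, 0, 0, 0, 2, 2, 0, 0, 0,
   0, 0, 2, 2, 1, 2, 0, 0, 0, 0, 0, 0, 0, 2, 1, 2, 1, 0, 2, 1, 2, 1, 0, 2, 0, 0, 0, 0, 0, 0, 2, 1, 2, 0, 0, 2,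
   1, 2, 0, 0, 2, 1, 2, 1, 2, 1, 0, 0, 0, 2, 1, 2, 0, 0, 0, 0, 0, 0, 0, 0, 0, 0, 0, 2, 1, 2, 1, 2, 1, 2, 1, 2,
   1, 0, 0, 0, 2, 2, 0, 0, 0, 0, 2, 1, 0, 2, 1, 2, 0, 0, 0, 0, 0, 0, 2, 1, 2, 1, 0, 0, 0, 0, 0, 0, 2, 1, 2, 1,
   0, 2, 1, 2, 1, 2, 1, 2, 1, 0, 0, 0, 2, 0, 0, 0, 0, 0, 2, 1, 2, 2, 2, 2, 0, 0, 0, 0, 0, 2, 1, 2, 1, 0, 2, 1,
   0, 0, 0, 0, 2, 1, 2, 2, 1, 0, 0, 0, 0, 0, 0, 0, 0, 0, 0, 2, 1, 2, 1, 2, 1, 2, 1, 0, 2, 2, 0, 0, 0, 0, 2, 0,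
   0, 0, 2, 1, 2, 2, 1, 0, 0, 0, 0, 0, 0, 0, 2, 2, 1, 2, 2, 2, 0, 0, 0, 0, 2, 1, 2, 1, 0, 0, 0, 2, 1, 2, 2, 0,
   0, 0, 2, 1, 0, 0, 0, 0, 0, 0, 0, 0, 0, 0, 0, 2, 1, 2, 1, 2, 1, 2, 1, 2, 1, 0, 2, 2, 0, 0, 0, 0, 2, 2, 1, 0,
   2, 0, 0, 0, 0, 0, 2, 1, 0, 2, 2, 1, 2, 2, 1, 2, 0, 0, 2, 2, 0, 0, 0, 0, 0, 2, 1, 0, 2, 1, 2, 0, 0, 0, 0, 0,
   0, 0, 0, 0, 2, 1, 2, 1, 2, 1, 0, 2, 1, 2, 0, 0, 2, 1, 2, 2, 0, 0, 0, 0, 0, 0, 0, 2, 1, 2, 1, 2, 1, 0, 0, 0,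
   0, 0, 2, 1, 2, 1, 0, 0, 0, 2, 1, 2, 2, 0, 0, 0, 0, 0, 0, 0, 0, 2, 1, 2, 1, 2, 0, 0, 2, 2, 1, 0, 2, 2, 0, 0,
   0, 0, 0, 0, 2, 1, 2, 1, 2, 1, 0, 2, 2, 2, 0, 0, 0, 0, 0, 2, 1, 0, 0, 0, 0, 2, 2, 1, 2, 2, 0, 0, 0, 2, 1, 2,
   1, 2, 0, 0, 0, 0, 2, 1, 2, 1, 0, 2, 0, 0, 0, 0, 0, 0, 0, 0, 0, 0, 0, 0, 2, 1, 2, 1, 2, 1, 2, 1, 2, 2, 2, 0,
   0, 0, 0, 2, 1, 0, 2, 2, 1, 2, 0, 0, 0, 0, 0, 0, 0, 2, 1, 2, 2, 1, 0, 2, 2, 1, 0, 0, 0, 0, 0, 0, 2, 1, 2, 1,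
   0, 2, 1, 0, 2, 0, 0, 0, 0, 2, 1, 2, 2, 0, 0, 0, 0, 0, 0, 0, 0, 2, 2, 2, 1, 0, 2, 1, 2, 2, 0, 0, 0, 2, 1, 2,
   0, 0, 2, 0, 0, 0, 0, 0, 0, 0, 0, 2, 1, 2, 1, 2, 1, 0, 2, 1, 2, 1, 0, 2, 1, 0, 0, 0, 0, 2, 1, 2, 1, 0, 0, 0,
   0, 0, 0, 0, 2, 1, 2, 1, 2, 1, 0, 0, 0, 2, 1, 2, 2, 1, 0, 0, 0, 0, 2, 0, 0, 0, 0, 2, 1, 2, 1, 0, 2, 1, 2, 2,
   1, 0, 0, 0, 0, 0, 0, 0, 2, 1, 2, 2, 1, 2, 0, 0, 2, 1, 0, 0, 0, 0, 0, 2, 1, 2, 0, 0, 2, 1, 0, 2, 0, 0, 0, 0,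
   0, 0, 0, 0, 2, 1, 2, 2, 1, 2, 1, 2, 0, 0, 2, 2, 1, 0, 0, 0, 0, 0, 0, 0, 0, 0, 0, 0, 0, 0, 0, 0, 2, 1, 2, 1,
   2, 1, 2, 0, 0, 2, 1, 2, 1, 0, 0, 0, 2, 1, 2, 1, 2, 2, 2, 1, 0, 2, 1, 2, 0, 0, 0, 0, 0, 0, 0, 2, 1, 0, 2, 2,
   1, 2, 0, 0, 2, 1, 0, 2, 2, 1, 0, 0, 0, 0, 0, 0, 0, 0, 0, 2, 2, 1, 2, 1, 2, 2, 1, 2, 0, 0, 2, 0, 0, 0, 0, 2,
   1, 0, 2, 0, 0, 0, 0, 2, 1, 2, 1, 0, 2, 1, 0, 2, 1, 0, 2, 2, 0, 0, 0, 0, 0, 0, 2, 1, 2, 2, 1, 0, 2, 2, 0, 0,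
   0, 0, 0, 2, 1, 0, 2, 1, 2, 0, 0, 2, 2, 2, 0, 0, 0, 0, 0, 0, 0, 0, 0, 0, 0, 0, 0, 2, 1, 2, 1, 2, 1, 2, 1, 2,
   1, 0, 2, 1, 0, 0, 0, 0, 2, 1, 2, 0, 0, 2, 2, 0, 0, 0, 0, 0, 2, 2, 1, 2, 2, 1, 0, 2, 2, 2, 2, 0, 0, 0, 0, 0,
   0, 0, 2, 1, 2, 1, 2, 0, 0, 2, 2, 2, 0, 0, 0, 0, 0, 0, 0, 0, 0, 0, 2, 1, 2, 1, 0, 0, 0, 2, 1, 2, 2, 1, 2, 1,
   0, 2, 2, 0, 0, 0, 0, 2, 1, 2, 1, 2, 0, 0, 0, 0, 2, 1, 0, 0, 0, 0, 0, 0, 2, 1, 2, 1, 0, 2, 1, 0, 0, 0, 0, 2,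
   1, 2, 2, 1, 2, 0, 0, 2, 1, 2, 0, 0, 2, 1, 0, 0, 0, 0, 0, 0, 2, 2, 2, 2, 2, 1, 0, 2, 0, 0, 0, 0, 0, 0, 0, 0,
   0, 0, 0, 0, 2, 1, 2, 1, 2, 1, 2, 1, 2, 1, 0, 2, 0, 0, 0, 2, 2, 0, 0, 0, 0, 2, 1, 2, 1, 2, 0, 0, 2, 1, 0, 2,
   0, 0, 0, 0, 2, 1, 0, 2, 1, 2, 2, 0, 0, 0, 2, 1, 0, 2, 0, 0, 0, 0, 0, 0, 0, 2, 1, 2, 1, 2, 1, 2, 1, 0, 2, 0,
   0, 0, 2, 0, 0, 0, 2, 1, 0, 2, 1, 2, 2, 0, 0, 0, 2, 1, 2, 0, 0, 2, 1, 0, 0, 0, 0, 0, 0, 0, 2, 1, 2, 1, 2, 2,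
   2, 2, 0, 0, 0, 0, 0, 2, 1, 2, 1, 0, 2, 0, 0, 0, 2, 1, 0, 0, 0, 0, 0, 2, 1, 2, 1, 0, 2, 2, 0, 0, 0, 0, 2, 1,
   2, 2, 0, 0, 0, 0, 0, 0, 0, 0, 0, 2, 1, 2, 1, 2, 1, 2, 2, 1, 0, 2, 1, 0, 0, 0, 0, 0, 2, 1, 2, 2, 1, 2, 0, 0,
   0, 0, 0, 2, 1, 2, 0, 0, 2, 2, 0, 0, 0, 0, 0, 0, 2, 1, 2, 1, 2, 2, 1, 2, 0, 0, 0, 0, 0, 2, 1, 0, 2, 1, 0, 2,
   1, 2, 0, 0, 2, 0, 0, 0, 0, 0, 0, 2, 1, 2, 0, 0, 2, 1, 2, 1, 2, 0, 0, 0, 0, 2, 1, 0, 0, 0, 0, 0, 0, 0, 2, 1,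
   0, 2, 2, 2, 1, 2, 1, 0, 2, 2, 1, 2, 0, 0, 0, 0, 0, 0, 2, 1, 2, 2, 1, 0, 0, 0, 0, 2, 1, 2, 1, 2, 0, 0, 0, 0,
   2, 2, 0, 0, 0, 0, 0, 0, 0, 0, 0, 0, 0, 0, 0, 2, 1, 2, 1, 2, 2, 1, 2, 1, 0, 2, 1, 2, 2, 1, 0, 2, 1, 0, 0, 0,
   0, 0, 2, 1, 2, 2, 0, 0, 0, 2, 1, 0, 2, 2, 0, 0, 0, 0, 0, 0, 0, 2, 0, 0, 0, 0, 2, 1, 2, 1, 2, 2, 1, 2, 2, 0,
   0, 0, 2, 1, 2, 1, 0, 0, 0, 2, 1, 0, 2, 1, 0, 0, 0, 0, 0, 0, 0, 2, 1, 2, 1, 2, 2, 1, 0, 0, 0, 0, 2, 0, 0, 0,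
   2, 1, 2, 1, 2, 1, 2, 2, 2, 0, 0, 0, 0, 0, 0, 2, 1, 2, 1, 0, 2, 0, 0, 0, 2, 1, 0, 2, 0, 0, 0, 0, 0, 2, 2, 1,
   2, 1, 2, 0, 0, 2, 2, 0, 0, 0, 0, 0, 0, 0, 0, 0, 0, 2, 1, 2, 1, 2, 1, 2, 2, 2, 0, 0, 0, 0, 2, 1, 2, 0, 0, 2,
   2, 0, 0, 0, 0, 0, 2, 1, 2, 1, 2, 1, 2, 2, 0, 0, 0, 2, 1, 0, 0, 0, 0, 2, 1, 0, 2, 0, 0, 0, 0, 2, 2, 1, 2, 1,
   2, 0, 0, 2, 0, 0, 0, 2, 1, 0, 2, 2, 0, 0, 0, 0, 0, 0, 0, 0, 2, 1, 2, 1, 2, 1, 0, 2, 2, 1, 0, 2, 1, 0, 0, 0,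
   0, 0, 0, 2, 1, 2, 1, 2, 0, 0, 2, 2, 1, 2, 0, 0, 0, 0, 0, 0, 2, 1, 2, 1, 2, 2, 0, 0, 0, 0, 0, 2, 2, 0, 0, 0,
   0, 0, 0, 2, 1, 2, 2, 2, 0, 0, 0, 0, 2, 1, 2, 1, 0, 2, 0, 0, 0, 2, 1, 0, 2, 1, 2, 1, 0, 2, 2, 0, 0, 0, 0, 2,
   1, 0, 2, 1, 0, 0, 0, 0, 0, 0, 0, 0, 0, 0, 0, 0, 2, 1, 2, 1, 2, 1, 2, 1, 2, 1, 0, 2, 1, 0, 2, 1, 0, 0, 0, 0,
   0, 2, 1, 2, 1, 2, 0, 0, 2, 2, 2, 1, 0, 2, 0, 0, 0, 0, 0, 0, 2, 1, 2, 1, 0, 0, 0, 2, 1, 2, 2, 0, 0, 0, 2, 1,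
   2, 0, 0, 2, 2, 0, 0, 0, 0, 0, 0, 0, 0, 2, 1, 2, 1, 0, 2, 1, 0, 2, 1, 2, 0, 0, 2, 1, 0, 0, 0, 0, 0, 0, 2, 1,
   2, 2, 1, 2, 1, 0, 2, 0, 0, 0, 2, 2, 0, 0, 0, 0, 0, 2, 1, 2, 2, 2, 0, 0, 0, 0, 0, 0, 0, 0, 0, 2, 1, 2, 1, 2,
   1, 2, 1, 2, 0, 0, 2, 2, 0, 0, 0, 0, 2, 1, 0, 0, 0, 0, 2, 2, 1, 2, 1, 2, 0, 0, 2, 1, 0, 2, 1, 0, 2, 0, 0, 0,
   0, 0, 2, 1, 2, 1, 2, 0, 0, 0, 0, 2, 0, 0, 0, 0, 0, 0, 2, 1, 2, 2, 1, 2, 2, 1, 0, 2, 0, 0, 0, 0, 2, 2, 1, 0,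
   2, 1, 2, 1, 0, 0, 0, 0, 0, 0, 0, 0, 0, 2, 2, 2, 1, 2, 1, 2, 0, 0, 0, 0, 2, 1, 2, 2, 1, 0, 0, 0, 0, 2, 2, 2,
   1, 0, 0, 0, 0, 0, 0, 0, 0, 0, 0, 0, 0, 2, 1, 2, 1, 2, 1, 2, 1, 2, 1, 0, 0, 0, 2, 1, 2, 1, 0, 2, 2, 0, 0, 0,
   0, 2, 1, 0, 2, 2, 2, 2, 0, 0, 0, 0, 0, 0, 0, 0, 2, 1, 2, 1, 2, 2, 1, 0, 2, 0, 0, 0, 0, 2, 1, 2, 2, 0, 0, 0,
   2, 1, 0, 2, 0, 0, 0, 0, 0, 2, 2, 1, 2, 2, 2, 0, 0, 0, 0, 2, 1, 0, 2, 1, 0, 2, 2, 2, 0, 0, 0, 0, 0, 0, 0, 0,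
   0, 0, 2, 1, 2, 1, 2, 1, 0, 2, 2, 1, 2, 2, 0, 0, 0, 2, 0, 0, 0, 0, 0, 2, 1, 2, 2, 1, 2, 0, 0, 0, 0, 0, 2, 1,
   2, 2, 0, 0, 0, 2, 1, 2, 0, 0, 2, 2, 2, 0, 0, 0, 0, 0, 0, 0, 0, 2, 1, 2, 1, 2, 1, 2, 0, 0, 2, 0, 0, 0, 2, 1,
   2, 1, 0, 0, 0, 2, 2, 2, 1, 0, 2, 0, 0, 0, 0, 0, 0, 0, 2, 1, 2, 0, 0, 2, 1, 2, 1, 0, 2, 1, 0, 2, 1, 0, 0, 0,
   0, 0, 2, 1, 2, 2, 0, 0, 0, 2, 1, 2, 0, 0, 0, 0, 0, 0, 0, 0, 0, 0, 2, 1, 2, 1, 2, 1, 2, 2, 1, 2, 0, 0, 0, 0,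
   0, 2, 1, 2, 2, 1, 0, 0, 0, 0, 0, 0, 0, 2, 1, 2, 1, 2, 1, 0, 0, 0, 2, 1, 2, 2, 2, 0, 0, 0, 0, 2, 1, 0, 2, 1,
   0, 0, 0, 0, 0, 0, 2, 1, 0, 2, 1, 2, 1, 0, 0, 0, 2, 1, 0, 0, 0, 0, 0, 0, 0, 2, 1, 2, 2, 1, 0, 0, 0, 0, 2, 1,
   2, 1, 0, 2, 1, 2, 2, 2, 0, 0, 0, 0, 2, 1, 2, 2, 2, 0, 0, 0, 0, 2, 1, 2, 1, 0, 2, 0, 0, 0, 2, 1, 2, 2, 0, 0,
   0, 0, 0, 0, 0, 0, 0, 2, 1, 2, 1, 2, 1, 0, 0, 0, 2, 1, 2, 0, 0, 2, 1, 0, 0, 0, 0, 0, 2, 2, 2, 1, 2, 2, 2, 0,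
   0, 0, 0, 2, 1, 2, 1]

theorem s2o4_run : orbCount pullMask syn sGens s2o4I [23]
    (Nat.shiftLeft 1 (syn 23)) 1 = 1344 := by
  decide +kernel

theorem s2o4_v : tetValid 23 := (tetValid_iff _).2 (by decide +kernel)

theorem s2o4_le : 1344 ≤ (MulAction.orbit ↥(MulAction.stabilizer ↥M24 (famOf sZ)) (sextDec 23)).ncard :=
  sext_orbit_le _ (gens_of_famOK sGens_ok) s2o4_v s2o4_run (by norm_num)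

theorem s2o4_e : sextDec 23 = famOf [23, 5256, 786976, 1065280, 2263040, 12656640] :=
  sextDec_eq_famOf s2o4_v (by decide +kernel)

theorem s2_orbits : Orbits4 (famOf sZ) sextets 7 84 336 1344 := by
  refine orbits4_of_lower (famOf sZ) sextets (fun g hg x hx => smul_mem_sextets hg hx)
    (sextDec_mem s2o1_v) (sextDec_mem s2o2_v) (sextDec_mem s2o3_v) (sextDec_mem s2o4_v)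
    s2o1_le s2o2_le s2o3_le s2o4_le
    (by rw [Helper26.sextets_ncard]) ?_ ?_ ?_ ?_ ?_ ?_
  · exact not_orbit_of_interB (zs := sZ) (xs := [45, 75264, 262592, 2627584, 5275664, 8536066]) (xs' := [15, 5264, 622848, 3416064, 4196928, 8536096])
      (fun g h => h) (fam_of_eq s2o1_e s2o2_e)
      (by decide +kernel) (by decide +kernel) (by decide +kernel) 2 (by decide +kernel)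
  · exact not_orbit_of_interB (zs := sZ) (xs := [45, 75264, 262592, 2627584, 5275664, 8536066]) (xs' := [195, 17952, 272400, 1212424, 4264192, 11010052])
      (fun g h => h) (fam_of_eq s2o1_e s2o3_e)
      (by decide +kernel) (by decide +kernel) (by decide +kernel) 2 (by decide +kernel)
  · exact not_orbit_of_interB (zs := sZ) (xs := [45, 75264, 262592, 2627584, 5275664, 8536066]) (xs' := [23, 5256, 786976, 1065280, 2263040, 12656640])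
      (fun g h => h) (fam_of_eq s2o1_e s2o4_e)
      (by decide +kernel) (by decide +kernel) (by decide +kernel) 1 (by decide +kernel)
  · exact not_orbit_of_interB (zs := sZ) (xs := [15, 5264, 622848, 3416064, 4196928, 8536096]) (xs' := [195, 17952, 272400, 1212424, 4264192, 11010052])
      (fun g h => h) (fam_of_eq s2o2_e s2o3_e)
      (by decide +kernel) (by decide +kernel) (by decide +kernel) 4 (by decide +kernel)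
  · exact not_orbit_of_interB (zs := sZ) (xs := [15, 5264, 622848, 3416064, 4196928, 8536096]) (xs' := [23, 5256, 786976, 1065280, 2263040, 12656640])
      (fun g h => h) (fam_of_eq s2o2_e s2o4_e)
      (by decide +kernel) (by decide +kernel) (by decide +kernel) 1 (by decide +kernel)
  · exact not_orbit_of_interB (zs := sZ) (xs := [195, 17952, 272400, 1212424, 4264192, 11010052]) (xs' := [23, 5256, 786976, 1065280, 2263040, 12656640])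
      (fun g h => h) (fam_of_eq s2o3_e s2o4_e)
      (by decide +kernel) (by decide +kernel) (by decide +kernel) 1 (by decide +kernel)

/-- The stabiliser of a trio in the group of the length-24 code has exactly three orbits on the 759 octads, of sizes 3, 84 and 672, and exactly four orbits on the 1771 sextets, of sizes 7, 84, 336 and 1344. -/
theorem result (T : Finset (Finset Cfsg.GolayPt)) (hT : T ∈ Cfsg.trios) : (∃ X₁ ∈ Cfsg.octads, ∃ X₂ ∈ Cfsg.octads, ∃ X₃ ∈ Cfsg.octads, (MulAction.orbit ↥(MulAction.stabilizer Cfsg.M24 T) X₁).ncard = 3 ∧ (MulAction.orbit ↥(MulAction.stabilizer Cfsg.M24 T) X₂).ncard = 84 ∧ (MulAction.orbit ↥(MulAction.stabilizer Cfsg.M24 T) X₃).ncard = 672 ∧ Cfsg.octads = MulAction.orbit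 ↥(MulAction.stabilizer Cfsg.M24 T) X₁ ∪ MulAction.orbit ↥(MulAction.stabilizer Cfsg.M24 T) X₂ ∪ MulAction.orbit ↥(MulAction.stabilizer Cfsg.M24 T) X₃) ∧ (∃ Y₁ ∈ Cfsg.sextets, ∃ Y₂ ∈ Cfsg.sextets, ∃ Y₃ ∈ Cfsg.sextets, ∃ Y₄ ∈ Cfsg.sextets, (MulAction.orbit ↥(MulAction.stabilizer Cfsg.M24 T) Y₁).ncard = 7 ∧ (MulAction.orbit ↥(MulAction.stabilizer Cfsg.M24 T) Y₂).ncard = 84 ∧ (MulAction.orbit ↥(MulAction.stabilizer Cfsg.M24 T) Y₃).ncard = 336 ∧ (MulAction.orbit ↥(MulAction.stabilizer Cfsg.M24 T) Y₄).ncard = 1344 ∧ Cfsg.sextets = MulAction.orbit ↥(MulAction.stabilizer Cfsg.M24 T) Y₁ ∪ MulAction.orbit ↥(MulAction.stabilizer Cfsg.M24 T) Y₂ ∪ MulAction.orbit ↥(MulAction.stabilizer Cfsg.M24 T) Y₃ ∪ MulAction.orbit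 ↥(MulAction.stabilizer Cfsg.M24 T) Y₄) := by
  obtain ⟨u, hu, rfl⟩ := exists_m24_trio sZ_v hT
  rw [sZ_eq]
  exact ⟨s1_orbits.smul hu (fun g hg x hx => smul_mem_octads hg hx),
    s2_orbits.smul hu (fun g hg x hx => smul_mem_sextets hg hx)⟩

end Cfsg.Agent.S5612
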