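import Cfsg.Statements.S5616
import Cfsg.Agent.Helper91.Sep2

set_option autoImplicit false
open scoped Pointwise
open Cfsg

namespace Cfsg.Agent.S5616

open Cfsg.Agent.Helper91

set_option maxRecDepth 100000

/-- Generators of the stabilizer of the set of the points 1, 2, 3. -/
def sGens : List (List Nat) :=
  [[12, 1, 3, 2, 8, 9, 4, 6, 14, 0, 17, 10, 21, 18, 23, 11, 15, 19, 5, 20, 16, 22, 7, 13],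
   [14, 3, 2, 1, 12, 5, 21, 11, 18, 4, 15, 22, 20, 16, 23, 8, 10, 0, 6, 9, 7, 13, 19, 17]]

theorem sGens_ok : sGens.all (genSetOK 14) = true := by decide +kernel

def s1o1I : List Nat :=
  [1, 1, 1, 1, 0, 2, 1, 0, 0, 0, 0, 2, 2, 1, 1, 0, 2, 0, 0, 0, 0, 0, 2, 1, 1, 1, 0, 2, 0, 0, 2, 1, 0, 0, 0, 2,
   1]

theorem s1o1_run : orbCount pullMask syn sGens s1o1I [15]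
    (Nat.shiftLeft 1 (syn 15)) 1 = 21 := by
  decide +kernel

theorem s1o1_v : tetValid 15 := (tetValid_iff _).2 (by decide +kernel)

theorem s1o1_le : 21 ≤ (MulAction.orbit ↥(MulAction.stabilizer ↥M24 (setM 14)) (sextDec 15)).ncard :=
  sext_orbit_le _ (gens_of_setOK sGens_ok) s1o1_v s1o1_run (by norm_num)

theorem s1o1_e : sextDec 15 = famOf [15, 5264, 622848, 3416064, 4196928, 8536096] :=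
  sextDec_eq_famOf s1o1_v (by decide +kernel)

theorem s1o1_c : cnt (setM 14) (sextDec 15) = 1 := by
  rw [s1o1_e, cnt_famOf (by decide +kernel) (by decide +kernel) (by norm_num)]
  decide +kernel

def s1o2I : List Nat :=
  [1, 1, 1, 1, 1, 1, 1, 1, 1, 1, 2, 0, 0, 2, 1, 0, 0, 0, 2, 1, 0, 0, 0, 2, 1, 0, 2, 2, 0, 0, 0, 0, 2, 2, 2, 1,
   0, 0, 0, 0, 0, 2, 1, 2, 1, 1, 0, 0, 0, 0, 2, 2, 2, 1, 0, 0, 0, 0, 0, 0, 2, 1, 1, 1, 2, 0, 0, 0, 2, 1, 1, 0,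
   0, 2, 1, 2, 0, 0, 2, 1, 2, 0, 0, 0, 0, 0, 0, 2, 1, 1, 1, 1, 2, 0, 0, 2, 0, 0, 0, 0, 2, 1, 1, 1, 0, 0, 2, 1,
   0, 2, 2, 0, 0, 0, 0, 2, 1, 1, 0, 0, 2, 1, 0, 0, 0, 0, 0, 0, 0, 2, 1, 1, 1, 1, 1, 0, 0, 2, 2, 0, 0, 0, 2, 1,
   2, 1, 0, 2, 0, 0, 0, 2, 2, 1, 2, 0, 0, 2, 1, 0, 0, 0, 0, 0, 0, 2, 1, 0, 2, 1, 1, 2, 0, 0, 0, 2, 2, 2, 0, 0,
   0, 0, 0, 0, 2, 1, 1, 1, 1, 1, 1, 0, 0, 0, 2, 2, 0, 0, 0, 0, 2, 1, 1, 0, 0, 2, 0, 0, 0, 2, 1, 1, 1, 1, 0, 0,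
   0, 2, 2, 0, 0, 0, 2, 1, 1, 0, 0, 2, 1, 0, 2, 0, 0, 0, 0, 0, 0, 0, 2, 1, 1, 1, 1, 1, 2, 2, 1, 0, 0, 0, 0, 0,
   2, 1, 2, 1, 0, 0, 0, 2, 1, 1, 0, 2, 0, 0, 0, 0, 0, 2, 1, 1, 1, 0, 2, 0, 0, 2, 1, 1, 2, 0, 0, 0, 2, 1, 2, 0,
   0, 2, 1, 0, 0, 0, 0, 0, 2, 1, 2, 0, 0, 2, 1, 0, 2, 1, 1, 0, 2, 0, 0, 0, 0, 0, 0, 0, 2, 1, 1, 1, 1, 1, 0, 2,
   0, 0, 0, 2, 2, 1, 0, 2, 0, 0, 0, 0, 0, 2, 2, 1, 1, 0, 2, 0, 0, 0, 0, 0, 0, 2, 1, 1, 1, 1, 1, 0, 0, 2, 2, 1,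
   0, 0, 0, 0, 2, 1, 1, 0, 2, 2, 0, 0, 0, 2, 1, 0, 0, 0, 0, 2, 1, 1, 1, 2, 0, 0, 2, 0, 0, 2, 0, 0, 2, 2, 2, 1,
   1, 0, 2, 0, 0, 0, 0, 0, 0, 0, 2, 1, 1, 1, 0, 2, 1, 1, 2, 0, 0, 0, 2, 0, 0, 0, 2, 0, 0, 2, 1, 0, 2, 1, 2, 0,
   0, 0, 0, 0, 0, 0, 0, 2, 1, 1, 1, 1, 1, 1, 1, 1, 0, 2, 0, 0, 0, 0, 2, 2, 2, 2, 0, 0, 0, 0, 0, 2, 1, 1, 1, 2,
   2, 0, 0, 0, 2, 0, 0, 0, 2, 2, 1, 0, 0, 0, 0, 0, 2, 1, 1, 1, 0, 0, 2, 1, 1, 0, 0, 0, 0, 2, 1, 2, 0, 0, 2, 2,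
   2, 1, 0, 2, 0, 0, 0, 0, 0, 0, 0, 2, 1, 1, 1, 2, 1, 1, 0, 0, 0, 0, 2, 0, 0, 0, 2, 1, 1, 1, 1, 2, 0, 0, 0, 2,
   1, 1, 0, 0, 0, 0, 2, 2, 0, 0, 0, 2, 1, 1, 1, 0, 2, 0, 0, 2, 1, 2, 0, 0, 2, 1, 0, 0, 0, 0, 2, 1, 0, 0, 0, 0,
   0, 0, 2, 1, 1, 1, 1, 2, 2, 1, 0, 0, 0, 0, 2, 1, 1, 0, 0, 2, 0, 0, 0, 2, 1, 1, 1, 2, 0, 0, 2, 1, 1, 0, 0, 2,
   0, 0, 0, 2, 1, 1, 0, 0, 0, 0, 0, 0, 2, 1, 1, 1, 0, 2, 2, 2, 2, 0, 0, 0, 0, 0, 2, 2, 0, 0, 0, 2, 1, 1, 1, 0,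
   0, 2, 1, 2, 0, 0, 2, 0, 0, 0, 2, 1, 0, 2, 1, 1, 0, 0, 2, 0, 0, 0, 0, 0, 0, 2, 1, 1, 1, 2, 2, 0, 0, 0, 2, 1,
   1, 1, 0, 0, 2, 1, 0, 0, 0, 0, 0, 2, 1, 1, 1, 2, 2, 0, 0, 0, 2, 2, 0, 0, 0, 2, 2, 0, 0, 0, 2, 1, 1, 2, 0, 0,
   2, 0, 0, 2, 2, 0, 0, 0, 0, 0, 2, 1, 1, 1, 1, 0, 0, 2, 1, 1, 0, 0, 0, 0, 2, 1, 2, 2, 0, 0, 0, 0, 0, 0, 0, 0,
   0, 0, 2, 1, 1, 1, 1, 1, 1, 1, 1, 0, 0, 2, 1, 0, 2, 0, 0, 0, 2, 0, 0, 2, 1, 1, 1, 0, 2, 0, 0, 2, 2, 2, 0, 0,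
   0, 0, 2, 0, 0, 0, 2, 1, 1, 1, 2, 2, 1, 0, 0, 0, 0, 2, 2, 0, 0, 0, 2, 2, 1, 1, 0, 0, 0, 0, 0, 2, 1, 1, 0, 2,
   1, 1, 2, 0, 0, 0, 0, 0, 2, 1, 1, 1, 0, 0, 0, 0, 0, 0, 0, 2, 1, 1, 1, 1, 0, 2, 0, 0, 0, 2, 1, 1, 1, 0, 0, 0,
   2, 2, 0, 0, 0, 0, 2, 1, 2, 0, 0, 2, 1, 1, 1, 1, 0, 2, 0, 0, 0, 2, 1, 1, 0, 0, 2, 0, 0, 0, 2, 1, 1, 0, 2, 2,
   1, 0, 0, 0, 0, 0, 0, 0, 0, 0, 2, 1, 1, 1, 1, 0, 2, 2, 0, 0, 0, 2, 1, 1, 2, 0, 0, 2, 1, 1, 0, 0, 2, 0, 0, 0,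
   2, 0, 0, 0, 2, 2, 1, 1, 0, 2, 1, 0, 2, 2, 0, 0, 0, 0, 2, 1, 1, 1, 0, 2, 0, 0, 0, 2, 2, 0, 0, 0, 0, 0, 0, 2,
   1, 1, 1, 1, 1, 1, 0, 2, 0, 0, 2, 1, 0, 0, 0, 2, 1, 2, 0, 0, 0, 0, 2, 1, 1, 1, 1, 0, 0, 0, 0, 2, 2, 1, 0, 0,
   0, 0, 0, 2, 1, 0, 2, 2, 1, 0, 0, 0, 0, 0, 2, 1, 1, 1, 0, 2, 1, 0, 0, 0, 0, 2, 1, 0, 2, 2, 0, 0, 0, 0, 0, 0,
   0, 2, 1, 1, 1, 2, 1, 1, 0, 0, 2, 1, 1, 2, 0, 0, 0, 2, 0, 0, 0, 0, 2, 1, 1, 1, 0, 2, 1, 1, 0, 0, 2, 2, 1, 0,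
   0, 0, 0, 0, 2, 0, 0, 2, 1, 2, 0, 0, 2, 0, 0, 0, 0, 2, 1, 1, 1, 1, 1, 1, 0, 0, 0, 2, 2, 0, 0, 0, 2, 1, 2, 1,
   0, 0, 0, 2, 1, 0, 0, 0, 0, 2, 2, 1, 1, 1, 0, 0, 0, 0, 0, 0, 0, 0, 2, 1, 1, 1, 1, 1, 0, 0, 2, 1, 1, 0, 0, 0,
   0, 2, 1, 1, 2, 1, 0, 2, 0, 0, 0, 0, 2, 1, 2, 0, 0, 2, 2, 1, 2, 0, 0, 0, 0, 0, 0, 0, 2, 1, 1, 1, 1, 0, 2, 2,
   0, 0, 0, 2, 2, 0, 0, 0, 2, 2, 2, 0, 0, 0, 0, 2, 2, 0, 0, 0, 0, 2, 1, 2, 1, 2, 2, 1, 0, 0, 0, 0, 2, 2, 1, 2,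
   1, 0, 0, 0, 0, 0, 0, 0, 2, 1, 1, 2, 2, 1, 0, 0, 0, 0, 2, 0, 0, 2, 1, 2, 2]

theorem s1o2_run : orbCount pullMask syn sGens s1o2I [23]
    (Nat.shiftLeft 1 (syn 23)) 1 = 630 := by
  decide +kernel

theorem s1o2_v : tetValid 23 := (tetValid_iff _).2 (by decide +kernel)

theorem s1o2_le : 630 ≤ (MulAction.orbit ↥(MulAction.stabilizer ↥M24 (setM 14)) (sextDec 23)).ncard :=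
  sext_orbit_le _ (gens_of_setOK sGens_ok) s1o2_v s1o2_run (by norm_num)

theorem s1o2_e : sextDec 23 = famOf [23, 5256, 786976, 1065280, 2263040, 12656640] :=
  sextDec_eq_famOf s1o2_v (by decide +kernel)

theorem s1o2_c : cnt (setM 14) (sextDec 23) = 2 := by
  rw [s1o2_e, cnt_famOf (by decide +kernel) (by decide +kernel) (by norm_num)]
  decide +kernel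

def s1o3I : List Nat :=
  [1, 1, 1, 1, 1, 1, 1, 1, 1, 2, 1, 2, 0, 0, 2, 2, 0, 0, 0, 0, 2, 1, 1, 0, 0, 0, 0, 2, 2, 1, 1, 0, 2, 0, 0, 2,
   1, 1, 0, 0, 0, 0, 0, 0, 2, 1, 1, 2, 0, 0, 2, 1, 0, 2, 2, 1, 0, 0, 0, 0, 0, 2, 1, 1, 1, 0, 0, 0, 2, 2, 2, 0,
   0, 0, 0, 0, 0, 2, 1, 1, 1, 0, 2, 1, 2, 1, 0, 0, 0, 2, 2, 0, 0, 0, 0, 2, 1, 1, 2, 1, 0, 0, 0, 0, 0, 0, 2, 1,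
   2, 1, 2, 0, 0, 2, 2, 0, 0, 0, 0, 2, 1, 2, 1, 0, 0, 0, 2, 1, 1, 2, 0, 0, 0, 2, 2, 0, 0, 0, 0, 0, 0, 0, 2, 1,
   1, 1, 1, 1, 0, 2, 2, 1, 0, 0, 0, 0, 2, 1, 0, 0, 0, 2, 1, 2, 1, 0, 0, 0, 2, 2, 0, 0, 0, 0, 2, 1, 0, 2, 1, 2,
   0, 0, 2, 1, 0, 2, 0, 0, 0, 0, 0, 2, 1, 1, 1, 1, 0, 0, 2, 1, 0, 0, 0, 2, 1, 1, 0, 2, 2, 1, 0, 0, 0, 0, 2, 0,
   0, 0, 2, 1, 1, 1, 2, 0, 0, 2, 1, 0, 0, 0, 2, 1, 0, 0, 0, 2, 1, 1, 0, 0, 2, 2, 1, 0, 0, 0, 0, 0, 0, 0, 0, 2,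
   1, 1, 1, 1, 1, 1, 0, 2, 1, 0, 2, 0, 0, 0, 0, 0, 0, 2, 1, 1, 1, 1, 2, 2, 0, 0, 0, 2, 0, 0, 2, 1, 1, 1, 0, 0,
   0, 0, 0, 0, 2, 1, 2, 2, 2, 1, 0, 0, 0, 0, 0, 2, 1, 2, 2, 2, 0, 0, 0, 0, 2, 1, 0, 0, 0, 0, 0, 0, 2, 1, 1, 1,
   1, 0, 2, 1, 1, 0, 2, 0, 0, 2, 0, 0, 0, 0, 2, 1, 1, 0, 2, 2, 1, 0, 2, 1, 0, 0, 0, 0, 0, 2, 1, 1, 2, 0, 0, 0,
   0, 0, 0, 2, 2, 1, 1, 1, 1, 2, 0, 0, 2, 0, 0, 0, 2, 2, 2, 2, 0, 0, 0, 0, 0, 2, 1, 2, 0, 0, 2, 0, 0, 0, 0, 0,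
   0, 0, 2, 1, 1, 1, 1, 1, 1, 1, 2, 0, 0, 2, 2, 0, 0, 0, 2, 1, 1, 1, 0, 0, 2, 1, 0, 0, 0, 0, 0, 2, 1, 2, 0, 0,
   2, 1, 1, 2, 0, 0, 2, 0, 0, 2, 2, 0, 0, 0, 0, 0, 2, 2, 1, 1, 1, 2, 0, 0, 0, 2, 0, 0, 2, 1, 2, 0, 0, 2, 1, 1,
   0, 0, 2, 0, 0, 0, 0, 0, 0, 2, 1, 1, 1, 1, 0, 2, 0, 0, 2, 2, 1, 0, 0, 0, 0, 2, 1, 0, 2, 1, 1, 1, 0, 0, 0, 0,
   0, 0, 2, 1, 2, 1, 1, 0, 2, 0, 0, 0, 0, 2, 1, 1, 0, 0, 2, 1, 2, 0, 0, 2, 1, 1, 0, 0, 2, 0, 0, 0, 0, 0, 0, 0,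
   2, 1, 1, 1, 1, 1, 1, 1, 0, 0, 0, 2, 0, 0, 2, 1, 1, 0, 0, 2, 1, 0, 0, 0, 0, 2, 1, 1, 0, 0, 2, 1, 0, 2, 2, 2,
   0, 0, 0, 0, 0, 0, 0, 2, 1, 1, 1, 1, 1, 0, 0, 0, 2, 1, 1, 0, 0, 2, 1, 0, 0, 0, 0, 2, 1, 2, 0, 0, 0, 0, 0, 0,
   0, 2, 1, 1, 2, 1, 1, 1, 0, 2, 2, 0, 0, 0, 2, 1, 0, 0, 0, 2, 2, 2, 1, 0, 0, 0, 0, 0, 0, 2, 1, 1, 1, 2, 0, 0,
   0, 2, 2, 1, 0, 2, 1, 0, 0, 0, 0, 0, 2, 1, 1, 1, 0, 0, 0, 2, 2, 1, 1, 0, 2, 0, 0, 2, 0, 0, 0, 0, 0, 0, 2, 1,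
   1, 1, 1, 2, 2, 0, 0, 0, 2, 1, 1, 0, 0, 0, 0, 2, 1, 2, 2, 0, 0, 0, 0, 0, 0, 2, 2, 1, 1, 1, 0, 2, 0, 0, 0, 2,
   1, 1, 1, 2, 0, 0, 2, 0, 0, 2, 0, 0, 0, 0, 0, 0, 0, 0, 0, 2, 1, 1, 1, 1, 1, 1, 2, 1, 1, 0, 0, 2, 1, 0, 0, 0,
   0, 2, 0, 0, 2, 1, 1, 1, 0, 0, 2, 0, 0, 0, 0, 2, 1, 1, 1, 1, 0, 0, 0, 2, 2, 2, 1, 0, 2, 0, 0, 0, 0, 0, 2, 1,
   1, 1, 0, 0, 2, 1, 1, 0, 0, 2, 1, 0, 0, 0, 0, 0, 0, 0, 2, 1, 1, 1, 1, 1, 0, 0, 2, 0, 0, 2, 2, 2, 2, 0, 0, 0,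
   0, 0, 2, 1, 1, 1, 0, 2, 1, 0, 0, 0, 0, 2, 2, 1, 1, 0, 2, 0, 0, 2, 0, 0, 0, 0, 0, 2, 1, 2, 2, 0, 0, 0, 2, 1,
   1, 1, 0, 0, 0, 0, 0, 0, 0, 2, 1, 1, 1, 1, 1, 0, 2, 1, 0, 2, 1, 0, 0, 0, 0, 2, 2, 1, 1, 0, 0, 0, 0, 0, 2, 1,
   1, 1, 1, 2, 0, 0, 0, 2, 2, 0, 0, 0, 2, 2, 1, 0, 0, 0, 0, 2, 1, 2, 2, 0, 0, 0, 2, 1, 0, 2, 1, 2, 0, 0, 2, 1,
   0, 0, 0, 0, 0, 0, 0, 0, 2, 1, 1, 1, 2, 2, 2, 0, 0, 0, 0, 2, 1, 0, 2, 1, 2, 0, 0, 2, 2, 0, 0, 0, 0, 0, 2, 1,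
   1, 1, 0, 0, 2, 0, 0, 2, 2, 2, 1, 0, 2, 0, 0, 0, 0, 0, 0, 2, 1, 1, 1, 2, 0, 0, 2, 1, 1, 0, 0, 0, 0, 2, 2, 0,
   0, 0, 2, 1, 1, 1, 1, 0, 2, 0, 0, 0, 2, 1, 1, 0, 2, 0, 0, 0, 0, 2, 1, 1, 0, 0, 2, 0, 0, 0, 0, 0, 0, 0, 2, 1,
   1, 1, 1, 1, 2, 1, 2, 0, 0, 2, 2, 0, 0, 0, 0, 2, 1, 2, 0, 0, 2, 1, 0, 0, 0, 0, 2, 1, 1, 1, 1, 1, 0, 0, 2, 0,
   0, 0, 2, 2, 2, 0, 0, 0, 0, 0, 0, 2, 1, 1, 2, 2, 2, 0, 0, 0, 0, 2, 1, 1, 0, 0, 0, 0, 2, 1, 2, 2, 0, 0, 0, 2,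
   1, 1, 0, 2, 2, 0, 0, 0, 0, 0, 0, 0, 2, 1, 1, 1, 1, 1, 1, 0, 2, 0, 0, 0, 2, 1, 0, 2, 2, 0, 0, 0, 0, 0, 0, 2,
   1, 1, 1, 1, 0, 2, 1, 0, 2, 0, 0, 0, 2, 0, 0, 2, 1, 1, 2, 0, 0, 0, 0, 0, 2, 1, 1, 1, 0, 2, 0, 0, 0, 2, 1, 1,
   0, 2, 0, 0, 2, 1, 1, 0, 0, 0, 0, 0, 0, 0, 0, 2, 1, 1, 1, 2, 1, 1, 2, 0, 0, 0, 2, 2, 1, 0, 0, 0, 0, 0, 2, 1,
   1, 1, 1, 0, 0, 0, 0, 2, 1, 2, 0, 0, 2, 1, 0, 2, 1, 0, 2, 0, 0, 0, 0, 0, 0, 2, 1, 1, 1, 1, 2, 0, 0, 0, 2, 1,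
   0, 0, 0, 0, 2, 1, 1, 0, 0, 2, 1, 1, 0, 2, 2, 0, 0, 0, 0, 0, 0, 0, 2, 1, 1, 2, 1, 1, 2, 0, 0, 0, 2, 1, 0, 0,
   0, 0, 2, 1, 1, 1, 2, 2, 0, 0, 0, 2, 2, 0, 0, 0, 2, 0, 0, 2, 1, 2, 1, 1, 0, 0, 2, 0, 0, 0, 2, 1, 2, 0, 0, 0,
   0, 0, 0, 2, 2, 1, 1, 0, 2, 1, 0, 0, 0, 0, 0, 0, 0, 0, 0, 0, 2, 1, 1, 1, 1, 1, 1, 1, 1, 2, 1, 0, 0, 0, 2, 2,
   1, 0, 0, 0, 0, 2, 1, 2, 0, 0, 2, 2, 0, 0, 0, 0, 2, 1, 1, 1, 0, 2, 1, 0, 2, 0, 0, 0, 2, 1, 0, 2, 0, 0, 0, 2,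
   1, 2, 1, 0, 0, 0, 2, 1, 1, 0, 0, 2, 0, 0, 0, 0, 0, 2, 2, 2, 1, 1, 1, 0, 2, 0, 0, 2, 1, 1, 0, 0, 0, 0, 2, 0,
   0, 0, 0, 0, 2, 1, 1, 1, 1, 0, 0, 2, 1, 2, 2, 0, 0, 0, 2, 0, 0, 0, 2, 1, 1, 1, 0, 0, 0, 2, 1, 2, 2, 0, 0, 0,
   2, 1, 0, 0, 0, 0, 0, 2, 1, 1, 1, 1, 0, 2, 1, 0, 2, 0, 0, 0, 2, 2, 1, 0, 0, 0, 0, 2, 1, 1, 2, 0, 0, 0, 2, 1,
   0, 2, 1, 2, 0, 0, 2, 0, 0, 0, 0, 0, 2, 1, 1, 2, 0, 0, 2, 2, 0, 0, 0, 2, 1, 1, 0, 0, 0, 0, 0, 0, 0, 2, 1, 1,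
   1, 1, 1, 1, 1, 0, 2, 0, 0, 0, 2, 0, 0, 0, 2, 2, 1, 2, 0, 0, 2, 0, 0, 0, 0, 2, 1, 1, 0, 0, 2, 1, 1, 0, 2, 0,
   0, 0, 0, 0, 2, 1, 2, 1, 1, 1, 2, 0, 0, 2, 0, 0, 0, 2, 1, 1, 0, 0, 0, 0, 0, 2, 1, 1, 1, 1, 1, 0, 0, 2, 2, 2,
   0, 0, 0, 0, 2, 2, 0, 0, 0, 2, 1, 0, 2, 1, 0, 0, 0, 0, 2, 1, 2, 0, 0, 2, 2, 1, 0, 0, 0, 0, 0, 0, 0, 0, 2, 1,
   1, 1, 1, 1, 1, 0, 2, 0, 0, 2, 2, 1, 2, 0, 0, 2, 0, 0, 0, 0, 2, 1, 1, 2, 1, 0, 0, 0, 2, 1, 0, 2, 2, 0, 0, 0,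
   0, 2, 2, 2, 0, 0, 0, 0, 0, 2, 1, 1, 1, 0, 0, 2, 2, 1, 2, 0, 0, 2, 0, 0, 0, 0, 2, 1, 2, 1, 1, 0, 0, 0, 0, 2,
   1, 2, 0, 0, 2, 2, 2, 0, 0, 0, 0, 0, 0, 0, 2, 2, 1, 1, 0, 2, 1, 1, 2, 0, 0, 0, 2, 1, 0, 0, 0, 0, 0, 0, 0, 2,
   1, 1, 1, 1, 1, 0, 2, 1, 0, 2, 2, 0, 0, 0, 0, 0, 2, 1, 1, 2, 2, 2, 0, 0, 0, 0, 2, 2, 0, 0, 0, 0, 0, 2, 1, 1,
   1, 2, 0, 0, 0, 2, 2, 1, 0, 0, 0, 0, 2, 1, 2, 1, 0, 0, 0, 2, 0, 0, 0, 0, 2, 1, 2, 1, 2, 0, 0, 2, 2, 0, 0, 0,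
   0, 2, 1, 1, 1, 0, 2, 2, 1, 0, 0, 0, 0, 2, 1, 1, 0, 0, 2, 2, 0, 0, 0, 0, 2, 1, 1, 0, 0, 2, 0, 0, 0, 0, 0, 0,
   0, 2, 1, 1, 1, 1, 1, 1, 2, 2, 0, 0, 0, 2, 2, 1, 0, 0, 0, 0, 2, 1, 0, 2, 1, 1, 2, 0, 0, 2, 0, 0, 2, 1, 2, 0,
   0, 0, 0, 0, 0, 2, 1, 1, 0, 2, 1, 1, 1, 2, 0, 0, 2, 0, 0, 0, 2, 0, 0, 0, 2, 1, 1, 1, 0, 0, 2, 1, 0, 0, 0, 2,
   1, 0, 0, 0, 0, 0, 0, 2, 1, 1, 1, 1, 1, 1, 0, 2, 0, 0, 0, 2, 1, 1, 0, 0, 0, 0, 2, 2, 1, 0, 2, 0, 0, 0, 0, 2,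
   2, 1, 1, 1, 0, 2, 2, 0, 0, 0, 2, 0, 0, 2, 0, 0, 0, 0, 2, 2, 1, 1, 2, 2, 0, 0, 0, 2, 1, 2, 0, 0, 2, 2, 1, 0,
   0, 0, 0, 0, 2, 1, 1, 2, 1, 2, 0, 0, 0, 0, 2, 1, 0, 2, 0, 0, 0, 2, 1, 0, 0, 0, 0, 0, 0, 0, 2, 1, 1, 1, 2, 1,
   0, 2, 1, 1, 0, 0, 0, 0, 0, 0, 2, 1, 1, 1, 0, 2, 1, 2, 1, 0, 2, 0, 0, 0, 2, 0, 0, 0, 2, 2, 1, 1, 1, 0, 2, 1,
   0, 0, 0, 2, 0, 0, 0, 0, 0, 2, 1, 2, 2, 1, 1, 0, 0, 2, 0, 0, 0, 0, 2, 1, 1, 1, 0, 0, 0, 2, 1, 2, 0, 0, 2, 1,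
   0, 2, 0, 0, 0, 0, 0, 0, 0, 2, 1, 1, 0, 2, 1, 1, 1, 1, 0, 2, 0, 0, 2, 1, 0, 2, 1, 0, 0, 0, 0, 2, 2, 1, 0, 2,
   0, 0, 0, 0, 2, 1, 0, 2, 1, 1, 0, 2, 0, 0, 0, 0, 0, 0, 2, 1, 1, 2, 2, 0, 0, 0, 2, 1, 1, 2, 0, 0, 2, 0, 0, 2,
   1, 1, 0, 2, 1, 1, 0, 0, 0, 0, 2, 0, 0, 0, 0, 2, 1, 1, 1, 1, 0, 0, 2, 2, 0, 0, 0, 2, 2, 2, 2]

theorem s1o3_run : orbCount pullMask syn sGens s1o3I [51]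
    (Nat.shiftLeft 1 (syn 51)) 1 = 1120 := by
  decide +kernel

theorem s1o3_v : tetValid 51 := (tetValid_iff _).2 (by decide +kernel)

theorem s1o3_le : 1120 ≤ (MulAction.orbit ↥(MulAction.stabilizer ↥M24 (setM 14)) (sextDec 51)).ncard :=
  sext_orbit_le _ (gens_of_setOK sGens_ok) s1o3_v s1o3_run (by norm_num)

theorem s1o3_e : sextDec 51 = famOf [51, 786948, 1188864, 2162760, 4216832, 8421760] :=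
  sextDec_eq_famOf s1o3_v (by decide +kernel)

theorem s1o3_c : cnt (setM 14) (sextDec 51) = 3 := by
  rw [s1o3_e, cnt_famOf (by decide +kernel) (by decide +kernel) (by norm_num)]
  decide +kernel

/-- Let Y be a set of 3 of the 24 points. The sextets of the length-24 code whose tetrads meeting Y number 1, 2 or 3 are respectively 21, 630 and 1120 in number, and two sextets with the same number of tetrads meeting Y are conjugate under the setwise stabiliser of Y in the code's group. -/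
theorem result (Y : Finset Cfsg.GolayPt) (hY : Y.card = 3) : {S : Finset (Finset Cfsg.GolayPt) | S ∈ Cfsg.sextets ∧ (S.filter fun t => (t ∩ Y).Nonempty).card = 1}.ncard = 21 ∧ {S : Finset (Finset Cfsg.GolayPt) | S ∈ Cfsg.sextets ∧ (S.filter fun t => (t ∩ Y).Nonempty).card = 2}.ncard = 630 ∧ {S : Finset (Finset Cfsg.GolayPt) | S ∈ Cfsg.sextets ∧ (S.filter fun t => (t ∩ Y).Nonempty).card = 3}.ncard = 1120 ∧ ∀ S S' : Finset (Finset Cfsg.GolayPt), S ∈ Cfsg.sextets → S' ∈ Cfsg.sextets → (S.filter fun t => (t ∩ Y).Nonempty).card = (S'.filter fun t => (t ∩ Y).Nonempty).card → ∃ g ∈ Cfsg.M24, g • Y = Y ∧ g • S = S' := by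
  obtain ⟨u, hu, rfl⟩ := exists_m24_three hY
  exact classes_of_orbits (u • setM 14) (X₁ := u • sextDec 15) (X₂ := u • sextDec 23)
    (X₃ := u • sextDec 51)
    (smul_mem_sextets hu (sextDec_mem s1o1_v)) (smul_mem_sextets hu (sextDec_mem s1o2_v))
    (smul_mem_sextets hu (sextDec_mem s1o3_v))
    (by rw [ncard_orbit_stabilizer_smul hu]; exact s1o1_le)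
    (by rw [ncard_orbit_stabilizer_smul hu]; exact s1o2_le)
    (by rw [ncard_orbit_stabilizer_smul hu]; exact s1o3_le)
    (by norm_num)
    (by rw [cnt_smul]; exact s1o1_c) (by rw [cnt_smul]; exact s1o2_c) (by rw [cnt_smul]; exact s1o3_c)

end Cfsg.Agent.S5616
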