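import Cfsg.Statements.S5617
import Cfsg.Agent.Helper91.Sep

set_option autoImplicit false
open scoped Pointwise
open Cfsg

namespace Cfsg.Agent.S5617

open Cfsg.Agent.Helper91

set_option maxRecDepth 100000

/-- Generators of the stabilizer of the pair of the dodecad `sqMask` and its complement. -/
def sGens : List (List Nat) :=
  [[17, 5, 23, 11, 15, 1, 7, 0, 22, 21, 12, 2, 20, 19, 18, 9, 14, 4, 10, 6, 3, 13, 8, 16],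
   [5, 7, 14, 10, 21, 1, 11, 8, 20, 22, 18, 2, 15, 17, 9, 13, 19, 0, 23, 16, 12, 4, 3, 6]]

theorem sGens_ok : sGens.all (genFamOK [sqMask, ALL ^^^ sqMask]) = true := by decide +kernel

def s1o1I : List Nat :=
  [1, 1, 1, 1, 1, 1, 1, 2, 1, 0, 0, 0, 2, 1, 0, 2, 1, 0, 2, 1, 0, 2, 0, 0, 0, 0, 0, 2, 1, 0, 2, 1, 1, 1, 0, 0,
   2, 0, 0, 2, 0, 0, 0, 0, 2, 1, 0, 2, 1, 1, 1, 1, 0, 2, 0, 0, 2, 2, 0, 0, 0, 2, 2, 2, 0, 0, 0, 0, 0, 0, 0, 2,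
   1, 1, 1, 1, 2, 2, 0, 0, 0, 2, 2, 2, 2, 0, 0, 0, 0, 0, 0, 2, 1, 1, 1, 0, 2, 2, 0, 0, 0, 2, 1, 1, 0, 0, 2, 1,
   1, 0, 0, 0, 0, 0, 2, 2, 1, 0, 0, 0, 0, 0, 2, 1, 1, 2, 0, 0, 2, 1, 1, 0, 2, 1, 0, 0, 0, 2, 0, 0, 0, 2, 1, 1,
   1, 1, 0, 0, 2, 0, 0, 2, 0, 0, 2, 2, 2, 0, 0, 0, 0, 0, 0, 0, 2, 1, 1, 1, 1, 1, 0, 2, 0, 0, 2, 1, 0, 2, 1, 1,
   2, 0, 0, 0, 2, 1, 0, 0, 0, 0, 0, 2, 1, 2, 1, 2, 1, 0, 0, 0, 2, 0, 0, 0, 2, 0, 0, 0, 2, 1, 1, 1, 1, 0, 2, 1,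
   0, 0, 0, 2, 1, 0, 2, 1, 0, 0, 0, 0, 2, 1, 1, 0, 0, 2, 1, 0, 2, 1, 0, 0, 0, 0, 0, 2, 1, 2, 1, 2, 1, 0, 0, 0,
   0, 0, 2, 2, 1, 1, 0, 0, 2, 0, 0, 0, 0, 0, 0, 2, 1, 1, 1, 1, 1, 0, 2, 2, 0, 0, 0, 2, 2, 0, 0, 0, 2, 1, 1, 0,
   2, 0, 0, 2, 2, 1, 1, 0, 0, 2, 0, 0, 0, 0, 0, 2, 1, 1, 1, 2, 0, 0, 2, 0, 0, 2, 1, 0, 0, 0, 2, 0, 0, 0, 2, 1,
   1, 2, 1, 0, 0, 0, 2, 1, 1, 0, 0, 2, 0, 0, 0, 2, 1, 1, 1, 1, 0, 0, 0, 2, 1, 0, 2, 0, 0, 0, 2, 1, 0, 0, 0, 0,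
   0, 0, 0, 2, 1, 1, 1, 1, 1, 0, 0, 2, 2, 1, 1, 0, 2, 0, 0, 2, 0, 0, 0, 0, 2, 1, 1, 1, 1, 0, 2, 0, 0, 0, 2, 1,
   1, 0, 2, 0, 0, 2, 1, 0, 0, 0, 0, 2, 2, 2, 1, 0, 2, 0, 0, 0, 0, 0, 0, 2, 1, 1, 1, 1, 0, 2, 1, 2, 0, 0, 0, 0,
   2, 1, 1, 1, 0, 0, 2, 0, 0, 0, 0, 2, 1, 1, 0, 0, 0, 0, 2, 1, 1, 2, 1, 0, 0, 0, 2, 2, 1, 0, 2, 2, 0, 0, 0, 0,
   0, 0, 0, 0, 2, 1, 1, 1, 1, 1, 0, 0, 2, 2, 1, 1, 0, 2, 0, 0, 0, 0, 0, 2, 1, 2, 0, 0, 0, 0, 2, 2, 1, 2, 1, 0,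
   0, 0, 2, 1, 0, 2, 2, 0, 0, 0, 0, 0, 0, 2, 1, 1, 2, 1, 1, 0, 0, 2, 0, 0, 0, 2, 2, 2, 1, 0, 0, 0, 0, 0, 2, 1,
   1, 1, 1, 0, 2, 1, 0, 0, 0, 2, 1, 0, 2, 0, 0, 0, 0, 2, 1, 1, 1, 0, 2, 0, 0, 2, 0, 0, 2, 1, 2, 0, 0, 2, 2, 0,
   0, 0, 0, 0, 0, 0, 0, 0, 2, 2, 1, 1, 1, 1, 2, 2, 0, 0, 0, 2, 1, 2, 1, 2, 0, 0, 0, 0, 2, 1, 1, 0, 0, 0, 0, 0,
   2, 1, 1, 1, 0, 2, 2, 0, 0, 0, 0, 2, 1, 1, 0, 0, 2, 1, 1, 0, 0, 0, 0, 0, 0, 2, 2, 1, 1, 1, 1, 1, 0, 0, 0, 2,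
   2, 0, 0, 0, 2, 2, 1, 0, 2, 1, 0, 0, 0, 0, 0, 2, 2, 1, 2, 0, 0, 0, 0, 0, 0, 0, 2, 1, 1, 1, 1, 1, 1, 0, 2, 0,
   0, 0, 2, 2, 1, 0, 0, 0, 0, 2, 1, 2, 1, 0, 0, 0, 2, 1, 0, 2, 0, 0, 0, 0, 2, 1, 1, 0, 2, 1, 1, 1, 0, 0, 0, 0,
   0, 2, 2, 1, 2, 2, 0, 0, 0, 0, 0, 0, 0, 2, 1, 1, 1, 1, 1, 1, 0, 0, 0, 2, 0, 0, 2, 0, 0, 2, 1, 1, 2, 2, 0, 0,
   0, 2, 1, 1, 0, 2, 0, 0, 0, 0, 2, 2, 1, 0, 2, 0, 0, 0, 0, 0, 2, 1, 2, 1, 1]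

theorem s1o1_run : orbCount pullMask syn sGens s1o1I [163]
    (Nat.shiftLeft 1 (syn 163)) 1 = 396 := by
  decide +kernel

theorem s1o1_v : tetValid 163 := (tetValid_iff _).2 (by decide +kernel)

theorem s1o1_le : 396 ≤ (MulAction.orbit ↥(MulAction.stabilizer ↥M24 (famOf [sqMask, ALL ^^^ sqMask])) (sextDec 163)).ncard :=
  sext_orbit_le _ (gens_of_famOK sGens_ok) s1o1_v s1o1_run (by norm_num)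

theorem s1o1_e : sextDec 163 = famOf [163, 17984, 1116164, 2494464, 4726792, 8421648] :=
  sextDec_eq_famOf s1o1_v (by decide +kernel)

def s1o2I : List Nat :=
  [1, 1, 1, 1, 1, 1, 1, 1, 2, 2, 0, 0, 0, 2, 1, 1, 0, 0, 0, 0, 2, 2, 2, 0, 0, 0, 0, 2, 1, 1, 0, 0, 2, 1, 1, 0,
   0, 0, 0, 0, 2, 1, 1, 1, 1, 1, 1, 0, 0, 0, 2, 2, 0, 0, 0, 2, 2, 0, 0, 0, 0, 2, 1, 1, 0, 0, 2, 0, 0, 0, 0, 2,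
   1, 1, 1, 1, 0, 0, 2, 1, 1, 0, 2, 2, 0, 0, 0, 2, 1, 1, 0, 0, 2, 0, 0, 0, 0, 2, 1, 1, 1, 0, 2, 1, 0, 0, 0, 2,
   1, 1, 2, 0, 0, 0, 0, 0, 2, 1, 0, 0, 0, 0, 2, 1, 2, 1, 1, 0, 2, 1, 0, 0, 0, 0, 0, 2, 1, 1, 2, 0, 0, 2, 2, 2,
   0, 0, 0, 0, 2, 1, 1, 2, 0, 0, 2, 0, 0, 2, 1, 1, 0, 2, 0, 0, 0, 0, 0, 0, 0, 0, 2, 1, 1, 1, 1, 1, 1, 1, 0, 0,
   2, 1, 0, 2, 0, 0, 0, 2, 1, 0, 2, 0, 0, 0, 2, 2, 1, 1, 2, 0, 0, 2, 0, 0, 2, 0, 0, 0, 0, 2, 1, 0, 2, 1, 1, 1,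
   1, 0, 0, 2, 0, 0, 0, 2, 1, 1, 0, 0, 2, 1, 0, 0, 0, 0, 0, 0, 0, 2, 1, 1, 1, 1, 1, 0, 2, 1, 1, 0, 0, 0, 0, 2,
   2, 2, 0, 0, 0, 0, 0, 2, 1, 1, 2, 0, 0, 0, 2, 1, 1, 0, 0, 2, 1, 0, 0, 0, 0, 0, 2, 1, 1, 1, 1, 0, 2, 0, 0, 2,
   1, 1, 0, 0, 0, 0, 2, 0, 0, 2, 1, 1, 0, 2, 2, 0, 0, 0, 2, 1, 1, 0, 2, 0, 0, 2, 2, 2, 1, 0, 0, 0, 0, 0, 0, 0,
   0, 0, 0, 2, 1, 1, 1, 1, 1, 1, 0, 0, 2, 1, 0, 2, 1, 0, 2, 0, 0, 0, 0, 2, 2, 1, 1, 1, 0, 0, 0, 2, 0, 0, 0, 0,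
   2, 2, 2, 2, 1, 0, 2, 0, 0, 0, 0, 0, 0, 2, 2, 1, 1, 1, 0, 0, 2, 2, 1, 0, 2, 2, 0, 0, 0, 0, 0, 2, 1, 1, 1, 1,
   0, 0, 0, 2, 2, 1, 0, 0, 0, 0, 2, 1, 1, 2, 0, 0, 2, 0, 0, 2, 1, 0, 0, 0, 0, 0, 0, 0, 2, 1, 1, 1, 2, 2, 0, 0,
   0, 2, 1, 1, 2, 1, 0, 2, 1, 0, 0, 0, 0, 0, 2, 2, 1, 1, 0, 0, 2, 2, 1, 0, 0, 0, 0, 0, 0, 0, 2, 2, 1, 1, 2, 2,
   0, 0, 0, 0, 2, 1, 0, 2, 1, 1, 0, 2, 0, 0, 2, 0, 0, 0, 0, 0, 0, 2, 1, 1, 2, 0, 0, 2, 1, 1, 0, 2, 0, 0, 2, 2,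
   2, 0, 0, 0, 0, 0, 2, 1, 2, 1, 0, 0, 0, 2, 1, 1, 2, 2, 0, 0, 0, 0, 2, 1, 0, 2, 0, 0, 0, 0, 0, 0, 0, 0, 2, 1,
   1, 1, 1, 1, 1, 1, 0, 2, 2, 2, 0, 0, 0, 0, 2, 2, 1, 0, 0, 0, 0, 2, 1, 1, 2, 0, 0, 2, 1, 1, 0, 0, 0, 0, 2, 1,
   1, 0, 0, 2, 1, 1, 0, 2, 0, 0, 2, 2, 0, 0, 0, 0, 0, 0, 2, 1, 1, 1, 1, 0, 2, 2, 0, 0, 0, 2, 1, 1, 1, 0, 0, 0,
   0, 0, 2, 1, 1, 1, 0, 2, 0, 0, 0, 2, 1, 0, 0, 0, 0, 2, 1, 1, 0, 2, 2, 0, 0, 0, 2, 0, 0, 0, 0, 2, 1, 1, 1, 1,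
   2, 0, 0, 0, 0, 2, 2, 1, 0, 0, 0, 0, 2, 2, 1, 1, 1, 2, 0, 0, 2, 1, 0, 0, 0, 2, 1, 0, 0, 0, 2, 1, 1, 0, 2, 0,
   0, 2, 2, 0, 0, 0, 0, 0, 0, 0, 2, 2, 1, 1, 2, 1, 2, 1, 0, 0, 0, 0, 0, 2, 2, 2, 0, 0, 0, 0, 2, 1, 2, 2, 0, 0,
   0, 2, 1, 1, 1, 0, 0, 0, 2, 1, 1, 2, 0, 0, 2, 0, 0, 2, 1, 0, 0, 0, 0, 0, 0, 0, 0, 2, 1, 1, 1, 1, 1, 2, 2, 1,
   0, 0, 0, 0, 2, 0, 0, 2, 2, 1, 1, 0, 2, 0, 0, 2, 1, 2, 0, 0, 0, 0, 0, 0, 2, 1, 1, 0, 2, 1, 2, 0, 0, 2, 1, 2,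
   0, 0, 0, 0, 0, 2, 1, 1, 1, 0, 0, 2, 1, 0, 2, 0, 0, 0, 2, 1, 2, 0, 0, 2, 0, 0, 0, 0, 0, 2, 2, 1, 1, 1, 0, 0,
   2, 0, 0, 2, 1, 0, 2, 0, 0, 0, 0, 0, 2, 1, 1, 1, 1, 0, 2, 1, 2, 0, 0, 2, 1, 0, 2, 1, 0, 0, 0, 0, 0, 2, 1, 0,
   2, 1, 2, 1, 0, 0, 0, 2, 2, 1, 0, 0, 0, 0, 0, 0, 2, 1, 1, 1, 0, 0, 2, 2, 1, 1, 0, 0, 0, 0, 0, 2, 1, 1, 1, 0,
   2, 0, 0, 2, 2, 1, 0, 0, 0, 0, 2, 1, 0, 0, 0, 0, 0, 2, 1, 1, 1, 1, 1, 1, 0, 0, 0, 2, 2, 0, 0, 0, 2, 2, 1, 0,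
   2, 0, 0, 0, 0, 2, 1, 2, 1, 1, 0, 0, 2, 0, 0, 0, 0, 0, 2, 1, 1, 2, 0, 0, 2, 2, 2, 1, 0, 0, 0, 0, 0, 2, 1, 1,
   1, 1, 0, 0, 2, 0, 0, 2]

theorem s1o2_run : orbCount pullMask syn sGens s1o2I [15]
    (Nat.shiftLeft 1 (syn 15)) 1 = 495 := by
  decide +kernel

theorem s1o2_v : tetValid 15 := (tetValid_iff _).2 (by decide +kernel)

theorem s1o2_le : 495 ≤ (MulAction.orbit ↥(MulAction.stabilizer ↥M24 (famOf [sqMask, ALL ^^^ sqMask])) (sextDec 15)).ncard :=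
  sext_orbit_le _ (gens_of_famOK sGens_ok) s1o2_v s1o2_run (by norm_num)

theorem s1o2_e : sextDec 15 = famOf [15, 5264, 622848, 3416064, 4196928, 8536096] :=
  sextDec_eq_famOf s1o2_v (by decide +kernel)

def s1o3I : List Nat :=
  [1, 1, 1, 1, 1, 1, 1, 1, 2, 2, 1, 0, 0, 0, 0, 2, 1, 0, 2, 1, 2, 0, 0, 2, 2, 0, 0, 0, 0, 0, 2, 1, 1, 2, 1, 0,
   0, 0, 2, 2, 1, 0, 2, 1, 0, 0, 0, 0, 0, 2, 1, 2, 0, 0, 2, 0, 0, 0, 0, 0, 2, 1, 1, 2, 1, 1, 1, 0, 0, 2, 0, 0,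
   2, 2, 1, 0, 2, 0, 0, 0, 0, 0, 2, 1, 1, 2, 0, 0, 0, 2, 1, 1, 0, 0, 2, 1, 0, 2, 0, 0, 0, 0, 0, 2, 1, 1, 1, 1,
   0, 0, 2, 2, 0, 0, 0, 2, 2, 0, 0, 0, 2, 1, 1, 1, 0, 2, 0, 0, 2, 2, 1, 0, 0, 0, 0, 2, 1, 1, 0, 0, 2, 1, 0, 2,
   1, 0, 2, 0, 0, 0, 0, 0, 0, 0, 0, 2, 1, 0, 2, 1, 1, 1, 1, 1, 1, 0, 2, 0, 0, 2, 2, 0, 0, 0, 2, 1, 1, 0, 2, 0,
   0, 0, 0, 2, 2, 2, 0, 0, 0, 0, 2, 1, 1, 1, 0, 0, 2, 1, 2, 0, 0, 2, 0, 0, 0, 2, 1, 1, 2, 0, 0, 0, 2, 2, 0, 0,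
   0, 0, 0, 2, 1, 1, 1, 1, 0, 2, 0, 0, 2, 0, 0, 2, 1, 1, 1, 0, 2, 0, 0, 0, 2, 2, 0, 0, 0, 0, 2, 1, 1, 2, 2, 2,
   0, 0, 0, 0, 2, 0, 0, 2, 1, 1, 0, 2, 0, 0, 2, 1, 1, 0, 0, 2, 1, 0, 2, 0, 0, 0, 0, 0, 0, 0, 0, 0, 2, 1, 1, 1,
   1, 1, 1, 1, 0, 2, 2, 0, 0, 0, 2, 1, 1, 0, 0, 0, 0, 2, 1, 1, 0, 0, 2, 1, 2, 0, 0, 0, 0, 0, 2, 2, 1, 2, 2, 0,
   0, 0, 0, 0, 0, 2, 1, 1, 1, 1, 1, 0, 2, 0, 0, 0, 0, 2, 1, 1, 0, 0, 2, 2, 1, 0, 2, 0, 0, 0, 0, 0, 2, 1, 1, 1,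
   1, 1, 0, 0, 2, 0, 0, 2, 2, 0, 0, 0, 0, 0, 0, 0, 0, 2, 1, 1, 2, 1, 1, 1, 0, 0, 2, 1, 0, 0, 0, 0, 0, 2, 1, 1,
   1, 0, 2, 1, 0, 0, 0, 2, 1, 1, 0, 2, 0, 0, 2, 2, 0, 0, 0, 0, 2, 1, 1, 1, 0, 2, 1, 2, 0, 0, 0, 0, 0, 2, 1, 0,
   2, 1, 0, 2, 0, 0, 0, 0, 0, 0, 2, 1, 1, 1, 1, 1, 0, 2, 0, 0, 2, 0, 0, 2, 1, 1, 0, 0, 0, 0, 2, 2, 1, 1, 2, 2,
   0, 0, 0, 2, 2, 0, 0, 0, 2, 1, 0, 0, 0, 0, 0, 2, 1, 1, 2, 1, 0, 2, 0, 0, 0, 2, 1, 2, 2, 0, 0, 0, 2, 2, 1, 2,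
   0, 0, 0, 0, 0, 0, 2, 1, 1, 1, 0, 0, 2, 0, 0, 2, 1, 0, 2, 0, 0, 0, 0, 0, 0, 0, 0, 2, 1, 1, 1, 1, 1, 1, 2, 1,
   0, 0, 0, 2, 1, 1, 2, 0, 0, 0, 2, 0, 0, 0, 2, 1, 1, 0, 0, 2, 1, 1, 0, 0, 0, 0, 0, 2, 1, 1, 1, 1, 0, 0, 2, 1,
   0, 0, 0, 2, 1, 0, 0, 0, 2, 1, 1, 0, 2, 0, 0, 2, 1, 1, 1, 0, 0, 2, 0, 0, 0, 0, 0, 0, 2, 1, 1, 1, 1, 2, 0, 0,
   2, 0, 0, 2, 2, 2, 0, 0, 0, 0, 2, 1, 1, 2, 2, 0, 0, 0, 2, 1, 0, 2, 1, 0, 0, 0, 0, 2, 1, 2, 2, 0, 0, 0, 0, 0,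
   0, 2, 1, 1, 1, 1, 0, 2, 0, 0, 2, 0, 0, 2, 1, 1, 0, 0, 0, 0, 2, 1, 2, 2, 1, 0, 0, 0, 0, 2, 1, 1, 1, 1, 0, 0,
   0, 2, 2, 0, 0, 0, 2, 0, 0, 0, 0, 0, 0, 2, 1, 1, 1, 1, 2, 2, 0, 0, 0, 2, 1, 2, 0, 0, 0, 0, 0, 2, 1, 1, 1, 0,
   2, 1, 0, 0, 0, 0, 0, 0, 2, 1, 1, 1, 2, 1, 0, 0, 0, 2, 1, 2, 0, 0, 2, 2, 2, 0, 0, 0, 0, 0, 2, 2, 1, 2, 0, 0,
   2, 2, 1, 0, 0, 0, 0, 0, 0, 2, 1, 2, 0, 0, 0, 0, 0, 0, 2, 1, 1, 1, 1, 1, 1, 1, 0, 2, 0, 0, 2, 0, 0, 2, 2, 2,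
   2, 0, 0, 0, 0, 0, 2, 2, 0, 0, 0, 2, 1, 1, 1, 1, 0, 2, 0, 0, 2, 1, 0, 2, 0, 0, 0, 2, 2, 2, 0, 0, 0, 0, 2, 1,
   2, 0, 0, 2, 1, 1, 0, 0, 2, 1, 0, 0, 0, 0, 0, 0, 2, 1, 1, 1, 2, 1, 1, 0, 2, 1, 0, 0, 0, 2, 0, 0, 0, 0, 2, 1,
   0, 0, 0, 2, 1, 0, 2, 1, 1, 1, 0, 0, 0, 2, 1, 1, 0, 2, 0, 0, 2, 2, 1, 0, 0, 0, 0, 0, 0, 0, 0, 2, 1, 1, 1, 2,
   1, 0, 0, 0, 2, 0, 0, 2, 2, 1, 1, 1, 0, 0, 2, 2, 0, 0, 0, 2, 1, 2, 0, 0, 2, 1, 0, 2, 1, 0, 0, 0, 0, 0, 0, 0,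
   2, 1, 1, 2, 1, 1, 0, 0, 2, 1, 1, 0, 0, 0, 0, 0, 2, 0, 0, 2, 1, 1, 0, 2, 2, 2, 0, 0, 0, 0, 2, 1, 1, 0, 2, 0,
   0, 0, 0, 0, 0, 0, 0, 0, 2, 1, 1, 1, 1, 1, 1, 2, 1, 1, 0, 0, 2, 1, 1, 1, 0, 0, 2, 0, 0, 0, 0, 0, 2, 0, 0, 2,
   1, 1, 2, 2, 1, 0, 0, 0, 0, 2, 1, 0, 2, 2, 0, 0, 0, 0, 2, 1, 1, 1, 0, 2, 1, 0, 2, 0, 0, 0, 2, 1, 0, 0, 0, 2,
   1, 2, 0, 0, 0, 0, 0, 0, 2, 1, 1, 1, 1, 0, 2, 1, 2, 1, 0, 0, 0, 0, 0, 2, 1, 2, 0, 0, 2, 1, 0, 2, 1, 0, 0, 0,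
   0, 0, 2, 1, 2, 2, 0, 0, 0, 2, 1, 2, 0, 0, 0, 0, 0, 2, 1, 1, 1, 0, 0, 2, 1, 1, 0, 0, 2, 1, 0, 0, 0, 0, 2, 1,
   2, 1, 0, 0, 0, 2, 2, 2, 0, 0, 0, 0, 0, 0, 0, 2, 1, 2, 1, 1, 1, 0, 2, 0, 0, 2, 1, 0, 0, 0, 2, 1, 1, 2, 1, 0,
   2, 0, 0, 0, 2, 1, 0, 0, 0, 2, 1, 0, 0, 0, 0, 0, 2, 1, 1, 1, 2, 2, 0, 0, 0, 0, 2, 2, 2, 2, 0, 0, 0, 0, 0, 2,
   1, 1, 1, 1, 1, 0, 2, 0, 0, 2, 1, 0, 0, 0, 2, 0, 0, 2, 2, 0, 0, 0, 2, 1, 1, 2, 0, 0, 2, 0, 0, 2, 1, 2, 0, 0,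
   0, 0, 0, 0, 0, 0, 2, 1, 1, 1, 1, 2, 0, 0, 2, 1, 1, 2, 2, 0, 0, 0, 2, 1, 0, 0, 0, 2, 1, 1, 0, 0, 0, 0, 0, 2,
   1, 1, 1, 0, 0, 2, 2, 0, 0, 0, 2, 1, 0, 2, 0, 0, 0, 0, 2, 1, 1, 1, 2, 1, 0, 0, 0, 2, 1, 1, 0, 0, 2, 0, 0, 0,
   2, 2, 0, 0, 0, 2, 1, 2, 2, 2, 0, 0, 0, 0, 2, 1, 2, 0, 0, 0, 0, 0, 0, 2, 1, 1, 1, 1, 1, 0, 0, 2, 1, 2, 0, 0,
   0, 0, 2, 2, 1, 1, 0, 0, 2, 2, 0, 0, 0, 0, 0, 2, 1, 2, 1, 1, 1, 0, 0, 2, 0, 0, 2, 1, 0, 0, 0, 0, 2, 1, 1, 1,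
   0, 2, 0, 0, 2, 1, 0, 0, 0, 2, 0, 0, 0, 0, 2, 1, 1, 1, 2, 2, 2, 0, 0, 0, 0, 2, 1, 1, 0, 2, 0, 0, 2, 0, 0, 0,
   2, 0, 0, 2, 1, 0, 2, 1, 1, 2, 0, 0, 0, 2, 1, 2, 1, 0, 0, 0, 2, 2, 0, 0, 0, 0, 0, 0, 0, 0, 0, 2, 1, 1, 1, 1,
   1, 1, 2, 1, 0, 0, 0, 2, 2, 0, 0, 0, 2, 1, 1, 0, 2, 0, 0, 0, 0, 2, 1, 1, 1, 0, 0, 2, 1, 0, 2, 0, 0, 0, 0, 0,
   2, 2, 1, 1, 1, 2, 0, 0, 2, 1, 2, 0, 0, 2, 0, 0, 0, 2, 0, 0, 2, 2, 2, 1, 0, 0, 0, 0, 0, 0, 0, 2, 2, 1, 1, 1,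
   1, 0, 2, 2, 0, 0, 0, 2, 2, 1, 0, 0, 0, 0, 2, 2, 2, 0, 0, 0, 0, 2, 1, 1, 1, 2, 0, 0, 2, 0, 0, 0, 2, 1, 1, 0,
   0, 2, 0, 0, 0, 0, 0, 0, 2, 1, 1, 1, 1, 1, 2, 1, 1, 0, 0, 2, 0, 0, 0, 2, 1, 1, 1, 0, 0, 2, 0, 0, 2, 1, 0, 2,
   0, 0, 0, 0, 2, 1, 2, 1, 0, 2, 0, 0, 0, 2, 0, 0, 0, 2, 1, 1, 1, 1, 0, 2, 1, 0, 0, 0, 0, 2, 2, 2, 0, 0, 0, 0,
   0, 0, 2, 1, 1, 1, 1, 0, 2, 2, 0, 0, 0, 2, 1, 0, 0, 0, 2, 1, 0, 2, 1, 1, 0, 2, 0, 0, 2, 2, 0, 0, 0, 0, 0, 2,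
   1, 1, 1, 1, 0, 2, 0, 0, 2, 2, 0, 0, 0, 2, 1, 0, 2, 1, 0, 0, 0, 0, 2, 1, 1, 0, 2, 2, 0, 0, 0, 2, 1, 1, 2, 0,
   0, 0, 0, 0, 0, 0, 0, 2, 1, 1, 1, 2, 1, 0, 0, 0, 2, 1, 1, 1, 0, 2, 0, 0, 2, 2, 0, 0, 0, 0, 0, 2, 1, 1, 2, 0,
   0, 2, 1, 0, 0, 0, 2, 1, 1, 0, 0, 2, 1, 2, 2, 0, 0, 0, 2, 1]

theorem s1o3_run : orbCount pullMask syn sGens s1o3I [39]
    (Nat.shiftLeft 1 (syn 39)) 1 = 880 := by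
  decide +kernel

theorem s1o3_v : tetValid 39 := (tetValid_iff _).2 (by decide +kernel)

theorem s1o3_le : 880 ≤ (MulAction.orbit ↥(MulAction.stabilizer ↥M24 (famOf [sqMask, ALL ^^^ sqMask])) (sextDec 39)).ncard :=
  sext_orbit_le _ (gens_of_famOK sGens_ok) s1o3_v s1o3_run (by norm_num)

theorem s1o3_e : sextDec 39 = famOf [39, 45120, 786960, 1116288, 6292736, 8536072] :=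
  sextDec_eq_famOf s1o3_v (by decide +kernel)

theorem s1_orbits : Orbits3 (famOf [sqMask, ALL ^^^ sqMask]) sextets 396 495 880 := by
  refine orbits3_of_lower (famOf [sqMask, ALL ^^^ sqMask]) sextets (fun g hg x hx => smul_mem_sextets hg hx)
    (sextDec_mem s1o1_v) (sextDec_mem s1o2_v) (sextDec_mem s1o3_v)
    s1o1_le s1o2_le s1o3_le
    (by rw [Helper26.sextets_ncard]) ?_ ?_ ?_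
  · exact not_orbit_of_interB (zs := [sqMask, ALL ^^^ sqMask]) (xs := [163, 17984, 1116164, 2494464, 4726792, 8421648]) (xs' := [15, 5264, 622848, 3416064, 4196928, 8536096])
      (fun g h => h) (fam_of_eq s1o1_e s1o2_e)
      (by decide +kernel) (by decide +kernel) (by decide +kernel) 0 (by decide +kernel)
  · exact not_orbit_of_interB (zs := [sqMask, ALL ^^^ sqMask]) (xs := [163, 17984, 1116164, 2494464, 4726792, 8421648]) (xs' := [39, 45120, 786960, 1116288, 6292736, 8536072])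
      (fun g h => h) (fam_of_eq s1o1_e s1o3_e)
      (by decide +kernel) (by decide +kernel) (by decide +kernel) 1 (by decide +kernel)
  · exact not_orbit_of_interB (zs := [sqMask, ALL ^^^ sqMask]) (xs := [15, 5264, 622848, 3416064, 4196928, 8536096]) (xs' := [39, 45120, 786960, 1116288, 6292736, 8536072])
      (fun g h => h) (fam_of_eq s1o2_e s1o3_e)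
      (by decide +kernel) (by decide +kernel) (by decide +kernel) 0 (by decide +kernel)

/-- The setwise stabiliser, in the group of the length-24 code, of a complementary pair of dodecads has exactly three orbits on the 1771 sextets, of sizes 396, 495 and 880. -/
theorem result (d : Finset Cfsg.GolayPt) (hd : d ∈ Cfsg.dodecads) : ∃ X₁ ∈ Cfsg.sextets, ∃ X₂ ∈ Cfsg.sextets, ∃ X₃ ∈ Cfsg.sextets, (MulAction.orbit ↥(MulAction.stabilizer Cfsg.M24 ({d, Finset.univ \ d} : Finset (Finset Cfsg.GolayPt))) X₁).ncard = 396 ∧ (MulAction.orbit ↥(MulAction.stabilizer Cfsg.M24 ({d, Finset.univ \ d} : Finset (Finset Cfsg.GolayPt))) X₂).ncard = 495 ∧ (MulAction.orbit ↥(MulAction.stabilizer Cfsg.M24 ({d,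 Finset.univ \ d} : Finset (Finset Cfsg.GolayPt))) X₃).ncard = 880 ∧ Cfsg.sextets = MulAction.orbit ↥(MulAction.stabilizer Cfsg.M24 ({d, Finset.univ \ d} : Finset (Finset Cfsg.GolayPt))) X₁ ∪ MulAction.orbit ↥(MulAction.stabilizer Cfsg.M24 ({d, Finset.univ \ d} : Finset (Finset Cfsg.GolayPt))) X₂ ∪ MulAction.orbit ↥(MulAction.stabilizer Cfsg.M24 ({d, Finset.univ \ d} : Finset (Finset Cfsg.GolayPt))) X₃ := by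
  obtain ⟨u, hu, e⟩ := exists_m24_dodpair hd
  rw [← e]
  exact s1_orbits.smul hu (fun g hg x hx => smul_mem_sextets hg hx)

end Cfsg.Agent.S5617
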