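import Cfsg.Statements.S5726
-- import your own Cfsg.Agent.* helpers here
import Cfsg.Agent.Helper95.SylowOrbit

set_option autoImplicit false
open Cfsg

namespace Cfsg.Agent.S5726

open MulAction

/-- If a finite group acts faithfully and transitively on a set with p^k elements, p a prime and k ≥ 1, then some element of order p fixes no point. -/
theorem result {G Ω : Type*} [Group G] [Finite G] [MulAction G Ω] [FaithfulSMul G Ω] [Fintype Ω] (htr : MulAction.IsPretransitive G Ω)
    (p k : ℕ) (hp : p.Prime) (hk : 1 ≤ k) (hΩ : Fintype.card Ω = p ^ k) :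
    ∃ g : G, orderOf g = p ∧ ∀ ω : Ω, g • ω ≠ ω := by
  have := Fact.mk hp
  obtain ⟨P⟩ : Nonempty (Sylow p G) := inferInstance
  have hcard : Nat.card Ω = p ^ k := by rw [Nat.card_eq_fintype_card, hΩ]
  have : Nonempty Ω := by
    rw [← Fintype.card_pos_iff, hΩ]; exact pow_pos hp.pos k
  obtain ⟨ω₀⟩ := ‹Nonempty Ω›
  -- the Sylow subgroup is transitive
  have h1 := Helper95.card_dvd_ncard_orbit_mul_index (P : Subgroup G) ω₀
  rw [hcard] at h1
  have h2 : (p ^ k).Coprime (P : Subgroup G).index :=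
    Nat.Coprime.pow_left k ((Nat.Prime.coprime_iff_not_dvd hp).mpr P.not_dvd_index)
  have h3 : p ^ k ∣ (orbit ↥(P : Subgroup G) ω₀).ncard := h2.dvd_of_dvd_mul_right h1
  have hpos : 0 < (orbit ↥(P : Subgroup G) ω₀).ncard :=
    (Set.ncard_pos (Set.toFinite _)).mpr ⟨ω₀, mem_orbit_self ω₀⟩
  have horb : orbit ↥(P : Subgroup G) ω₀ = Set.univ := by
    apply Set.eq_of_subset_of_ncard_le (Set.subset_univ _)
    rw [Set.ncard_univ, hcard]
    exact Nat.le_of_dvd hpos h3
  -- the Sylow subgroup is non-trivial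
  have hpP : p ∣ Nat.card ↥(P : Subgroup G) := by
    have h4 : p ^ k ∣ Nat.card ↥(P : Subgroup G) := by
      rw [← index_stabilizer] at h3
      exact h3.trans (Subgroup.index_dvd_card _)
    exact (dvd_pow_self p (by omega)).trans h4
  have : Nontrivial ↥(P : Subgroup G) := by
    rw [← Finite.one_lt_card_iff_nontrivial]
    exact lt_of_lt_of_le hp.one_lt (Nat.le_of_dvd Nat.card_pos hpP)
  have := IsPGroup.center_nontrivial P.isPGroup'
  have hZ : IsPGroup p ↥(Subgroup.center ↥(P : Subgroup G)) := P.isPGroup'.to_subgroup _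
  have hpZ : p ∣ Nat.card ↥(Subgroup.center ↥(P : Subgroup G)) := by
    rcases hZ.card_eq_or_dvd with h | h
    · exact absurd h (ne_of_gt Finite.one_lt_card)
    · exact h
  obtain ⟨z, hz⟩ := exists_prime_orderOf_dvd_card' p hpZ
  refine ⟨((z : ↥(P : Subgroup G)) : G), ?_, ?_⟩
  · rw [Subgroup.orderOf_coe, Subgroup.orderOf_coe, hz]
  · intro ω hω
    have hz1 : ((z : ↥(P : Subgroup G)) : G) = 1 := by
      apply FaithfulSMul.eq_of_smul_eq_smul (α := Ω)
      intro ω'
      rw [one_smul]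
      have ha : ω ∈ orbit ↥(P : Subgroup G) ω₀ := horb ▸ Set.mem_univ ω
      have hb : ω' ∈ orbit ↥(P : Subgroup G) ω₀ := horb ▸ Set.mem_univ ω'
      obtain ⟨a, rfl⟩ := ha
      obtain ⟨b, rfl⟩ := hb
      have hcomm : ∀ c : ↥(P : Subgroup G), c * (z : ↥(P : Subgroup G)) = (z : ↥(P : Subgroup G)) * c :=
        Subgroup.mem_center_iff.mp z.2
      have hω' : (z : ↥(P : Subgroup G)) • a • ω₀ = a • ω₀ := hω
      show (z : ↥(P : Subgroup G)) • b • ω₀ = b • ω₀
      have e1 : b • ω₀ = (b * a⁻¹) • a • ω₀ := by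
        rw [smul_smul, inv_mul_cancel_right]
      rw [e1, smul_smul, ← hcomm, ← smul_smul, hω']
    have hz2 : orderOf ((z : ↥(P : Subgroup G)) : G) = p := by
      rw [Subgroup.orderOf_coe, Subgroup.orderOf_coe, hz]
    rw [hz1, orderOf_one] at hz2
    exact hp.one_lt.ne hz2

end Cfsg.Agent.S5726
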