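import Cfsg.Statements.S5727
-- import your own Cfsg.Agent.* helpers here
import Cfsg.Agent.S5726

set_option autoImplicit false
open Cfsg

namespace Cfsg.Agent.S5727

open MulAction

/-- If a finite group acts faithfully and transitively on a set with m·p elements, where p is a prime and 1 ≤ m ≤ p, then some element of order p fixes no point. -/
theorem result {G Ω : Type*} [Group G] [Finite G] [MulAction G Ω] [FaithfulSMul G Ω] [Fintype Ω] (htr : MulAction.IsPretransitive G Ω)
    (p m : ℕ) (hp : p.Prime) (hm : 1 ≤ m) (hmp : m ≤ p) (hΩ : Fintype.card Ω = m * p) :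
    ∃ g : G, orderOf g = p ∧ ∀ ω : Ω, g • ω ≠ ω := by
  rcases hmp.eq_or_lt with rfl | hlt
  · exact S5726.result htr m 2 hp (by norm_num) (by rw [hΩ]; ring)
  have := Fact.mk hp
  obtain ⟨P⟩ : Nonempty (Sylow p G) := inferInstance
  have hcard : Nat.card Ω = m * p := by rw [Nat.card_eq_fintype_card, hΩ]
  have hne : Nonempty Ω := by
    rw [← Fintype.card_pos_iff, hΩ]; exact Nat.mul_pos (by omega) hp.pos
  -- every orbit of the Sylow subgroup has size p
  have horb : ∀ ω : Ω, (stabilizer ↥(P : Subgroup G) ω).index = p := by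
    intro ω
    have h1 := Helper95.card_dvd_ncard_orbit_mul_index (P : Subgroup G) ω
    rw [hcard] at h1
    have h2 : p ∣ (orbit ↥(P : Subgroup G) ω).ncard :=
      Nat.Coprime.dvd_of_dvd_mul_right ((Nat.Prime.coprime_iff_not_dvd hp).mpr P.not_dvd_index)
        ((dvd_mul_left p m).trans h1)
    have h3 : (orbit ↥(P : Subgroup G) ω).ncard ≤ m * p := by
      rw [← hcard, ← Set.ncard_univ]
      exact Set.ncard_le_ncard (Set.subset_univ _) (Set.toFinite _)
    rw [← index_stabilizer] at h2 h3
    obtain ⟨j, hj⟩ := P.isPGroup'.index (stabilizer ↥(P : Subgroup G) ω)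
    rw [hj] at h2 h3 ⊢
    have hj1 : j ≠ 0 := by
      rintro rfl
      rw [pow_zero] at h2
      exact hp.one_lt.ne' (Nat.dvd_one.mp h2)
    have hj2 : j < 2 := by
      by_contra hj2
      have : p ^ 2 ≤ p ^ j := Nat.pow_le_pow_right hp.pos (by omega)
      nlinarith
    have : j = 1 := by omega
    rw [this, pow_one]
  have hPcard : (Nat.card ↥(P : Subgroup G)).minFac = p := by
    obtain ⟨a, ha⟩ := IsPGroup.iff_card.mp P.isPGroup'
    have ha0 : a ≠ 0 := by
      rintro rfl
      obtain ⟨ω⟩ := hne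
      have h := Subgroup.index_dvd_card (stabilizer ↥(P : Subgroup G) ω)
      rw [horb ω, ha, pow_zero] at h
      exact hp.one_lt.ne' (Nat.dvd_one.mp h)
    rw [ha, hp.pow_minFac ha0]
  have hnorm : ∀ ω : Ω, (stabilizer ↥(P : Subgroup G) ω).Normal := fun ω =>
    Subgroup.normal_of_index_eq_minFac_card (by rw [horb ω, hPcard])
  have hstab : ∀ (ω : Ω) (c : ↥(P : Subgroup G)),
      stabilizer ↥(P : Subgroup G) (c • ω) = stabilizer ↥(P : Subgroup G) ω := by
    intro ω c
    ext h
    rw [mem_stabilizer_iff, mem_stabilizer_iff]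
    have key : h • c • ω = c • ω ↔ (c⁻¹ * h * c) • ω = ω := by
      rw [mul_smul, mul_smul, inv_smul_eq_iff]
    rw [key, ← mem_stabilizer_iff, ← mem_stabilizer_iff]
    have := hnorm ω
    constructor
    · intro hh
      have := (hnorm ω).conj_mem _ hh c
      simpa [mul_assoc] using this
    · intro hh
      have := (hnorm ω).conj_mem _ hh c⁻¹
      simpa [mul_assoc] using this
  by_contra hcon
  push Not at hcon
  -- every element of P has a fixed point
  have hfix : ∀ g : ↥(P : Subgroup G), ∃ ω : Ω, g • ω = ω := by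
    intro g
    by_contra hg
    push Not at hg
    have hgp : (g : G) ^ p = 1 := by
      apply FaithfulSMul.eq_of_smul_eq_smul (α := Ω)
      intro ω
      rw [one_smul]
      have := hnorm ω
      have h := Subgroup.pow_index_mem (stabilizer ↥(P : Subgroup G) ω) g
      rw [horb ω] at h
      exact h
    have hg1 : (g : G) ≠ 1 := by
      intro h1
      obtain ⟨ω⟩ := hne
      apply hg ω
      show (g : G) • ω = ω
      rw [h1, one_smul]
    obtain ⟨ω, hω⟩ := hcon (g : G) (orderOf_eq_prime hgp hg1)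
    exact hg ω hω
  -- count
  choose fx hfx using hfix
  have hout : ∀ ω : Ω, stabilizer ↥(P : Subgroup G) (Quotient.out (⟦ω⟧ : orbitRel.Quotient ↥(P : Subgroup G) Ω)) =
      stabilizer ↥(P : Subgroup G) ω := by
    intro ω
    have h : (orbitRel ↥(P : Subgroup G) Ω) (Quotient.out (⟦ω⟧ : orbitRel.Quotient ↥(P : Subgroup G) Ω)) ω :=
      Quotient.exact (Quotient.out_eq _)
    rw [orbitRel_apply] at h
    obtain ⟨c, hc⟩ := h
    rw [← hc, hstab]
  let f : ↥(P : Subgroup G) →
      (Σ q : orbitRel.Quotient ↥(P : Subgroup G) Ω, stabilizer ↥(P : Subgroup G) (Quotient.out q)) :=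
    fun g => ⟨⟦fx g⟧, ⟨g, by rw [hout]; exact hfx g⟩⟩
  have hf : Function.Injective f := by
    intro g g' h
    exact congrArg (fun x : (Σ q : orbitRel.Quotient ↥(P : Subgroup G) Ω,
      stabilizer ↥(P : Subgroup G) (Quotient.out q)) => (x.2 : ↥(P : Subgroup G))) h
  let _ : Fintype (orbitRel.Quotient ↥(P : Subgroup G) Ω) := Fintype.ofFinite _
  have hc1 : Nat.card ↥(P : Subgroup G) ≤
      ∑ q : orbitRel.Quotient ↥(P : Subgroup G) Ω, Nat.card (stabilizer ↥(P : Subgroup G) (Quotient.out q)) := by
    rw [← Nat.card_sigma]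
    exact Nat.card_le_card_of_injective f hf
  have hc2 : ∀ q : orbitRel.Quotient ↥(P : Subgroup G) Ω,
      Nat.card (stabilizer ↥(P : Subgroup G) (Quotient.out q)) * p = Nat.card ↥(P : Subgroup G) := by
    intro q
    have h := Subgroup.card_mul_index (stabilizer ↥(P : Subgroup G) (Quotient.out q))
    rw [horb] at h
    exact h
  have hc3 : Nat.card ↥(P : Subgroup G) * p ≤
      Fintype.card (orbitRel.Quotient ↥(P : Subgroup G) Ω) * Nat.card ↥(P : Subgroup G) := by
    calc Nat.card ↥(P : Subgroup G) * p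
        ≤ (∑ q : orbitRel.Quotient ↥(P : Subgroup G) Ω,
            Nat.card (stabilizer ↥(P : Subgroup G) (Quotient.out q))) * p := Nat.mul_le_mul_right p hc1
      _ = ∑ q : orbitRel.Quotient ↥(P : Subgroup G) Ω, Nat.card ↥(P : Subgroup G) := by
          rw [Finset.sum_mul]
          exact Finset.sum_congr rfl (fun q _ => hc2 q)
      _ = Fintype.card (orbitRel.Quotient ↥(P : Subgroup G) Ω) * Nat.card ↥(P : Subgroup G) := by
          rw [Finset.sum_const, Finset.card_univ, smul_eq_mul]
  have hc4 : Fintype.card (orbitRel.Quotient ↥(P : Subgroup G) Ω) * p = m * p := by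
    rw [← hcard, Nat.card_congr (selfEquivSigmaOrbits ↥(P : Subgroup G) Ω), Nat.card_sigma]
    have : ∀ q : orbitRel.Quotient ↥(P : Subgroup G) Ω,
        Nat.card (orbit ↥(P : Subgroup G) (Quotient.out q)) = p := by
      intro q
      rw [Nat.card_coe_set_eq, ← index_stabilizer, horb]
    rw [Finset.sum_congr rfl (fun q _ => this q), Finset.sum_const, Finset.card_univ, smul_eq_mul]
  have hc5 : Fintype.card (orbitRel.Quotient ↥(P : Subgroup G) Ω) = m :=
    Nat.eq_of_mul_eq_mul_right hp.pos hc4
  rw [hc5] at hc3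
  have hPpos : 0 < Nat.card ↥(P : Subgroup G) := Nat.card_pos
  have : p ≤ m := by
    rw [mul_comm] at hc3
    exact Nat.le_of_mul_le_mul_right hc3 hPpos
  omega

end Cfsg.Agent.S5727
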