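import Cfsg.Statements.S5728
-- import your own Cfsg.Agent.* helpers here

set_option autoImplicit false
open Cfsg

namespace Cfsg.Agent.S5728

/-- An elusive transitive action. Let p = 2^s − 1 be a prime and let F be the field with p² elements. Inside the group of affine maps x ↦ a·x + b of F (a ≠ 0), consider the subgroup of maps with both coefficients in the prime field. Then every element of prime order of the affine group is conjugate, within the affine group, to an element of that subgroup; equivalently, in the transitive action of the affine group on the cosets of that subgroup (of degree p(p + 1)) every element of prime order fixes a point. -/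
theorem result (p s : ℕ) [Fact p.Prime] (hs : p = 2 ^ s - 1)
    (g : Equiv.Perm (GaloisField p 2)) (hg : g ∈ Cfsg.affineGroup (GaloisField p 2)) (hord : (orderOf g).Prime) :
    ∃ x ∈ Cfsg.affineGroup (GaloisField p 2), ∃ a b : ZMod p, a ≠ 0 ∧
      ∀ y : GaloisField p 2, (x * g * x⁻¹) y = algebraMap (ZMod p) (GaloisField p 2) a * y + algebraMap (ZMod p) (GaloisField p 2) b := by
  have hp : p.Prime := Fact.out
  obtain ⟨a, b, hab⟩ := hg
  have hg1 : g ≠ 1 := by
    rintro rfl
    rw [orderOf_one] at hord
    exact Nat.not_prime_one hord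
  by_cases ha : (a : GaloisField p 2) = 1
  · -- a translation
    have hb : b ≠ 0 := by
      rintro rfl
      apply hg1
      ext y
      rw [hab, ha]
      simp
    refine ⟨Equiv.mulLeft₀ b⁻¹ (inv_ne_zero hb), ⟨Units.mk0 b⁻¹ (inv_ne_zero hb), 0, fun y => by simp⟩,
      1, 1, one_ne_zero, fun y => ?_⟩
    have hinv : (Equiv.mulLeft₀ b⁻¹ (inv_ne_zero hb))⁻¹ y = b * y := by
      rw [Equiv.Perm.inv_eq_iff_eq]
      simp [hb]
    rw [Equiv.Perm.mul_apply, Equiv.Perm.mul_apply, hinv, hab, ha, map_one]
    show b⁻¹ * (1 * (b * y) + b) = 1 * y + 1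
    field_simp
  · -- a fixed point
    have h1a : (1 : GaloisField p 2) - a ≠ 0 := sub_ne_zero.mpr (Ne.symm ha)
    set y₀ : GaloisField p 2 := b / (1 - a) with hy₀_def
    have hy₀ : (a : GaloisField p 2) * y₀ + b = y₀ := by
      rw [hy₀_def]
      field_simp
      ring
    have hpow : ∀ k : ℕ, ∀ y₁ y₂ : GaloisField p 2,
        (g ^ k) y₁ - (g ^ k) y₂ = (a : GaloisField p 2) ^ k * (y₁ - y₂) := by
      intro k
      induction k with
      | zero => intro y₁ y₂; simp
      | succ k ih =>
        intro y₁ y₂
        rw [pow_succ', Equiv.Perm.mul_apply, Equiv.Perm.mul_apply, hab, hab, add_sub_add_right_eq_sub,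
          ← mul_sub, ih, pow_succ', mul_assoc]
    have har : (a : GaloisField p 2) ^ orderOf g = 1 := by
      have h := hpow (orderOf g) 1 0
      rw [pow_orderOf_eq_one] at h
      simpa using h.symm
    have := Fintype.ofFinite (GaloisField p 2)
    have hcard : Fintype.card (GaloisField p 2) = p ^ 2 := by
      rw [← Nat.card_eq_fintype_card, GaloisField.card p 2 (by norm_num)]
    have hap : (a : GaloisField p 2) ^ (p ^ 2 - 1) = 1 := by
      rw [← hcard]
      exact FiniteField.pow_card_sub_one_eq_one _ a.ne_zero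
    have hdvd : orderOf g ∣ p ^ 2 - 1 := by
      by_contra hnd
      have hcop : Nat.Coprime (orderOf g) (p ^ 2 - 1) := (Nat.Prime.coprime_iff_not_dvd hord).mpr hnd
      have h := pow_gcd_eq_one.mpr ⟨har, hap⟩
      rw [Nat.Coprime.gcd_eq_one hcop, pow_one] at h
      exact ha h
    have hs1 : s ≠ 0 := by
      rintro rfl
      rw [hs] at hp
      exact Nat.not_prime_zero (by simpa using hp)
    obtain ⟨t, rfl⟩ := Nat.exists_eq_succ_of_ne_zero hs1
    have htpos : 1 ≤ 2 ^ t := Nat.one_le_two_pow
    have hp1 : p + 1 = 2 ^ (t + 1) := by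
      rw [pow_succ] at hs ⊢
      omega
    have hdvd' : orderOf g ∣ p - 1 := by
      have h2 : p ^ 2 - 1 = (p + 1) * (p - 1) := by
        have := Nat.sq_sub_sq p 1
        simpa using this
      rw [h2] at hdvd
      rcases (Nat.Prime.dvd_mul hord).mp hdvd with h | h
      · rw [hp1] at h
        have h2' : orderOf g = 2 :=
          (Nat.prime_dvd_prime_iff_eq hord Nat.prime_two).mp (hord.dvd_of_dvd_pow h)
        rw [h2']
        rw [pow_succ] at hs
        exact ⟨2 ^ t - 1, by omega⟩
      · exact h
    have hap1 : (a : GaloisField p 2) ^ (p - 1) = 1 := by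
      obtain ⟨c, hc⟩ := hdvd'
      rw [hc, pow_mul, har, one_pow]
    have hapow : (a : GaloisField p 2) ^ p = a := by
      have h := pow_succ (a : GaloisField p 2) (p - 1)
      rw [Nat.sub_add_cancel hp.one_le, hap1, one_mul] at h
      exact h
    have hmem : (a : GaloisField p 2) ∈ (⊥ : Subfield (GaloisField p 2)) :=
      (Subfield.mem_bot_iff_pow_eq_self (GaloisField p 2) p).mpr hapow
    rw [Subfield.bot_eq_of_zMod_algebra p, RingHom.mem_fieldRange] at hmem
    obtain ⟨a', ha'⟩ := hmem
    have ha'0 : a' ≠ 0 := by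
      rintro rfl
      rw [map_zero] at ha'
      exact a.ne_zero ha'.symm
    refine ⟨Equiv.addRight (-y₀), ⟨1, -y₀, fun y => by simp⟩, a', 0, ha'0, fun y => ?_⟩
    have hinv : (Equiv.addRight (-y₀))⁻¹ y = y + y₀ := by
      rw [Equiv.Perm.inv_eq_iff_eq]
      simp
    rw [Equiv.Perm.mul_apply, Equiv.Perm.mul_apply, hinv, hab, ha', map_zero, add_zero]
    simp only [Equiv.coe_addRight]
    linear_combination hy₀

end Cfsg.Agent.S5728
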