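import Cfsg.Statements.S5787
import Cfsg.Agent.Helper96.Sp4Q3F
import Cfsg.Agent.Helper96.Sp4Q3A1
import Cfsg.Agent.Helper4.Sp4Q3C
import Cfsg.Agent.Helper31.Sp4Q3B
import Cfsg.Agent.Helper31.Sp4Q3CNT
import Cfsg.Agent.Helper10.Sp4Q3T
import Cfsg.Agent.Helper41.Sp4Q3Q
import Cfsg.Agent.Helper41.Sp4Q3A2
import Cfsg.Agent.Helper19.Sp4Q3D
import Cfsg.Agent.Helper19.Sp4Q3I
import Cfsg.Agent.Helper28.Sp4Q3TS

set_option autoImplicit false
open Cfsg

namespace Cfsg.Agent.S5787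

/-- Every maximal subgroup of Sp_4(q), q odd, is of one of the listed geometric types or lies in the residual class. Let F be a finite field of odd order q, f the standard alternating form on F^4 (coordinates Fin 2 ⊕ Fin 2), and H a maximal subgroup of the isometry group Sp_4(F) (inside GL_4(F)). Then H is the intersection with Sp_4(F) of one of: the stabiliser of a non-zero totally isotropic subspace; the stabiliser of a decomposition into two orthogonal non-degenerate 2-spaces; for q ≥ 5, of a decomposition into two totally isotropic 2-spaces; the normaliser of a degree-2 subfield K of the matrix algebra, self-adjoint with f(k v, v) = 0; for q ≥ 5, the normaliser of a degree-2 subfield closed under adjoints but not self-adjoint; a subfield group whose F₀-structure carries a non-zero multiple of f, |F| = |F₀|^r with r prime; for q = p prime, the normaliser of an absolutely irreducible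 symplectic-type 2-group of exponent 4, order 32, centre of order 2 and minus type inside the similarity group of f — or else H lies in the residual class of the symplectic case. -/
theorem result {F : Type*} [Field F] [Fintype F] (hodd : Odd (Fintype.card F)) (H : Subgroup (Matrix.GeneralLinearGroup (Fin 2 ⊕ Fin 2) F)) (hH : Cfsg.Geo.IsMaximalIn (Cfsg.spGL 2 F) H) :
    (∃ W : Submodule F (Fin 2 ⊕ Fin 2 → F), W ≠ ⊥ ∧ Cfsg.Geo.IsTotallySingularFor (Cfsg.sympForm 2 F) W ∧ H = Cfsg.Geo.subspaceStabilizer W ⊓ Cfsg.spGL 2 F) ∨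
    (∃ D : Fin 2 → Submodule F (Fin 2 ⊕ Fin 2 → F), Cfsg.Geo.IsNondegenerateMDecomposition (Cfsg.sympForm 2 F) 2 D ∧ H = Cfsg.Geo.decompositionStabilizer D ⊓ Cfsg.spGL 2 F) ∨
    (5 ≤ Fintype.card F ∧ ∃ D : Fin 2 → Submodule F (Fin 2 ⊕ Fin 2 → F), Cfsg.Geo.IsMDecomposition 2 D ∧ (∀ i, Cfsg.Geo.IsTotallySingularFor (Cfsg.sympForm 2 F) (D i)) ∧ H = Cfsg.Geo.decompositionStabilizer D ⊓ Cfsg.spGL 2 F) ∨
    (∃ K : Subalgebra F (Matrix (Fin 2 ⊕ Fin 2) (Fin 2 ⊕ Fin 2) F), Cfsg.Geo.IsFieldSubalgebra 2 K ∧ Cfsg.Geo.IsSelfAdjointFor (Cfsg.sympForm 2 F) K ∧ (∀ k ∈ K, ∀ v : (Fin 2 ⊕ Fin 2 → F), (Cfsg.sympForm 2 F) (Matrix.mulVec k v) v = 0) ∧ H = Cfsg.Geo.subalgebraNormalizer K ⊓ Cfsg.spGL 2 F) ∨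
    (5 ≤ Fintype.card F ∧ ∃ K : Subalgebra F (Matrix (Fin 2 ⊕ Fin 2) (Fin 2 ⊕ Fin 2) F), Cfsg.Geo.IsFieldSubalgebra 2 K ∧ Cfsg.Geo.IsAdjointClosedFor (Cfsg.sympForm 2 F) K ∧ ¬ Cfsg.Geo.IsSelfAdjointFor (Cfsg.sympForm 2 F) K ∧ H = Cfsg.Geo.subalgebraNormalizer K ⊓ Cfsg.spGL 2 F) ∨
    (∃ (F₀ : Subfield F) (r : ℕ) (P : Matrix.GeneralLinearGroup (Fin 2 ⊕ Fin 2) F) (ζ : F), r.Prime ∧ Fintype.card F = Nat.card F₀ ^ r ∧ ζ ≠ 0 ∧ Cfsg.Geo.IsFormRationalStructure (Cfsg.sympForm 2 F) F₀ ζ P ∧ H = Cfsg.Geo.subfieldSubgroup F₀ P ⊓ Cfsg.spGL 2 F) ∨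
    (∃ (p : ℕ) (R : Subgroup (Matrix.GeneralLinearGroup (Fin 2 ⊕ Fin 2) F)), p.Prime ∧ Fintype.card F = p ∧ Cfsg.Geo.IsSymplecticTypeGroup 2 R ∧ Cfsg.Geo.ActsAbsolutelyIrreducibly (Cfsg.Geo.matrixSet R) ∧ R ≤ Cfsg.Geo.similarityGroup (Cfsg.sympForm 2 F) ∧ Nat.card R = 32 ∧ Nat.card (Subgroup.center R) = 2 ∧ Cfsg.Geo.IsOfMinusType 2 R ∧ H = Cfsg.Geo.subgroupNormalizer R ⊓ Cfsg.spGL 2 F) ∨
    Cfsg.Geo.InSymplecticResidualClass H := by
  classical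
  refine Cfsg.Agent.Helper96.Sy.sp4_odd_cases hodd (fun h3 => ?_) (fun h3 => ?_) H hH
  · exact fun D hD hts => Cfsg.Agent.Helper28.sp4q3_ts_pair h3 D hD hts
  · have hQ : Cfsg.Agent.Helper96.Q3.Q8Facts F := Cfsg.Agent.Helper41.q8_facts h3
    have hD : Cfsg.Agent.Helper96.Q3.D8Facts F := Cfsg.Agent.Helper19.Sp4Q3.d8_facts h3
    have hmem := fun g => Cfsg.Agent.Helper96.Q3.mem_R0_iff hQ g
    have hcnt : Nat.card (Cfsg.Agent.Helper96.Q3.R0 (F := F)) = 32 :=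
      Cfsg.Agent.Helper31.r0_card h3 hmem hQ.1 hD.1
    have h2F : (2 : F) ≠ 0 := Cfsg.Agent.Helper94.two_ne_zero_of_odd_card hodd
    have hgens := Cfsg.Agent.Helper96.Q3.gens_mem hQ
    have habs0 : Cfsg.Geo.ActsAbsolutelyIrreducibly
        (Cfsg.Geo.matrixSet (Cfsg.Agent.Helper96.Q3.R0 (F := F))) :=
      Cfsg.Agent.Helper19.Sp4Q3.kr_absIrred h2F Cfsg.Agent.Helper96.Q3.R0 hgens.1 hgens.2.1
        hgens.2.2.1 hgens.2.2.2
    have hchar0 : ∀ A : Subgroup (Cfsg.Agent.Helper96.Q3.R0 (F := F)), A.Characteristic →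
        IsMulCommutative A → IsCyclic A :=
      fun A hA hAc => Cfsg.Agent.Helper4.r0_char_cyclic h3 hmem
        (fun g A B c h1 h2 h3 h4 x hx =>
          Cfsg.Agent.Helper96.Q3.R0_normalized hQ g A B c h1 h2 h3 h4 x hx)
        hQ.2.2.2.2.2 hQ.2.2.2.1 hD.1 A hA hAc
    exact Cfsg.Agent.Helper96.Q3.sp4_field_q3 h3 hQ hD hcnt habs0 hchar0
      (fun g hg hc => Cfsg.Agent.Helper31.sp4q3_comm h3 g hg hc)
      (fun K hK hac hnsa => Cfsg.Agent.Helper96.Q3.sp4q3_i h3 K hK hac hnsa)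
      (fun i hi hiso => Cfsg.Agent.Helper41.sp4q3_frame h3 i hi hiso)
      (fun P hP => Cfsg.Agent.Helper10.conj_pkg P hP Cfsg.Agent.Helper96.Q3.R0
        Cfsg.Agent.Helper96.Q3.R0_le_sp (Cfsg.Agent.Helper96.Q3.R0_sq hQ hD)
        (Cfsg.Agent.Helper96.Q3.R0_class2 hQ hD) habs0 hcnt hchar0)

end Cfsg.Agent.S5787
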