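import Cfsg.Statements.S5823
import Cfsg.Agent.Helper96.SpW6
import Cfsg.Agent.Helper96.SpT2d
import Cfsg.Agent.Helper96.SpEven2

set_option autoImplicit false
open Cfsg

namespace Cfsg.Agent.S5823

/-- Every maximal subgroup of Sp_8(q) is of one of the listed geometric types or lies in the residual class. Let F be a finite field with q elements, f the standard alternating form on F^8 (coordinates Fin 4 ⊕ Fin 4), and H a maximal subgroup of Sp_8(F) (inside GL_8(F)). Then H is the intersection with Sp_8(F) of one of: the stabiliser of a non-zero totally isotropic subspace; the stabiliser of a non-degenerate 2-space; for q ≥ 3, the stabiliser of a decomposition into four mutually orthogonal non-degenerate 2-spaces; of a decomposition into two orthogonal non-degenerate 4-spaces; for q odd, of a decomposition into two totally isotropic 4-spaces; the normaliser of a degree-2 subfield K, self-adjoint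 with f(k v, v) = 0; for q odd, the normaliser of a degree-2 subfield closed under adjoints but not self-adjoint; for q odd, the stabiliser of a tensor decomposition of f into an alternating form on F^2 and a minus-type symmetric form on F^4; a subfield group (|F| = |F₀|^r, r prime) whose F₀-structure carries a non-zero multiple of f; for q = p an odd prime, the normaliser of an absolutely irreducible extraspecial group 2_-^(1+6) of exponent 4 inside the similarity group of f; for q odd, q ≥ 5, the stabiliser of a tensor decomposition of f as a third tensor power of an alternating form on F^2; for q even, the similarity group of a non-degenerate quadratic form polarising to f — or else H lies in the residual class of the symplectic case. -/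
theorem result {F : Type*} [Field F] [Fintype F] (H : Subgroup (Matrix.GeneralLinearGroup (Fin 4 ⊕ Fin 4) F)) (hH : Cfsg.Geo.IsMaximalIn (Cfsg.spGL 4 F) H) :
    (∃ W : Submodule F (Fin 4 ⊕ Fin 4 → F), W ≠ ⊥ ∧ Cfsg.Geo.IsTotallySingularFor (Cfsg.sympForm 4 F) W ∧ H = Cfsg.Geo.subspaceStabilizer W ⊓ Cfsg.spGL 4 F) ∨
    (∃ W : Submodule F (Fin 4 ⊕ Fin 4 → F), W ≠ ⊥ ∧ Cfsg.Geo.IsNondegenerateOn (Cfsg.sympForm 4 F) W ∧ Module.finrank F W < 4 ∧ H = Cfsg.Geo.subspaceStabilizer W ⊓ Cfsg.spGL 4 F) ∨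
    (3 ≤ Fintype.card F ∧ ∃ D : Fin 4 → Submodule F (Fin 4 ⊕ Fin 4 → F), Cfsg.Geo.IsNondegenerateMDecomposition (Cfsg.sympForm 4 F) 2 D ∧ H = Cfsg.Geo.decompositionStabilizer D ⊓ Cfsg.spGL 4 F) ∨
    (∃ D : Fin 2 → Submodule F (Fin 4 ⊕ Fin 4 → F), Cfsg.Geo.IsNondegenerateMDecomposition (Cfsg.sympForm 4 F) 4 D ∧ H = Cfsg.Geo.decompositionStabilizer D ⊓ Cfsg.spGL 4 F) ∨
    (Odd (Fintype.card F) ∧ ∃ D : Fin 2 → Submodule F (Fin 4 ⊕ Fin 4 → F), Cfsg.Geo.IsMDecomposition 4 D ∧ (∀ i, Cfsg.Geo.IsTotallySingularFor (Cfsg.sympForm 4 F) (D i)) ∧ H = Cfsg.Geo.decompositionStabilizer D ⊓ Cfsg.spGL 4 F) ∨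
    (∃ K : Subalgebra F (Matrix (Fin 4 ⊕ Fin 4) (Fin 4 ⊕ Fin 4) F), Cfsg.Geo.IsFieldSubalgebra 2 K ∧ Cfsg.Geo.IsSelfAdjointFor (Cfsg.sympForm 4 F) K ∧ (∀ k ∈ K, ∀ v : (Fin 4 ⊕ Fin 4 → F), (Cfsg.sympForm 4 F) (Matrix.mulVec k v) v = 0) ∧ H = Cfsg.Geo.subalgebraNormalizer K ⊓ Cfsg.spGL 4 F) ∨
    (Odd (Fintype.card F) ∧ ∃ K : Subalgebra F (Matrix (Fin 4 ⊕ Fin 4) (Fin 4 ⊕ Fin 4) F), Cfsg.Geo.IsFieldSubalgebra 2 K ∧ Cfsg.Geo.IsAdjointClosedFor (Cfsg.sympForm 4 F) K ∧ ¬ Cfsg.Geo.IsSelfAdjointFor (Cfsg.sympForm 4 F) K ∧ H = Cfsg.Geo.subalgebraNormalizer K ⊓ Cfsg.spGL 4 F) ∨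
    (Odd (Fintype.card F) ∧ ∃ (e : (Fin 4 ⊕ Fin 4) ≃ Fin 2 × Fin 4) (P : Matrix.GeneralLinearGroup (Fin 4 ⊕ Fin 4) F) (f₁ : (Fin 2 → F) → (Fin 2 → F) → F) (f₂ : (Fin 4 → F) → (Fin 4 → F) → F), Cfsg.Geo.IsSymplecticForm f₁ ∧ Cfsg.Geo.IsSymmetricForm f₂ ∧ ¬ Cfsg.Geo.IsPlusTypeOn (fun v : Fin 4 → F => f₂ v v) ⊤ ∧ Cfsg.Geo.IsTensorFormStructure id (Cfsg.sympForm 4 F) f₁ f₂ e P ∧ H = Cfsg.Geo.tensorProductSubgroup 2 4 e P ⊓ Cfsg.spGL 4 F) ∨
    (∃ (F₀ : Subfield F) (r : ℕ) (P : Matrix.GeneralLinearGroup (Fin 4 ⊕ Fin 4) F) (ζ : F), r.Prime ∧ Fintype.card F = Nat.card F₀ ^ r ∧ ζ ≠ 0 ∧ Cfsg.Geo.IsFormRationalStructure (Cfsg.sympForm 4 F) F₀ ζ P ∧ H = Cfsg.Geo.subfieldSubgroup F₀ P ⊓ Cfsg.spGL 4 F) ∨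
    (∃ (p : ℕ) (R : Subgroup (Matrix.GeneralLinearGroup (Fin 4 ⊕ Fin 4) F)), p.Prime ∧ Odd p ∧ Fintype.card F = p ∧ Cfsg.Geo.IsSymplecticTypeGroup 2 R ∧ Cfsg.Geo.ActsAbsolutelyIrreducibly (Cfsg.Geo.matrixSet R) ∧ R ≤ Cfsg.Geo.similarityGroup (Cfsg.sympForm 4 F) ∧ Nat.card R = 128 ∧ Nat.card (Subgroup.center R) = 2 ∧ Cfsg.Geo.IsOfMinusType 3 R ∧ H = Cfsg.Geo.subgroupNormalizer R ⊓ Cfsg.spGL 4 F) ∨
    (Odd (Fintype.card F) ∧ 5 ≤ Fintype.card F ∧ ∃ (e : (Fin 4 ⊕ Fin 4) ≃ (Fin 3 → Fin 2)) (P : Matrix.GeneralLinearGroup (Fin 4 ⊕ Fin 4) F) (f₁ : (Fin 2 → F) → (Fin 2 → F) → F), Cfsg.Geo.IsSymplecticForm f₁ ∧ Cfsg.Geo.IsTensorPowerFormStructure id (Cfsg.sympForm 4 F) f₁ e P ∧ H = Cfsg.Geo.tensorWreathSubgroup 2 3 e P ⊓ Cfsg.spGL 4 F) ∨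
    (¬ Odd (Fintype.card F) ∧ ∃ Q : (Fin 4 ⊕ Fin 4 → F) → F, Cfsg.Geo.IsNondegenerateQuadraticForm Q ∧ (∀ u v : (Fin 4 ⊕ Fin 4 → F), QuadraticMap.polar Q u v = (Cfsg.sympForm 4 F) u v) ∧ H = Cfsg.Geo.quadSimilarityGroup Q ⊓ Cfsg.spGL 4 F) ∨
    Cfsg.Geo.InSymplecticResidualClass H := by
  by_cases hodd : Odd (Fintype.card F)
  swap
  · -- even characteristic
    have hmax := Cfsg.Agent.Helper96.Sy.sp_max_cases_even (m := 4) (by norm_num) hodd H hH
    unfold Cfsg.Agent.Helper96.Sy.SpMaxE at hmax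
    rcases hmax with ⟨W, hW0, hts, heq⟩ | ⟨W, hW0, hnd, hlt, heq⟩ |
      ⟨t, k, D, htk, hk, hc, hD, heq⟩ | ⟨r, K, hr, hdvd, hK, hsa, halt, heq⟩ |
      ⟨F₀, r, P, ζ, hr, hcard, hζ, hR, heq⟩ | ⟨Q, hQ, hpol, heq⟩ | hres
    · exact Or.inl ⟨W, hW0, hts, heq⟩
    · exact Or.inr (Or.inl ⟨W, hW0, hnd, hlt, heq⟩)
    · have ht := hD.decomp.two_le
      have hkpos := hD.decomp.pos
      obtain ⟨c, hc'⟩ := hk
      have h1 : 2 * k ≤ t * k := Nat.mul_le_mul_right k ht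
      have hc3 : c ≤ 2 := by omega
      interval_cases c
      · omega
      · have hk2 : k = 2 := by omega
        subst hk2
        have ht4 : t = 4 := by omega
        subst ht4
        exact Or.inr (Or.inr (Or.inl ⟨hc rfl, D, hD, heq⟩))
      · have hk4 : k = 4 := by omega
        subst hk4
        have ht2 : t = 2 := by omega
        subst ht2
        exact Or.inr (Or.inr (Or.inr (Or.inl ⟨D, hD, heq⟩)))
    · have h4 : r ∣ 2 * 2 := hdvd
      have hr2 : r = 2 := by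
        rcases (Nat.Prime.dvd_mul hr).mp h4 with h | h <;>
          exact (Nat.prime_dvd_prime_iff_eq hr Nat.prime_two).mp h
      subst hr2
      exact Or.inr (Or.inr (Or.inr (Or.inr (Or.inr (Or.inl ⟨K, hK, hsa, halt, heq⟩)))))
    · exact Or.inr (Or.inr (Or.inr (Or.inr (Or.inr (Or.inr (Or.inr (Or.inr (Or.inl ⟨F₀, r, P, ζ, hr, hcard, hζ, hR, heq⟩))))))))
    · exact Or.inr (Or.inr (Or.inr (Or.inr (Or.inr (Or.inr (Or.inr (Or.inr (Or.inr (Or.inr (Or.inr (Or.inl ⟨hodd, Q, hQ, hpol, heq⟩)))))))))))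
    · exact Or.inr (Or.inr (Or.inr (Or.inr (Or.inr (Or.inr (Or.inr (Or.inr (Or.inr (Or.inr (Or.inr (Or.inr (hres))))))))))))
  have h2F : (2 : F) ≠ 0 := Cfsg.Agent.Helper94.two_ne_zero_of_odd_card hodd
  have hq3 : 3 ≤ Fintype.card F := by
    have h2 : 1 < Fintype.card F := Fintype.one_lt_card
    obtain ⟨c, hc⟩ := hodd
    omega
  have hmax := Cfsg.Agent.Helper96.Sy.sp_max_cases_odd (m := 4) (by norm_num) h2F H hH
  unfold Cfsg.Agent.Helper96.Sy.SpMaxOdd at hmax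
  rcases hmax with ⟨W, hW0, hts, heq⟩ | ⟨W, hW0, hnd, hlt, heq⟩ |
    ⟨t, k, D, htk, hk, hD, heq⟩ | ⟨D, hD, hts, heq⟩ | ⟨r, K, hr, hdvd, hK, hsa, halt, heq⟩ |
    ⟨K, hK, hac, hnsa, heq⟩ | ⟨n₁, n₂, e₁, P, f₁, f₂, hn₂, hn₁, hprod, hf₁, hf₂, hT, heq⟩ |
    ⟨F₀, r, P, ζ, hr, hcard, hζ, hR, heq⟩ | hres |
    ⟨R, p, k, hst, habs, hsim, hp, hpodd, hcard, hcardR, hk, hcen, hminus, heq⟩ |
    ⟨k, t, e₁, P, f₁, htodd, ht3, hex, hkt, hf₁, hT, heq⟩
  · exact Or.inl ⟨W, hW0, hts, heq⟩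
  · exact Or.inr (Or.inl ⟨W, hW0, hnd, hlt, heq⟩)
  · have ht := hD.decomp.two_le
    have hkpos := hD.decomp.pos
    obtain ⟨c, hc'⟩ := hk
    have h1 : 2 * k ≤ t * k := Nat.mul_le_mul_right k ht
    have hc3 : c ≤ 2 := by omega
    interval_cases c
    · omega
    · have hk2 : k = 2 := by omega
      subst hk2
      have ht4 : t = 4 := by omega
      subst ht4
      exact Or.inr (Or.inr (Or.inl ⟨hq3, D, hD, heq⟩))
    · have hk4 : k = 4 := by omega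
      subst hk4
      have ht2 : t = 2 := by omega
      subst ht2
      exact Or.inr (Or.inr (Or.inr (Or.inl ⟨D, hD, heq⟩)))
  · exact Or.inr (Or.inr (Or.inr (Or.inr (Or.inl ⟨hodd, D, hD, hts, heq⟩))))
  · have h4 : r ∣ 2 * 2 := hdvd
    have hr2 : r = 2 := by
      rcases (Nat.Prime.dvd_mul hr).mp h4 with h | h <;>
        exact (Nat.prime_dvd_prime_iff_eq hr Nat.prime_two).mp h
    subst hr2
    exact Or.inr (Or.inr (Or.inr (Or.inr (Or.inr (Or.inl ⟨K, hK, hsa, halt, heq⟩)))))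
  · exact Or.inr (Or.inr (Or.inr (Or.inr (Or.inr (Or.inr (Or.inl ⟨hodd, K, hK, hac, hnsa, heq⟩))))))
  · -- tensor: (n₁, n₂) ∈ {(2, 4), (4, 2)}
    obtain ⟨c, hc'⟩ := hn₁
    have h1 : n₁ * 2 ≤ n₁ * n₂ := Nat.mul_le_mul_left n₁ hn₂
    have hc3 : c ≤ 2 := by omega
    interval_cases c
    · rw [hc'] at hprod
      omega
    · have hn₁2 : n₁ = 2 := by omega
      subst hn₁2
      have hn₂4 : n₂ = 4 := by omega
      subst hn₂4
      by_cases hplus : Cfsg.Geo.IsPlusTypeOn (fun v : Fin 4 → F => f₂ v v) ⊤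
      · exfalso
        obtain ⟨e', P', hstruct, hle, g, hg1, hg2, hg3⟩ :=
          Cfsg.Agent.Helper96.Sy.tensor_plus_cube h2F e₁ P f₁ f₂ hf₁ hf₂ hT hplus
        have hle' : H ≤ Cfsg.Geo.tensorWreathSubgroup 2 3 e' P' := by
          rw [heq]
          exact hle
        have heq' := Cfsg.Agent.Helper96.Sy.eq_inf_of_max hH hle'
          (Cfsg.Agent.Helper96.Sy.notSp_wreath (by norm_num) (by norm_num) e' P' f₁ hf₁ hstruct)
        have hgH : g ∈ H := by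
          rw [heq']
          exact ⟨hg1, hg2⟩
        rw [heq] at hgH
        exact hg3 hgH.1
      · exact Or.inr (Or.inr (Or.inr (Or.inr (Or.inr (Or.inr (Or.inr (Or.inl ⟨hodd, e₁, P, f₁, f₂, hf₁, hf₂, hplus, hT, heq⟩)))))))
    · have hn₁4 : n₁ = 4 := by omega
      subst hn₁4
      have hn₂2 : n₂ = 2 := by omega
      subst hn₂2
      by_cases hiso : ∃ v : Fin 2 → F, v ≠ 0 ∧ f₂ v v = 0
      · obtain ⟨v₁, hv₁, hv₁0⟩ := hiso
        obtain ⟨D, hD, hts, hDle⟩ := Cfsg.Agent.Helper96.Sy.tensor_two_iso h2F (by norm_num) e₁ P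
          f₁ f₂ hf₁ hf₂ hT v₁ hv₁ hv₁0
        have hle : H ≤ Cfsg.Geo.decompositionStabilizer D := by
          rw [heq]
          exact hDle
        have heq := Cfsg.Agent.Helper96.Sy.eq_inf_of_max hH hle
          (Cfsg.Agent.Helper96.Sy.notSp_tsdecomp D hD hts)
        exact Or.inr (Or.inr (Or.inr (Or.inr (Or.inl ⟨hodd, D, hD, hts, heq⟩))))
      · have hani : ∀ v : Fin 2 → F, v ≠ 0 → f₂ v v ≠ 0 := fun v hv h0 => hiso ⟨v, hv, h0⟩
        obtain ⟨K, hK, hac, hnsa, hKle⟩ := Cfsg.Agent.Helper96.Sy.tensor_two_aniso h2F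
          (by norm_num) e₁ P f₁ f₂ hf₁ hf₂ hT hani
        have hle : H ≤ Cfsg.Geo.subalgebraNormalizer K := by
          rw [heq]
          exact hKle
        have heq := Cfsg.Agent.Helper96.Sy.eq_inf_of_max hH hle
          (Cfsg.Agent.Helper96.Sy.notSp_norm (by norm_num) (le_refl 2) K hK)
        exact Or.inr (Or.inr (Or.inr (Or.inr (Or.inr (Or.inr (Or.inl ⟨hodd, K, hK, hac, hnsa, heq⟩))))))
  · exact Or.inr (Or.inr (Or.inr (Or.inr (Or.inr (Or.inr (Or.inr (Or.inr (Or.inl ⟨F₀, r, P, ζ, hr, hcard, hζ, hR, heq⟩))))))))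
  · exact Or.inr (Or.inr (Or.inr (Or.inr (Or.inr (Or.inr (Or.inr (Or.inr (Or.inr (Or.inr (Or.inr (Or.inr (hres))))))))))))
  · -- the normaliser of an extraspecial group
    have hk3 : k = 3 := by
      have h8 : (2 : ℕ) ^ k = 2 ^ 3 := by rw [hk]; norm_num
      exact Nat.pow_right_injective (le_refl 2) h8
    subst hk3
    exact Or.inr (Or.inr (Or.inr (Or.inr (Or.inr (Or.inr (Or.inr (Or.inr (Or.inr (Or.inl ⟨p, R, hp, hpodd, hcard, hst, habs, hsim, hcardR, hcen, hminus, heq⟩)))))))))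
  · -- tensor cube
    have hk2 : k = 2 := by
      rcases Nat.lt_or_ge k 2 with h | h
      · exfalso
        interval_cases k
        · rw [zero_pow (by omega)] at hkt
          omega
        · rw [one_pow] at hkt
          omega
      · rcases Nat.lt_or_ge k 3 with h' | h'
        · omega
        · exfalso
          have h1 : 3 ^ t ≤ k ^ t := Nat.pow_le_pow_left h' t
          have h2 : 3 ^ 3 ≤ 3 ^ t := Nat.pow_le_pow_right (by norm_num) ht3
          omega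
    subst hk2
    have ht : t = 3 := by
      have h8 : (2 : ℕ) ^ t = 2 ^ 3 := by rw [hkt]; norm_num
      exact Nat.pow_right_injective (le_refl 2) h8
    subst ht
    have h5 : 5 ≤ Fintype.card F := by
      have h3 : Fintype.card F ≠ 3 := fun h => hex ⟨h, rfl⟩
      obtain ⟨c, hc⟩ := hodd
      omega
    exact Or.inr (Or.inr (Or.inr (Or.inr (Or.inr (Or.inr (Or.inr (Or.inr (Or.inr (Or.inr (Or.inl ⟨hodd, h5, e₁, P, f₁, hf₁, hT, heq⟩))))))))))

end Cfsg.Agent.S5823
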