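import Cfsg.Statements.S5868
import Cfsg.Agent.Helper96.SpT2d
import Cfsg.Agent.Helper96.SpEven2
import Cfsg.Agent.Helper96.SpF3c

set_option autoImplicit false
open Cfsg

namespace Cfsg.Agent.S5868

/-- Every maximal subgroup of Sp_12(q) is of one of the listed geometric types or lies in the residual class. Let F be a finite field with q elements (characteristic p), f the standard alternating form on F^12 (coordinates Fin 6 ⊕ Fin 6), and H a maximal subgroup of Sp_12(F) (inside GL_12(F)). Then H is the intersection with Sp_12(F) of one of: the stabiliser of a non-zero totally isotropic subspace; the stabiliser of a non-zero non-degenerate subspace of dimension less than 6; for q ≥ 3, the stabiliser of a decomposition into 6 mutually orthogonal non-degenerate 2-spaces; the stabiliser of a decomposition into 3 mutually orthogonal non-degenerate 4-spaces; the stabiliser of a decomposition into 2 mutually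 orthogonal non-degenerate 6-spaces; for q odd, of a decomposition into two totally isotropic 6-spaces; the normaliser of a degree-2 subfield K of the matrix algebra, self-adjoint with f(k v, v) = 0; the normaliser of a degree-3 subfield K of the matrix algebra, self-adjoint with f(k v, v) = 0; for q odd, the normaliser of a degree-2 subfield closed under adjoints but not self-adjoint; for q odd, the stabiliser of a tensor decomposition of f into an alternating form on F^2 and a symmetric form on F^6; for q odd with q ≥ 5, the stabiliser of a tensor decomposition of f into an alternating form on F^4 and a symmetric form on F^3; a subfield group (|F| = |F₀|^r, r prime) whose F₀-structure carries a non-zero multiple of f; for q even, the similarity group of a non-degenerate quadratic form polarising to f — or else H lies in the residual class of the symplectic case (modulo scalars H is almost simple,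 with absolutely irreducible perfect socle preimage realisable over no proper subfield and fixing no non-degenerate quadratic or unitary form). -/
theorem result {F : Type*} [Field F] [Fintype F] (H : Subgroup (Matrix.GeneralLinearGroup (Fin 6 ⊕ Fin 6) F)) (hH : Cfsg.Geo.IsMaximalIn (Cfsg.spGL 6 F) H) :
    (∃ W : Submodule F (Fin 6 ⊕ Fin 6 → F), W ≠ ⊥ ∧ Cfsg.Geo.IsTotallySingularFor (Cfsg.sympForm 6 F) W ∧ H = Cfsg.Geo.subspaceStabilizer W ⊓ Cfsg.spGL 6 F) ∨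
    (∃ W : Submodule F (Fin 6 ⊕ Fin 6 → F), W ≠ ⊥ ∧ Cfsg.Geo.IsNondegenerateOn (Cfsg.sympForm 6 F) W ∧ Module.finrank F W < 6 ∧ H = Cfsg.Geo.subspaceStabilizer W ⊓ Cfsg.spGL 6 F) ∨
    (3 ≤ Fintype.card F ∧ ∃ D : Fin 6 → Submodule F (Fin 6 ⊕ Fin 6 → F), Cfsg.Geo.IsNondegenerateMDecomposition (Cfsg.sympForm 6 F) 2 D ∧ H = Cfsg.Geo.decompositionStabilizer D ⊓ Cfsg.spGL 6 F) ∨
    (∃ D : Fin 3 → Submodule F (Fin 6 ⊕ Fin 6 → F), Cfsg.Geo.IsNondegenerateMDecomposition (Cfsg.sympForm 6 F) 4 D ∧ H = Cfsg.Geo.decompositionStabilizer D ⊓ Cfsg.spGL 6 F) ∨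
    (∃ D : Fin 2 → Submodule F (Fin 6 ⊕ Fin 6 → F), Cfsg.Geo.IsNondegenerateMDecomposition (Cfsg.sympForm 6 F) 6 D ∧ H = Cfsg.Geo.decompositionStabilizer D ⊓ Cfsg.spGL 6 F) ∨
    (Odd (Fintype.card F) ∧ ∃ D : Fin 2 → Submodule F (Fin 6 ⊕ Fin 6 → F), Cfsg.Geo.IsMDecomposition 6 D ∧ (∀ i, Cfsg.Geo.IsTotallySingularFor (Cfsg.sympForm 6 F) (D i)) ∧ H = Cfsg.Geo.decompositionStabilizer D ⊓ Cfsg.spGL 6 F) ∨
    (∃ K : Subalgebra F (Matrix (Fin 6 ⊕ Fin 6) (Fin 6 ⊕ Fin 6) F), Cfsg.Geo.IsFieldSubalgebra 2 K ∧ Cfsg.Geo.IsSelfAdjointFor (Cfsg.sympForm 6 F) K ∧ (∀ k ∈ K, ∀ v : (Fin 6 ⊕ Fin 6 → F), (Cfsg.sympForm 6 F) (Matrix.mulVec k v) v = 0) ∧ H = Cfsg.Geo.subalgebraNormalizer K ⊓ Cfsg.spGL 6 F) ∨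
    (∃ K : Subalgebra F (Matrix (Fin 6 ⊕ Fin 6) (Fin 6 ⊕ Fin 6) F), Cfsg.Geo.IsFieldSubalgebra 3 K ∧ Cfsg.Geo.IsSelfAdjointFor (Cfsg.sympForm 6 F) K ∧ (∀ k ∈ K, ∀ v : (Fin 6 ⊕ Fin 6 → F), (Cfsg.sympForm 6 F) (Matrix.mulVec k v) v = 0) ∧ H = Cfsg.Geo.subalgebraNormalizer K ⊓ Cfsg.spGL 6 F) ∨
    (Odd (Fintype.card F) ∧ ∃ K : Subalgebra F (Matrix (Fin 6 ⊕ Fin 6) (Fin 6 ⊕ Fin 6) F), Cfsg.Geo.IsFieldSubalgebra 2 K ∧ Cfsg.Geo.IsAdjointClosedFor (Cfsg.sympForm 6 F) K ∧ ¬ Cfsg.Geo.IsSelfAdjointFor (Cfsg.sympForm 6 F) K ∧ H = Cfsg.Geo.subalgebraNormalizer K ⊓ Cfsg.spGL 6 F) ∨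
    (Odd (Fintype.card F) ∧ ∃ (e : (Fin 6 ⊕ Fin 6) ≃ Fin 2 × Fin 6) (P : Matrix.GeneralLinearGroup (Fin 6 ⊕ Fin 6) F) (f₁ : (Fin 2 → F) → (Fin 2 → F) → F) (f₂ : (Fin 6 → F) → (Fin 6 → F) → F), Cfsg.Geo.IsSymplecticForm f₁ ∧ Cfsg.Geo.IsSymmetricForm f₂ ∧ Cfsg.Geo.IsTensorFormStructure id (Cfsg.sympForm 6 F) f₁ f₂ e P ∧ H = Cfsg.Geo.tensorProductSubgroup 2 6 e P ⊓ Cfsg.spGL 6 F) ∨
    (Odd (Fintype.card F) ∧ 5 ≤ Fintype.card F ∧ ∃ (e : (Fin 6 ⊕ Fin 6) ≃ Fin 4 × Fin 3) (P : Matrix.GeneralLinearGroup (Fin 6 ⊕ Fin 6) F) (f₁ : (Fin 4 → F) → (Fin 4 → F) → F) (f₂ : (Fin 3 → F) → (Fin 3 → F) → F), Cfsg.Geo.IsSymplecticForm f₁ ∧ Cfsg.Geo.IsSymmetricForm f₂ ∧ Cfsg.Geo.IsTensorFormStructure id (Cfsg.sympForm 6 F) f₁ f₂ e P ∧ H = Cfsg.Geo.tensorProductSubgroup 4 3 e P ⊓ Cfsg.spGL 6 F) ∨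
    (∃ (F₀ : Subfield F) (r : ℕ) (P : Matrix.GeneralLinearGroup (Fin 6 ⊕ Fin 6) F) (ζ : F), r.Prime ∧ Fintype.card F = Nat.card F₀ ^ r ∧ ζ ≠ 0 ∧ Cfsg.Geo.IsFormRationalStructure (Cfsg.sympForm 6 F) F₀ ζ P ∧ H = Cfsg.Geo.subfieldSubgroup F₀ P ⊓ Cfsg.spGL 6 F) ∨
    (¬ Odd (Fintype.card F) ∧ ∃ Q : (Fin 6 ⊕ Fin 6 → F) → F, Cfsg.Geo.IsNondegenerateQuadraticForm Q ∧ (∀ u v : (Fin 6 ⊕ Fin 6 → F), QuadraticMap.polar Q u v = (Cfsg.sympForm 6 F) u v) ∧ H = Cfsg.Geo.quadSimilarityGroup Q ⊓ Cfsg.spGL 6 F) ∨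
    Cfsg.Geo.InSymplecticResidualClass H := by
  by_cases hodd : Odd (Fintype.card F)
  swap
  · -- even characteristic
    have hmax := Cfsg.Agent.Helper96.Sy.sp_max_cases_even (m := 6) (by norm_num) hodd H hH
    unfold Cfsg.Agent.Helper96.Sy.SpMaxE at hmax
    rcases hmax with ⟨W, hW0, hts, heq⟩ | ⟨W, hW0, hnd, hlt, heq⟩ |
      ⟨t, k, D, htk, hk, hc, hD, heq⟩ | ⟨r, K, hr, hdvd, hK, hsa, halt, heq⟩ |
      ⟨F₀, r, P, ζ, hr, hcard, hζ, hR, heq⟩ | ⟨Q, hQ, hpol, heq⟩ | hres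
    · exact Or.inl ⟨W, hW0, hts, heq⟩
    · exact Or.inr (Or.inl ⟨W, hW0, hnd, hlt, heq⟩)
    · have ht := hD.decomp.two_le
      have hkpos := hD.decomp.pos
      obtain ⟨c, hc'⟩ := hk
      have h1 : 2 * k ≤ t * k := Nat.mul_le_mul_right k ht
      have hc3 : c ≤ 3 := by omega
      interval_cases c
      · omega
      · have hk2 : k = 2 := by omega
        subst hk2
        have ht6 : t = 6 := by omega
        subst ht6
        exact Or.inr (Or.inr (Or.inl ⟨hc rfl, D, hD, heq⟩))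
      · have hk4 : k = 4 := by omega
        subst hk4
        have ht3 : t = 3 := by omega
        subst ht3
        exact Or.inr (Or.inr (Or.inr (Or.inl ⟨D, hD, heq⟩)))
      · have hk6 : k = 6 := by omega
        subst hk6
        have ht2 : t = 2 := by omega
        subst ht2
        exact Or.inr (Or.inr (Or.inr (Or.inr (Or.inl ⟨D, hD, heq⟩))))
    · have h6 : r ∣ 2 * 3 := hdvd
      rcases (Nat.Prime.dvd_mul hr).mp h6 with h | h
      · have hr2 : r = 2 := (Nat.prime_dvd_prime_iff_eq hr Nat.prime_two).mp h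
        subst hr2
        exact Or.inr (Or.inr (Or.inr (Or.inr (Or.inr (Or.inr (Or.inl ⟨K, hK, hsa, halt, heq⟩))))))
      · have hr3 : r = 3 := (Nat.prime_dvd_prime_iff_eq hr (by norm_num)).mp h
        subst hr3
        exact Or.inr (Or.inr (Or.inr (Or.inr (Or.inr (Or.inr (Or.inr (Or.inl ⟨K, hK, hsa, halt, heq⟩)))))))
    · exact Or.inr (Or.inr (Or.inr (Or.inr (Or.inr (Or.inr (Or.inr (Or.inr (Or.inr (Or.inr (Or.inr (Or.inl ⟨F₀, r, P, ζ, hr, hcard, hζ, hR, heq⟩)))))))))))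
    · exact Or.inr (Or.inr (Or.inr (Or.inr (Or.inr (Or.inr (Or.inr (Or.inr (Or.inr (Or.inr (Or.inr (Or.inr (Or.inl ⟨hodd, Q, hQ, hpol, heq⟩))))))))))))
    · exact Or.inr (Or.inr (Or.inr (Or.inr (Or.inr (Or.inr (Or.inr (Or.inr (Or.inr (Or.inr (Or.inr (Or.inr (Or.inr (hres)))))))))))))
  have h2F : (2 : F) ≠ 0 := Cfsg.Agent.Helper94.two_ne_zero_of_odd_card hodd
  have hmax := Cfsg.Agent.Helper96.Sy.sp_max_cases (m := 6) (by norm_num) H hH
  unfold Cfsg.Agent.Helper96.Sy.SpMax at hmax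
  rcases hmax with ⟨W, hW0, hts, heq⟩ | ⟨W, hW0, hnd, hlt, heq⟩ |
    ⟨t, k, D, htk, hk, hc, hD, heq⟩ | ⟨-, D, hD, hts, heq⟩ | ⟨r, K, hr, hdvd, hK, hsa, halt, heq⟩ |
    ⟨-, K, hK, hac, hnsa, heq⟩ | ⟨-, n₁, n₂, e₁, P, f₁, f₂, hn₂, hn₁, hprod, hf₁, hf₂, hT, heq⟩ |
    ⟨heven, n₁, n₂, e₁, P, f₁, f₂, hn₁, hn₂, hprod, hf₁, hf₂, hT, hle⟩ |
    ⟨F₀, r, P, ζ, hr, hcard, hζ, hR, heq⟩ | ⟨heven, Q, hQ, hpol, heq⟩ | hres |
    ⟨r, j, hr, hcard, hrF⟩ | ⟨d, t, hd, ht, hcard⟩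
  · exact Or.inl ⟨W, hW0, hts, heq⟩
  · exact Or.inr (Or.inl ⟨W, hW0, hnd, hlt, heq⟩)
  · have ht := hD.decomp.two_le
    have hkpos := hD.decomp.pos
    obtain ⟨c, hc'⟩ := hk
    have h1 : 2 * k ≤ t * k := Nat.mul_le_mul_right k ht
    have hc3 : c ≤ 3 := by omega
    interval_cases c
    · omega
    · have hk2 : k = 2 := by omega
      subst hk2
      have ht6 : t = 6 := by omega
      subst ht6
      exact Or.inr (Or.inr (Or.inl ⟨hc rfl, D, hD, heq⟩))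
    · have hk4 : k = 4 := by omega
      subst hk4
      have ht3 : t = 3 := by omega
      subst ht3
      exact Or.inr (Or.inr (Or.inr (Or.inl ⟨D, hD, heq⟩)))
    · have hk6 : k = 6 := by omega
      subst hk6
      have ht2 : t = 2 := by omega
      subst ht2
      exact Or.inr (Or.inr (Or.inr (Or.inr (Or.inl ⟨D, hD, heq⟩))))
  · exact Or.inr (Or.inr (Or.inr (Or.inr (Or.inr (Or.inl ⟨hodd, D, hD, hts, heq⟩)))))
  · have h6 : r ∣ 2 * 3 := hdvd
    rcases (Nat.Prime.dvd_mul hr).mp h6 with h | h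
    · have hr2 : r = 2 := (Nat.prime_dvd_prime_iff_eq hr Nat.prime_two).mp h
      subst hr2
      exact Or.inr (Or.inr (Or.inr (Or.inr (Or.inr (Or.inr (Or.inl ⟨K, hK, hsa, halt, heq⟩))))))
    · have hr3 : r = 3 := (Nat.prime_dvd_prime_iff_eq hr (by norm_num)).mp h
      subst hr3
      exact Or.inr (Or.inr (Or.inr (Or.inr (Or.inr (Or.inr (Or.inr (Or.inl ⟨K, hK, hsa, halt, heq⟩)))))))
  · exact Or.inr (Or.inr (Or.inr (Or.inr (Or.inr (Or.inr (Or.inr (Or.inr (Or.inl ⟨hodd, K, hK, hac, hnsa, heq⟩))))))))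
  · -- tensor: (n₁, n₂) ∈ {(2, 6), (4, 3), (6, 2)}
    obtain ⟨c, hc'⟩ := hn₁
    have h1 : n₁ * 2 ≤ n₁ * n₂ := Nat.mul_le_mul_left n₁ hn₂
    have hc3 : c ≤ 3 := by omega
    interval_cases c
    · rw [hc'] at hprod
      omega
    · have hn₁2 : n₁ = 2 := by omega
      subst hn₁2
      have hn₂6 : n₂ = 6 := by omega
      subst hn₂6
      exact Or.inr (Or.inr (Or.inr (Or.inr (Or.inr (Or.inr (Or.inr (Or.inr (Or.inr (Or.inl ⟨hodd, e₁, P, f₁, f₂, hf₁, hf₂, hT, heq⟩)))))))))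
    · have hn₁4 : n₁ = 4 := by omega
      subst hn₁4
      have hn₂3 : n₂ = 3 := by omega
      subst hn₂3
      by_cases h5 : 5 ≤ Fintype.card F
      · exact Or.inr (Or.inr (Or.inr (Or.inr (Or.inr (Or.inr (Or.inr (Or.inr (Or.inr (Or.inr (Or.inl ⟨hodd, h5, e₁, P, f₁, f₂, hf₁, hf₂, hT, heq⟩))))))))))
      · have hq : Fintype.card F = 3 := by
          have h2 : 1 < Fintype.card F := Fintype.one_lt_card
          obtain ⟨c, hc⟩ := hodd
          omega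
        obtain ⟨D, hD, hDle⟩ := Cfsg.Agent.Helper96.Sy.tensor_three_q3 hq (by norm_num) e₁ P f₁ f₂
          hf₁ hf₂ hT
        have hle : H ≤ Cfsg.Geo.decompositionStabilizer D := by
          rw [heq]
          exact hDle
        have heq := Cfsg.Agent.Helper96.Sy.eq_inf_of_max hH hle
          (Cfsg.Agent.Helper96.Sy.notSp_ndecomp D hD)
        exact Or.inr (Or.inr (Or.inr (Or.inl ⟨D, hD, heq⟩)))
    · have hn₁6 : n₁ = 6 := by omega
      subst hn₁6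
      have hn₂2 : n₂ = 2 := by omega
      subst hn₂2
      by_cases hiso : ∃ v : Fin 2 → F, v ≠ 0 ∧ f₂ v v = 0
      · obtain ⟨v₁, hv₁, hv₁0⟩ := hiso
        obtain ⟨D, hD, hts, hDle⟩ := Cfsg.Agent.Helper96.Sy.tensor_two_iso h2F (by norm_num) e₁ P
          f₁ f₂ hf₁ hf₂ hT v₁ hv₁ hv₁0
        have hle : H ≤ Cfsg.Geo.decompositionStabilizer D := by
          rw [heq]
          exact hDle
        have heq := Cfsg.Agent.Helper96.Sy.eq_inf_of_max hH hle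
          (Cfsg.Agent.Helper96.Sy.notSp_tsdecomp D hD hts)
        exact Or.inr (Or.inr (Or.inr (Or.inr (Or.inr (Or.inl ⟨hodd, D, hD, hts, heq⟩)))))
      · have hani : ∀ v : Fin 2 → F, v ≠ 0 → f₂ v v ≠ 0 := fun v hv h0 => hiso ⟨v, hv, h0⟩
        obtain ⟨K, hK, hac, hnsa, hKle⟩ := Cfsg.Agent.Helper96.Sy.tensor_two_aniso h2F
          (by norm_num) e₁ P f₁ f₂ hf₁ hf₂ hT hani
        have hle : H ≤ Cfsg.Geo.subalgebraNormalizer K := by
          rw [heq]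
          exact hKle
        have heq := Cfsg.Agent.Helper96.Sy.eq_inf_of_max hH hle
          (Cfsg.Agent.Helper96.Sy.notSp_norm (by norm_num) (le_refl 2) K hK)
        exact Or.inr (Or.inr (Or.inr (Or.inr (Or.inr (Or.inr (Or.inr (Or.inr (Or.inl ⟨hodd, K, hK, hac, hnsa, heq⟩))))))))
  · exact absurd hodd heven
  · exact Or.inr (Or.inr (Or.inr (Or.inr (Or.inr (Or.inr (Or.inr (Or.inr (Or.inr (Or.inr (Or.inr (Or.inl ⟨F₀, r, P, ζ, hr, hcard, hζ, hR, heq⟩)))))))))))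
  · exact absurd hodd heven
  · exact Or.inr (Or.inr (Or.inr (Or.inr (Or.inr (Or.inr (Or.inr (Or.inr (Or.inr (Or.inr (Or.inr (Or.inr (Or.inr (hres)))))))))))))
  · -- 144 is not a prime power
    exfalso
    have h2 : 2 ∣ r ^ j := by rw [← hcard]; norm_num
    have h3 : 3 ∣ r ^ j := by rw [← hcard]; norm_num
    have h2' := (Nat.prime_dvd_prime_iff_eq Nat.prime_two hr).mp (Nat.Prime.dvd_of_dvd_pow Nat.prime_two h2)
    have h3' := (Nat.prime_dvd_prime_iff_eq (by norm_num) hr).mp (Nat.Prime.dvd_of_dvd_pow (by norm_num) h3)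
    omega
  · -- 12 is not a perfect power
    exfalso
    have h2 : 2 ∣ d ^ t := by rw [← hcard]; norm_num
    have h3 : 3 ∣ d ^ t := by rw [← hcard]; norm_num
    have h2' := Nat.Prime.dvd_of_dvd_pow Nat.prime_two h2
    have h3' := Nat.Prime.dvd_of_dvd_pow (by norm_num : Nat.Prime 3) h3
    have h6 : 6 ≤ d := by omega
    have h4 : d ^ 2 ≤ d ^ t := Nat.pow_le_pow_right (by omega) ht
    have h5 : 6 * 6 ≤ d ^ 2 := by rw [pow_two]; exact Nat.mul_le_mul h6 h6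
    omega

end Cfsg.Agent.S5868
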